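import Mathlib

/-! helper5 library: locally Noetherian schemes. -/

set_option autoImplicit false

universe u

open CategoryTheory CategoryTheory.Limits AlgebraicGeometry Opposite

namespace AlgebraicGeometry

/-- A scheme locally of finite type over a locally Noetherian scheme is locally Noetherian. -/
theorem H5_isLocallyNoetherian_of_lft {X Y : Scheme.{u}} (f : X ⟶ Y) [LocallyOfFiniteType f]
    [IsLocallyNoetherian Y] : IsLocallyNoetherian X := by
  have key : ∀ x : X, ∃ U : X.affineOpens, x ∈ U.1 ∧ IsNoetherianRing Γ(X, U.1) := by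
    intro x
    obtain ⟨V, hV, hxV, -⟩ := exists_isAffineOpen_mem_and_subset (x := f x) (U := ⊤) trivial
    obtain ⟨U, hU, hxU, hUV⟩ :=
      exists_isAffineOpen_mem_and_subset (x := x) (U := f ⁻¹ᵁ V) hxV
    refine ⟨⟨U, hU⟩, hxU, ?_⟩
    haveI : IsNoetherianRing Γ(Y, V) := IsLocallyNoetherian.component_noetherian ⟨V, hV⟩
    have hUV' : U ≤ f ⁻¹ᵁ V := fun y hy => hUV hy
    have hft := LocallyOfFiniteType.finiteType_appLE f hV hU hUV'
    letI := (f.appLE V U hUV').hom.toAlgebra
    haveI : Algebra.FiniteType Γ(Y, V) Γ(X, U) := hft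
    exact Algebra.FiniteType.isNoetherianRing Γ(Y, V) Γ(X, U)
  choose S hxS hS using key
  refine isLocallyNoetherian_of_affine_cover (S := S) ?_ hS
  rw [eq_top_iff]
  intro x _
  exact TopologicalSpace.Opens.mem_iSup.2 ⟨x, hxS x⟩

end AlgebraicGeometry
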