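import Mathlib

/-! Artin–Rees lifting (proof text copied from helper9's `H9_CanonUnique`, Mathlib-only part). -/

namespace H5AR

universe u

noncomputable section

variable {R : Type u} [CommRing R] [IsNoetherianRing R]


theorem pi_mem_smul_top (J : Ideal R) {ι : Type*} [Fintype ι] [DecidableEq ι] {M : Type*}
    [AddCommGroup M] [Module R M] (x : ι → M)
    (hx : ∀ i, x i ∈ (J • ⊤ : Submodule R M)) : x ∈ (J • ⊤ : Submodule R (ι → M)) := by
  have h1 : x = ∑ i, LinearMap.single R (fun _ => M) i (x i) := by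
    ext j
    simp [Finset.sum_apply, Pi.single_apply]
  rw [h1]
  apply Submodule.sum_mem
  intro i _
  have h2 : (J • ⊤ : Submodule R M).map (LinearMap.single R (fun _ => M) i) ≤
      (J • ⊤ : Submodule R (ι → M)) := by
    rw [Submodule.map_smul'']
    exact Submodule.smul_mono le_rfl le_top
  exact h2 ⟨x i, hx i, rfl⟩

theorem apply_mem_smul_top (J : Ideal R) {F M : Type*} [AddCommGroup F] [Module R F]
    [AddCommGroup M] [Module R M] (δ : F →ₗ[R] M)
    (hδ : δ ∈ (J • ⊤ : Submodule R (F →ₗ[R] M))) (u : F) : δ u ∈ (J • ⊤ : Submodule R M) := by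
  refine Submodule.smul_induction_on (p := fun δ => δ u ∈ (J • ⊤ : Submodule R M)) hδ ?_ ?_
  · intro r hr g _
    rw [LinearMap.smul_apply]
    exact Submodule.smul_mem_smul hr trivial
  · intro x y hx hy
    rw [LinearMap.add_apply]
    exact Submodule.add_mem _ hx hy

/-- Artin–Rees lifting: a map to `K' / I^(c+1) K'` agrees modulo `I` with a genuine map. -/
theorem exists_lift (I : Ideal R) (K K' : Type u) [AddCommGroup K] [Module R K]
    [AddCommGroup K'] [Module R K'] [Module.Finite R K] [Module.Finite R K'] :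
    ∃ c : ℕ, ∀ γ : K →ₗ[R] (K' ⧸ (I ^ (c + 1) • ⊤ : Submodule R K')),
      ∃ φ : K →ₗ[R] K', ∀ x, ∃ y ∈ (I • ⊤ : Submodule R K'),
        γ x = Submodule.Quotient.mk (φ x + y) := by
  classical
  obtain ⟨n, π, hπ⟩ := Module.Finite.exists_fin' R K
  have hZ : (LinearMap.ker π).FG := IsNoetherian.noetherian _
  obtain ⟨s, hs⟩ := hZ
  let ρ : ((Fin n → R) →ₗ[R] K') →ₗ[R] (↥s → K') :=
    { toFun := fun g z => g (z : Fin n → R)
      map_add' := fun g g' => rfl
      map_smul' := fun r g => rfl }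
  obtain ⟨c, hc⟩ := Ideal.exists_pow_inf_eq_pow_smul I (LinearMap.range ρ)
  refine ⟨c, fun γ => ?_⟩
  obtain ⟨γt, hγt⟩ := Module.projective_lifting_property
    (I ^ (c + 1) • ⊤ : Submodule R K').mkQ (γ ∘ₗ π) (Submodule.mkQ_surjective _)
  have hγz : ∀ z : ↥s, γt (z : Fin n → R) ∈ (I ^ (c + 1) • ⊤ : Submodule R K') := by
    intro z
    have hz : (z : Fin n → R) ∈ LinearMap.ker π := by
      rw [← hs]
      exact Submodule.subset_span z.2
    have := LinearMap.congr_fun hγt (z : Fin n → R)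
    rw [LinearMap.comp_apply, LinearMap.comp_apply, LinearMap.mem_ker.1 hz, map_zero,
      Submodule.mkQ_apply, Submodule.Quotient.mk_eq_zero] at this
    exact this
  have h1 : ρ γt ∈ (I ^ (c + 1) • ⊤ : Submodule R (↥s → K')) :=
    pi_mem_smul_top _ _ hγz
  have h2 : ρ γt ∈ (I ^ (c + 1) • ⊤ : Submodule R (↥s → K')) ⊓ LinearMap.range ρ :=
    ⟨h1, ⟨γt, rfl⟩⟩
  rw [hc (c + 1) (Nat.le_succ c), Nat.add_sub_cancel_left, pow_one] at h2
  have h3 : (I • ((I ^ c • ⊤ : Submodule R (↥s → K')) ⊓ LinearMap.range ρ)) ≤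
      (I • ⊤ : Submodule R ((Fin n → R) →ₗ[R] K')).map ρ := by
    rw [Submodule.map_smul'', Submodule.map_top]
    exact Submodule.smul_mono le_rfl inf_le_right
  obtain ⟨δ, hδ, hδρ⟩ := h3 h2
  have hker : LinearMap.ker π ≤ LinearMap.ker (γt - δ) := by
    rw [← hs, Submodule.span_le]
    intro z hz
    have := congr_fun hδρ ⟨z, hz⟩
    rw [SetLike.mem_coe, LinearMap.mem_ker, LinearMap.sub_apply, sub_eq_zero]
    exact this.symm
  let φ : K →ₗ[R] K' :=
    ((LinearMap.ker π).liftQ (γt - δ) hker) ∘ₗ (π.quotKerEquivOfSurjective hπ).symm.toLinearMap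
  have hφ : ∀ u, φ (π u) = γt u - δ u := by
    intro u
    have : (π.quotKerEquivOfSurjective hπ).symm (π u) = Submodule.Quotient.mk u := by
      rw [LinearEquiv.symm_apply_eq]
      rfl
    show ((LinearMap.ker π).liftQ (γt - δ) hker) ((π.quotKerEquivOfSurjective hπ).symm (π u)) = _
    rw [this, Submodule.liftQ_apply, LinearMap.sub_apply]
  refine ⟨φ, fun x => ?_⟩
  obtain ⟨u, rfl⟩ := hπ x
  refine ⟨δ u, apply_mem_smul_top I δ hδ u, ?_⟩
  rw [hφ, sub_add_cancel]
  have := LinearMap.congr_fun hγt u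
  rw [LinearMap.comp_apply, LinearMap.comp_apply, Submodule.mkQ_apply] at this
  exact this.symm



end

end H5AR
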