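import Mathlib

universe u

namespace H5AR

variable {A : Type*} [CommRing A] (I : Ideal A)

theorem map_mem_pow_smul {M N : Type*} [AddCommGroup M] [Module A M] [AddCommGroup N]
    [Module A N] (h : M →ₗ[A] N) (a : ℕ) (hh : ∀ x, h x ∈ I ^ a • (⊤ : Submodule A N)) (k : ℕ)
    (x : M) (hx : x ∈ I ^ k • (⊤ : Submodule A M)) :
    h x ∈ I ^ (k + a) • (⊤ : Submodule A N) := by
  refine Submodule.smul_induction_on hx ?_ ?_
  · intro r hr m _
    rw [map_smul, pow_add, Submodule.mul_smul]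
    exact Submodule.smul_mem_smul hr (hh m)
  · intro x y hx hy
    rw [map_add]; exact Submodule.add_mem _ hx hy

theorem pow_smul_anti {M : Type*} [AddCommGroup M] [Module A M] {m n : ℕ} (h : n ≤ m) :
    I ^ m • (⊤ : Submodule A M) ≤ I ^ n • (⊤ : Submodule A M) :=
  Submodule.smul_mono_left (Ideal.pow_le_pow_right h)

theorem switch {M N : Type*} [AddCommGroup M] [Module A M] [AddCommGroup N] [Module A N]
    (g₁ g₂ : M →ₗ[A] N) (c : ℕ)
    (hd : ∀ x, g₁ x - g₂ x ∈ I ^ (c + 1) • (⊤ : Submodule A N))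
    (har : ∀ n, c ≤ n → LinearMap.range g₁ ⊓ I ^ n • (⊤ : Submodule A N) ≤
      Submodule.map g₁ (I ^ (n - c) • (⊤ : Submodule A M))) (n : ℕ) :
    LinearMap.range g₁ ⊓ I ^ n • (⊤ : Submodule A N) ≤
      I ^ (n + 1) • (⊤ : Submodule A N) ⊔
        (LinearMap.range g₂ ⊓ I ^ n • (⊤ : Submodule A N)) := by
  intro y hy
  have hd' : ∀ k (x : M), x ∈ I ^ k • (⊤ : Submodule A M) →
      g₁ x - g₂ x ∈ I ^ (k + (c + 1)) • (⊤ : Submodule A N) := by
    intro k x hx
    have := map_mem_pow_smul I (g₁ - g₂) (c + 1)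
      (fun x => by rw [LinearMap.sub_apply]; exact hd x) k x hx
    rwa [LinearMap.sub_apply] at this
  obtain ⟨x', hx'y, hx'd⟩ : ∃ x', g₁ x' = y ∧
      g₁ x' - g₂ x' ∈ I ^ (n + 1) • (⊤ : Submodule A N) := by
    rcases le_or_gt c n with hcn | hcn
    · obtain ⟨x', hx', hx'y⟩ := Submodule.mem_map.1 (har n hcn hy)
      refine ⟨x', hx'y, ?_⟩
      have := hd' (n - c) x' hx'
      have e : n - c + (c + 1) = n + 1 := by omega
      rwa [e] at this
    · obtain ⟨x', hx'y⟩ := LinearMap.mem_range.1 (Submodule.mem_inf.1 hy).1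
      refine ⟨x', hx'y, ?_⟩
      exact pow_smul_anti I (by omega) (hd x')
  have hyn : y ∈ I ^ n • (⊤ : Submodule A N) := (Submodule.mem_inf.1 hy).2
  have h2 : g₂ x' ∈ I ^ n • (⊤ : Submodule A N) := by
    have : g₂ x' = y - (g₁ x' - g₂ x') := by rw [hx'y]; abel
    rw [this]
    exact Submodule.sub_mem _ hyn (pow_smul_anti I (Nat.le_succ n) hx'd)
  have : y = (g₁ x' - g₂ x') + g₂ x' := by rw [hx'y]; abel
  rw [this]
  exact Submodule.add_mem_sup hx'd
    (Submodule.mem_inf.2 ⟨LinearMap.mem_range.2 ⟨x', rfl⟩, h2⟩)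

theorem ar_perturb {L M N : Type*} [AddCommGroup L] [Module A L] [AddCommGroup M] [Module A M]
    [AddCommGroup N] [Module A N]
    (f f' : L →ₗ[A] M) (g g' : M →ₗ[A] N) (c : ℕ) (hgf' : g'.comp f' = 0)
    (hf : ∀ n, c ≤ n → LinearMap.range f ⊓ I ^ n • (⊤ : Submodule A M) ≤
      Submodule.map f (I ^ (n - c) • (⊤ : Submodule A L)))
    (hg : ∀ n, c ≤ n → LinearMap.range g ⊓ I ^ n • (⊤ : Submodule A N) ≤
      Submodule.map g (I ^ (n - c) • (⊤ : Submodule A M)))
    (hex : Function.Exact f g)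
    (hff' : ∀ x, f x - f' x ∈ I ^ (c + 1) • (⊤ : Submodule A M))
    (hgg' : ∀ y, g y - g' y ∈ I ^ (c + 1) • (⊤ : Submodule A N)) :
    ∀ n, c ≤ n → LinearMap.range g' ⊓ I ^ n • (⊤ : Submodule A N) ≤
      Submodule.map g' (I ^ (n - c) • (⊤ : Submodule A M)) := by
  intro n hcn y hy
  have hyr := (Submodule.mem_inf.1 hy).1
  have hyn := (Submodule.mem_inf.1 hy).2
  have hgd : ∀ k (x : M), x ∈ I ^ k • (⊤ : Submodule A M) →
      g x - g' x ∈ I ^ (k + (c + 1)) • (⊤ : Submodule A N) := by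
    intro k x hx
    have := map_mem_pow_smul I (g - g') (c + 1)
      (fun x => by rw [LinearMap.sub_apply]; exact hgg' x) k x hx
    rwa [LinearMap.sub_apply] at this
  have hfd : ∀ k (z : L), z ∈ I ^ k • (⊤ : Submodule A L) →
      f z - f' z ∈ I ^ (k + (c + 1)) • (⊤ : Submodule A M) := by
    intro k z hz
    have := map_mem_pow_smul I (f - f') (c + 1)
      (fun x => by rw [LinearMap.sub_apply]; exact hff' x) k z hz
    rwa [LinearMap.sub_apply] at this
  have key : ∀ k, k ≤ n - c → ∃ x, x ∈ I ^ k • (⊤ : Submodule A M) ∧ g' x = y := by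
    intro k
    induction k with
    | zero =>
      intro _
      obtain ⟨x, hx⟩ := LinearMap.mem_range.1 hyr
      refine ⟨x, ?_, hx⟩
      rw [pow_zero, Ideal.one_eq_top, Submodule.top_smul]
      exact Submodule.mem_top
    | succ k ih =>
      intro hk
      obtain ⟨x, hxk, hxy⟩ := ih (by omega)
      have h1 : g x ∈ I ^ (k + (c + 1)) • (⊤ : Submodule A N) := by
        have : g x = (g x - g' x) + g' x := by abel
        rw [this]
        refine Submodule.add_mem _ (hgd k x hxk) ?_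
        rw [hxy]
        exact pow_smul_anti I (by omega) hyn
      have h2 : g x ∈ Submodule.map g (I ^ (k + (c + 1) - c) • (⊤ : Submodule A M)) :=
        hg (k + (c + 1)) (by omega)
          (Submodule.mem_inf.2 ⟨LinearMap.mem_range.2 ⟨x, rfl⟩, h1⟩)
      obtain ⟨x₁, hx₁, hx₁g⟩ := Submodule.mem_map.1 h2
      have e1 : k + (c + 1) - c = k + 1 := by omega
      rw [e1] at hx₁
      have hker : g (x - x₁) = 0 := by rw [map_sub, hx₁g, sub_self]
      obtain ⟨z, hz⟩ := (hex (x - x₁)).1 hker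
      have hxx₁ : x - x₁ ∈ I ^ k • (⊤ : Submodule A M) :=
        Submodule.sub_mem _ hxk (pow_smul_anti I (Nat.le_succ k) hx₁)
      obtain ⟨z', hz'f, hz'd⟩ : ∃ z', f z' = x - x₁ ∧
          f z' - f' z' ∈ I ^ (k + 1) • (⊤ : Submodule A M) := by
        rcases le_or_gt c k with hck | hck
        · have h3 : x - x₁ ∈ Submodule.map f (I ^ (k - c) • (⊤ : Submodule A L)) :=
            hf k hck (Submodule.mem_inf.2 ⟨LinearMap.mem_range.2 ⟨z, hz⟩, hxx₁⟩)
          obtain ⟨z', hz', hz'f⟩ := Submodule.mem_map.1 h3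
          refine ⟨z', hz'f, ?_⟩
          have := hfd (k - c) z' hz'
          have e : k - c + (c + 1) = k + 1 := by omega
          rwa [e] at this
        · exact ⟨z, hz, pow_smul_anti I (by omega) (hff' z)⟩
      refine ⟨x₁ + (f z' - f' z'), Submodule.add_mem _ hx₁ hz'd, ?_⟩
      have hg'f' : g' (f' z') = 0 := by
        have := LinearMap.congr_fun hgf' z'
        simpa using this
      rw [map_add, map_sub, hg'f', sub_zero, hz'f, map_sub, ← hxy]
      abel
  obtain ⟨x, hx, hxy⟩ := key (n - c) le_rfl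
  exact Submodule.mem_map.2 ⟨x, hx, hxy⟩

end H5AR
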