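import Mathlib

/-! helper5: exactness of adic completion under an Artin–Rees type hypothesis. -/

set_option autoImplicit false

universe u

open TensorProduct

section
variable {R : Type u} [CommRing R] (I : Ideal R) {M N P : Type u}
  [AddCommGroup M] [Module R M] [AddCommGroup N] [Module R N] [AddCommGroup P] [Module R P]

theorem H5_adic_map_injective_of_shift (f : M →ₗ[R] N) (c : ℕ)
    (hstrict : ∀ (n : ℕ) (m : M), f m ∈ (I ^ (n + c) • ⊤ : Submodule R N) →
      m ∈ (I ^ n • ⊤ : Submodule R M)) :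
    Function.Injective (AdicCompletion.map I f) := by
  rw [← LinearMap.ker_eq_bot, LinearMap.ker_eq_bot']
  intro x
  apply AdicCompletion.induction_on I M x (fun a ↦ ?_)
  intro hx
  have hfa : ∀ n, f (a n) ∈ (I ^ n • ⊤ : Submodule R N) := by
    intro n
    simpa using congrArg (fun x ↦ x.val n) hx
  refine AdicCompletion.mk_zero_of _ _ _ ⟨0, fun n _ ↦ ⟨n + c, by omega, n, le_rfl, ?_⟩⟩
  exact hstrict n _ (hfa (n + c))

theorem H5_adic_map_exact_of_shift (f : M →ₗ[R] N) (g : N →ₗ[R] P)
    (hfg : Function.Exact f g) (hg : Function.Surjective g) (c : ℕ)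
    (hstrict : ∀ (n : ℕ) (m : M), f m ∈ (I ^ (n + c) • ⊤ : Submodule R N) →
      m ∈ (I ^ n • ⊤ : Submodule R M)) :
    Function.Exact (AdicCompletion.map I f) (AdicCompletion.map I g) := by
  refine LinearMap.exact_of_comp_eq_zero_of_ker_le_range ?_ (fun y ↦ ?_)
  · rw [AdicCompletion.map_comp, hfg.linearMap_comp_eq_zero, AdicCompletion.map_zero]
  · apply AdicCompletion.induction_on I N y (fun b ↦ ?_)
    intro hz
    have hb (n : ℕ) : g (b n) ∈ (I ^ n • ⊤ : Submodule R P) := by
      simpa using congrArg (fun x ↦ x.val n) hz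
    have h2 : ∀ n, ∃ (d : N) (y : M), d ∈ (I ^ n • ⊤ : Submodule R N) ∧ f y = b n - d := by
      intro n
      have h1 : g (b n) ∈ Submodule.map g (I ^ n • ⊤ : Submodule R N) := by
        rw [Submodule.map_smul'', Submodule.map_top, LinearMap.range_eq_top.mpr hg]
        exact hb n
      obtain ⟨d, hdmem, hd⟩ := h1
      obtain ⟨y, hdy⟩ := (hfg (b n - d)).mp (by simp [hd])
      exact ⟨d, y, hdmem, hdy⟩
    choose d y hd hy using h2
    have hcau : ∀ n, y (n + c) ≡ y (n + 1 + c) [SMOD (I ^ n • ⊤ : Submodule R M)] := by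
      intro n
      rw [SModEq.sub_mem]
      apply hstrict n
      rw [map_sub, hy, hy]
      have e : b (n + c) - d (n + c) - (b (n + 1 + c) - d (n + 1 + c)) =
          (b (n + c) - b (n + 1 + c)) - d (n + c) + d (n + 1 + c) := by abel
      rw [e]
      refine Submodule.add_mem _ (Submodule.sub_mem _ ?_ (hd _)) ?_
      · exact (SModEq.sub_mem).mp (b.property (by omega))
      · exact Submodule.smul_mono_left (Ideal.pow_le_pow_right (by omega)) (hd _)
    refine ⟨AdicCompletion.mk I M
      (AdicCompletion.AdicCauchySequence.mk I M (fun n ↦ y (n + c)) hcau), ?_⟩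
    ext n
    suffices h : Submodule.Quotient.mk (p := (I ^ n • ⊤ : Submodule R N)) (f (y (n + c))) =
          Submodule.Quotient.mk (p := (I ^ n • ⊤ : Submodule R N)) (b n) by
      simpa using h
    rw [Submodule.Quotient.eq, hy]
    have e : b (n + c) - d (n + c) - b n = -(b n - b (n + c)) - d (n + c) := by abel
    rw [e]
    refine Submodule.sub_mem _
      (Submodule.neg_mem _ ((SModEq.sub_mem).mp (b.property (by omega)))) ?_
    exact Submodule.smul_mono_left (Ideal.pow_le_pow_right (by omega)) (hd _)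

end

theorem H5_mem_smul_top_of_flat_coker {R : Type*} [CommRing R] {K M N : Type*}
    [AddCommGroup K] [Module R K] [AddCommGroup M] [Module R M] [AddCommGroup N] [Module R N]
    [Module.Flat R N] (i : K →ₗ[R] M) (g : M →ₗ[R] N) (hi : Function.Injective i)
    (hg : Function.Surjective g) (hig : Function.Exact i g) (J : Ideal R) (k : K)
    (hk : i k ∈ (J • ⊤ : Submodule R M)) : k ∈ (J • ⊤ : Submodule R K) := by
  have hinj := LinearMap.lTensor_injective_of_exact_of_flat g hg i hi hig (R ⧸ J)
  have h1 : (i.lTensor (R ⧸ J)) ((1 : R ⧸ J) ⊗ₜ[R] k) = 0 := by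
    rw [LinearMap.lTensor_tmul]
    have : (TensorProduct.quotTensorEquivQuotSMul M J) ((1 : R ⧸ J) ⊗ₜ[R] i k) = 0 := by
      rw [TensorProduct.quotTensorEquivQuotSMul_mk_one_tmul]
      exact (Submodule.Quotient.mk_eq_zero _).mpr hk
    exact (TensorProduct.quotTensorEquivQuotSMul M J).injective (by rw [this, map_zero])
  have h2 : (1 : R ⧸ J) ⊗ₜ[R] k = 0 := hinj (by rw [h1, map_zero])
  have h3 : (TensorProduct.quotTensorEquivQuotSMul K J) ((1 : R ⧸ J) ⊗ₜ[R] k) = 0 := by
    rw [h2, map_zero]
  rw [TensorProduct.quotTensorEquivQuotSMul_mk_one_tmul] at h3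
  exact (Submodule.Quotient.mk_eq_zero _).mp h3
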