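import Mathlib

namespace H5AC
open AlgebraicGeometry CategoryTheory TopologicalSpace

universe u

theorem star {W U : Scheme.{u}} [IsAffine U] (i : W ⟶ U) [IsOpenImmersion i]
    (f₁ : Γ(U, ⊤)) (hle : U.basicOpen f₁ ≤ i.opensRange)
    (a : Γ(W, i ⁻¹ᵁ U.basicOpen f₁)) :
    ∃ f : Γ(U, ⊤), i ''ᵁ (W.basicOpen a) = U.basicOpen f := by
  haveI : IsIso (i.app (U.basicOpen f₁)) := i.isIso_app _ hle
  obtain ⟨t, ht⟩ : ∃ t, i.app (U.basicOpen f₁) t = a :=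
    (ConcreteCategory.bijective_of_isIso (i.app (U.basicOpen f₁))).2 a
  have h1 : i ⁻¹ᵁ U.basicOpen t = W.basicOpen (i.app (U.basicOpen f₁) t) :=
    Scheme.preimage_basicOpen i t
  obtain ⟨f, hf⟩ := (isAffineOpen_top U).basicOpen_basicOpen_is_basicOpen f₁ t
  refine ⟨f, ?_⟩
  rw [← ht, ← h1, i.image_preimage_eq_opensRange_inf, hf]
  exact inf_eq_right.mpr ((U.basicOpen_le t).trans hle)

theorem main {U V W : Scheme.{u}} [IsAffine U] [IsAffine V] (i : W ⟶ U) (j : W ⟶ V)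
    [IsOpenImmersion i] [IsOpenImmersion j] (w : W) :
    ∃ (W' : W.Opens) (f : Γ(U, ⊤)) (g : Γ(V, ⊤)), w ∈ W' ∧ i ''ᵁ W' = U.basicOpen f ∧
      j ''ᵁ W' = V.basicOpen g := by
  obtain ⟨f₁, hf₁, hwf₁⟩ := (isAffineOpen_top U).exists_basicOpen_le
    (V := i.opensRange) ⟨i w, ⟨w, rfl⟩⟩ trivial
  obtain ⟨g₁, hg₁, hwg₁⟩ := (isAffineOpen_top V).exists_basicOpen_le
    (V := j.opensRange) ⟨j w, ⟨w, rfl⟩⟩ trivial
  have hW₁ : IsAffineOpen (i ⁻¹ᵁ U.basicOpen f₁) :=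
    ((isAffineOpen_top U).basicOpen f₁).preimage_of_isOpenImmersion i hf₁
  have hW₂ : IsAffineOpen (j ⁻¹ᵁ V.basicOpen g₁) :=
    ((isAffineOpen_top V).basicOpen g₁).preimage_of_isOpenImmersion j hg₁
  obtain ⟨a, b, hab, hwa⟩ := exists_basicOpen_le_affine_inter hW₁ hW₂ w ⟨hwf₁, hwg₁⟩
  obtain ⟨f, hf⟩ := star i f₁ hf₁ a
  obtain ⟨g, hg⟩ := star j g₁ hg₁ b
  exact ⟨W.basicOpen a, f, g, hwa, hf, by rw [hab]; exact hg⟩

end H5AC
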