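import Groth.Agent.Lib.helper5.AlgSpLocP

/-! helper5 library: base change of `LocP P` for morphisms representable over affine schemes. -/

set_option autoImplicit false

universe u

open CategoryTheory CategoryTheory.Limits AlgebraicGeometry Opposite

namespace AlgSp

variable {S : Scheme.{u}}

/-- Zariski-locality on the target, phrased on `Over S`. -/
theorem H5_P_of_zariski (P : MorphismProperty Scheme.{u}) [IsZariskiLocalAtTarget P]
    {T Q : Over S} (p : Q ⟶ T) (𝒯 : T.left.OpenCover)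
    (H : ∀ j, P (pullback.snd p
      (Over.homMk (𝒯.f j) rfl : Over.mk (𝒯.f j ≫ T.hom) ⟶ T)).left) : P p.left := by
  refine IsZariskiLocalAtTarget.of_openCover (P := P) 𝒯 (fun j => ?_)
  have sq' : IsPullback
      (pullback.fst p (Over.homMk (𝒯.f j) rfl : Over.mk (𝒯.f j ≫ T.hom) ⟶ T)).left
      (pullback.snd p (Over.homMk (𝒯.f j) rfl : Over.mk (𝒯.f j ≫ T.hom) ⟶ T)).left p.left
      (𝒯.f j) :=
    (IsPullback.of_hasPullback p
      (Over.homMk (𝒯.f j) rfl : Over.mk (𝒯.f j ≫ T.hom) ⟶ T)).map (Over.forget S)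
  have h := H j
  rw [← sq'.isoPullback_hom_snd] at h
  exact (P.cancel_left_of_respectsIso _ _).1 h

/-- Base change of `P` along a factorization of the base map. -/
theorem H5_P_of_isPullback_comp (P : MorphismProperty Scheme.{u}) [P.IsStableUnderBaseChange]
    {F G : Sp S} {f : F ⟶ G} {V₀ W₀ T₀ Q : Over S} {b₀ : (yon S).obj V₀ ⟶ G} {i₀ : W₀ ⟶ V₀}
    {fst₀ : (yon S).obj W₀ ⟶ F} (sq₀ : IsPullback fst₀ ((yon S).map i₀) f b₀) {τ₀ : T₀ ⟶ V₀}
    {K : (yon S).obj Q ⟶ F} {s : Q ⟶ T₀}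
    (big : IsPullback K ((yon S).map s) f ((yon S).map τ₀ ≫ b₀)) (h : P i₀.left) : P s.left := by
  have hcomm : K ≫ f = ((yon S).map s ≫ (yon S).map τ₀) ≫ b₀ := by
    rw [Category.assoc]; exact big.w
  have hl1 : sq₀.lift _ _ hcomm ≫ fst₀ = K := sq₀.lift_fst _ _ _
  have hl2 : sq₀.lift _ _ hcomm ≫ (yon S).map i₀ = (yon S).map s ≫ (yon S).map τ₀ :=
    sq₀.lift_snd _ _ _
  rw [← hl1] at big
  have sqL := IsPullback.of_right big hl2 sq₀
  exact (repWith_yon_map_iff P _).1
    (MorphismProperty.of_isPullback sqL ((repWith_yon_map_iff P i₀).2 h))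

/-- If `f` has `P` etale locally on source and target and its base changes to affine schemes are
representable, then every represented base change of `f` has `P`. -/
theorem H5_P_of_locP_of_affineRep (P : MorphismProperty Scheme.{u}) [P.IsStableUnderBaseChange]
    [P.IsLocalAtTarget Scheme.fppfPrecoverage] [IsZariskiLocalAtTarget P]
    {X Y : Sp S} (hY : IsAlgSpace Y) (f : X ⟶ Y) (hf : LocP P f)
    (hrep : ∀ ⦃Z : Over S⦄, IsAffine Z.left → ∀ (g : (yon S).obj Z ⟶ Y),
      ∃ (W : Over S) (i : W ⟶ Z) (fst : (yon S).obj W ⟶ X), IsPullback fst ((yon S).map i) f g)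
    {Z W : Over S} (g : (yon S).obj Z ⟶ Y) (i : W ⟶ Z) (fst : (yon S).obj W ⟶ X)
    (sq : IsPullback fst ((yon S).map i) f g) : P i.left := by
  obtain ⟨V, b, hbe, hbs⟩ := hY.atlas
  haveI : Sheaf.IsLocallySurjective b := H5_isLocallySurjective_of_etale b hbe hbs
  obtain ⟨R, hR, hlift⟩ := H5_exists_local_lift b g
  refine H5_P_of_local P i hR ?_
  intro T u hu
  obtain ⟨t, ht⟩ := hlift u hu
  obtain ⟨τ, rfl⟩ := (yon S).map_surjective t
  refine ⟨pullback i u, pullback.fst i u, pullback.snd i u, IsPullback.of_hasPullback i u, ?_⟩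
  have big := H5_paste_yon sq (IsPullback.of_hasPullback i u)
  rw [← ht] at big
  refine H5_P_of_zariski P (pullback.snd i u) (V.left.affineCover.pullback₁ τ.left) ?_
  intro j
  let V₀ : Over S := Over.mk (V.left.affineCover.f j ≫ V.hom)
  let j₀ : V₀ ⟶ V := Over.homMk (V.left.affineCover.f j) rfl
  let T₀ : Over S := Over.mk (pullback.fst τ.left (V.left.affineCover.f j) ≫ T.hom)
  let u₀ : T₀ ⟶ T := Over.homMk (pullback.fst τ.left (V.left.affineCover.f j)) rfl
  let τ₀ : T₀ ⟶ V₀ := Over.homMk (pullback.snd τ.left (V.left.affineCover.f j)) (by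
    show pullback.snd τ.left (V.left.affineCover.f j) ≫ V.left.affineCover.f j ≫ V.hom =
      pullback.fst τ.left (V.left.affineCover.f j) ≫ T.hom
    rw [← pullback.condition_assoc, Over.w τ])
  have hsqO : u₀ ≫ τ = τ₀ ≫ j₀ := by
    apply Over.OverMorphism.ext
    exact pullback.condition
  have hj₀ : RepWith @Etale ((yon S).map j₀) :=
    (repWith_yon_map_iff @Etale j₀).2 (inferInstance : Etale (V.left.affineCover.f j))
  have hb₀ : RepWith @Etale ((yon S).map j₀ ≫ b) := (RepWith @Etale).comp_mem _ _ hj₀ hbe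
  have hV₀aff : IsAffine V₀.left := (inferInstance : IsAffine (V.left.affineCover.X j))
  obtain ⟨W₀, i₀, fst₀, sq₀⟩ := hrep hV₀aff ((yon S).map j₀ ≫ b)
  have hfst₀ : RepWith @Etale fst₀ := MorphismProperty.of_isPullback sq₀.flip hb₀
  have hPi₀ : P i₀.left := hf fst₀ ((yon S).map j₀ ≫ b) i₀ hfst₀ hb₀ sq₀.w
  show P (pullback.snd (pullback.snd i u) u₀).left
  have big₀ := H5_paste_yon big (IsPullback.of_hasPullback (pullback.snd i u) u₀)
  have hbot : (yon S).map u₀ ≫ (yon S).map τ ≫ b = (yon S).map τ₀ ≫ (yon S).map j₀ ≫ b := by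
    rw [← Category.assoc, ← Functor.map_comp, hsqO, Functor.map_comp, Category.assoc]
  rw [hbot] at big₀
  exact H5_P_of_isPullback_comp P sq₀ big₀ hPi₀

end AlgSp
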