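import Groth.Agent.Lib.helper5.AlgSpDiag2

/-! Local criteria: families of base changes, affine test objects. -/

universe u

open CategoryTheory CategoryTheory.Limits AlgebraicGeometry Opposite

namespace AlgSp

variable {S : Scheme.{u}}

/-- General local criterion: `RepWith Q a` can be checked after base changes `b : H ⟶ G`
(depending on the test object) through which test maps factor locally. -/
theorem H5_repWith_of_forall_local {F G : Sp S} (a : F ⟶ G) (ha : Representable a)
    (Q : MorphismProperty Scheme.{u}) [Q.IsLocalAtTarget Scheme.fppfPrecoverage]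
    (hloc : ∀ ⦃U : Over S⦄ (g : (yon S).obj U ⟶ G), ∃ R : Sieve U, R ∈ J S U ∧
      ∀ ⦃W : Over S⦄ (u : W ⟶ U), R u → ∃ (H Q' : Sp S) (b : H ⟶ G) (b' : Q' ⟶ F) (a' : Q' ⟶ H),
        IsPullback b' a' a b ∧ RepWith Q a' ∧ ∃ t : (yon S).obj W ⟶ H, t ≫ b = (yon S).map u ≫ g) :
    RepWith Q a := by
  refine ⟨ha, ?_⟩
  intro U V g fst v sqV
  obtain ⟨R, hR, hlift⟩ := hloc g
  refine H5_P_of_local Q v hR ?_
  intro W u hu
  obtain ⟨H, Q', b, b', a', sq, h, t, ht⟩ := hlift u hu
  refine ⟨pullback v u, pullback.fst v u, pullback.snd v u, IsPullback.of_hasPullback v u, ?_⟩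
  have big := H5_paste_yon sqV (IsPullback.of_hasPullback v u)
  rw [← ht] at big
  have hcomm : ((yon S).map (pullback.fst v u) ≫ fst) ≫ a =
      ((yon S).map (pullback.snd v u) ≫ t) ≫ b := by
    rw [Category.assoc, Category.assoc]; exact big.w
  have hl1 : sq.lift _ _ hcomm ≫ b' = (yon S).map (pullback.fst v u) ≫ fst := sq.lift_fst _ _ _
  have hl2 : sq.lift _ _ hcomm ≫ a' = (yon S).map (pullback.snd v u) ≫ t := sq.lift_snd _ _ _
  rw [← hl1] at big
  exact h.2 t (sq.lift _ _ hcomm) (pullback.snd v u) (IsPullback.of_right big hl2 sq)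

/-- The sieve of morphisms factoring through an affine scheme. -/
def H5_affineSieve (T : Over S) : Sieve T where
  arrows W u := ∃ (Z : Over S) (_ : IsAffine Z.left) (a : W ⟶ Z) (b : Z ⟶ T), a ≫ b = u
  downward_closed := by
    rintro W W' u ⟨Z, hZ, a, b, rfl⟩ w
    exact ⟨Z, hZ, w ≫ a, b, by simp⟩

theorem H5_affineSieve_mem (T : Over S) : H5_affineSieve T ∈ J S T := by
  refine (GrothendieckTopology.mem_over_iff _ _).2 ?_
  have hcov : Presieve.ofArrows T.left.affineCover.X T.left.affineCover.f ∈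
      Scheme.fppfPrecoverage T.left :=
    Scheme.zariskiPrecoverage_le_fppfPrecoverage _ T.left.affineCover.mem₀
  refine GrothendieckTopology.superset_covering _ ?_
    (Precoverage.generate_mem_toGrothendieck hcov)
  rw [Sieve.generate_le_iff]
  rintro W f ⟨i⟩
  rw [Sieve.overEquiv_iff]
  refine ⟨Over.mk (T.left.affineCover.f i ≫ T.hom), ?_, 𝟙 _, Over.homMk (T.left.affineCover.f i),
    by simp⟩
  change IsAffine (T.left.affineCover.X i)
  infer_instance

end AlgSp

namespace AlgSp

variable {S : Scheme.{u}}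

/-- Properties of the relative diagonal can be checked after base change to affine schemes. -/
theorem H5_repWith_diagonal_of_affine {X Y : Sp S} (hX : IsAlgSpace X) (f : X ⟶ Y)
    (Q : MorphismProperty Scheme.{u}) [Q.IsLocalAtTarget Scheme.fppfPrecoverage]
    (h : ∀ (Z : Over S), IsAffine Z.left → ∀ (g : (yon S).obj Z ⟶ Y) (P : Sp S)
        (fst : P ⟶ X) (snd : P ⟶ (yon S).obj Z), IsPullback fst snd f g →
        RepWith Q (pullback.diagonal snd)) :
    RepWith Q (pullback.diagonal f) := by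
  refine H5_repWith_of_forall_local _ (H5_diagonal_properties hX f).1 Q ?_
  intro T g
  refine ⟨H5_affineSieve T, H5_affineSieve_mem T, ?_⟩
  rintro W u ⟨Z, hZ, a', b', rfl⟩
  have sq : IsPullback (pullback.fst f (((yon S).map b' ≫ g) ≫ pullback.fst f f ≫ f))
      (pullback.snd f (((yon S).map b' ≫ g) ≫ pullback.fst f f ≫ f)) f
      (((yon S).map b' ≫ g) ≫ pullback.fst f f ≫ f) := IsPullback.of_hasPullback f _
  have hQ := h Z hZ _ _ _ _ sq
  have sqb := H5_isPullback_map_baseChange sq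
  have hc : ((yon S).map b' ≫ g) ≫ pullback.fst f f ≫ f =
      𝟙 _ ≫ (((yon S).map b' ≫ g) ≫ pullback.fst f f ≫ f) := by simp
  refine ⟨_, _, _, _, _, H5_isPullback_diagonal_baseChange sq, hQ,
    (yon S).map a' ≫ sqb.lift _ _ hc, ?_⟩
  rw [Category.assoc, sqb.lift_fst, Functor.map_comp, Category.assoc]

end AlgSp

namespace AlgSp

variable {S : Scheme.{u}}

/-- Morphisms from a representable sheaf to a sheaf agree if they agree on a covering sieve. -/
theorem H5_hom_ext_of_sieve {X : Sp S} {T : Over S} {R : Sieve T} (hR : R ∈ J S T)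
    (x₁ x₂ : (yon S).obj T ⟶ X)
    (h : ∀ ⦃W : Over S⦄ (u : W ⟶ T), R u → (yon S).map u ≫ x₁ = (yon S).map u ≫ x₂) :
    x₁ = x₂ := by
  apply (J S).uliftYonedaEquiv.injective
  have hX : Presieve.IsSheaf (J S) X.obj := (isSheaf_iff_isSheaf_of_type _ _).1 X.property
  refine (hX R hR).isSeparatedFor.ext ?_
  intro W u hu
  rw [GrothendieckTopology.uliftYonedaEquiv_naturality,
    GrothendieckTopology.uliftYonedaEquiv_naturality, h u hu]

/-- Being a monomorphism descends along a locally surjective base change. -/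
theorem H5_mono_of_locSurj_base {X Y H P : Sp S} (f : X ⟶ Y) (p : H ⟶ Y)
    [Sheaf.IsLocallySurjective p] (fst : P ⟶ X) (snd : P ⟶ H) (sq : IsPullback fst snd f p)
    [Mono snd] : Mono f := by
  constructor
  intro Z α β hαβ
  apply GrothendieckTopology.hom_ext_uliftYoneda.{u + 1} (J S)
  intro T x
  obtain ⟨R, hR, hlift⟩ := H5_exists_local_lift p ((x ≫ α) ≫ f)
  refine H5_hom_ext_of_sieve hR _ _ ?_
  intro W u hu
  obtain ⟨t, ht⟩ := hlift u hu
  have h1 : ((yon S).map u ≫ x ≫ α) ≫ f = t ≫ p := by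
    rw [ht]; simp
  have h2 : ((yon S).map u ≫ x ≫ β) ≫ f = t ≫ p := by
    rw [ht]; simp [hαβ]
  have e : sq.lift _ _ h1 = sq.lift _ _ h2 := by
    rw [← cancel_mono snd, sq.lift_snd, sq.lift_snd]
  calc (yon S).map u ≫ x ≫ α = sq.lift _ _ h1 ≫ fst := (sq.lift_fst _ _ _).symm
    _ = sq.lift _ _ h2 ≫ fst := by rw [e]
    _ = (yon S).map u ≫ x ≫ β := sq.lift_fst _ _ _

end AlgSp

namespace AlgSp

variable {S : Scheme.{u}}

/-- Cancellation: if `a ≫ b` and the diagonal of `b` have `Q`, so has `a`. -/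
theorem H5_of_postcomp (Q : MorphismProperty (Sp S)) [Q.IsStableUnderBaseChange]
    [Q.IsStableUnderComposition] {Z Y X : Sp S} (a : Z ⟶ Y) (b : Y ⟶ X)
    (hΔ : Q (pullback.diagonal b)) (hab : Q (a ≫ b)) : Q a := by
  have h1 : Q (pullback.lift (𝟙 Z) a (by simp) : Z ⟶ pullback (a ≫ b) b) :=
    MorphismProperty.of_isPullback (pullback_lift_diagonal_isPullback a b) hΔ
  have h2 : Q (pullback.snd (a ≫ b) b) := Q.pullback_snd _ _ hab
  have e : (pullback.lift (𝟙 Z) a (by simp) : Z ⟶ pullback (a ≫ b) b) ≫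
      pullback.snd (a ≫ b) b = a := pullback.lift_snd _ _ _
  rw [← e]
  exact Q.comp_mem _ _ h1 h2

end AlgSp
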