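import Groth.Prelude.Def_AlgSpRep

/-! Basic elementwise lemmas on presheaves / sheaves on `Over S`. -/

universe u

open CategoryTheory CategoryTheory.Limits AlgebraicGeometry Opposite

namespace AlgSp

variable {S : Scheme.{u}}

theorem H5_psh_ext {F G H P : PSp S} {fst : P ⟶ F} {snd : P ⟶ H} {f : F ⟶ G} {g : H ⟶ G}
    (sq : IsPullback fst snd f g) {T : (Over S)ᵒᵖ} {x y : P.obj T}
    (h1 : fst.app T x = fst.app T y) (h2 : snd.app T x = snd.app T y) : x = y :=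
  Limits.Types.ext_of_isPullback (sq.map ((evaluation _ _).obj T)) h1 h2

theorem H5_psh_exists {F G H P : PSp S} {fst : P ⟶ F} {snd : P ⟶ H} {f : F ⟶ G} {g : H ⟶ G}
    (sq : IsPullback fst snd f g) {T : (Over S)ᵒᵖ} (a : F.obj T) (b : H.obj T)
    (h : f.app T a = g.app T b) : ∃ x : P.obj T, fst.app T x = a ∧ snd.app T x = b :=
  Limits.Types.exists_of_isPullback (sq.map ((evaluation _ _).obj T)) a b h

theorem H5_isSheaf_of_relRep {F G : PSp S} (a : F ⟶ G)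
    (ha : (pyon S).relativelyRepresentable a) (hG : Presheaf.IsSheaf (J S) G) :
    Presheaf.IsSheaf (J S) F := by
  rw [isSheaf_iff_isSheaf_of_type] at hG ⊢
  intro U R hR x hx
  obtain ⟨t, ht, htuniq⟩ := hG R hR (x.map a) (hx.map a)
  obtain ⟨V, v, fst, sq⟩ := ha (uliftYonedaEquiv.{u+1}.symm t)
  have hV : Presieve.IsSheaf (J S) ((pyon S).obj V) :=
    (isSheaf_iff_isSheaf_of_type _ _).1 ((yon S).obj V).property
  have hloc : ∀ ⦃W : Over S⦄ (f : W ⟶ U) (hf : R f), ∃ σ : W ⟶ V, σ ≫ v = f ∧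
      fst.app (op W) ⟨σ⟩ = x f hf := by
    intro W f hf
    obtain ⟨p, hp1, hp2⟩ := H5_psh_exists sq (T := op W) (x f hf) ⟨f⟩ (by
      have := ht f hf
      simpa using this.symm)
    refine ⟨p.down, ?_, hp1⟩
    have : (⟨p.down ≫ v⟩ : ULift (W ⟶ U)) = ⟨f⟩ := hp2
    exact congrArg ULift.down this
  choose σ hσ1 hσ2 using hloc
  let y : Presieve.FamilyOfElements ((pyon S).obj V) R := fun W f hf => ⟨σ f hf⟩
  have hy : y.Compatible := by
    intro Y₁ Y₂ Z g₁ g₂ f₁ f₂ h₁ h₂ hcomm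
    apply H5_psh_ext sq
    · rw [NatTrans.naturality_apply, NatTrans.naturality_apply]
      change F.map g₁.op (fst.app (op Y₁) ⟨σ f₁ h₁⟩) = F.map g₂.op (fst.app (op Y₂) ⟨σ f₂ h₂⟩)
      rw [hσ2, hσ2]
      exact hx g₁ g₂ h₁ h₂ hcomm
    · change (⟨(g₁ ≫ σ f₁ h₁) ≫ v⟩ : ULift (Z ⟶ U)) = ⟨(g₂ ≫ σ f₂ h₂) ≫ v⟩
      rw [Category.assoc, Category.assoc, hσ1, hσ1, hcomm]
  obtain ⟨τ, hτ, hτuniq⟩ := hV R hR y hy
  refine ⟨fst.app (op U) τ, ?_, ?_⟩
  · intro W f hf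
    rw [← NatTrans.naturality_apply, hτ f hf]
    exact hσ2 f hf
  · intro s' hs'
    have hs't : a.app (op U) s' = t := by
      apply htuniq
      intro W f hf
      change G.map f.op (a.app (op U) s') = a.app (op W) (x f hf)
      rw [← NatTrans.naturality_apply, hs' f hf]
    obtain ⟨p', hp1, hp2⟩ := H5_psh_exists sq (T := op U) s' ⟨𝟙 U⟩ (by
      simpa using hs't)
    have : p' = τ := by
      apply hτuniq
      intro W f hf
      apply H5_psh_ext sq
      · rw [NatTrans.naturality_apply, hp1, hs' f hf]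
        exact (hσ2 f hf).symm
      · rw [NatTrans.naturality_apply, hp2]
        change (⟨f ≫ 𝟙 U⟩ : ULift (W ⟶ U)) = ⟨σ f hf ≫ v⟩
        rw [hσ1, Category.comp_id]
    rw [← this, hp1]

end AlgSp
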