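import Groth.Agent.Lib.helper5.FppfLocal
import Groth.Agent.Lib.FpqcDescent

/-! Instances: various properties are fppf-local on the target. -/

universe u

open CategoryTheory CategoryTheory.Limits AlgebraicGeometry MorphismProperty

namespace AlgebraicGeometry

set_option backward.isDefEq.respectTransparency.types false

instance H5_fppfLocal_lft :
    MorphismProperty.IsLocalAtTarget (@LocallyOfFiniteType : MorphismProperty Scheme.{u}) Scheme.fppfPrecoverage :=
  H5_isLocalAtTarget_fppf _

instance H5_fppfLocal_lfp :
    MorphismProperty.IsLocalAtTarget (@LocallyOfFinitePresentation : MorphismProperty Scheme.{u}) Scheme.fppfPrecoverage :=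
  H5_isLocalAtTarget_fppf _

instance H5_fppfLocal_smooth :
    MorphismProperty.IsLocalAtTarget (@Smooth : MorphismProperty Scheme.{u}) Scheme.fppfPrecoverage :=
  H5_isLocalAtTarget_fppf _

instance H5_fppfLocal_etale :
    MorphismProperty.IsLocalAtTarget (@Etale : MorphismProperty Scheme.{u}) Scheme.fppfPrecoverage :=
  H5_isLocalAtTarget_fppf _

instance H5_fppfLocal_surjective :
    MorphismProperty.IsLocalAtTarget (@Surjective : MorphismProperty Scheme.{u}) Scheme.fppfPrecoverage :=
  H5_isLocalAtTarget_fppf _

instance H5_fppfLocal_universallyClosed :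
    MorphismProperty.IsLocalAtTarget (@UniversallyClosed : MorphismProperty Scheme.{u}) Scheme.fppfPrecoverage :=
  H5_isLocalAtTarget_fppf _

instance H5_fppfLocal_universallyOpen :
    MorphismProperty.IsLocalAtTarget (@UniversallyOpen : MorphismProperty Scheme.{u}) Scheme.fppfPrecoverage :=
  H5_isLocalAtTarget_fppf _

instance H5_fppfLocal_universallyInjective :
    MorphismProperty.IsLocalAtTarget (@UniversallyInjective : MorphismProperty Scheme.{u}) Scheme.fppfPrecoverage :=
  H5_isLocalAtTarget_fppf _

instance H5_fppfLocal_isomorphisms :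
    (MorphismProperty.isomorphisms Scheme.{u}).IsLocalAtTarget Scheme.fppfPrecoverage :=
  H5_isLocalAtTarget_fppf _

instance H5_fppfLocal_isOpenImmersion :
    MorphismProperty.IsLocalAtTarget (@IsOpenImmersion : MorphismProperty Scheme.{u}) Scheme.fppfPrecoverage :=
  H5_isLocalAtTarget_fppf _

instance H5_fppfLocal_isSeparated :
    MorphismProperty.IsLocalAtTarget (@IsSeparated : MorphismProperty Scheme.{u}) Scheme.fppfPrecoverage :=
  have := Groth.Agent.Lib.FpqcDescent.descendsAlong_isSeparated.{u}
  H5_isLocalAtTarget_fppf _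

instance H5_fppfLocal_isProper :
    MorphismProperty.IsLocalAtTarget (@IsProper : MorphismProperty Scheme.{u}) Scheme.fppfPrecoverage :=
  have := Groth.Agent.Lib.FpqcDescent.descendsAlong_isProper.{u}
  H5_isLocalAtTarget_fppf _

instance H5_fppfLocal_mono :
    (MorphismProperty.monomorphisms Scheme.{u}).IsLocalAtTarget Scheme.fppfPrecoverage :=
  have := Groth.Agent.Lib.FpqcDescent.descendsAlong_mono.{u}
  H5_isLocalAtTarget_fppf _

instance H5_fppfLocal_isClosedImmersion :
    MorphismProperty.IsLocalAtTarget (@IsClosedImmersion : MorphismProperty Scheme.{u}) Scheme.fppfPrecoverage :=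
  have := Groth.Agent.Lib.FpqcDescent.descendsAlong_isClosedImmersion.{u}
  H5_isLocalAtTarget_fppf _

end AlgebraicGeometry

namespace AlgebraicGeometry

set_option backward.isDefEq.respectTransparency.types false

/-- Quasi-compactness descends along surjective quasi-compact morphisms. -/
instance H5_descendsAlong_quasiCompact :
    MorphismProperty.DescendsAlong (@QuasiCompact : MorphismProperty Scheme.{u})
      (@Surjective ⊓ @Flat ⊓ @QuasiCompact) := by
  apply MorphismProperty.DescendsAlong.mk'
  intro X Y Z f g _ hf hg
  obtain ⟨⟨hf1, _⟩, hf3⟩ := hf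
  haveI : Surjective f := hf1
  haveI : QuasiCompact f := hf3
  haveI : QuasiCompact (pullback.fst f g) := hg
  refine ⟨fun U hU hU' => ?_⟩
  have h1 : IsCompact (f ⁻¹' U) := QuasiCompact.isCompact_preimage U hU hU'
  have h2 : IsCompact (pullback.fst f g ⁻¹' (f ⁻¹' U)) :=
    QuasiCompact.isCompact_preimage _ (hU.preimage f.continuous) h1
  have h3 : g ⁻¹' U = pullback.snd f g '' (pullback.fst f g ⁻¹' (f ⁻¹' U)) := by
    ext y
    constructor
    · intro hy
      obtain ⟨x, hx⟩ := f.surjective (g y)
      obtain ⟨z, hz1, hz2⟩ := Scheme.Pullback.exists_preimage_pullback x y hx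
      refine ⟨z, ?_, hz2⟩
      simp only [Set.mem_preimage, hz1, hx]
      exact hy
    · rintro ⟨z, hz, rfl⟩
      simp only [Set.mem_preimage] at hz ⊢
      have : g (pullback.snd f g z) = f (pullback.fst f g z) := by
        rw [← Scheme.Hom.comp_apply, ← Scheme.Hom.comp_apply, pullback.condition]
      rw [this]
      exact hz
  rw [h3]
  exact h2.image (pullback.snd f g).continuous

instance H5_fppfLocal_quasiCompact :
    MorphismProperty.IsLocalAtTarget (@QuasiCompact : MorphismProperty Scheme.{u})
      Scheme.fppfPrecoverage :=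
  H5_isLocalAtTarget_fppf _

instance H5_descendsAlong_quasiSeparated :
    MorphismProperty.DescendsAlong (@QuasiSeparated : MorphismProperty Scheme.{u})
      (@Surjective ⊓ @Flat ⊓ @QuasiCompact) := by
  rw [quasiSeparated_eq_diagonal_is_quasiCompact]
  infer_instance

instance H5_fppfLocal_quasiSeparated :
    MorphismProperty.IsLocalAtTarget (@QuasiSeparated : MorphismProperty Scheme.{u})
      Scheme.fppfPrecoverage :=
  H5_isLocalAtTarget_fppf _

end AlgebraicGeometry
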