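import Groth.Agent.Lib.helper5.AlgSpDiag
import Groth.Agent.Lib.helper5.FppfLocalInst

/-! Properties of the diagonal of an algebraic space. -/

universe u

open CategoryTheory CategoryTheory.Limits AlgebraicGeometry Opposite

namespace AlgSp

variable {S : Scheme.{u}}

/-- The base change of a locally surjective morphism of sheaves is locally surjective. -/
theorem H5_isLocallySurjective_of_isPullback {F G H P : Sp S} {fst : P ⟶ F} {snd : P ⟶ H}
    {f : F ⟶ G} {g : H ⟶ G} (sq : IsPullback fst snd f g) [Sheaf.IsLocallySurjective f] :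
    Sheaf.IsLocallySurjective snd := by
  constructor
  intro T h
  refine GrothendieckTopology.superset_covering _ ?_
    (Presheaf.imageSieve_mem (J S) f.hom (g.hom.app _ h))
  rintro W u ⟨t, ht⟩
  have sq' := sq.map (sheafToPresheaf (J S) (Type (u + 1)))
  obtain ⟨x, -, hx2⟩ := H5_psh_exists sq' (T := op W) t (H.obj.map u.op h) (by
    change f.hom.app (op W) t = g.hom.app (op W) (H.obj.map u.op h)
    rw [ht]
    exact (NatTrans.naturality_apply g.hom u.op h).symm)
  exact ⟨x, hx2⟩

/-- An étale surjective representable morphism is locally surjective. -/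
theorem H5_isLocallySurjective_of_etale {F G : Sp S} (a : F ⟶ G)
    (h₁ : RepWith @Etale a) (h₃ : RepWith @Surjective a) : Sheaf.IsLocallySurjective a := by
  refine H5_isLocallySurjective_of_fppf a ⟨h₁.1, fun U V g fst snd sq => ?_⟩
    ⟨h₁.1, fun U V g fst snd sq => ?_⟩ h₃
  · haveI : Etale snd.left := h₁.2 g fst snd sq
    show Flat snd.left
    infer_instance
  · haveI : Etale snd.left := h₁.2 g fst snd sq
    show LocallyOfFinitePresentation snd.left
    infer_instance

set_option backward.defeqAttrib.useBackward true in
set_option backward.isDefEq.respectTransparency false in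
theorem H5_isLocallySurjective_prod_map {F G F' G' : Sp S} (a : F ⟶ G) (b : F' ⟶ G')
    [Sheaf.IsLocallySurjective a] [Sheaf.IsLocallySurjective b] :
    Sheaf.IsLocallySurjective (prod.map a b) := by
  have e : prod.map a b = prod.map a (𝟙 F') ≫ prod.map (𝟙 G) b := by simp
  haveI h1 : Sheaf.IsLocallySurjective (prod.map a (𝟙 F')) :=
    H5_isLocallySurjective_of_isPullback (IsPullback.of_prod_fst_with_id a F')
  haveI h2 : Sheaf.IsLocallySurjective (prod.map (𝟙 G) b) :=
    H5_isLocallySurjective_of_isPullback (H5_isPullback_prod_snd_with_id b G)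
  rw [e]
  exact Presheaf.isLocallySurjective_comp (J S) (prod.map a (𝟙 F')).hom (prod.map (𝟙 G) b).hom

/-- Descent of properties of the diagonal of a sheaf along an étale surjective chart. -/
theorem H5_repWith_diag_of_chart (X : Sp S) (hX : Representable (Limits.diag X)) {U : Over S}
    (p : (yon S).obj U ⟶ X) (he : RepWith @Etale p) (hs : RepWith @Surjective p)
    (P : MorphismProperty Scheme.{u}) [P.IsLocalAtTarget Scheme.fppfPrecoverage]
    (h : RepWith P (prod.lift (pullback.fst p p) (pullback.snd p p))) :
    RepWith P (Limits.diag X) := by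
  haveI : Sheaf.IsLocallySurjective p := H5_isLocallySurjective_of_etale p he hs
  haveI : Sheaf.IsLocallySurjective (prod.map p p) := H5_isLocallySurjective_prod_map p p
  exact H5_repWith_of_locSurj_base (Limits.diag X) hX (prod.map p p) _ _ _
    (H5_isPullback_diag (IsPullback.of_hasPullback p p)) P h

end AlgSp

namespace AlgSp

variable {S : Scheme.{u}}

set_option backward.defeqAttrib.useBackward true in
set_option backward.isDefEq.respectTransparency false in
theorem H5_repWith_prodLift_iff (P : MorphismProperty Scheme.{u}) [P.IsStableUnderBaseChange]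
    {X : Sp S} {U R : Over S} (p : (yon S).obj U ⟶ X) (s t : R ⟶ U)
    (sq : IsPullback ((yon S).map t) ((yon S).map s) p p) :
    RepWith P (prod.lift (pullback.fst p p) (pullback.snd p p)) ↔ P (prod.lift t s).left := by
  have key : sq.isoPullback.hom ≫ prod.lift (pullback.fst p p) (pullback.snd p p) =
      (yon S).map (prod.lift t s) ≫ prodComparison (yon S) U U := by
    apply Limits.prod.hom_ext
    · simp only [Category.assoc, prod.lift_fst, IsPullback.isoPullback_hom_fst, prodComparison_fst,
        ← Functor.map_comp]
    · simp only [Category.assoc, prod.lift_snd, IsPullback.isoPullback_hom_snd, prodComparison_snd,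
        ← Functor.map_comp]
  rw [← MorphismProperty.cancel_left_of_respectsIso (RepWith P) sq.isoPullback.hom, key,
    MorphismProperty.cancel_right_of_respectsIso (RepWith P)]
  exact repWith_yon_map_iff P _

/-- The diagonal of an algebraic space: descent of `P` from the chart relation `R ⟶ U × U`. -/
theorem H5_repWith_diag_of_relation (X : Sp S) (hX : IsAlgSpace X)
    (P : MorphismProperty Scheme.{u}) [P.IsStableUnderBaseChange]
    [P.IsLocalAtTarget Scheme.fppfPrecoverage]
    (h : ∀ ⦃U R : Over S⦄ (p : (yon S).obj U ⟶ X) (s t : R ⟶ U), RepWith @Etale p →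
      IsPullback ((yon S).map t) ((yon S).map s) p p → P (prod.lift t s).left) :
    RepWith P (Limits.diag X) := by
  obtain ⟨U, p, he, hs⟩ := hX.atlas
  have hp : Representable p := he.1
  have sq := hp.isPullback' p
  exact H5_repWith_diag_of_chart X hX.diag p he hs P
    ((H5_repWith_prodLift_iff P p _ _ sq).2 (h p _ _ he sq))

end AlgSp

namespace AlgSp

variable {S : Scheme.{u}}

theorem H5_relation_props {X : Sp S} {U R : Over S} (p : (yon S).obj U ⟶ X) (s t : R ⟶ U)
    (he : RepWith @Etale p) (sq : IsPullback ((yon S).map t) ((yon S).map s) p p) :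
    Mono (prod.lift t s).left ∧ LocallyOfFiniteType (prod.lift t s).left := by
  have l1 : prod.lift t s ≫ prod.fst = t := prod.lift_fst _ _
  have l2 : prod.lift t s ≫ prod.snd = s := prod.lift_snd _ _
  haveI : Mono (prod.lift t s) := by
    constructor
    intro T α β hαβ
    have h1 : α ≫ t = β ≫ t := by
      calc α ≫ t = (α ≫ prod.lift t s) ≫ prod.fst := by rw [Category.assoc, l1]
        _ = (β ≫ prod.lift t s) ≫ prod.fst := by rw [hαβ]
        _ = β ≫ t := by rw [Category.assoc, l1]
    have h2 : α ≫ s = β ≫ s := by
      calc α ≫ s = (α ≫ prod.lift t s) ≫ prod.snd := by rw [Category.assoc, l2]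
        _ = (β ≫ prod.lift t s) ≫ prod.snd := by rw [hαβ]
        _ = β ≫ s := by rw [Category.assoc, l2]
    apply (yon S).map_injective
    apply sq.hom_ext
    · rw [← Functor.map_comp, ← Functor.map_comp, h1]
    · rw [← Functor.map_comp, ← Functor.map_comp, h2]
  refine ⟨inferInstance, ?_⟩
  haveI : Etale t.left := he.2 p _ t sq.flip
  have e : (prod.lift t s).left ≫ (prod.fst : U ⨯ U ⟶ U).left = t.left := by
    rw [← Over.comp_left, l1]
  haveI : LocallyOfFiniteType ((prod.lift t s).left ≫ (prod.fst : U ⨯ U ⟶ U).left) := by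
    rw [e]; infer_instance
  exact locallyOfFiniteType_of_comp _ (prod.fst : U ⨯ U ⟶ U).left

/-- The diagonal of an algebraic space is locally of finite type, a monomorphism, separated and
locally quasi-finite. -/
theorem H5_diag_properties (X : Sp S) (hX : IsAlgSpace X) :
    RepWith @LocallyOfFiniteType (Limits.diag X) ∧
      RepWith (MorphismProperty.monomorphisms Scheme.{u}) (Limits.diag X) ∧
      RepWith @IsSeparated (Limits.diag X) ∧
      RepWith @LocallyQuasiFinite (Limits.diag X) := by
  have h1 : RepWith @LocallyOfFiniteType (Limits.diag X) :=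
    H5_repWith_diag_of_relation X hX @LocallyOfFiniteType
      (fun U R p s t he sq => (H5_relation_props p s t he sq).2)
  have h2 : RepWith (MorphismProperty.monomorphisms Scheme.{u}) (Limits.diag X) :=
    H5_repWith_diag_of_relation X hX (MorphismProperty.monomorphisms Scheme.{u})
      (fun U R p s t he sq => (H5_relation_props p s t he sq).1)
  refine ⟨h1, h2, ⟨hX.diag, fun U V g fst snd sq => ?_⟩, ⟨hX.diag, fun U V g fst snd sq => ?_⟩⟩
  · haveI : Mono snd.left := h2.2 g fst snd sq
    show IsSeparated snd.left
    infer_instance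
  · haveI : Mono snd.left := h2.2 g fst snd sq
    haveI : LocallyOfFiniteType snd.left := h1.2 g fst snd sq
    show LocallyQuasiFinite snd.left
    infer_instance

end AlgSp

namespace AlgSp

variable {S : Scheme.{u}}

/-- The relative diagonal is a base change of the absolute diagonal. -/
theorem H5_isPullback_diagonal_diag {F G : Sp S} (f : F ⟶ G) :
    IsPullback (𝟙 F) (pullback.diagonal f) (Limits.diag F)
      (prod.lift (pullback.fst f f) (pullback.snd f f)) := by
  have l1 : prod.lift (pullback.fst f f) (pullback.snd f f) ≫ prod.fst = pullback.fst f f :=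
    prod.lift_fst _ _
  have l2 : prod.lift (pullback.fst f f) (pullback.snd f f) ≫ prod.snd = pullback.snd f f :=
    prod.lift_snd _ _
  haveI : Mono (prod.lift (pullback.fst f f) (pullback.snd f f)) := by
    constructor
    intro T α β hαβ
    apply pullback.hom_ext
    · calc α ≫ pullback.fst f f
          = (α ≫ prod.lift (pullback.fst f f) (pullback.snd f f)) ≫ prod.fst := by
            rw [Category.assoc, l1]
        _ = (β ≫ prod.lift (pullback.fst f f) (pullback.snd f f)) ≫ prod.fst := by rw [hαβ]
        _ = β ≫ pullback.fst f f := by rw [Category.assoc, l1]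
    · calc α ≫ pullback.snd f f
          = (α ≫ prod.lift (pullback.fst f f) (pullback.snd f f)) ≫ prod.snd := by
            rw [Category.assoc, l2]
        _ = (β ≫ prod.lift (pullback.fst f f) (pullback.snd f f)) ≫ prod.snd := by rw [hαβ]
        _ = β ≫ pullback.snd f f := by rw [Category.assoc, l2]
  refine IsPullback.of_horiz_isIso_mono ⟨?_⟩
  apply Limits.prod.hom_ext
  · rw [Category.id_comp, Category.assoc, l1, pullback.diagonal_fst]
    exact prod.lift_fst _ _
  · rw [Category.id_comp, Category.assoc, l2, pullback.diagonal_snd]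
    exact prod.lift_snd _ _

theorem H5_diagonal_of_diag (Q : MorphismProperty (Sp S)) [Q.IsStableUnderBaseChange]
    {F G : Sp S} (f : F ⟶ G) (h : Q (Limits.diag F)) : Q (pullback.diagonal f) :=
  MorphismProperty.of_isPullback (H5_isPullback_diagonal_diag f) h

/-- Properties of the relative diagonal of a morphism of algebraic spaces. -/
theorem H5_diagonal_properties {X Y : Sp S} (hX : IsAlgSpace X) (f : X ⟶ Y) :
    Representable (pullback.diagonal f) ∧
    RepWith @LocallyOfFiniteType (pullback.diagonal f) ∧
    RepWith (MorphismProperty.monomorphisms Scheme.{u}) (pullback.diagonal f) ∧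
    RepWith @IsSeparated (pullback.diagonal f) ∧
    RepWith (@LocallyQuasiFinite ⊓ @LocallyOfFiniteType) (pullback.diagonal f) := by
  obtain ⟨h1, h2, h3, h4⟩ := H5_diag_properties X hX
  have k1 := H5_diagonal_of_diag (RepWith @LocallyOfFiniteType) f h1
  have k2 := H5_diagonal_of_diag (RepWith (MorphismProperty.monomorphisms Scheme.{u})) f h2
  have k3 := H5_diagonal_of_diag (RepWith @IsSeparated) f h3
  have k4 := H5_diagonal_of_diag (RepWith @LocallyQuasiFinite) f h4
  exact ⟨k1.1, k1, k2, k3, ⟨k1.1, fun U V g fst snd sq => ⟨k4.2 g fst snd sq, k1.2 g fst snd sq⟩⟩⟩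

end AlgSp

namespace AlgSp

variable {S : Scheme.{u}}

theorem H5_mapDesc_of_diagonal (Q : MorphismProperty (Sp S)) [Q.IsStableUnderBaseChange]
    {X Y Z T : Sp S} (f : X ⟶ Z) (g : Y ⟶ Z) (h : Z ⟶ T) (hh : Q (pullback.diagonal h)) :
    Q (pullback.mapDesc f g h) :=
  MorphismProperty.of_isPullback (pullback_map_diagonal_isPullback f g h) hh

theorem H5_section_of_diagonal (Q : MorphismProperty (Sp S)) [Q.IsStableUnderBaseChange]
    {X T : Sp S} (f : X ⟶ T) (s : T ⟶ X) (hs : s ≫ f = 𝟙 T) (h : Q (pullback.diagonal f)) :
    Q s := by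
  haveI : Q.RespectsIso := MorphismProperty.IsStableUnderBaseChange.respectsIso
  haveI : IsIso (s ≫ f) := by rw [hs]; infer_instance
  have h1 : Q (pullback.lift (𝟙 T) s (by simp) : T ⟶ pullback (s ≫ f) f) :=
    MorphismProperty.of_isPullback (pullback_lift_diagonal_isPullback s f) h
  have h2 : (pullback.lift (𝟙 T) s (by simp) : T ⟶ pullback (s ≫ f) f) ≫
      pullback.snd (s ≫ f) f = s := pullback.lift_snd _ _ _
  rw [← h2]
  exact (MorphismProperty.cancel_right_of_respectsIso Q _ _).2 h1

end AlgSp

namespace AlgSp

variable {S : Scheme.{u}}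

/-- Descent of properties of the relative diagonal along a locally surjective base change. -/
theorem H5_repWith_diagonal_of_locSurj {X Y H : Sp S} (hX : IsAlgSpace X) (f : X ⟶ Y)
    (p : H ⟶ Y) [Sheaf.IsLocallySurjective p] {P : Sp S} (fst : P ⟶ X) (snd : P ⟶ H)
    (sq : IsPullback fst snd f p) (Q : MorphismProperty Scheme.{u})
    [Q.IsLocalAtTarget Scheme.fppfPrecoverage] (h : RepWith Q (pullback.diagonal snd)) :
    RepWith Q (pullback.diagonal f) := by
  haveI : Sheaf.IsLocallySurjective (pullback.map snd snd f f fst fst p sq.w.symm sq.w.symm) :=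
    H5_isLocallySurjective_of_isPullback (H5_isPullback_map_baseChange sq).flip
  exact H5_repWith_of_locSurj_base (pullback.diagonal f) (H5_diagonal_properties hX f).1
    (pullback.map snd snd f f fst fst p sq.w.symm sq.w.symm) P fst (pullback.diagonal snd)
    (H5_isPullback_diagonal_baseChange sq) Q h

end AlgSp
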