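import Groth.Prelude.Def_AlgSp4
import Groth.Agent.Lib.helper5.AlgSpBasic
import Mathlib.AlgebraicGeometry.Morphisms.UniversallyInjective

/-! helper5 library: the space of points of a sheaf / algebraic space. -/

set_option autoImplicit false

universe u

open CategoryTheory CategoryTheory.Limits AlgebraicGeometry Opposite

namespace AlgSp

variable {S : Scheme.{u}} {F G H : Sp S}

/-- Restricting a field-valued point along a field extension does not change the point. -/
theorem H5_mk_restrict (p : FieldPt F) {Ω : Type u} [Field Ω] (w : Spec (.of Ω) ⟶ S)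
    (a : Over.mk w ⟶ p.pt) :
    Points.mk (⟨Ω, w, F.obj.map a.op p.val⟩ : FieldPt F) = Points.mk p :=
  Points.sound ⟨Ω, inferInstance, w, 𝟙 _, a, by
    change F.obj.map (𝟙 _) (F.obj.map a.op p.val) = F.obj.map a.op p.val
    rw [FunctorToTypes.map_id_apply]⟩

/-- The points of a fibre product surject onto the fibre product of the points. -/
theorem H5_points_pullback_surj {F G Z Z' : Sp S} {fst : Z' ⟶ F} {snd : Z' ⟶ Z} {f : F ⟶ G}
    {g : Z ⟶ G} (sq : IsPullback fst snd f g) (x : Points F) (z : Points Z)
    (h : Points.map f x = Points.map g z) :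
    ∃ w : Points Z', Points.map fst w = x ∧ Points.map snd w = z := by
  induction x using Points.ind with
  | h p =>
  induction z using Points.ind with
  | h q =>
  rw [Points.map_mk, Points.map_mk, Points.mk_eq_mk_iff] at h
  obtain ⟨Ω, _, w, a, b, hab⟩ := h
  have sq' := sq.map (sheafToPresheaf (J S) (Type (u + 1)))
  obtain ⟨t, ht1, ht2⟩ := H5_psh_exists sq' (T := op (Over.mk w)) (F.obj.map a.op p.val)
    (Z.obj.map b.op q.val) (by
      change f.hom.app _ (F.obj.map a.op p.val) = g.hom.app _ (Z.obj.map b.op q.val)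
      rw [NatTrans.naturality_apply, NatTrans.naturality_apply]
      exact hab)
  refine ⟨Points.mk ⟨Ω, w, t⟩, ?_, ?_⟩
  · rw [Points.map_mk]
    change Points.mk (⟨Ω, w, fst.hom.app _ t⟩ : FieldPt F) = _
    rw [show fst.hom.app _ t = F.obj.map a.op p.val from ht1]
    exact H5_mk_restrict p w a
  · rw [Points.map_mk]
    change Points.mk (⟨Ω, w, snd.hom.app _ t⟩ : FieldPt Z) = _
    rw [show snd.hom.app _ t = Z.obj.map b.op q.val from ht2]
    exact H5_mk_restrict q w b

theorem H5_ofPt_yon_map {T T' : Over S} (φ : T ⟶ T') (t : T.left) :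
    Points.ofPt ((yon S).map φ) t = Points.ofScheme T' (φ.left t) := by
  apply (Points.schemeEquiv T').symm.injective
  change Points.toScheme T' (Points.ofPt ((yon S).map φ) t) =
    Points.toScheme T' (Points.ofScheme T' (φ.left t))
  rw [Points.toScheme_ofPt, Points.toScheme_ofScheme]

theorem H5_ofPt_comp {T T' : Over S} (φ : T ⟶ T') (g : (yon S).obj T' ⟶ F) (t : T.left) :
    Points.ofPt ((yon S).map φ ≫ g) t = Points.ofPt g (φ.left t) := by
  rw [← Points.map_ofPt, H5_ofPt_yon_map, ← Points.ofPt_eq_map_ofScheme]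

/-- The morphism `h_{Spec K} ⟶ F` of a field-valued point. -/
noncomputable def H5_fieldPtHom (p : FieldPt F) : (yon S).obj p.pt ⟶ F :=
  (J S).uliftYonedaEquiv.symm p.val

theorem H5_mk_eq_ofPt (p : FieldPt F) :
    Points.mk p = Points.ofPt (H5_fieldPtHom p) (IsLocalRing.closedPoint p.K) := by
  rw [Points.ofPt_eq_map_ofScheme]
  have e1 := Points.ofScheme_apply_eq_mk p.pt (K := p.K) (str := p.str) (𝟙 _) (Category.id_comp _)
  have e2 : (𝟙 (Spec (.of p.K)) : Spec (.of p.K) ⟶ Spec (.of p.K)) (IsLocalRing.closedPoint p.K) =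
      IsLocalRing.closedPoint p.K := Subsingleton.elim _ _
  rw [e2] at e1
  rw [e1, Points.map_mk]
  congr 1
  symm
  change (⟨p.K, p.str, (H5_fieldPtHom p).hom.app _ _⟩ : FieldPt F) = p
  have e3 : (J S).uliftYonedaEquiv (H5_fieldPtHom p) = p.val := Equiv.apply_symm_apply _ _
  change (⟨p.K, p.str, (J S).uliftYonedaEquiv (H5_fieldPtHom p)⟩ : FieldPt F) = p
  rw [e3]
  rfl

/-- Every point of `F` comes from a point of the spectrum of a field. -/
theorem H5_exists_ofPt (x : Points F) : ∃ (K : Type u) (_ : Field K) (str : Spec (.of K) ⟶ S)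
    (b : (yon S).obj (Over.mk str) ⟶ F), x = Points.ofPt b (IsLocalRing.closedPoint K) := by
  induction x using Points.ind with
  | h p => exact ⟨p.K, p.field, p.str, H5_fieldPtHom p, H5_mk_eq_ofPt p⟩

/-- Key formula: for a pullback square of `f : F ⟶ G` along `g : h_T ⟶ G` with corner `h_V`,
`(ofPt g)⁻¹ (f '' A) = b '' ((ofPt a)⁻¹ A)`. -/
theorem H5_preimage_image_eq {F G : Sp S} {f : F ⟶ G} {T V : Over S} {g : (yon S).obj T ⟶ G}
    {a : (yon S).obj V ⟶ F} {b : V ⟶ T} (sq : IsPullback a ((yon S).map b) f g)
    (A : Set (Points F)) :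
    Points.ofPt g ⁻¹' (Points.map f '' A) = b.left '' (Points.ofPt a ⁻¹' A) := by
  ext t
  constructor
  · rintro ⟨x, hxA, hx⟩
    obtain ⟨w, hw1, hw2⟩ := H5_points_pullback_surj sq x (Points.ofScheme T t)
      (by rw [hx, ← Points.ofPt_eq_map_ofScheme])
    obtain ⟨v, rfl⟩ := (Points.schemeEquiv V).surjective w
    refine ⟨v, ?_, ?_⟩
    · change Points.ofPt a v ∈ A
      rw [Points.ofPt_eq_map_ofScheme]
      exact hw1 ▸ hxA
    · have h2 : Points.map ((yon S).map b) (Points.ofScheme V v) = Points.ofScheme T t := hw2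
      rw [← Points.ofPt_eq_map_ofScheme, H5_ofPt_yon_map] at h2
      exact (Points.schemeEquiv T).injective h2
  · rintro ⟨v, hv, rfl⟩
    refine ⟨Points.ofPt a v, hv, ?_⟩
    rw [Points.map_ofPt, sq.w, H5_ofPt_comp]

theorem H5_isOpenMap_of_repWith {F G : Sp S} (f : F ⟶ G) (hf : RepWith @UniversallyOpen f) :
    IsOpenMap (Points.map f) := by
  intro A hA
  rw [Points.isOpen_iff]
  intro T g
  have sq := hf.1.isPullback g
  rw [H5_preimage_image_eq sq]
  haveI hb : UniversallyOpen (hf.1.snd g).left := hf.2 _ _ _ sq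
  exact (hf.1.snd g).left.isOpenMap _ (hA.preimage (Points.continuous_ofPt _))

theorem H5_isClosed_iff {W : Set (Points F)} :
    IsClosed W ↔ ∀ (T : Over S) (g : (yon S).obj T ⟶ F), IsClosed (Points.ofPt g ⁻¹' W) := by
  rw [← isOpen_compl_iff, Points.isOpen_iff]
  refine forall_congr' fun T => forall_congr' fun g => ?_
  rw [← isOpen_compl_iff, Set.preimage_compl]

theorem H5_isClosedMap_of_repWith {F G : Sp S} (f : F ⟶ G) (hf : RepWith @UniversallyClosed f) :
    IsClosedMap (Points.map f) := by
  intro A hA
  rw [H5_isClosed_iff]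
  intro T g
  have sq := hf.1.isPullback g
  rw [H5_preimage_image_eq sq]
  haveI hb : UniversallyClosed (hf.1.snd g).left := hf.2 _ _ _ sq
  exact (hf.1.snd g).left.isClosedMap _ (hA.preimage (Points.continuous_ofPt _))

theorem H5_surjective_of_repWith {F G : Sp S} (f : F ⟶ G) (hf : RepWith @Surjective f) :
    Function.Surjective (Points.map f) := by
  intro y
  obtain ⟨K, _, str, b, rfl⟩ := H5_exists_ofPt y
  have sq := hf.1.isPullback b
  haveI hb : Surjective (hf.1.snd b).left := hf.2 _ _ _ sq
  obtain ⟨v, hv⟩ := (hf.1.snd b).left.surjective (IsLocalRing.closedPoint K)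
  refine ⟨Points.ofPt (hf.1.fst b) v, ?_⟩
  rw [Points.map_ofPt, sq.w, H5_ofPt_comp, hv]

theorem H5_injective_of_repWith {F G : Sp S} (f : F ⟶ G) (hf : RepWith @UniversallyInjective f) :
    Function.Injective (Points.map f) := by
  intro x x' hxx
  obtain ⟨K, _, str, b, hb⟩ := H5_exists_ofPt (Points.map f x)
  have sq := hf.1.isPullback b
  haveI hbi : UniversallyInjective (hf.1.snd b).left := hf.2 _ _ _ sq
  obtain ⟨w, hw1, hw2⟩ := H5_points_pullback_surj sq x
    (Points.ofScheme _ (IsLocalRing.closedPoint K)) (by rw [hb, ← Points.ofPt_eq_map_ofScheme])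
  obtain ⟨w', hw1', hw2'⟩ := H5_points_pullback_surj sq x'
    (Points.ofScheme _ (IsLocalRing.closedPoint K)) (by rw [← hxx, hb, ← Points.ofPt_eq_map_ofScheme])
  obtain ⟨v, rfl⟩ := (Points.schemeEquiv _).surjective w
  obtain ⟨v', rfl⟩ := (Points.schemeEquiv _).surjective w'
  have h2 : Points.map ((yon S).map (hf.1.snd b)) (Points.ofScheme _ v) = _ := hw2
  have h2' : Points.map ((yon S).map (hf.1.snd b)) (Points.ofScheme _ v') = _ := hw2'
  rw [← Points.ofPt_eq_map_ofScheme, H5_ofPt_yon_map] at h2 h2'
  have e : v = v' := (hf.1.snd b).left.injective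
    (((Points.schemeEquiv _).injective h2).trans ((Points.schemeEquiv _).injective h2').symm)
  rw [← hw1, ← hw1', e]

/-- A sheaf morphism that is surjective on points and representable is representable surjective. -/
theorem H5_repWith_surjective_of_surjective {F G : Sp S} (f : F ⟶ G) (hrep : Representable f)
    (hf : Function.Surjective (Points.map f)) : RepWith @Surjective f := by
  refine ⟨hrep, ?_⟩
  intro T V g a b sq
  change Surjective b.left
  constructor
  intro t
  obtain ⟨x, hx⟩ := hf (Points.ofPt g t)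
  obtain ⟨w, hw1, hw2⟩ := H5_points_pullback_surj sq x (Points.ofScheme T t)
    (by rw [hx, ← Points.ofPt_eq_map_ofScheme])
  obtain ⟨v, rfl⟩ := (Points.schemeEquiv V).surjective w
  have h2 : Points.map ((yon S).map b) (Points.ofScheme V v) = Points.ofScheme T t := hw2
  rw [← Points.ofPt_eq_map_ofScheme, H5_ofPt_yon_map] at h2
  exact ⟨v, (Points.schemeEquiv T).injective h2⟩

/-- Surjectivity on points is stable under base change. -/
theorem H5_surjective_baseChange {F G Z Z' : Sp S} {fst : Z' ⟶ F} {snd : Z' ⟶ Z} {f : F ⟶ G}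
    {g : Z ⟶ G} (sq : IsPullback fst snd f g) (hf : Function.Surjective (Points.map f)) :
    Function.Surjective (Points.map snd) := by
  intro z
  obtain ⟨x, hx⟩ := hf (Points.map g z)
  obtain ⟨w, -, hw2⟩ := H5_points_pullback_surj sq x z hx
  exact ⟨w, hw2⟩

theorem H5_over_isPullback_of_left {A B C D : Over S} {f : A ⟶ B} {g : A ⟶ C} {h : B ⟶ D}
    {i : C ⟶ D} (sq : IsPullback f.left g.left h.left i.left) : IsPullback f g h i :=
  IsPullback.of_map (Over.forget S) (Over.OverMorphism.ext sq.w) sq

/-- To check that a representable morphism is representably "universally `P`", it suffices to check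
`P` for all the representing morphisms of schemes. -/
theorem H5_repWith_universally {F G : Sp S} (f : F ⟶ G) (hrep : Representable f)
    (P : MorphismProperty Scheme.{u})
    (h : ∀ (T V : Over S) (g : (yon S).obj T ⟶ G) (a : (yon S).obj V ⟶ F) (b : V ⟶ T),
        IsPullback a ((yon S).map b) f g → P b.left) :
    RepWith P.universally f := by
  refine ⟨hrep, ?_⟩
  intro T V g a b sq
  change P.universally b.left
  intro X' Y' i₁ i₂ f' sqS
  let Y'' : Over S := Over.mk (i₂ ≫ T.hom)
  let X'' : Over S := Over.mk (i₁ ≫ V.hom)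
  let j₂ : Y'' ⟶ T := Over.homMk i₂ rfl
  let j₁ : X'' ⟶ V := Over.homMk i₁ rfl
  let b' : X'' ⟶ Y'' := Over.homMk f' (by
    change f' ≫ i₂ ≫ T.hom = i₁ ≫ V.hom
    rw [← Category.assoc, sqS.w, Category.assoc, Over.w b])
  have sqO : IsPullback j₁ b' b j₂ := H5_over_isPullback_of_left sqS.flip
  exact h Y'' X'' ((yon S).map j₂ ≫ g) ((yon S).map j₁ ≫ a) b' ((sqO.map (yon S)).paste_horiz sq)

theorem H5_left_eq {T T' : Over S} (φ : T ⟶ T') :
    (fun t => φ.left t) =
      (Points.schemeHomeo T').symm ∘ Points.map ((yon S).map φ) ∘ (Points.schemeHomeo T) := by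
  funext t
  simp only [Function.comp_apply, Points.map_yon_map_apply, Homeomorph.symm_apply_apply]

theorem H5_isOpenMap_left_iff {T T' : Over S} (φ : T ⟶ T') :
    IsOpenMap (Points.map ((yon S).map φ)) ↔ IsOpenMap φ.left := by
  constructor
  · intro h
    change IsOpenMap (fun t => φ.left t)
    rw [H5_left_eq]
    exact (Points.schemeHomeo T').symm.isOpenMap.comp (h.comp (Points.schemeHomeo T).isOpenMap)
  · intro h
    rw [Points.map_yon_map_eq]
    exact (Points.schemeHomeo T').isOpenMap.comp (h.comp (Points.schemeHomeo T).symm.isOpenMap)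

theorem H5_isClosedMap_left_iff {T T' : Over S} (φ : T ⟶ T') :
    IsClosedMap (Points.map ((yon S).map φ)) ↔ IsClosedMap φ.left := by
  constructor
  · intro h
    change IsClosedMap (fun t => φ.left t)
    rw [H5_left_eq]
    exact (Points.schemeHomeo T').symm.isClosedMap.comp (h.comp (Points.schemeHomeo T).isClosedMap)
  · intro h
    rw [Points.map_yon_map_eq]
    exact (Points.schemeHomeo T').isClosedMap.comp (h.comp (Points.schemeHomeo T).symm.isClosedMap)

theorem H5_injective_left_iff {T T' : Over S} (φ : T ⟶ T') :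
    Function.Injective (Points.map ((yon S).map φ)) ↔ Function.Injective φ.left := by
  constructor
  · intro h
    change Function.Injective (fun t => φ.left t)
    rw [H5_left_eq]
    exact (Points.schemeHomeo T').symm.injective.comp (h.comp (Points.schemeHomeo T).injective)
  · intro h
    rw [Points.map_yon_map_eq]
    exact (Points.schemeHomeo T').injective.comp (h.comp (Points.schemeHomeo T).symm.injective)

theorem H5_surjective_left_iff {T T' : Over S} (φ : T ⟶ T') :
    Function.Surjective (Points.map ((yon S).map φ)) ↔ Function.Surjective φ.left := by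
  constructor
  · intro h
    change Function.Surjective (fun t => φ.left t)
    rw [H5_left_eq]
    exact (Points.schemeHomeo T').symm.surjective.comp (h.comp (Points.schemeHomeo T).surjective)
  · intro h
    rw [Points.map_yon_map_eq]
    exact (Points.schemeHomeo T').surjective.comp (h.comp (Points.schemeHomeo T).symm.surjective)

theorem H5_repWith_universallyOpen_iff {F G : Sp S} (f : F ⟶ G) (hrep : Representable f) :
    RepWith @UniversallyOpen f ↔ IsUnivOpenMor f := by
  constructor
  · intro hf Z Z' _ g fst snd sq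
    exact H5_isOpenMap_of_repWith snd (MorphismProperty.of_isPullback sq hf)
  · intro hf
    rw [UniversallyOpen.eq]
    refine H5_repWith_universally f hrep _ fun T V g a b sq => ?_
    exact (H5_isOpenMap_left_iff b).1 (hf (IsAlgSpace.yon_obj T) g a _ sq)

theorem H5_repWith_universallyClosed_iff {F G : Sp S} (f : F ⟶ G) (hrep : Representable f) :
    RepWith @UniversallyClosed f ↔ IsUnivClosedMor f := by
  constructor
  · intro hf Z Z' _ g fst snd sq
    exact H5_isClosedMap_of_repWith snd (MorphismProperty.of_isPullback sq hf)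
  · intro hf
    rw [universallyClosed_eq]
    refine H5_repWith_universally f hrep _ fun T V g a b sq => ?_
    exact (H5_isClosedMap_left_iff b).1 (hf (IsAlgSpace.yon_obj T) g a _ sq)

theorem H5_repWith_universallyInjective_iff {F G : Sp S} (f : F ⟶ G) (hrep : Representable f) :
    RepWith @UniversallyInjective f ↔ IsUnivInjectiveMor f := by
  constructor
  · intro hf Z Z' _ g fst snd sq
    exact H5_injective_of_repWith snd (MorphismProperty.of_isPullback sq hf)
  · intro hf
    rw [universallyInjective_eq]
    refine H5_repWith_universally f hrep _ fun T V g a b sq => ?_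
    exact (H5_injective_left_iff b).1 (hf (IsAlgSpace.yon_obj T) g a _ sq)

end AlgSp
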