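import Groth.Agent.Lib.helper5.AlgSpBasic
import Groth.Agent.Lib.helper5.AlgSpDiag2
import Groth.Agent.Lib.helper5.AlgSpPoints

/-! Descent of cartesian squares along locally surjective maps of sheaves. -/

universe u

open CategoryTheory CategoryTheory.Limits AlgebraicGeometry Opposite

namespace AlgSp

variable {S : Scheme.{u}}

/-- If `φ ≫ ψ` is locally surjective then so is `ψ`. -/
theorem H5_isLocallySurjective_of_comp {F G H : Sp S} (φ : F ⟶ G) (ψ : G ⟶ H)
    [h : Sheaf.IsLocallySurjective (φ ≫ ψ)] : Sheaf.IsLocallySurjective ψ := by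
  haveI : Presheaf.IsLocallySurjective (J S) (φ.hom ≫ ψ.hom) := h
  exact Presheaf.isLocallySurjective_of_isLocallySurjective (J S) φ.hom ψ.hom

/-- An étale morphism of sheaves, surjective on points, from an algebraic space is locally
surjective. -/
theorem H5_isLocallySurjective_of_isEtaleMor_surj {B D : Sp S} (hB : IsAlgSpace B) (bd : B ⟶ D)
    (hsurj : IsSurjectiveMor bd) (het : IsEtaleMor bd) : Sheaf.IsLocallySurjective bd := by
  obtain ⟨U, p, hp1, hp2⟩ := hB.atlas
  have h1 : RepWith @Etale (p ≫ bd) := het p hp1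
  have h2 : Function.Surjective (Points.map (p ≫ bd)) := by
    intro y
    obtain ⟨x, hx⟩ := hsurj y
    obtain ⟨z, hz⟩ := H5_surjective_of_repWith p hp2 x
    exact ⟨z, by rw [Points.map_comp, hz, hx]⟩
  have h3 : RepWith @Surjective (p ≫ bd) := H5_repWith_surjective_of_surjective _ h1.1 h2
  haveI := H5_isLocallySurjective_of_etale (p ≫ bd) h1 h3
  exact H5_isLocallySurjective_of_comp p bd

/-- Descent of cartesian squares: if the left square and the outer rectangle are cartesian and the
bottom-left map is locally surjective, then the right square is cartesian. -/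
theorem H5_isPullback_of_locSurj_descent {A B C D E F : Sp S} {ac : A ⟶ C} {ab : A ⟶ B}
    {cd : C ⟶ D} {bd : B ⟶ D} {ce : C ⟶ E} {df : D ⟶ F} {ef : E ⟶ F}
    (hl : IsPullback ac ab cd bd) (hcomm : cd ≫ df = ce ≫ ef)
    (hout : IsPullback (ac ≫ ce) ab ef (bd ≫ df)) [Sheaf.IsLocallySurjective bd] :
    IsPullback ce cd ef df := by
  have hl' := hl.map (sheafToPresheaf (J S) (Type (u + 1)))
  have hout' := hout.map (sheafToPresheaf (J S) (Type (u + 1)))
  have hP := (IsPullback.of_hasPullback ef df).map (sheafToPresheaf (J S) (Type (u + 1)))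
  have hφ1 : pullback.lift ce cd hcomm.symm ≫ pullback.fst ef df = ce := pullback.lift_fst _ _ _
  have hφ2 : pullback.lift ce cd hcomm.symm ≫ pullback.snd ef df = cd := pullback.lift_snd _ _ _
  generalize pullback.lift ce cd hcomm.symm = φ at hφ1 hφ2
  have hφ1' : ∀ (T : (Over S)ᵒᵖ) (c : C.obj.obj T),
      (pullback.fst ef df).hom.app T (φ.hom.app T c) = ce.hom.app T c := by
    intro T c
    rw [← hφ1]
    rfl
  have hφ2' : ∀ (T : (Over S)ᵒᵖ) (c : C.obj.obj T),
      (pullback.snd ef df).hom.app T (φ.hom.app T c) = cd.hom.app T c := by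
    intro T c
    rw [← hφ2]
    rfl
  have hinj : Sheaf.IsLocallyInjective φ := by
    rw [Sheaf.isLocallyInjective_iff_injective]
    intro T x y hxy
    have h1 : ce.hom.app T x = ce.hom.app T y := by rw [← hφ1', ← hφ1', hxy]
    have h2 : cd.hom.app T x = cd.hom.app T y := by rw [← hφ2', ← hφ2', hxy]
    have hsep := ((isSheaf_iff_isSheaf_of_type _ _).1 C.property).isSeparated
    refine (hsep _ (Presheaf.imageSieve_mem (J S) bd.hom (cd.hom.app T x))).ext ?_
    rintro W u ⟨b, hb⟩
    obtain ⟨ax, hax1, hax2⟩ := H5_psh_exists hl' (T := op W) (C.obj.map u.op x) b (by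
      change cd.hom.app (op W) (C.obj.map u.op x) = bd.hom.app (op W) b
      rw [hb]
      exact NatTrans.naturality_apply cd.hom u.op x)
    obtain ⟨ay, hay1, hay2⟩ := H5_psh_exists hl' (T := op W) (C.obj.map u.op y) b (by
      change cd.hom.app (op W) (C.obj.map u.op y) = bd.hom.app (op W) b
      rw [hb, h2]
      exact NatTrans.naturality_apply cd.hom u.op y)
    have hax1' : ac.hom.app (op W) ax = C.obj.map u.op x := hax1
    have hay1' : ac.hom.app (op W) ay = C.obj.map u.op y := hay1
    have hxy' : ax = ay := by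
      refine H5_psh_ext hout' ?_ (hax2.trans hay2.symm)
      change ce.hom.app (op W) (ac.hom.app (op W) ax) = ce.hom.app (op W) (ac.hom.app (op W) ay)
      rw [hax1', hay1']
      have e1 := NatTrans.naturality_apply ce.hom u.op x
      have e2 := NatTrans.naturality_apply ce.hom u.op y
      rw [e1, e2, h1]
    rw [← hax1', ← hay1', hxy']
  have hsurj : Sheaf.IsLocallySurjective φ := by
    constructor
    intro T s
    set e := (pullback.fst ef df).hom.app (op T) s with he
    set d := (pullback.snd ef df).hom.app (op T) s with hd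
    have hed : ef.hom.app (op T) e = df.hom.app (op T) d := by
      have := congrArg (fun m => m.hom.app (op T) s) (pullback.condition (f := ef) (g := df))
      exact this
    refine GrothendieckTopology.superset_covering _ ?_ (Presheaf.imageSieve_mem (J S) bd.hom d)
    rintro W u ⟨b, hb⟩
    obtain ⟨a, ha1, ha2⟩ := H5_psh_exists hout' (T := op W) (E.obj.map u.op e) b (by
      change ef.hom.app (op W) (E.obj.map u.op e) = df.hom.app (op W) (bd.hom.app (op W) b)
      rw [hb]
      have e1 := NatTrans.naturality_apply ef.hom u.op e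
      have e2 := NatTrans.naturality_apply df.hom u.op d
      rw [e1, e2, hed])
    have ha1' : ce.hom.app (op W) (ac.hom.app (op W) a) = E.obj.map u.op e := ha1
    have ha2' : ab.hom.app (op W) a = b := ha2
    refine ⟨ac.hom.app (op W) a, ?_⟩
    refine H5_psh_ext hP ?_ ?_
    · change (pullback.fst ef df).hom.app (op W) (φ.hom.app (op W) (ac.hom.app (op W) a)) =
        (pullback.fst ef df).hom.app (op W) ((pullback ef df).obj.map u.op s)
      rw [hφ1', ha1']
      exact (NatTrans.naturality_apply (pullback.fst ef df).hom u.op s).symm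
    · change (pullback.snd ef df).hom.app (op W) (φ.hom.app (op W) (ac.hom.app (op W) a)) =
        (pullback.snd ef df).hom.app (op W) ((pullback ef df).obj.map u.op s)
      rw [hφ2']
      have e3 : cd.hom.app (op W) (ac.hom.app (op W) a) = bd.hom.app (op W) (ab.hom.app (op W) a) :=
        congrArg (fun m => m.hom.app (op W) a) hl.w
      rw [e3, ha2', hb]
      exact (NatTrans.naturality_apply (pullback.snd ef df).hom u.op s).symm
  haveI : IsIso φ := (Sheaf.isLocallyBijective_iff_isIso φ).1 ⟨hinj, hsurj⟩
  exact IsPullback.of_iso_pullback ⟨hcomm.symm⟩ (asIso φ) hφ1 hφ2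

end AlgSp
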