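import Mathlib

/-! Generalities on relatively representable morphisms. -/

namespace CategoryTheory

open Limits

universe v₁ v₂ u₁ u₂

variable {C : Type u₁} [Category.{v₁} C] {D : Type u₂} [Category.{v₂} D] (F : C ⥤ D)

/-- Explicit form: the pullback of the diagonal of a relatively representable morphism `f` along
`g` is the pullback of two sections of the base change of `f`. -/
theorem H5_relRep_diagonal_explicit [F.Full] [F.Faithful] [HasPullbacks C] [HasPullbacks D]
    [PreservesLimitsOfShape WalkingCospan F] {X Y : D} (f : X ⟶ Y)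
    (hf : F.relativelyRepresentable f) {a : C} (g : F.obj a ⟶ pullback f f) :
    ∃ (σ₁ σ₂ : a ⟶ hf.pullback ((g ≫ pullback.fst f f) ≫ f)),
      σ₁ ≫ hf.snd ((g ≫ pullback.fst f f) ≫ f) = 𝟙 a ∧
      σ₂ ≫ hf.snd ((g ≫ pullback.fst f f) ≫ f) = 𝟙 a ∧
      ∃ fst : F.obj (pullback σ₁ σ₂) ⟶ X,
        IsPullback fst (F.map (pullback.fst σ₁ σ₂)) (pullback.diagonal f) g := by
  have h12 : (g ≫ pullback.fst f f) ≫ f = (g ≫ pullback.snd f f) ≫ f := by
    simp [pullback.condition]
  let y : F.obj a ⟶ Y := (g ≫ pullback.fst f f) ≫ f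
  let σ₁ : a ⟶ hf.pullback y := hf.lift (g ≫ pullback.fst f f) (𝟙 a) (by simp [y])
  let σ₂ : a ⟶ hf.pullback y := hf.lift (g ≫ pullback.snd f f) (𝟙 a) (by simp [y, ← h12])
  have hσ₁ : F.map σ₁ ≫ hf.fst y = g ≫ pullback.fst f f := hf.lift_fst _ _ _
  have hσ₂ : F.map σ₂ ≫ hf.fst y = g ≫ pullback.snd f f := hf.lift_fst _ _ _
  have hσ₁' : σ₁ ≫ hf.snd y = 𝟙 a := hf.lift_snd _ _ _
  have hσ₂' : σ₂ ≫ hf.snd y = 𝟙 a := hf.lift_snd _ _ _
  have he : pullback.fst σ₁ σ₂ = pullback.snd σ₁ σ₂ := by
    have := congrArg (· ≫ hf.snd y) (pullback.condition (f := σ₁) (g := σ₂))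
    simpa [hσ₁', hσ₂'] using this
  have sqF : IsPullback (F.map (pullback.fst σ₁ σ₂)) (F.map (pullback.snd σ₁ σ₂)) (F.map σ₁)
      (F.map σ₂) := (IsPullback.of_hasPullback σ₁ σ₂).map F
  refine ⟨σ₁, σ₂, hσ₁', hσ₂', F.map (pullback.fst σ₁ σ₂) ≫ g ≫ pullback.fst f f, ?_⟩
  have w : (F.map (pullback.fst σ₁ σ₂) ≫ g ≫ pullback.fst f f) ≫ pullback.diagonal f =
      F.map (pullback.fst σ₁ σ₂) ≫ g := by
    apply pullback.hom_ext
    · simp
    · simp only [Category.assoc, pullback.diagonal_snd, Category.comp_id]
      rw [← hσ₁, ← hσ₂, ← Category.assoc, ← Category.assoc, ← F.map_comp, ← F.map_comp,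
        pullback.condition, ← he]
  refine ⟨⟨w⟩, ⟨PullbackCone.IsLimit.mk _ (fun s => sqF.lift s.snd s.snd ?_) ?_ ?_ ?_⟩⟩
  · -- s.snd ≫ F σ₁ = s.snd ≫ F σ₂
    have hs := s.condition
    have hs1 : s.fst = s.snd ≫ g ≫ pullback.fst f f := by
      have := congrArg (· ≫ pullback.fst f f) hs
      simpa using this
    have hs2 : s.fst = s.snd ≫ g ≫ pullback.snd f f := by
      have := congrArg (· ≫ pullback.snd f f) hs
      simpa using this
    apply (hf.isPullback y).hom_ext
    · rw [Category.assoc, Category.assoc, hσ₁, hσ₂, ← hs1, ← hs2]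
    · rw [Category.assoc, Category.assoc, ← F.map_comp, ← F.map_comp, hσ₁', hσ₂']
  · intro s
    have hs := s.condition
    have hs1 : s.fst = s.snd ≫ g ≫ pullback.fst f f := by
      have := congrArg (· ≫ pullback.fst f f) hs
      simpa using this
    rw [← Category.assoc, sqF.lift_fst, hs1]
  · intro s
    exact sqF.lift_fst _ _ _
  · intro s m _ hm
    apply sqF.hom_ext
    · rw [sqF.lift_fst]; exact hm
    · rw [sqF.lift_snd, ← he]; exact hm

/-- The diagonal of a relatively representable morphism is relatively representable. -/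
theorem H5_relRep_diagonal [F.Full] [F.Faithful] [HasPullbacks C] [HasPullbacks D]
    [PreservesLimitsOfShape WalkingCospan F] {X Y : D} (f : X ⟶ Y)
    (hf : F.relativelyRepresentable f) : F.relativelyRepresentable (pullback.diagonal f) := by
  intro a g
  obtain ⟨σ₁, σ₂, -, -, fst, sq⟩ := H5_relRep_diagonal_explicit F f hf g
  exact ⟨_, _, fst, sq⟩

end CategoryTheory

namespace CategoryTheory

open Limits

universe v₁ v₂ u₁ u₂

variable {C : Type u₁} [Category.{v₁} C] {D : Type u₂} [Category.{v₂} D] (F : C ⥤ D)

set_option backward.defeqAttrib.useBackward true in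
set_option backward.isDefEq.respectTransparency false in
/-- A fibre product `X ×_H Y ⟶ X ⨯ Y` is a base change of the diagonal of `H`. -/
theorem H5_isPullback_diag [HasBinaryProducts D] {X Y H P : D} {fst : P ⟶ X} {snd : P ⟶ Y}
    {f : X ⟶ H} {g : Y ⟶ H} (sq : IsPullback fst snd f g) :
    IsPullback (fst ≫ f) (prod.lift fst snd) (Limits.diag H) (prod.map f g) := by
  refine IsPullback.mk' ?_ ?_ ?_
  · apply Limits.prod.hom_ext
    · simp
    · simp [sq.w]
  · intro T φ φ' _ h2
    have h2a := congrArg (· ≫ prod.fst) h2
    have h2b := congrArg (· ≫ prod.snd) h2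
    simp only [Category.assoc, prod.lift_fst, prod.lift_snd] at h2a h2b
    exact sq.hom_ext h2a h2b
  · intro T a b hab
    have ha := congrArg (· ≫ prod.fst) hab
    have hb := congrArg (· ≫ prod.snd) hab
    simp only [Category.assoc, Limits.diag, prod.lift_fst, prod.lift_snd, prod.map_fst,
      prod.map_snd, Category.comp_id] at ha hb
    refine ⟨sq.lift (b ≫ prod.fst) (b ≫ prod.snd) ?_, ?_, ?_⟩
    · rw [Category.assoc, Category.assoc, ← ha, ← hb]
    · rw [← Category.assoc, sq.lift_fst, Category.assoc, ← ha]
    · apply Limits.prod.hom_ext <;> simp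

set_option backward.defeqAttrib.useBackward true in
set_option backward.isDefEq.respectTransparency false in
theorem H5_isPullback_prod_snd_with_id [HasBinaryProducts D] {A B : D} (f : A ⟶ B) (X : D) :
    IsPullback prod.snd (prod.map (𝟙 X) f) f prod.snd := by
  refine IsPullback.mk' (by simp) ?_ ?_
  · intro T φ φ' h1 h2
    have h2a := congrArg (· ≫ prod.fst) h2
    simp only [Category.assoc, prod.map_fst, Category.comp_id] at h2a
    apply Limits.prod.hom_ext
    · exact h2a
    · exact h1
  · intro T a b hab
    refine ⟨prod.lift (b ≫ prod.fst) a, by simp, ?_⟩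
    apply Limits.prod.hom_ext
    · simp
    · simp [hab]

set_option backward.defeqAttrib.useBackward true in
set_option backward.isDefEq.respectTransparency false in
/-- A product of relatively representable morphisms is relatively representable. -/
theorem H5_relRep_prod_map [HasBinaryProducts D] {A B A' B' : D} (u : A ⟶ B) (v : A' ⟶ B')
    (hu : F.relativelyRepresentable u) (hv : F.relativelyRepresentable v) :
    F.relativelyRepresentable (prod.map u v) := by
  have e : prod.map u v = prod.map u (𝟙 A') ≫ prod.map (𝟙 B) v := by simp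
  rw [e]
  refine (Functor.relativelyRepresentable F).comp_mem _ _ ?_ ?_
  · exact MorphismProperty.of_isPullback (IsPullback.of_prod_fst_with_id u A') hu
  · exact MorphismProperty.of_isPullback (H5_isPullback_prod_snd_with_id v B) hv

set_option backward.defeqAttrib.useBackward true in
set_option backward.isDefEq.respectTransparency false in
/-- If `j : P ⟶ Z` is relatively representable and `Z` has relatively representable diagonal,
then so has `P`. -/
theorem H5_relRep_diag_of_relRep [F.Full] [F.Faithful] [HasPullbacks C] [HasPullbacks D]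
    [HasBinaryProducts D] [PreservesLimitsOfShape WalkingCospan F] {P Z : D} (j : P ⟶ Z)
    (hj : F.relativelyRepresentable j) (hZ : F.relativelyRepresentable (Limits.diag Z)) :
    F.relativelyRepresentable (Limits.diag P) := by
  have e : Limits.diag P =
      pullback.diagonal j ≫ prod.lift (pullback.fst j j) (pullback.snd j j) := by
    apply Limits.prod.hom_ext <;> simp
  rw [e]
  refine (Functor.relativelyRepresentable F).comp_mem _ _ (H5_relRep_diagonal F j hj) ?_
  exact MorphismProperty.of_isPullback (H5_isPullback_diag (IsPullback.of_hasPullback j j)) hZ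

end CategoryTheory

namespace CategoryTheory

open Limits

universe v₁ u₁

variable {C : Type u₁} [Category.{v₁} C] [HasPullbacks C]

set_option backward.isDefEq.respectTransparency false in
/-- The diagonal of a base change is the base change of the diagonal (explicit square). -/
theorem H5_isPullback_diagonal_baseChange {P X V Y : C} {fst : P ⟶ X} {snd : P ⟶ V}
    {f : X ⟶ Y} {p : V ⟶ Y} (sq : IsPullback fst snd f p) :
    IsPullback fst (pullback.diagonal snd) (pullback.diagonal f)
      (pullback.map snd snd f f fst fst p sq.w.symm sq.w.symm) := by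
  refine IsPullback.mk' ?_ ?_ ?_
  · apply pullback.hom_ext <;> simp
  · intro T φ φ' _ h2
    have := congrArg (· ≫ pullback.fst snd snd) h2
    simpa using this
  · intro T a b hab
    have h1 := congrArg (· ≫ pullback.fst f f) hab
    have h2 := congrArg (· ≫ pullback.snd f f) hab
    simp only [Category.assoc, pullback.diagonal_fst, pullback.diagonal_snd, Category.comp_id,
      pullback.lift_fst, pullback.lift_snd] at h1 h2
    have hb : b ≫ pullback.fst snd snd = b ≫ pullback.snd snd snd := by
      apply sq.hom_ext
      · rw [Category.assoc, Category.assoc, ← h1, ← h2]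
      · rw [Category.assoc, Category.assoc, pullback.condition]
    refine ⟨b ≫ pullback.fst snd snd, ?_, ?_⟩
    · rw [Category.assoc, ← h1]
    · apply pullback.hom_ext
      · simp
      · simp [hb]

set_option backward.isDefEq.respectTransparency false in
/-- The map `P ×_V P ⟶ X ×_Y X` induced by a base change `P = X ×_Y V` is a base change of
`V ⟶ Y`. -/
theorem H5_isPullback_map_baseChange {P X V Y : C} {fst : P ⟶ X} {snd : P ⟶ V}
    {f : X ⟶ Y} {p : V ⟶ Y} (sq : IsPullback fst snd f p) :
    IsPullback (pullback.map snd snd f f fst fst p sq.w.symm sq.w.symm) (pullback.fst snd snd ≫ snd)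
      (pullback.fst f f ≫ f) p := by
  refine IsPullback.mk' ?_ ?_ ?_
  · simp [sq.w]
  · intro T φ φ' h1 h2
    have h1a := congrArg (· ≫ pullback.fst f f) h1
    have h1b := congrArg (· ≫ pullback.snd f f) h1
    simp only [Category.assoc, pullback.lift_fst, pullback.lift_snd] at h1a h1b
    apply pullback.hom_ext
    · apply sq.hom_ext
      · simpa using h1a
      · simpa using h2
    · apply sq.hom_ext
      · simpa using h1b
      · have := h2
        simp only [← Category.assoc] at this ⊢
        simp only [Category.assoc] at this ⊢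
        rw [← pullback.condition]
        exact this
  · intro T a v hav
    have hav2 : (a ≫ pullback.snd f f) ≫ f = v ≫ p := by
      rw [Category.assoc, ← pullback.condition, ← hav]
    have hav1 : (a ≫ pullback.fst f f) ≫ f = v ≫ p := by rw [Category.assoc, hav]
    refine ⟨pullback.lift (sq.lift _ _ hav1) (sq.lift _ _ hav2) (by simp), ?_, ?_⟩
    · apply pullback.hom_ext <;> simp
    · simp

end CategoryTheory
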