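import Groth.Agent.Lib.helper5.AlgSpLocal
import Groth.Agent.Lib.helper5.RelRep

/-! Fibre products of algebraic spaces. -/

universe u

open CategoryTheory CategoryTheory.Limits AlgebraicGeometry Opposite

namespace AlgSp

variable {S : Scheme.{u}}

set_option backward.defeqAttrib.useBackward true in
set_option backward.isDefEq.respectTransparency false in
theorem H5_representable_diag_prod {X Y : Sp S} (hX : Representable (Limits.diag X))
    (hY : Representable (Limits.diag Y)) : Representable (Limits.diag (X ⨯ Y)) := by
  refine Functor.relativelyRepresentable.diag_of_map_from_obj ?_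
  intro a t
  have e : t = Limits.diag ((yon S).obj a) ≫ prod.map (t ≫ prod.fst) (t ≫ prod.snd) := by
    apply Limits.prod.hom_ext <;> simp
  rw [e]
  refine (Representable (S := S)).comp_mem _ _ (IsAlgSpace.yon_obj a).diag ?_
  exact H5_relRep_prod_map (yon S) _ _
    (Functor.relativelyRepresentable.of_diag hX _) (Functor.relativelyRepresentable.of_diag hY _)

/-- Fibre products of algebraic spaces over a sheaf with representable diagonal. -/
theorem H5_isAlgSpace_of_isPullback (H : Sp S) (hH : Representable (Limits.diag H))
    (X Y : Space S) (f : X.obj ⟶ H) (g : Y.obj ⟶ H) (P : Sp S) (fst : P ⟶ X.obj)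
    (snd : P ⟶ Y.obj) (h : IsPullback fst snd f g) : IsAlgSpace P := by
  refine ⟨?_, ?_⟩
  · have hj : Representable (prod.lift fst snd) :=
      MorphismProperty.of_isPullback (H5_isPullback_diag h) hH
    exact H5_relRep_diag_of_relRep (yon S) _ hj
      (H5_representable_diag_prod X.property.diag Y.property.diag)
  · obtain ⟨U, pU, hUe, hUs⟩ := X.property.atlas
    obtain ⟨V, pV, hVe, hVs⟩ := Y.property.atlas
    have sqM : IsPullback (pullback.fst snd pV) (pullback.snd snd pV) snd pV :=
      IsPullback.of_hasPullback _ _
    have sqN : IsPullback (pullback.fst (pullback.fst snd pV ≫ fst) pU)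
        (pullback.snd (pullback.fst snd pV ≫ fst) pU) (pullback.fst snd pV ≫ fst) pU :=
      IsPullback.of_hasPullback _ _
    have hm₁e : RepWith @Etale (pullback.fst snd pV) := MorphismProperty.of_isPullback sqM.flip hVe
    have hm₁s : RepWith @Surjective (pullback.fst snd pV) :=
      MorphismProperty.of_isPullback sqM.flip hVs
    have hn₁e : RepWith @Etale (pullback.fst (pullback.fst snd pV ≫ fst) pU) :=
      MorphismProperty.of_isPullback sqN.flip hUe
    have hn₁s : RepWith @Surjective (pullback.fst (pullback.fst snd pV ≫ fst) pU) :=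
      MorphismProperty.of_isPullback sqN.flip hUs
    have sqXM : IsPullback (pullback.fst snd pV ≫ fst) (pullback.snd snd pV) f (pV ≫ g) :=
      sqM.paste_horiz h
    have sqN' : IsPullback (pullback.snd (pullback.fst snd pV ≫ fst) pU)
        (pullback.fst (pullback.fst snd pV ≫ fst) pU ≫ pullback.snd snd pV) (pU ≫ f) (pV ≫ g) :=
      sqN.flip.paste_vert sqXM
    have hrepU : Representable (pU ≫ f) := Functor.relativelyRepresentable.of_diag hH _
    have sqW := hrepU.isPullback (pV ≫ g)
    let e := sqW.isoIsPullback _ _ sqN'
    refine ⟨hrepU.pullback (pV ≫ g),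
      e.hom ≫ pullback.fst (pullback.fst snd pV ≫ fst) pU ≫ pullback.fst snd pV, ?_, ?_⟩
    · exact (MorphismProperty.cancel_left_of_respectsIso (RepWith @Etale) e.hom _).2
        ((RepWith @Etale).comp_mem _ _ hn₁e hm₁e)
    · exact (MorphismProperty.cancel_left_of_respectsIso (RepWith @Surjective) e.hom _).2
        ((RepWith @Surjective).comp_mem _ _ hn₁s hm₁s)

end AlgSp

namespace AlgSp

variable {S : Scheme.{u}}

/-- Presheaf-level representability of a morphism of sheaves gives sheaf-level representability. -/
theorem H5_representable_of_pyon {F G : Sp S} (f : F ⟶ G)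
    (h : (pyon S).relativelyRepresentable f.hom) : Representable f := by
  intro U g
  obtain ⟨V, snd, fst, sq⟩ := h g.hom
  refine ⟨V, snd, ObjectProperty.homMk fst, ?_⟩
  exact IsPullback.of_map_of_faithful (sheafToPresheaf (J S) (Type (u + 1))) sq

/-- A sheaf with a representable map to an algebraic space is an algebraic space. -/
theorem H5_isAlgSpace_of_representable_to_space (X : Space S) (G : Sp S) (a : G ⟶ X.obj)
    (ha : Representable a) : IsAlgSpace G := by
  refine ⟨H5_relRep_diag_of_relRep (yon S) a ha X.property.diag, ?_⟩
  obtain ⟨U, p, hpe, hps⟩ := X.property.atlas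
  have sq := ha.isPullback p
  exact ⟨ha.pullback p, ha.fst p, MorphismProperty.of_isPullback sq.flip hpe,
    MorphismProperty.of_isPullback sq.flip hps⟩

end AlgSp
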