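import Groth.Agent.Lib.helper5.AlgSpPoints
import Groth.Agent.Lib.helper5.AlgSpFib

/-! helper5 library: universally open / closed / injective morphisms of algebraic spaces. -/

set_option autoImplicit false

universe u

open CategoryTheory CategoryTheory.Limits AlgebraicGeometry Opposite

namespace AlgSp

variable {S : Scheme.{u}} {F G H : Sp S}

/-- For a pullback square of sheaves, `g⁻¹ (f '' A) = snd '' (fst⁻¹ A)` on points. -/
theorem H5_preimage_image_eq_sp {F G Z Z' : Sp S} {fst : Z' ⟶ F} {snd : Z' ⟶ Z} {f : F ⟶ G}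
    {g : Z ⟶ G} (sq : IsPullback fst snd f g) (A : Set (Points F)) :
    Points.map g ⁻¹' (Points.map f '' A) = Points.map snd '' (Points.map fst ⁻¹' A) := by
  ext z
  constructor
  · rintro ⟨x, hxA, hx⟩
    obtain ⟨w, hw1, hw2⟩ := H5_points_pullback_surj sq x z hx
    exact ⟨w, by rw [Set.mem_preimage, hw1]; exact hxA, hw2⟩
  · rintro ⟨w, hw, rfl⟩
    exact ⟨Points.map fst w, hw, by rw [← Points.map_comp, sq.w, Points.map_comp]⟩

theorem H5_isOpen_iff_affine {W : Set (Points F)} :
    IsOpen W ↔ ∀ (T : Over S), IsAffine T.left → ∀ g : (yon S).obj T ⟶ F,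
      IsOpen (Points.ofPt g ⁻¹' W) := by
  constructor
  · intro h T _ g
    exact Points.isOpen_iff.1 h T g
  · intro h
    rw [Points.isOpen_iff]
    intro T g
    rw [isOpen_iff_forall_mem_open]
    intro t ht
    obtain ⟨U, hU, htU, -⟩ := exists_isAffineOpen_mem_and_subset (x := t) (U := ⊤) trivial
    let U' : Over S := Over.mk (U.ι ≫ T.hom)
    let j : U' ⟶ T := Over.homMk U.ι rfl
    have h1 := h U' hU ((yon S).map j ≫ g)
    have h2 : Points.ofPt ((yon S).map j ≫ g) ⁻¹' W = U.ι ⁻¹' (Points.ofPt g ⁻¹' W) := by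
      ext x
      simp only [Set.mem_preimage, H5_ofPt_comp]
      rfl
    rw [h2] at h1
    refine ⟨U.ι '' (U.ι ⁻¹' (Points.ofPt g ⁻¹' W)), ?_, ?_, ?_⟩
    · rintro _ ⟨x, hx, rfl⟩
      exact hx
    · exact U.ι.isOpenEmbedding.isOpenMap _ h1
    · exact ⟨⟨t, htU⟩, ht, rfl⟩

theorem H5_isClosed_iff_affine {W : Set (Points F)} :
    IsClosed W ↔ ∀ (T : Over S), IsAffine T.left → ∀ g : (yon S).obj T ⟶ F,
      IsClosed (Points.ofPt g ⁻¹' W) := by
  rw [← isOpen_compl_iff, H5_isOpen_iff_affine]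
  refine forall_congr' fun T => forall_congr' fun _ => forall_congr' fun g => ?_
  rw [← isOpen_compl_iff, Set.preimage_compl]

/-- Descent of injectivity on points along a base change that is surjective on points. -/
theorem H5_injective_descent {F G Z Z' : Sp S} {fst : Z' ⟶ F} {snd : Z' ⟶ Z} {f : F ⟶ G}
    {g : Z ⟶ G} (sq : IsPullback fst snd f g) (hg : Function.Surjective (Points.map g))
    (hs : Function.Injective (Points.map snd)) : Function.Injective (Points.map f) := by
  intro x x' hxx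
  obtain ⟨z, hz⟩ := hg (Points.map f x)
  obtain ⟨w, hw1, hw2⟩ := H5_points_pullback_surj sq x z hz.symm
  obtain ⟨w', hw1', hw2'⟩ := H5_points_pullback_surj sq x' z (hxx ▸ hz.symm)
  have : w = w' := hs (hw2.trans hw2'.symm)
  rw [← hw1, ← hw1', this]

/-- Descent of openness on points along a base change that is surjective and open on points. -/
theorem H5_isOpenMap_descent {F G Z Z' : Sp S} {fst : Z' ⟶ F} {snd : Z' ⟶ Z} {f : F ⟶ G}
    {g : Z ⟶ G} (sq : IsPullback fst snd f g) (hg : Function.Surjective (Points.map g))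
    (hgo : IsOpenMap (Points.map g))
    (hs : IsOpenMap (Points.map snd)) : IsOpenMap (Points.map f) := by
  intro A hA
  have h1 : Points.map f '' A = Points.map g '' (Points.map g ⁻¹' (Points.map f '' A)) :=
    (Set.image_preimage_eq _ hg).symm
  rw [h1, H5_preimage_image_eq_sp sq]
  exact hgo _ (hs _ (hA.preimage (Points.continuous_map fst)))

/-- Descent of closedness on points along a base change that is surjective and open on points. -/
theorem H5_isClosedMap_descent {F G Z Z' : Sp S} {fst : Z' ⟶ F} {snd : Z' ⟶ Z} {f : F ⟶ G}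
    {g : Z ⟶ G} (sq : IsPullback fst snd f g) (hg : Function.Surjective (Points.map g))
    (hgo : IsOpenMap (Points.map g))
    (hs : IsClosedMap (Points.map snd)) : IsClosedMap (Points.map f) := by
  intro A hA
  have h2 : IsClosed (Points.map g ⁻¹' (Points.map f '' A)) := by
    rw [H5_preimage_image_eq_sp sq]
    exact hs _ (hA.preimage (Points.continuous_map fst))
  have h1 : (Points.map f '' A)ᶜ = Points.map g '' (Points.map g ⁻¹' (Points.map f '' A))ᶜ := by
    rw [← Set.preimage_compl, Set.image_preimage_eq _ hg]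
  rw [← isOpen_compl_iff, h1]
  exact hgo _ h2.isOpen_compl

/-- General descent of a "universal" property along a base change. -/
theorem H5_univSp_descent (Q 𝒢 : MorphismProperty (Sp S))
    (h𝒢 : ∀ ⦃A B A' B' : Sp S⦄ ⦃f' : A' ⟶ A⦄ ⦃g' : A' ⟶ B'⦄ ⦃g : A ⟶ B⦄ ⦃f : B' ⟶ B⦄,
      IsPullback f' g' g f → 𝒢 g → 𝒢 g')
    (hD : ∀ ⦃F G Z Z' : Sp S⦄ ⦃f : F ⟶ G⦄ ⦃g : Z ⟶ G⦄ ⦃fst : Z' ⟶ F⦄ ⦃snd : Z' ⟶ Z⦄,
      IsPullback fst snd f g → 𝒢 g → Q snd → Q f)
    {F G Z Z' : Sp S} {f : F ⟶ G} {g : Z ⟶ G} {fst : Z' ⟶ F} {snd : Z' ⟶ Z}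
    (sq : IsPullback fst snd f g)
    (hG : IsAlgSpace G) (hZ : IsAlgSpace Z) (hg : 𝒢 g) (h : UnivSp Q snd) : UnivSp Q f := by
  intro W W' hW h₀ fst' snd' sqW
  have sq1 : IsPullback (pullback.fst h₀ g) (pullback.snd h₀ g) h₀ g := IsPullback.of_hasPullback _ _
  have hW'' : IsAlgSpace (pullback h₀ g) :=
    H5_isAlgSpace_of_isPullback G hG.diag ⟨W, hW⟩ ⟨Z, hZ⟩ h₀ g _ _ _ sq1
  have sq2 : IsPullback (pullback.fst snd' (pullback.fst h₀ g))
      (pullback.snd snd' (pullback.fst h₀ g)) snd' (pullback.fst h₀ g) :=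
    IsPullback.of_hasPullback _ _
  have hg' : 𝒢 (pullback.fst h₀ g) := h𝒢 sq1.flip hg
  refine hD sq2 hg' ?_
  have hw : (pullback.fst snd' (pullback.fst h₀ g) ≫ fst') ≫ f =
      (pullback.snd snd' (pullback.fst h₀ g) ≫ pullback.snd h₀ g) ≫ g := by
    rw [Category.assoc, sqW.w, ← Category.assoc, sq2.w, Category.assoc, sq1.w, Category.assoc]
  refine h hW'' (pullback.snd h₀ g) (sq.lift _ _ hw) _ ?_
  refine IsPullback.of_right ?_ (sq.lift_snd _ _ _) sq
  rw [sq.lift_fst, ← sq1.w]
  exact sq2.paste_horiz sqW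

theorem H5_repWith_of_le {P Q : MorphismProperty Scheme.{u}} (hPQ : P ≤ Q) {F G : Sp S} {f : F ⟶ G}
    (hf : RepWith P f) : RepWith Q f :=
  ⟨hf.1, fun _ _ g fst snd sq => hPQ _ (hf.2 g fst snd sq)⟩

theorem H5_etale_le_universallyOpen : (@Etale : MorphismProperty Scheme.{u}) ≤ @UniversallyOpen :=
  fun _ _ f hf => by
    haveI : Etale f := hf
    infer_instance

/-- The class of etale surjective (representable) morphisms. -/
def H5_EtSurj : MorphismProperty (Sp S) := fun _ _ g => RepWith @Etale g ∧ RepWith @Surjective g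

theorem H5_EtSurj_baseChange ⦃A B A' B' : Sp S⦄ ⦃f' : A' ⟶ A⦄ ⦃g' : A' ⟶ B'⦄ ⦃g : A ⟶ B⦄
    ⦃f : B' ⟶ B⦄ (sq : IsPullback f' g' g f) (hg : H5_EtSurj g) : H5_EtSurj g' :=
  ⟨MorphismProperty.of_isPullback sq hg.1, MorphismProperty.of_isPullback sq hg.2⟩

theorem H5_EtSurj_surjective {Z G : Sp S} {g : Z ⟶ G} (hg : H5_EtSurj g) :
    Function.Surjective (Points.map g) := H5_surjective_of_repWith g hg.2

theorem H5_EtSurj_isOpenMap {Z G : Sp S} {g : Z ⟶ G} (hg : H5_EtSurj g) :
    IsOpenMap (Points.map g) :=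
  H5_isOpenMap_of_repWith g (H5_repWith_of_le H5_etale_le_universallyOpen hg.1)

/-- Universal openness descends along an etale surjective base change. -/
theorem H5_isUnivOpenMor_descent {F G Z Z' : Sp S} {f : F ⟶ G} {g : Z ⟶ G} {fst : Z' ⟶ F}
    {snd : Z' ⟶ Z} (sq : IsPullback fst snd f g) (hG : IsAlgSpace G) (hZ : IsAlgSpace Z)
    (hg : H5_EtSurj g) (h : IsUnivOpenMor snd) : IsUnivOpenMor f :=
  H5_univSp_descent IsOpenMor H5_EtSurj H5_EtSurj_baseChange
    (fun _ _ _ _ _ _ _ _ sq hg hs =>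
      H5_isOpenMap_descent sq (H5_EtSurj_surjective hg) (H5_EtSurj_isOpenMap hg) hs)
    sq hG hZ hg h

/-- Universal closedness descends along an etale surjective base change. -/
theorem H5_isUnivClosedMor_descent {F G Z Z' : Sp S} {f : F ⟶ G} {g : Z ⟶ G} {fst : Z' ⟶ F}
    {snd : Z' ⟶ Z} (sq : IsPullback fst snd f g) (hG : IsAlgSpace G) (hZ : IsAlgSpace Z)
    (hg : H5_EtSurj g) (h : IsUnivClosedMor snd) : IsUnivClosedMor f :=
  H5_univSp_descent IsClosedMor H5_EtSurj H5_EtSurj_baseChange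
    (fun _ _ _ _ _ _ _ _ sq hg hs =>
      H5_isClosedMap_descent sq (H5_EtSurj_surjective hg) (H5_EtSurj_isOpenMap hg) hs)
    sq hG hZ hg h

/-- Universal injectivity descends along a base change surjective on points. -/
theorem H5_isUnivInjectiveMor_descent {F G Z Z' : Sp S} {f : F ⟶ G} {g : Z ⟶ G} {fst : Z' ⟶ F}
    {snd : Z' ⟶ Z} (sq : IsPullback fst snd f g) (hG : IsAlgSpace G) (hZ : IsAlgSpace Z)
    (hg : IsSurjectiveMor g) (h : IsUnivInjectiveMor snd) : IsUnivInjectiveMor f :=
  H5_univSp_descent (fun _ _ f => Function.Injective (Points.map f)) IsSurjectiveMor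
    (fun _ _ _ _ _ _ _ _ sq hg => H5_surjective_baseChange sq hg)
    (fun _ _ _ _ _ _ _ _ sq hg hs => H5_injective_descent sq hg hs)
    sq hG hZ hg h

/-- Universal openness can be tested on base changes to affine schemes. -/
theorem H5_isUnivOpenMor_of_affine {F G : Sp S} (f : F ⟶ G)
    (h : ∀ (Z : Over S), IsAffine Z.left → ∀ (g : (yon S).obj Z ⟶ G) (P : Sp S)
        (fst : P ⟶ F) (snd : P ⟶ (yon S).obj Z), IsPullback fst snd f g →
        IsOpenMap (Points.map snd)) : IsUnivOpenMor f := by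
  intro W W' _ h₀ fst' snd' sqW A hA
  rw [H5_isOpen_iff_affine]
  intro T hT b
  have sq2 : IsPullback (pullback.fst snd' b) (pullback.snd snd' b) snd' b :=
    IsPullback.of_hasPullback _ _
  have hop := h T hT (b ≫ h₀) _ _ _ (sq2.paste_horiz sqW)
  have e : Points.ofPt b ⁻¹' (Points.map snd' '' A) =
      Points.ofScheme T ⁻¹' (Points.map b ⁻¹' (Points.map snd' '' A)) := by
    ext t
    simp only [Set.mem_preimage, Points.ofPt_eq_map_ofScheme b]
  rw [e, H5_preimage_image_eq_sp sq2]
  exact (hop _ (hA.preimage (Points.continuous_map _))).preimage (Points.continuous_ofPt _)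

/-- Universal closedness can be tested on base changes to affine schemes. -/
theorem H5_isUnivClosedMor_of_affine {F G : Sp S} (f : F ⟶ G)
    (h : ∀ (Z : Over S), IsAffine Z.left → ∀ (g : (yon S).obj Z ⟶ G) (P : Sp S)
        (fst : P ⟶ F) (snd : P ⟶ (yon S).obj Z), IsPullback fst snd f g →
        IsClosedMap (Points.map snd)) : IsUnivClosedMor f := by
  intro W W' _ h₀ fst' snd' sqW A hA
  rw [H5_isClosed_iff_affine]
  intro T hT b
  have sq2 : IsPullback (pullback.fst snd' b) (pullback.snd snd' b) snd' b :=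
    IsPullback.of_hasPullback _ _
  have hop := h T hT (b ≫ h₀) _ _ _ (sq2.paste_horiz sqW)
  have e : Points.ofPt b ⁻¹' (Points.map snd' '' A) =
      Points.ofScheme T ⁻¹' (Points.map b ⁻¹' (Points.map snd' '' A)) := by
    ext t
    simp only [Set.mem_preimage, Points.ofPt_eq_map_ofScheme b]
  rw [e, H5_preimage_image_eq_sp sq2]
  exact (hop _ (hA.preimage (Points.continuous_map _))).preimage (Points.continuous_ofPt _)

/-- If `p : h_U ⟶ G'` is surjective on points and `p ≫ g` is representably universally open, then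
`g` is universally open. -/
theorem H5_isUnivOpenMor_of_chart_comp {G' G : Sp S} (g : G' ⟶ G) {U : Over S}
    (p : (yon S).obj U ⟶ G') (hps : Function.Surjective (Points.map p))
    (hpg : RepWith @UniversallyOpen (p ≫ g)) : IsUnivOpenMor g := by
  intro W W'' _ k a b sqW
  have sq1 := IsPullback.of_hasPullback p a
  have big : IsPullback (pullback.fst p a) (pullback.snd p a ≫ b) (p ≫ g) k := sq1.paste_vert sqW
  have hopen : IsOpenMap (Points.map (pullback.snd p a ≫ b)) :=
    H5_isOpenMap_of_repWith _ (MorphismProperty.of_isPullback big hpg)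
  have hs : Function.Surjective (Points.map (pullback.snd p a)) := H5_surjective_baseChange sq1 hps
  intro A hA
  have e : Points.map b '' A =
      Points.map (pullback.snd p a ≫ b) '' (Points.map (pullback.snd p a) ⁻¹' A) := by
    rw [show Points.map (pullback.snd p a ≫ b) = Points.map b ∘ Points.map (pullback.snd p a) from
      funext (Points.map_comp _ _), Set.image_comp, Set.image_preimage_eq _ hs]
  rw [e]
  exact hopen _ (hA.preimage (Points.continuous_map _))

/-- An etale morphism of algebraic spaces is universally open. -/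
theorem H5_isUnivOpenMor_of_isEtaleMor {G' G : Sp S} (g : G' ⟶ G) (hG' : IsAlgSpace G')
    (hg : IsEtaleMor g) : IsUnivOpenMor g := by
  obtain ⟨U, p, hpe, hps⟩ := hG'.atlas
  exact H5_isUnivOpenMor_of_chart_comp g p (H5_surjective_of_repWith p hps)
    (H5_repWith_of_le H5_etale_le_universallyOpen (hg p hpe))

/-- If `f` is surjective on points and `f ≫ q` is universally closed then `q` is universally closed. -/
theorem H5_isUnivClosedMor_of_surjective_comp {F G H : Sp S} (f : F ⟶ G) (q : G ⟶ H)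
    (hf : Function.Surjective (Points.map f)) (hp : IsUnivClosedMor (f ≫ q)) :
    IsUnivClosedMor q := by
  intro W W' hW k a b sqW
  have sq1 := IsPullback.of_hasPullback f a
  have big : IsPullback (pullback.fst f a) (pullback.snd f a ≫ b) (f ≫ q) k := sq1.paste_vert sqW
  have hcl : IsClosedMap (Points.map (pullback.snd f a ≫ b)) := hp hW k _ _ big
  have hs : Function.Surjective (Points.map (pullback.snd f a)) := H5_surjective_baseChange sq1 hf
  intro A hA
  have e : Points.map b '' A =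
      Points.map (pullback.snd f a ≫ b) '' (Points.map (pullback.snd f a) ⁻¹' A) := by
    rw [show Points.map (pullback.snd f a ≫ b) = Points.map b ∘ Points.map (pullback.snd f a) from
      funext (Points.map_comp _ _), Set.image_comp, Set.image_preimage_eq _ hs]
  rw [e]
  exact hcl _ (hA.preimage (Points.continuous_map _))

/-- `UnivSp Q` is stable under base change. -/
theorem H5_univSp_baseChange (Q : MorphismProperty (Sp S)) {F G G' F' : Sp S} {f : F ⟶ G}
    {g : G' ⟶ G} {fst : F' ⟶ F} {f' : F' ⟶ G'} (sq : IsPullback fst f' f g) (hf : UnivSp Q f) :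
    UnivSp Q f' := by
  intro Z Z' hZ k a b sqZ
  exact hf hZ (k ≫ g) (a ≫ fst) b (sqZ.paste_horiz sq)

/-- `UnivSp Q` is stable under composition when `Q` is. -/
theorem H5_univSp_comp (Q : MorphismProperty (Sp S))
    (hQ : ∀ ⦃A B C : Sp S⦄ (u : A ⟶ B) (v : B ⟶ C), Q u → Q v → Q (u ≫ v))
    {F G H : Sp S} (f : F ⟶ G) (g : G ⟶ H) (hG : IsAlgSpace G)
    (hH : Representable (Limits.diag H)) (hf : UnivSp Q f) (hg : UnivSp Q g) :
    UnivSp Q (f ≫ g) := by
  intro Z Z' hZ k a b sqZ
  have sq1 := IsPullback.of_hasPullback g k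
  have hZ'' : IsAlgSpace (pullback g k) :=
    H5_isAlgSpace_of_isPullback H hH ⟨G, hG⟩ ⟨Z, hZ⟩ g k _ _ _ sq1
  have hw : (a ≫ f) ≫ g = b ≫ k := by rw [Category.assoc, sqZ.w]
  have sq2 : IsPullback a (pullback.lift (a ≫ f) b hw) f (pullback.fst g k) := by
    refine IsPullback.of_bot ?_ (pullback.lift_fst _ _ _).symm sq1
    rw [pullback.lift_snd]
    exact sqZ
  have h1 := hf hZ'' (pullback.fst g k) a _ sq2
  have h2 := hg hZ k _ _ sq1
  have := hQ _ _ h1 h2
  rwa [pullback.lift_snd] at this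

theorem H5_isUnivClosedMor_comp {F G H : Sp S} (f : F ⟶ G) (g : G ⟶ H) (hG : IsAlgSpace G)
    (hH : Representable (Limits.diag H)) (hf : IsUnivClosedMor f) (hg : IsUnivClosedMor g) :
    IsUnivClosedMor (f ≫ g) :=
  H5_univSp_comp IsClosedMor (fun _ _ _ u v hu hv => by
    change IsClosedMap (Points.map (u ≫ v))
    rw [show Points.map (u ≫ v) = Points.map v ∘ Points.map u from funext (Points.map_comp _ _)]
    exact IsClosedMap.comp hv hu) f g hG hH hf hg

theorem H5_isUnivClosedMor_of_repWith_isClosedImmersion {F G : Sp S} (f : F ⟶ G)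
    (hf : RepWith @IsClosedImmersion f) : IsUnivClosedMor f :=
  (H5_repWith_universallyClosed_iff f hf.1).1
    (H5_repWith_of_le (fun _ _ g hg => by haveI : IsClosedImmersion g := hg; infer_instance) hf)

end AlgSp
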