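import Groth.Agent.Lib.helper5.AlgSpQC
import Groth.Agent.Lib.helper5.AlgSpUniv

/-! helper5 library: quasi-compact algebraic spaces and compactness of the space of points. -/

set_option autoImplicit false

universe u

open CategoryTheory CategoryTheory.Limits AlgebraicGeometry Opposite

namespace AlgSp

variable {S : Scheme.{u}} {F G H : Sp S}

/-- An open subscheme of a scheme over `S` as an object over `S`. -/
abbrev H5_overOpen (U : Over S) (W : U.left.Opens) : Over S := Over.mk (W.ι ≫ U.hom)

/-- The inclusion of an open subscheme, over `S`. -/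
abbrev H5_overOpenι (U : Over S) (W : U.left.Opens) : H5_overOpen U W ⟶ U := Over.homMk W.ι rfl

theorem H5_repWith_etale_overOpenι (U : Over S) (W : U.left.Opens) :
    RepWith @Etale ((yon S).map (H5_overOpenι U W)) :=
  (repWith_yon_map_iff _ _).2 (show Etale W.ι from inferInstance)

theorem H5_ofPt_surjective {U : Over S} (p : (yon S).obj U ⟶ F)
    (hs : Function.Surjective (Points.map p)) : Function.Surjective (Points.ofPt p) := by
  intro x
  obtain ⟨y, rfl⟩ := hs x
  obtain ⟨u, rfl⟩ := (Points.schemeEquiv U).surjective y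
  exact ⟨u, Points.ofPt_eq_map_ofScheme p u⟩

/-- The points of a quasi-compact sheaf form a compact space. -/
theorem H5_compactSpace_points {F : Sp S} (h : IsQuasiCompactSp F) : CompactSpace (Points F) := by
  obtain ⟨U, p, _, hps, hU⟩ := h
  have hs := H5_ofPt_surjective p (H5_surjective_of_repWith p hps)
  constructor
  rw [← hs.range_eq]
  exact isCompact_range (Points.continuous_ofPt p)

theorem H5_ofPt_isOpenMap {U : Over S} (p : (yon S).obj U ⟶ F) (hp : IsOpenMap (Points.map p)) :
    IsOpenMap (Points.ofPt p) := by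
  have : Points.ofPt p = Points.map p ∘ Points.schemeHomeo U :=
    funext fun u => Points.ofPt_eq_map_ofScheme p u
  rw [this]
  exact hp.comp (Points.schemeHomeo U).isOpenMap

theorem H5_ofPt_overOpenι {U : Over S} (p : (yon S).obj U ⟶ F) (W : U.left.Opens)
    (u : U.left) (hu : u ∈ W) :
    Points.ofPt ((yon S).map (H5_overOpenι U W) ≫ p) (⟨u, hu⟩ : W) = Points.ofPt p u := by
  rw [H5_ofPt_comp]
  rfl

/-- An algebraic space whose space of points is compact is quasi-compact. -/
theorem H5_isQuasiCompactSp_of_compactSpace {X : Sp S} (hX : IsAlgSpace X)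
    [CompactSpace (Points X)] : IsQuasiCompactSp X := by
  obtain ⟨U, p, hpe, hps⟩ := hX.atlas
  have hopen : IsOpenMap (Points.ofPt p) := H5_ofPt_isOpenMap p (H5_EtSurj_isOpenMap ⟨hpe, hps⟩)
  have hsurj : Function.Surjective (Points.ofPt p) :=
    H5_ofPt_surjective p (H5_surjective_of_repWith p hps)
  obtain ⟨t, ht⟩ := isCompact_univ.elim_finite_subcover
    (fun W : U.left.affineOpens => Points.ofPt p '' ((W : U.left.Opens) : Set U.left))
    (fun W => hopen _ (W : U.left.Opens).2) (by
      intro x _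
      obtain ⟨u, rfl⟩ := hsurj x
      obtain ⟨W, hW, huW, -⟩ := exists_isAffineOpen_mem_and_subset (x := u) (U := ⊤) trivial
      exact Set.mem_iUnion.2 ⟨⟨W, hW⟩, u, huW, rfl⟩)
  let W₀ : U.left.Opens := ⨆ W ∈ t, (W : U.left.Opens)
  have hW₀ : IsCompact (W₀ : Set U.left) := by
    have e : (W₀ : Set U.left) = ⋃ W ∈ t, ((W : U.left.Opens) : Set U.left) := by
      simp [W₀]
    rw [e]
    exact t.isCompact_biUnion fun W _ => W.2.isCompact
  have hc : CompactSpace (H5_overOpen U W₀).left := isCompact_iff_compactSpace.1 hW₀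
  have hpe' : RepWith @Etale ((yon S).map (H5_overOpenι U W₀) ≫ p) :=
    (RepWith @Etale).comp_mem _ _ (H5_repWith_etale_overOpenι U W₀) hpe
  refine ⟨H5_overOpen U W₀, (yon S).map (H5_overOpenι U W₀) ≫ p, hpe', ?_, hc⟩
  refine H5_repWith_surjective_of_surjective _ hpe'.1 ?_
  intro x
  obtain ⟨W, hW, u, huW, rfl⟩ : ∃ W ∈ t, ∃ u ∈ ((W : U.left.Opens) : Set U.left),
      Points.ofPt p u = x := by
    have := ht (Set.mem_univ x)
    simp only [Set.mem_iUnion] at this
    obtain ⟨W, hW, u, hu, rfl⟩ := this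
    exact ⟨W, hW, u, hu, rfl⟩
  have hu₀ : u ∈ W₀ := by
    have : (W : U.left.Opens) ≤ W₀ := le_iSup₂ (f := fun (W : U.left.affineOpens) (_ : W ∈ t) =>
      (W : U.left.Opens)) W hW
    exact this huW
  refine ⟨Points.ofScheme _ (⟨u, hu₀⟩ : W₀), ?_⟩
  rw [← Points.ofPt_eq_map_ofScheme, H5_ofPt_overOpenι]

/-- For an algebraic space, quasi-compactness is compactness of the space of points. -/
theorem H5_isQuasiCompactSp_iff_compactSpace {X : Sp S} (hX : IsAlgSpace X) :
    IsQuasiCompactSp X ↔ CompactSpace (Points X) :=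
  ⟨H5_compactSpace_points, fun _ => H5_isQuasiCompactSp_of_compactSpace hX⟩

/-- Compactness of a preimage from a finite family of maps with compact fibre products. -/
theorem H5_isCompact_preimage_of_cover {W W' : Sp S} (snd : W' ⟶ W) {ι : Type*} [Finite ι]
    (C : ι → Sp S) (c : ∀ i, C i ⟶ W) (A : Set (Points W))
    (hA : ∀ i, Set.range (Points.map (c i)) ⊆ A)
    (hc : ∀ w ∈ A, ∃ i y, Points.map (c i) y = w)
    (hq : ∀ i, CompactSpace (Points (pullback snd (c i)))) :
    IsCompact (Points.map snd ⁻¹' A) := by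
  have e : Points.map snd ⁻¹' A = ⋃ i, Set.range (Points.map (pullback.fst snd (c i))) := by
    ext x
    simp only [Set.mem_preimage, Set.mem_iUnion, Set.mem_range]
    constructor
    · intro hx
      obtain ⟨i, y, hy⟩ := hc _ hx
      obtain ⟨z, hz1, -⟩ := H5_points_pullback_surj (IsPullback.of_hasPullback snd (c i)) x y hy.symm
      exact ⟨i, z, hz1⟩
    · rintro ⟨i, z, rfl⟩
      apply hA i
      refine ⟨Points.map (pullback.snd snd (c i)) z, ?_⟩
      rw [← Points.map_comp, ← Points.map_comp, pullback.condition]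
  rw [e]
  exact isCompact_iUnion fun i => isCompact_range (Points.continuous_map _)

theorem H5_compactSpace_of_cover {W W' : Sp S} (snd : W' ⟶ W) {ι : Type*} [Finite ι]
    (C : ι → Sp S) (c : ∀ i, C i ⟶ W)
    (hc : ∀ w : Points W, ∃ i y, Points.map (c i) y = w)
    (hq : ∀ i, CompactSpace (Points (pullback snd (c i)))) :
    CompactSpace (Points W') := by
  constructor
  have := H5_isCompact_preimage_of_cover snd C c Set.univ (fun _ => Set.subset_univ _)
    (fun w _ => hc w) hq
  simpa using this

theorem H5_isOpenMap_ofPt_of_etale {F : Sp S} {U : Over S} (a : (yon S).obj U ⟶ F)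
    (ha : RepWith @Etale a) : IsOpenMap (Points.ofPt a) :=
  H5_ofPt_isOpenMap a (H5_isOpenMap_of_repWith a (H5_repWith_of_le H5_etale_le_universallyOpen ha))

/-- Two points of a chart have the same image iff they come from the fibre product. -/
theorem H5_ofPt_eq_ofPt_iff {F : Sp S} {R U : Over S} (s t : R ⟶ U) (p : (yon S).obj U ⟶ F)
    (hR : IsPullback ((yon S).map t) ((yon S).map s) p p) (u u' : U.left) :
    Points.ofPt p u = Points.ofPt p u' ↔ ∃ r : R.left, t.left r = u ∧ s.left r = u' := by
  constructor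
  · intro h
    rw [Points.ofPt_eq_map_ofScheme, Points.ofPt_eq_map_ofScheme] at h
    obtain ⟨w, hw1, hw2⟩ := H5_points_pullback_surj hR _ _ h
    obtain ⟨r, rfl⟩ := (Points.schemeEquiv R).surjective w
    have h1 : Points.map ((yon S).map t) (Points.ofScheme R r) = Points.ofScheme U u := hw1
    have h2 : Points.map ((yon S).map s) (Points.ofScheme R r) = Points.ofScheme U u' := hw2
    rw [← Points.ofPt_eq_map_ofScheme, H5_ofPt_yon_map] at h1 h2
    exact ⟨r, (Points.schemeEquiv U).injective h1, (Points.schemeEquiv U).injective h2⟩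
  · rintro ⟨r, rfl, rfl⟩
    rw [← H5_ofPt_comp, ← H5_ofPt_comp, hR.w]

/-- Quasi-compact open neighbourhoods form a basis at every point of an algebraic space. -/
theorem H5_exists_isOpen_isCompact_nhd {X : Sp S} (hX : IsAlgSpace X) (x : Points X)
    (W : Set (Points X)) (hW : IsOpen W) (hx : x ∈ W) :
    ∃ V : Set (Points X), IsOpen V ∧ IsCompact V ∧ x ∈ V ∧ V ⊆ W := by
  obtain ⟨U, p, hpe, hps⟩ := hX.atlas
  obtain ⟨u, rfl⟩ := H5_ofPt_surjective p (H5_surjective_of_repWith p hps) x
  have hWU : IsOpen (Points.ofPt p ⁻¹' W) := hW.preimage (Points.continuous_ofPt p)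
  obtain ⟨V', hV', huV', hV'W⟩ := exists_isAffineOpen_mem_and_subset (x := u)
    (U := ⟨_, hWU⟩) hx
  refine ⟨Points.ofPt p '' (V' : Set U.left), H5_isOpenMap_ofPt_of_etale p hpe _ V'.2,
    hV'.isCompact.image (Points.continuous_ofPt p), ⟨u, huV', rfl⟩, ?_⟩
  rintro _ ⟨v, hv, rfl⟩
  exact hV'W hv

end AlgSp
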