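import Mathlib

/-! fppf-locality on the target from fppf descent along single morphisms. -/

universe u

open CategoryTheory CategoryTheory.Limits AlgebraicGeometry MorphismProperty

namespace AlgebraicGeometry

set_option backward.isDefEq.respectTransparency.types false in
instance H5_fppfPrecoverage_small : Precoverage.Small.{u} Scheme.fppfPrecoverage.{u} := by
  unfold Scheme.fppfPrecoverage; infer_instance

set_option backward.isDefEq.respectTransparency.types false in
/-- A Zariski-local (on the target) property stable under base change which descends along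
fppf surjections is local on the target for the fppf precoverage. -/
theorem H5_isLocalAtTarget_fppf (P : MorphismProperty Scheme.{u}) [IsZariskiLocalAtTarget P]
    [P.IsStableUnderBaseChange]
    [P.DescendsAlong (@Surjective ⊓ @Flat ⊓ @LocallyOfFinitePresentation)] :
    P.IsLocalAtTarget Scheme.fppfPrecoverage := by
  refine MorphismProperty.IsLocalAtTarget.mk_of_small.{u} ?_ ?_
  · intro X Y f 𝒰 hf i
    exact P.pullback_snd _ _ hf
  · intro X Y f 𝒰 h
    have hmem : 𝒰.presieve₀ ∈
        Scheme.precoverage (@Flat ⊓ @LocallyOfFinitePresentation) Y := 𝒰.mem₀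
    rw [PreZeroHypercover.presieve₀, Scheme.ofArrows_mem_precoverage_iff] at hmem
    obtain ⟨hsurj, hfl⟩ := hmem
    haveI : ∀ i, Flat (𝒰.f i) := fun i => (hfl i).1
    haveI : ∀ i, LocallyOfFinitePresentation (𝒰.f i) := fun i => (hfl i).2
    let g : ∐ 𝒰.X ⟶ Y := Sigma.desc 𝒰.f
    have hg1 : Surjective g := by
      refine ⟨fun y => ?_⟩
      obtain ⟨i, x, hx⟩ := hsurj y
      refine ⟨Sigma.ι 𝒰.X i x, ?_⟩
      rw [← Scheme.Hom.comp_apply, Sigma.ι_desc]
      exact hx
    have hg2 : Flat g := inferInstance
    have hg3 : LocallyOfFinitePresentation g :=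
      IsZariskiLocalAtSource.sigmaDesc (fun i => inferInstance)
    refine MorphismProperty.of_pullback_fst_of_descendsAlong
      (Q := @Surjective ⊓ @Flat ⊓ @LocallyOfFinitePresentation) (f := g) ⟨⟨hg1, hg2⟩, hg3⟩ ?_
    refine IsZariskiLocalAtTarget.of_openCover (sigmaOpenCover 𝒰.X) ?_
    intro i
    have sq1 : IsPullback (pullback.fst (pullback.fst g f) (Sigma.ι 𝒰.X i))
        (pullback.snd (pullback.fst g f) (Sigma.ι 𝒰.X i)) (pullback.fst g f) (Sigma.ι 𝒰.X i) :=
      IsPullback.of_hasPullback _ _
    have sq2 : IsPullback (pullback.snd g f) (pullback.fst g f) f g :=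
      (IsPullback.of_hasPullback g f).flip
    have sq3 := sq1.paste_horiz sq2
    have e : Sigma.ι 𝒰.X i ≫ g = 𝒰.f i := Sigma.ι_desc _ _
    rw [e] at sq3
    have := sq3.isoPullback_hom_snd
    change P (pullback.snd (pullback.fst g f) (Sigma.ι 𝒰.X i))
    rw [← this]
    exact (P.cancel_left_of_respectsIso _ _).2 (h i)

end AlgebraicGeometry
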