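import Groth.Agent.Lib.helper5.AlgSpLargestOpen
import Mathlib.RingTheory.Flat.FaithfullyFlat.Algebra
import Mathlib.LinearAlgebra.TensorProduct.Tower
import Mathlib.AlgebraicGeometry.Morphisms.Flat
import Mathlib.AlgebraicGeometry.Morphisms.FlatDescent
import Groth.Agent.Lib.helper5.FppfLocal

/-! Flatness is local on the source for flat surjective morphisms; base change of properties of
morphisms of algebraic spaces defined etale locally on source and target. -/

universe u

open CategoryTheory Limits AlgebraicGeometry Opposite TensorProduct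

theorem H5_flat_of_faithfullyFlat_comp (A B C : Type u) [CommRing A] [CommRing B] [CommRing C]
    [Algebra A B] [Algebra B C] [Algebra A C] [IsScalarTower A B C]
    [Module.FaithfullyFlat B C] [Module.Flat A C] : Module.Flat A B := by
  rw [Module.Flat.iff_lTensor_preserves_injective_linearMap]
  intro N N' _ _ _ _ f hf
  have h0 : Function.Injective (f.lTensor C) :=
    Module.Flat.lTensor_preserves_injective_linearMap f hf
  let g := AlgebraTensorModule.lTensor B B f
  have hg : (g : B ⊗[A] N → B ⊗[A] N') = f.lTensor B := rfl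
  have key := AlgebraTensorModule.lTensor_comp_cancelBaseChange (R := A) (A := B) (B := C)
    (M := C) f
  have h1 : Function.Injective (AlgebraTensorModule.lTensor C C g) := by
    have h2 : Function.Injective
        ((AlgebraTensorModule.cancelBaseChange A B C C N').toLinearMap ∘ₗ
          AlgebraTensorModule.lTensor C C g) := by
      rw [← key]
      exact h0.comp (AlgebraTensorModule.cancelBaseChange A B C C N).injective
    rw [LinearMap.coe_comp] at h2
    exact Function.Injective.of_comp h2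
  rw [← hg]
  exact (Module.FaithfullyFlat.lTensor_injective_iff_injective B C g).1 h1

theorem H5_ringHom_flat_of_comp_of_isLocalHom {A B C : Type u} [CommRing A] [CommRing B]
    [CommRing C] [IsLocalRing B] [IsLocalRing C] (f : A →+* B) (g : B →+* C) [IsLocalHom g]
    (hg : g.Flat) (hgf : (g.comp f).Flat) : f.Flat := by
  algebraize [f, g, g.comp f]
  have : IsLocalHom (algebraMap B C) := ‹IsLocalHom g›
  have : Module.FaithfullyFlat B C := Module.FaithfullyFlat.of_flat_of_isLocalHom
  exact H5_flat_of_faithfullyFlat_comp A B C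

theorem H5_flat_codescendsAlong_faithfullyFlat :
    RingHom.CodescendsAlong RingHom.Flat RingHom.FaithfullyFlat := by
  intro R S R' S' _ _ _ _ _ _ _ _ _ _ _ h hQ H
  have h1 : (algebraMap S S').FaithfullyFlat := by
    have := h.symm
    exact RingHom.FaithfullyFlat.isStableUnderBaseChange R R' S S' hQ
  have h2 : (algebraMap R S').Flat := by
    rw [IsScalarTower.algebraMap_eq R R' S']
    exact RingHom.Flat.comp hQ.flat H
  rw [RingHom.flat_algebraMap_iff] at h2 ⊢
  rw [RingHom.faithfullyFlat_algebraMap_iff] at h1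
  exact H5_flat_of_faithfullyFlat_comp R S S'

namespace AlgebraicGeometry

instance H5_flat_descendsAlong_fpqc :
    MorphismProperty.DescendsAlong (@Flat : MorphismProperty Scheme.{u})
      (@Surjective ⊓ @Flat ⊓ @QuasiCompact) :=
  HasRingHomProperty.descendsAlong_flat H5_flat_codescendsAlong_faithfullyFlat

instance H5_fppfLocal_flat :
    MorphismProperty.IsLocalAtTarget (@Flat : MorphismProperty Scheme.{u})
      Scheme.fppfPrecoverage :=
  H5_isLocalAtTarget_fppf _

/-- Flatness is local on the source for flat surjective morphisms. -/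
theorem H5_flat_of_comp_surjective {W' W T : Scheme.{u}} (e : W' ⟶ W) (k : W ⟶ T) [Flat e]
    [Surjective e] [Flat (e ≫ k)] : Flat k := by
  rw [Flat.iff_flat_stalkMap]
  intro w
  obtain ⟨w', rfl⟩ := e.surjective w
  have h1 := Flat.stalkMap (e ≫ k) w'
  rw [Scheme.Hom.stalkMap_comp] at h1
  have h2 := Flat.stalkMap e w'
  exact H5_ringHom_flat_of_comp_of_isLocalHom (k.stalkMap (e w')).hom (e.stalkMap w').hom h2 h1

theorem H5_flat_of_comp_etale {A B C : Scheme.{u}} (u : A ⟶ B) (v : B ⟶ C) [Etale v]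
    [Flat (u ≫ v)] : Flat u := by
  haveI : MorphismProperty.HasOfPostcompProperty @Flat @Etale := by
    rw [MorphismProperty.hasOfPostcompProperty_iff_le_diagonal]
    intro X Y f hf
    haveI : Etale f := hf
    exact (inferInstance : Flat (pullback.diagonal f))
  exact MorphismProperty.of_postcomp (W := @Flat) (W' := @Etale) u v ‹_› ‹_›

theorem H5_exists_finite_affine_cover (U : Scheme.{u}) [CompactSpace U] :
    ∃ (m : ℕ) (W : Fin m → Scheme.{u}) (ι : ∀ j, W j ⟶ U), (∀ j, IsAffine (W j)) ∧
      (∀ j, IsOpenImmersion (ι j)) ∧ ∀ x : U, ∃ j, x ∈ Set.range (ι j) := by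
  let 𝒰 := U.affineCover.finiteSubcover
  let e := Fintype.equivFin 𝒰.I₀
  refine ⟨Fintype.card 𝒰.I₀, fun j => 𝒰.X (e.symm j), fun j => 𝒰.f (e.symm j), fun j => ?_,
    fun j => inferInstance, fun x => ?_⟩
  · show IsAffine (U.affineCover.X _)
    infer_instance
  · refine ⟨e (𝒰.idx x), ?_⟩
    show x ∈ Set.range (𝒰.f (e.symm (e (𝒰.idx x))))
    rw [e.symm_apply_apply]
    exact 𝒰.covers x

end AlgebraicGeometry

namespace AlgSp

variable {S : Scheme.{u}}

/-- Properties of morphisms of schemes which are etale local on the source (and compatible with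
etale morphisms). -/
structure H5_EtLocal (P : MorphismProperty Scheme.{u}) : Prop where
  etale_comp : ∀ ⦃A B C : Scheme.{u}⦄ (u : A ⟶ B) (v : B ⟶ C), Etale u → P v → P (u ≫ v)
  cancel_etale : ∀ ⦃A B C : Scheme.{u}⦄ (u : A ⟶ B) (v : B ⟶ C), Etale v → P (u ≫ v) → P u
  source : ∀ ⦃W' W T : Scheme.{u}⦄ (e : W' ⟶ W) (k : W ⟶ T), Etale e → Surjective e →
    P (e ≫ k) → P k

theorem H5_etLocal_flat : H5_EtLocal (@Flat : MorphismProperty Scheme.{u}) where
  etale_comp A B C u v hu hv := by
    haveI : Etale u := hu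
    haveI : Flat v := hv
    exact (inferInstance : Flat (u ≫ v))
  cancel_etale A B C u v hv h := by
    haveI : Etale v := hv
    haveI : Flat (u ≫ v) := h
    exact H5_flat_of_comp_etale u v
  source W' W T e k he hs h := by
    haveI : Etale e := he
    haveI : Surjective e := hs
    haveI : Flat (e ≫ k) := h
    exact H5_flat_of_comp_surjective e k

/-- Base change of `LocP P` over a scheme along a morphism of schemes. -/
theorem H5_locP_baseChange_scheme (P : MorphismProperty Scheme.{u}) [P.IsStableUnderBaseChange]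
    (hP : H5_EtLocal P) {F : Sp S} (hF : IsAlgSpace F) {V T' : Over S}
    (g : F ⟶ (yon S).obj V) (hg : LocP P g) (τ : T' ⟶ V) {F' : Sp S} (fst : F' ⟶ F)
    (snd : F' ⟶ (yon S).obj T') (sq : IsPullback fst snd g ((yon S).map τ)) : LocP P snd := by
  intro U₁ V₁ a₁ b₁ h₁ ha₁ hb₁ w₁
  obtain ⟨β, rfl⟩ := (yon S).map_surjective b₁
  have hβ : Etale β.left := (repWith_yon_map_iff @Etale β).1 hb₁
  obtain ⟨U, a, ha1, ha3⟩ := hF.atlas
  obtain ⟨h, hh⟩ := (yon S).map_surjective (a ≫ g)
  have hPh : P h.left := hg a (𝟙 _) h ha1 (repWith_id _ V) (by rw [Category.comp_id, hh])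
  have sq2 := IsPullback.of_hasPullback h τ
  have sq2' := sq2.map (yon S)
  have hPp₂ : P (pullback.snd h τ).left :=
    (repWith_yon_map_iff P _).1
      (MorphismProperty.of_isPullback sq2' ((repWith_yon_map_iff P h).2 hPh))
  have hcomm : ((yon S).map (pullback.fst h τ) ≫ a) ≫ g =
      (yon S).map (pullback.snd h τ) ≫ (yon S).map τ := by
    rw [Category.assoc, ← hh]; exact sq2'.w
  have hm1 : sq.lift _ _ hcomm ≫ fst = (yon S).map (pullback.fst h τ) ≫ a := sq.lift_fst _ _ _
  have hm2 : sq.lift _ _ hcomm ≫ snd = (yon S).map (pullback.snd h τ) := sq.lift_snd _ _ _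
  have big : IsPullback (sq.lift _ _ hcomm ≫ snd) ((yon S).map (pullback.fst h τ))
      ((yon S).map τ) (a ≫ g) := by
    rw [hm2, ← hh]; exact sq2'.flip
  have sqm : IsPullback (sq.lift _ _ hcomm) ((yon S).map (pullback.fst h τ)) fst a :=
    IsPullback.of_right big hm1 sq.flip
  have hm_et : RepWith @Etale (sq.lift _ _ hcomm) := MorphismProperty.of_isPullback sqm.flip ha1
  have hm_su : RepWith @Surjective (sq.lift _ _ hcomm) :=
    MorphismProperty.of_isPullback sqm.flip ha3
  have hmrep : Representable (sq.lift _ _ hcomm) := hm_et.1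
  have sq3 := hmrep.isPullback' a₁
  have he_et : Etale (hmrep.snd a₁).left :=
    (repWith_yon_map_iff @Etale _).1 (MorphismProperty.of_isPullback sq3 hm_et)
  have he_su : Surjective (hmrep.snd a₁).left :=
    (repWith_yon_map_iff @Surjective _).1 (MorphismProperty.of_isPullback sq3 hm_su)
  have hω_et : Etale (hmrep.fst' a₁).left :=
    (repWith_yon_map_iff @Etale _).1 (MorphismProperty.of_isPullback sq3.flip ha₁)
  have hP1 : P ((hmrep.fst' a₁).left ≫ (pullback.snd h τ).left) :=
    hP.etale_comp _ _ hω_et hPp₂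
  have heq : hmrep.fst' a₁ ≫ pullback.snd h τ = (hmrep.snd a₁ ≫ h₁) ≫ β := by
    apply (yon S).map_injective
    have e1 : (yon S).map (hmrep.fst' a₁) ≫ (yon S).map (pullback.snd h τ) =
        (yon S).map (hmrep.snd a₁) ≫ a₁ ≫ snd := by
      have e0 : (yon S).map (hmrep.fst' a₁) ≫ (yon S).map (pullback.snd h τ) =
          ((yon S).map (hmrep.fst' a₁) ≫ sq.lift _ _ hcomm) ≫ snd := by
        rw [Category.assoc, hm2]
      rw [e0, sq3.w, Category.assoc]
    rw [Functor.map_comp, e1, w₁]
    simp only [Functor.map_comp, Category.assoc]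
  have heq' : (hmrep.fst' a₁).left ≫ (pullback.snd h τ).left =
      ((hmrep.snd a₁).left ≫ h₁.left) ≫ β.left := congrArg (fun k => k.left) heq
  rw [heq'] at hP1
  have hP2 : P ((hmrep.snd a₁).left ≫ h₁.left) := hP.cancel_etale _ _ hβ hP1
  exact hP.source _ _ he_et he_su hP2

/-- `LocP P` is stable under base change, for `P` etale local on the source. -/
theorem H5_locP_baseChange (P : MorphismProperty Scheme.{u}) [P.IsStableUnderBaseChange]
    [P.IsLocalAtTarget Scheme.fppfPrecoverage] (hP : H5_EtLocal P) {X Y Y' X' : Sp S}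
    (hX : IsAlgSpace X) (hY : IsAlgSpace Y) (hY' : IsAlgSpace Y') (f : X ⟶ Y) (g : Y' ⟶ Y)
    (g' : X' ⟶ X) (f' : X' ⟶ Y') (sq : IsPullback g' f' f g) (hf : LocP P f) : LocP P f' := by
  obtain ⟨V, b, hb1, hb3⟩ := hY.atlas
  have hXV : IsAlgSpace (pullback f b) :=
    H5_isAlgSpace_of_isPullback Y hY.diag ⟨X, hX⟩ ⟨_, IsAlgSpace.yon_obj V⟩ f b _ _ _
      (IsPullback.of_hasPullback f b)
  have hE1 : LocP P (pullback.snd f b) := by
    intro U₁ V₁ a₁ b₁ h₁ ha₁ hb₁ w₁
    exact hf (a₁ ≫ pullback.fst f b) (b₁ ≫ b) h₁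
      ((RepWith @Etale).comp_mem _ _ ha₁ (MorphismProperty.pullback_fst _ _ hb1))
      ((RepWith @Etale).comp_mem _ _ hb₁ hb1)
      (by rw [Category.assoc, pullback.condition, ← Category.assoc, w₁, Category.assoc])
  have hY'V : IsAlgSpace (pullback g b) :=
    H5_isAlgSpace_of_isPullback Y hY.diag ⟨Y', hY'⟩ ⟨_, IsAlgSpace.yon_obj V⟩ g b _ _ _
      (IsPullback.of_hasPullback g b)
  obtain ⟨V', c, hc1, hc3⟩ := hY'V.atlas
  obtain ⟨τ, hτ⟩ := (yon S).map_surjective (c ≫ pullback.snd g b)
  have hb'1 : RepWith @Etale (c ≫ pullback.fst g b) :=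
    (RepWith @Etale).comp_mem _ _ hc1 (MorphismProperty.pullback_fst _ _ hb1)
  have hb'3 : RepWith @Surjective (c ≫ pullback.fst g b) :=
    (RepWith @Surjective).comp_mem _ _ hc3 (MorphismProperty.pullback_fst _ _ hb3)
  have hE2 : LocP P (pullback.snd (pullback.snd f b) ((yon S).map τ)) :=
    H5_locP_baseChange_scheme P hP hXV _ hE1 τ _ _ (IsPullback.of_hasPullback _ _)
  have hτb : (yon S).map τ ≫ b = (c ≫ pullback.fst g b) ≫ g := by
    rw [hτ, Category.assoc, Category.assoc, pullback.condition]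
  have hcomm : (pullback.fst (pullback.snd f b) ((yon S).map τ) ≫ pullback.fst f b) ≫ f =
      (pullback.snd (pullback.snd f b) ((yon S).map τ) ≫ (c ≫ pullback.fst g b)) ≫ g := by
    rw [Category.assoc, pullback.condition, ← Category.assoc, pullback.condition, Category.assoc,
      hτb]
    simp only [Category.assoc]
  have hq1 : sq.lift _ _ hcomm ≫ g' =
      pullback.fst (pullback.snd f b) ((yon S).map τ) ≫ pullback.fst f b := sq.lift_fst _ _ _
  have hq2 : sq.lift _ _ hcomm ≫ f' =
      pullback.snd (pullback.snd f b) ((yon S).map τ) ≫ (c ≫ pullback.fst g b) :=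
    sq.lift_snd _ _ _
  have big : IsPullback (sq.lift _ _ hcomm ≫ g')
      (pullback.snd (pullback.snd f b) ((yon S).map τ)) f ((c ≫ pullback.fst g b) ≫ g) := by
    rw [hq1, ← hτb]
    exact (IsPullback.of_hasPullback (pullback.snd f b) ((yon S).map τ)).paste_horiz
      (IsPullback.of_hasPullback f b)
  have sqE3 : IsPullback (sq.lift _ _ hcomm) (pullback.snd (pullback.snd f b) ((yon S).map τ))
      f' (c ≫ pullback.fst g b) := IsPullback.of_right big hq2 sq
  exact H5_locP_descent P hP.cancel_etale f' (c ≫ pullback.fst g b) hb'1 hb'3 _ _ sqE3 hE2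

end AlgSp
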