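import Groth.Agent.Lib.helper5.AlgSpLocP
import Groth.Agent.Lib.helper5.AlgSpFlatSrc
import Groth.Agent.Lib.helper5.AlgSpPoints
import Groth.Prelude.Def_AlgSpCov

/-! helper5 library: coverings of algebraic spaces and local lifts. -/

set_option autoImplicit false

universe u

open CategoryTheory CategoryTheory.Limits AlgebraicGeometry Opposite

namespace AlgSp

variable {S : Scheme.{u}}

/-- If `f` has `P` etale locally on source and target, then `φ ≫ f` is representable with `P`
for every etale chart `φ` of the source. -/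
theorem H5_repWith_comp_chart_of_locP (P : MorphismProperty Scheme.{u}) [P.IsStableUnderBaseChange]
    [P.IsLocalAtTarget Scheme.fppfPrecoverage] {X Y : Sp S} (hY : IsAlgSpace Y) (f : X ⟶ Y)
    (h : LocP P f) {U : Over S} (φ : (yon S).obj U ⟶ X) (hφ : RepWith @Etale φ) :
    RepWith P (φ ≫ f) := by
  have hrep : Representable (φ ≫ f) := hY.representable_from_yon _
  obtain ⟨V, b, hbe, hbs⟩ := hY.atlas
  have sq := hrep.isPullback' b
  have hp1 : RepWith @Etale ((yon S).map (hrep.fst' b)) := MorphismProperty.of_isPullback sq.flip hbe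
  have ha' : RepWith @Etale ((yon S).map (hrep.fst' b) ≫ φ) :=
    (RepWith @Etale).comp_mem _ _ hp1 hφ
  have hcomm : ((yon S).map (hrep.fst' b) ≫ φ) ≫ f = (yon S).map (hrep.snd b) ≫ b := by
    rw [Category.assoc]
    exact sq.w
  have hk : P (hrep.snd b).left := h _ b _ ha' hbe hcomm
  haveI : Sheaf.IsLocallySurjective b := H5_isLocallySurjective_of_etale b hbe hbs
  exact H5_repWith_of_locSurj_base (φ ≫ f) hrep b _ _ _ sq P
    ((repWith_yon_map_iff P _).2 hk)

/-- A jointly surjective family of flat, locally finitely presented morphisms generates a covering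
sieve of `J S`. -/
theorem H5_ofArrows_mem {T : Over S} {ι : Type u} (W : ι → Over S) (c : ∀ i, W i ⟶ T)
    (hflat : ∀ i, Flat (c i).left) (hlfp : ∀ i, LocallyOfFinitePresentation (c i).left)
    (hsurj : ∀ x : T.left, ∃ i, x ∈ Set.range (c i).left) :
    Sieve.ofArrows W c ∈ J S T := by
  refine (GrothendieckTopology.mem_over_iff _ _).2 ?_
  rw [Sieve.ofArrows, Sieve.overEquiv_generate]
  have hmem : Presieve.ofArrows (fun i => (W i).left) (fun i => (c i).left) ∈
      Scheme.fppfPrecoverage T.left :=
    (Scheme.ofArrows_mem_precoverage_iff (P := @Flat ⊓ @LocallyOfFinitePresentation)).2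
      ⟨hsurj, fun i => ⟨hflat i, hlfp i⟩⟩
  refine GrothendieckTopology.superset_covering _ ?_ (Precoverage.generate_mem_toGrothendieck hmem)
  apply Sieve.generate_mono
  rintro V f ⟨i⟩
  exact Presieve.image_mem_functorPushforward (Over.forget S) _ (Presieve.ofArrows.mk i)

/-- fppf coverings of algebraic spaces are jointly locally surjective. -/
theorem H5_fppf_local_lift (X : Space S) {ι : Type u}
    (Xi : ι → Space S) (g : ∀ i, Xi i ⟶ X)
    (h : IsFppfCover (fun i => (Xi i).obj) (fun i => (g i).hom))
    (T : Over S) (t : (yon S).obj T ⟶ X.obj) :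
    ∃ (κ : Type u) (Tk : κ → Over S) (c : ∀ k, Tk k ⟶ T),
      Sieve.ofArrows Tk c ∈ J S T ∧
      ∀ k, ∃ (i : ι) (l : (yon S).obj (Tk k) ⟶ (Xi i).obj),
        l ≫ (g i).hom = (yon S).map (c k) ≫ t := by
  choose U a hae has using fun i => (Xi i).property.atlas
  have hflat : ∀ i, RepWith @Flat (a i ≫ (g i).hom) := fun i =>
    H5_repWith_comp_chart_of_locP @Flat X.property _ (h.1 i).1 (a i) (hae i)
  have hlfp : ∀ i, RepWith @LocallyOfFinitePresentation (a i ≫ (g i).hom) := fun i =>
    H5_repWith_comp_chart_of_locP @LocallyOfFinitePresentation X.property _ (h.1 i).2 (a i) (hae i)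
  refine ⟨ι, fun i => (hflat i).1.pullback t, fun i => (hflat i).1.snd t, ?_, ?_⟩
  · refine H5_ofArrows_mem _ _ (fun i => (hflat i).2 t _ _ ((hflat i).1.isPullback t))
      (fun i => (hlfp i).2 t _ _ ((hflat i).1.isPullback t)) ?_
    intro x
    obtain ⟨i, y, hy⟩ := h.2 (Points.ofPt t x)
    obtain ⟨u, hu⟩ := H5_surjective_of_repWith (a i) (has i) y
    have hcomp : Points.map (a i ≫ (g i).hom) u = Points.map t (Points.ofScheme T x) := by
      rw [Points.map_comp, hu, hy, ← Points.ofPt_eq_map_ofScheme]
    obtain ⟨w, -, hw⟩ := H5_points_pullback_surj ((hflat i).1.isPullback t) u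
      (Points.ofScheme T x) hcomp
    refine ⟨i, Points.toScheme _ w, ?_⟩
    have h1 : Points.map ((yon S).map ((hflat i).1.snd t)) (Points.ofScheme _ (Points.toScheme _ w)) =
        Points.ofScheme T (((hflat i).1.snd t).left (Points.toScheme _ w)) :=
      Points.map_yon_map_apply _ _
    rw [Points.ofScheme_toScheme, hw] at h1
    have h2 := congrArg (Points.toScheme T) h1
    rw [Points.toScheme_ofScheme, Points.toScheme_ofScheme] at h2
    exact h2.symm
  · intro i
    refine ⟨i, (hflat i).1.fst t ≫ a i, ?_⟩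
    rw [Category.assoc]
    exact ((hflat i).1.isPullback t).w

end AlgSp
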