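import Groth.Agent.Lib.helper5.AlgSpQCMor
import Groth.Agent.Lib.helper5.RelRep

/-! helper5 library: products of algebraic spaces, quasi-compactness. -/

set_option autoImplicit false

universe u

open CategoryTheory CategoryTheory.Limits AlgebraicGeometry Opposite

namespace CategoryTheory

theorem H5_diag_eq_diagonal_comp {C : Type*} [Category C] [HasPullbacks C] [HasBinaryProducts C]
    {P Z : C} (j : P ⟶ Z) :
    Limits.diag P = pullback.diagonal j ≫ prod.lift (pullback.fst j j) (pullback.snd j j) := by
  apply Limits.prod.hom_ext <;> simp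

end CategoryTheory

namespace AlgSp

open Groth.Agent.Lib.helper5

variable {S : Scheme.{u}}

set_option backward.defeqAttrib.useBackward true in
set_option backward.isDefEq.respectTransparency false in
theorem H5_isIso_diag_terminal : IsIso (Limits.diag (⊤_ (Sp S))) := by
  refine ⟨prod.fst, by simp, ?_⟩
  apply Limits.prod.hom_ext
  · simp
  · exact Subsingleton.elim _ _

theorem H5_representable_diag_terminal : Representable (Limits.diag (⊤_ (Sp S))) := by
  haveI := H5_isIso_diag_terminal (S := S)
  exact Functor.relativelyRepresentable.of_isIso (F := yon S) (Limits.diag (⊤_ (Sp S)))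

theorem H5_isAlgSpace_prod (X W : Sp S) (hX : IsAlgSpace X) (hW : IsAlgSpace W) :
    IsAlgSpace (X ⨯ W) :=
  H5_isAlgSpace_of_isPullback (⊤_ _) H5_representable_diag_terminal ⟨X, hX⟩ ⟨W, hW⟩
    (terminal.from X) (terminal.from W) _ prod.fst prod.snd (IsPullback.of_hasBinaryProduct' X W)

theorem H5_compactSpace_prod_left [QuasiSeparatedSpace S] (U V : Over S) [CompactSpace U.left]
    [CompactSpace V.left] : CompactSpace (U ⨯ V).left := by
  haveI : QuasiCompact U.hom := inferInstance
  have e := Over.prodLeftIsoPullback U V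
  exact (Scheme.homeoOfIso e.symm).compactSpace

theorem H5_points_surjective_of_iso {F G : Sp S} (e : F ≅ G) :
    Function.Surjective (Points.map e.hom) := by
  intro y
  refine ⟨Points.map e.inv y, ?_⟩
  rw [← Points.map_comp, e.inv_hom_id, Points.map_id]

theorem H5_isQuasiCompactSp_prod [QuasiSeparatedSpace S] (X W : Sp S) (hX : IsAlgSpace X)
    (hW : IsAlgSpace W) (hXq : IsQuasiCompactSp X) (hWq : IsQuasiCompactSp W) :
    IsQuasiCompactSp (X ⨯ W) := by
  obtain ⟨U, p, hpe, hps, hU⟩ := hXq
  obtain ⟨V, q, hqe, hqs, hV⟩ := hWq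
  haveI := H5_compactSpace_prod_left U V
  haveI hc : CompactSpace (Points ((yon S).obj (U ⨯ V))) :=
    H5_compactSpace_points ((H5_isQuasiCompactSp_yon_iff _).2 inferInstance)
  have s1 : Function.Surjective (Points.map (PreservesLimitPair.iso (yon S) U V).hom) :=
    H5_points_surjective_of_iso _
  have s2 : Function.Surjective (Points.map (prod.map p (𝟙 ((yon S).obj V)))) :=
    H5_surjective_baseChange (IsPullback.of_prod_fst_with_id p _) (H5_surjective_of_repWith p hps)
  have s3 : Function.Surjective (Points.map (prod.map (𝟙 X) q)) :=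
    H5_surjective_baseChange (H5_isPullback_prod_snd_with_id q X) (H5_surjective_of_repWith q hqs)
  have s : Function.Surjective (Points.map ((PreservesLimitPair.iso (yon S) U V).hom ≫
      prod.map p (𝟙 ((yon S).obj V)) ≫ prod.map (𝟙 X) q)) := by
    have e : Points.map ((PreservesLimitPair.iso (yon S) U V).hom ≫
        prod.map p (𝟙 ((yon S).obj V)) ≫ prod.map (𝟙 X) q) =
        Points.map (prod.map (𝟙 X) q) ∘ Points.map (prod.map p (𝟙 ((yon S).obj V))) ∘
          Points.map (PreservesLimitPair.iso (yon S) U V).hom := by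
      funext x
      simp only [Points.map_comp, Function.comp_apply]
    rw [e]
    exact s3.comp (s2.comp s1)
  haveI : CompactSpace (Points (X ⨯ W)) := ⟨by
    rw [← s.range_eq]
    exact isCompact_range (Points.continuous_map _)⟩
  exact H5_isQuasiCompactSp_of_compactSpace (H5_isAlgSpace_prod X W hX hW)

/-- Over a quasi-separated base, a morphism from a quasi-compact algebraic space to a
quasi-separated sheaf is quasi-compact. -/
theorem H5_isQuasiCompactMor_of_qc_qsep [QuasiSeparatedSpace S] {X Y : Sp S} (f : X ⟶ Y)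
    (hX : IsAlgSpace X) (hXq : IsQuasiCompactSp X) (hY : IsQuasiSeparatedSp Y) :
    IsQuasiCompactMor f := by
  intro W W' hW hWq k a b sqW
  have h1 : RepWith @QuasiCompact (prod.lift a b) :=
    MorphismProperty.of_isPullback (H5_isPullback_diag sqW) hY
  have h2 := H5_isQuasiCompactMor_of_repWith _ h1
  exact h2 (H5_isAlgSpace_prod X W hX hW) (H5_isQuasiCompactSp_prod X W hX hW hXq hWq) (𝟙 _) (𝟙 _) _
    IsPullback.of_id_fst

theorem H5_repWith_of_isIso (P : MorphismProperty Scheme.{u}) [P.IsStableUnderBaseChange]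
    [P.ContainsIdentities] {F G : Sp S} (f : F ⟶ G) [IsIso f] : RepWith P f := by
  haveI : P.RespectsIso := MorphismProperty.IsStableUnderBaseChange.respectsIso
  refine MorphismProperty.relative.of_exists ?_
  intro a g
  refine ⟨a, g ≫ inv f, 𝟙 a, ?_, P.id_mem _⟩
  haveI : IsIso ((yon S).map (𝟙 a)) := by
    rw [CategoryTheory.Functor.map_id]
    infer_instance
  exact IsPullback.of_vert_isIso ⟨by
    rw [Category.assoc, IsIso.inv_hom_id, Category.comp_id, CategoryTheory.Functor.map_id,
      Category.id_comp]⟩

theorem H5_mono_diag (Y : Sp S) : Mono (Limits.diag Y) :=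
  mono_of_mono_fac (prod.lift_fst (𝟙 Y) (𝟙 Y))

theorem H5_mono_of_isPullback {A B A' B' : Sp S} {f' : A' ⟶ A} {g' : A' ⟶ B'} {g : A ⟶ B}
    {f : B' ⟶ B} (sq : IsPullback f' g' g f) [Mono g] : Mono g' :=
  MorphismProperty.of_isPullback (P := MorphismProperty.monomorphisms (Sp S)) sq
    (MorphismProperty.monomorphisms.infer_property g)

/-- If `X` is quasi-separated over `S`, every morphism out of `X` is quasi-separated. -/
theorem H5_isQuasiSeparatedMor_of_isQuasiSeparatedSp {X Y : Sp S} (f : X ⟶ Y)
    (hX : IsQuasiSeparatedSp X) : IsQuasiSeparatedMor f := by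
  have sqb := H5_isPullback_diag (IsPullback.of_hasPullback f f)
  haveI := H5_mono_diag Y
  haveI : Mono (prod.lift (pullback.fst f f) (pullback.snd f f)) := H5_mono_of_isPullback sqb
  have hΔ : RepWith @QuasiCompact
      (pullback.diagonal (prod.lift (pullback.fst f f) (pullback.snd f f))) :=
    H5_repWith_of_isIso _ _
  refine H5_of_postcomp (RepWith @QuasiCompact) (pullback.diagonal f)
    (prod.lift (pullback.fst f f) (pullback.snd f f)) hΔ ?_
  rw [← CategoryTheory.H5_diag_eq_diagonal_comp f]
  exact hX

/-- Quasi-separated morphisms are stable under base change. -/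
theorem H5_isQuasiSeparatedMor_baseChange {F G G' F' : Sp S} {f : F ⟶ G} {g : G' ⟶ G}
    {fst : F' ⟶ F} {f' : F' ⟶ G'} (sq : IsPullback fst f' f g) (hf : IsQuasiSeparatedMor f) :
    IsQuasiSeparatedMor f' :=
  MorphismProperty.of_isPullback (P := RepWith @QuasiCompact)
    (H5_isPullback_diagonal_baseChange sq) hf

/-- The source of a quasi-separated morphism to a quasi-separated sheaf is quasi-separated. -/
theorem H5_isQuasiSeparatedSp_of_mor {P Z : Sp S} (j : P ⟶ Z) (hj : IsQuasiSeparatedMor j)
    (hZ : IsQuasiSeparatedSp Z) : IsQuasiSeparatedSp P := by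
  change RepWith @QuasiCompact (Limits.diag P)
  rw [CategoryTheory.H5_diag_eq_diagonal_comp j]
  refine (RepWith @QuasiCompact).comp_mem _ _ hj ?_
  exact MorphismProperty.of_isPullback (H5_isPullback_diag (IsPullback.of_hasPullback j j)) hZ

end AlgSp
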