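import Groth.Agent.Lib.helper5.AlgSpPoints
import Groth.Agent.Lib.helper5.AlgSpProd
import Groth.Prelude.Def_AlgSpDec

/-! Decent spaces and decent morphisms: formal permanence properties. -/

universe u

open CategoryTheory Limits AlgebraicGeometry Opposite

namespace AlgSp

variable {S : Scheme.{u}}

theorem H5_fieldPt_map_props {W X : Sp S} (b : W ⟶ X) [Mono b] (hb : RepWith @QuasiCompact b)
    (p' : FieldPt W) (hm : Mono p'.toHom) (hc : RepWith @QuasiCompact p'.toHom) :
    Mono (p'.map b).toHom ∧ RepWith @QuasiCompact (p'.map b).toHom := by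
  rw [FieldPt.toHom_map]
  exact ⟨@mono_comp _ _ _ _ _ _ hm _ inferInstance, (RepWith @QuasiCompact).comp_mem _ _ hc hb⟩

theorem H5_exists_point_over {Y : Sp S} (q : FieldPt Y) :
    ∃ z : Points ((yon S).obj q.pt), Points.map q.toHom z = Points.mk q := by
  refine ⟨Points.ofScheme q.pt (IsLocalRing.closedPoint q.K), ?_⟩
  rw [← Points.ofPt_eq_map_ofScheme, Points.ofPt_toHom]

theorem H5_isDecent_of_isDecentMor {X Y : Sp S} (f : X ⟶ Y) (hf : IsDecentMor f)
    (hY : IsDecent Y) : IsDecent X := by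
  intro x
  obtain ⟨q, hq, hqm, hqc⟩ := hY (Points.map f x)
  haveI := hqm
  have sq := IsPullback.of_hasPullback f q.toHom
  have hW : IsDecent (pullback f q.toHom) := hf q.toHom _ _ sq
  obtain ⟨z, hz⟩ := H5_exists_point_over q
  obtain ⟨w, hw, -⟩ := H5_points_pullback_surj sq x z (by rw [hz, hq])
  obtain ⟨p', hp', hm', hc'⟩ := hW w
  have hb : RepWith @QuasiCompact (pullback.fst f q.toHom) :=
    MorphismProperty.of_isPullback sq.flip hqc
  obtain ⟨h1, h2⟩ := H5_fieldPt_map_props (pullback.fst f q.toHom) hb p' hm' hc'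
  refine ⟨p'.map (pullback.fst f q.toHom), ?_, h1, h2⟩
  rw [← Points.map_mk, hp', hw]

theorem H5_quasiCompact_of_finite {X Y : Scheme.{u}} (f : X ⟶ Y) [Finite X] : QuasiCompact f :=
  ⟨fun _ _ _ => (Set.toFinite _).isCompact⟩

theorem H5_isDecent_yon (T : Over S) : IsDecent ((yon S).obj T) := by
  intro x
  rw [← Points.ofScheme_toScheme T x]
  obtain ⟨t, ht⟩ : ∃ t, t = Points.toScheme T x := ⟨_, rfl⟩
  rw [← ht]
  refine ⟨FieldPt.ofPt (𝟙 _) t, rfl, ?_, ?_⟩
  · rw [FieldPt.toHom_ofPt, Category.comp_id]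
    have hφ : Mono (Over.homMk (T.left.fromSpecResidueField t) rfl :
        Over.mk (T.left.fromSpecResidueField t ≫ T.hom) ⟶ T) := by
      apply (Over.forget S).mono_of_mono_map
      change Mono (T.left.fromSpecResidueField t)
      infer_instance
    exact @Functor.map_mono _ _ _ _ (yon S) _ _ _ _ hφ
  · rw [FieldPt.toHom_ofPt, Category.comp_id, repWith_yon_map_iff]
    change QuasiCompact (T.left.fromSpecResidueField t)
    haveI : Finite ↥(Spec (T.left.residueField t)) := by
      change Finite (PrimeSpectrum (T.left.residueField t))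
      infer_instance
    exact H5_quasiCompact_of_finite _

theorem H5_isDecentMor_of_representable {X Y : Sp S} (f : X ⟶ Y) (hf : Representable f) :
    IsDecentMor f := by
  intro T F' g fst snd sq
  have sq' := hf.isPullback g
  exact (H5_isDecent_yon _).of_iso (sq'.isoIsPullback _ _ sq)

theorem H5_isDecentMor_baseChange {X Y Y' X' : Sp S} {f : X ⟶ Y} {h : Y' ⟶ Y} {fst : X' ⟶ X}
    {snd : X' ⟶ Y'} (sq : IsPullback fst snd f h) (hf : IsDecentMor f) : IsDecentMor snd := by
  intro T F' g a b sq'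
  exact hf (g ≫ h) (a ≫ fst) b (sq'.paste_horiz sq)

theorem H5_isDecentMor_of_isDecent_source {X Y : Sp S} (hY : IsAlgSpace Y) (f : X ⟶ Y)
    (hX : IsDecent X) : IsDecentMor f := by
  intro T F' g fst snd sq
  have hg : Representable g := hY.representable_from_yon g
  have hfst : Representable fst := MorphismProperty.of_isPullback sq.flip hg
  exact H5_isDecent_of_isDecentMor fst (H5_isDecentMor_of_representable fst hfst) hX

theorem H5_isDecentMor_comp {X Y Z : Sp S} (f : X ⟶ Y) (g : Y ⟶ Z) (hf : IsDecentMor f)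
    (hg : IsDecentMor g) : IsDecentMor (f ≫ g) := by
  intro T F' t fst snd sq
  have sqY := IsPullback.of_hasPullback g t
  have hYT : IsDecent (pullback g t) := hg t _ _ sqY
  have hc : (fst ≫ f) ≫ g = snd ≫ t := by rw [Category.assoc]; exact sq.w
  have top : IsPullback fst (pullback.lift (fst ≫ f) snd hc) f (pullback.fst g t) := by
    refine IsPullback.of_bot ?_ (pullback.lift_fst _ _ _).symm sqY
    rw [pullback.lift_snd]
    exact sq
  exact H5_isDecent_of_isDecentMor _ (H5_isDecentMor_baseChange top hf) hYT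

theorem H5_isDecent_of_isPullback {X Y Z P : Sp S} (hY : IsAlgSpace Y) (f : X ⟶ Y) (g : Z ⟶ Y)
    (fst : P ⟶ X) (snd : P ⟶ Z) (h : IsPullback fst snd f g) (hX : IsDecent X)
    (hZ : IsDecent Z) : IsDecent P :=
  H5_isDecent_of_isDecentMor fst
    (H5_isDecentMor_baseChange h.flip (H5_isDecentMor_of_isDecent_source hY g hZ)) hX

theorem H5_mono_point_of_representable {X Y : Sp S} (f : X ⟶ Y) (hf : Representable f)
    (hY : ∀ y : Points Y, ∃ q : FieldPt Y, Points.mk q = y ∧ Mono q.toHom) (x : Points X) :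
    ∃ p : FieldPt X, Points.mk p = x ∧ Mono p.toHom := by
  obtain ⟨q, hq, hqm⟩ := hY (Points.map f x)
  haveI := hqm
  have sq := hf.isPullback q.toHom
  obtain ⟨z, hz⟩ := H5_exists_point_over q
  obtain ⟨w, hw, -⟩ := H5_points_pullback_surj sq x z (by rw [hz, hq])
  obtain ⟨p', hp', hm', -⟩ := H5_isDecent_yon _ w
  have hfst : Mono (hf.fst q.toHom) := H5_mono_of_isPullback sq.flip
  refine ⟨p'.map (hf.fst q.toHom), ?_, ?_⟩
  · rw [← Points.map_mk, hp', hw]
  · rw [FieldPt.toHom_map]
    exact @mono_comp _ _ _ _ _ _ hm' _ hfst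

end AlgSp
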