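import Groth.Agent.Lib.helper5.AlgSpUniv
import Mathlib.AlgebraicGeometry.Morphisms.FlatMono

/-! helper5 library: universally injective morphisms of algebraic spaces and field-valued points. -/

set_option autoImplicit false

universe u

open CategoryTheory CategoryTheory.Limits AlgebraicGeometry Opposite

namespace CategoryTheory

theorem H5_eq_of_comp_diag {C : Type*} [Category C] [HasBinaryProducts C] {T X E : C}
    (a a' : T ⟶ X) (u : E ⟶ X) (v : E ⟶ T) (h : u ≫ Limits.diag X = v ≫ prod.lift a a') :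
    u = v ≫ a ∧ u = v ≫ a' := by
  have h1 := congrArg (· ≫ prod.fst) h
  have h2 := congrArg (· ≫ prod.snd) h
  simp only [Category.assoc, prod.lift_fst, prod.lift_snd, Category.comp_id] at h1 h2
  exact ⟨h1, h2⟩

theorem H5_comp_diag_eq {C : Type*} [Category C] [HasBinaryProducts C] {T' T X : C}
    (k : T' ⟶ T) (a a' : T ⟶ X) (h : k ≫ a = k ≫ a') :
    (k ≫ a) ≫ Limits.diag X = k ≫ prod.lift a a' := by
  apply Limits.prod.hom_ext
  · rw [Category.assoc, prod.lift_fst, Category.comp_id, Category.assoc, prod.lift_fst]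
  · rw [Category.assoc, prod.lift_snd, Category.comp_id, Category.assoc, prod.lift_snd, h]

end CategoryTheory

namespace AlgSp

variable {S : Scheme.{u}} {F G : Sp S}

theorem H5_isIso_of_mono_of_nonempty {E : Scheme.{u}} {K : Type u} [Field K]
    (e : E ⟶ Spec (.of K)) [Mono e] [Nonempty E] : IsIso e := by
  haveI : Flat e := inferInstance
  haveI : Surjective e := ⟨fun y => by
    obtain ⟨x⟩ := ‹Nonempty E›
    exact ⟨x, Subsingleton.elim _ _⟩⟩
  haveI : Subsingleton E := e.injective.subsingleton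
  haveI : CompactSpace E := inferInstance
  haveI : QuasiCompact e := inferInstance
  exact Flat.isIso_of_surjective_of_mono e

/-- The field-valued point attached to a morphism from the spectrum of a field. -/
noncomputable def H5_ptOfHom {K : Type u} [Field K] {str : Spec (.of K) ⟶ S}
    (c : (yon S).obj (Over.mk str) ⟶ F) : FieldPt F := ⟨K, str, (J S).uliftYonedaEquiv c⟩

theorem H5_fieldPtHom_ptOfHom {K : Type u} [Field K] {str : Spec (.of K) ⟶ S}
    (c : (yon S).obj (Over.mk str) ⟶ F) : H5_fieldPtHom (H5_ptOfHom c) = c :=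
  Equiv.symm_apply_apply _ _

theorem H5_ofPt_eq_mk_ptOfHom {K : Type u} [Field K] {str : Spec (.of K) ⟶ S}
    (c : (yon S).obj (Over.mk str) ⟶ F) :
    Points.ofPt c (IsLocalRing.closedPoint K) = Points.mk (H5_ptOfHom c) := by
  have := H5_mk_eq_ofPt (H5_ptOfHom c)
  rw [this]
  congr 1
  exact (H5_fieldPtHom_ptOfHom c).symm

theorem H5_fieldPtHom_map (f : F ⟶ G) (p : FieldPt F) :
    H5_fieldPtHom (p.map f) = H5_fieldPtHom p ≫ f :=
  (GrothendieckTopology.uliftYonedaEquiv_symm_naturality_right (J S) _ f p.val).symm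

theorem H5_rel_iff (p q : FieldPt F) :
    FieldPt.Rel p q ↔ ∃ (Ω : Type u) (_ : Field Ω) (w : Spec (.of Ω) ⟶ S) (a : Over.mk w ⟶ p.pt)
      (b : Over.mk w ⟶ q.pt), (yon S).map a ≫ H5_fieldPtHom p = (yon S).map b ≫ H5_fieldPtHom q := by
  unfold FieldPt.Rel
  refine exists_congr fun Ω => exists_congr fun _ => exists_congr fun w => exists_congr fun a =>
    exists_congr fun b => ?_
  unfold H5_fieldPtHom
  rw [GrothendieckTopology.uliftYonedaEquiv_symm_naturality_left,
    GrothendieckTopology.uliftYonedaEquiv_symm_naturality_left]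
  exact (Equiv.apply_eq_iff_eq _).symm

theorem H5_mk_ptOfHom_eq_iff {K K' : Type u} [Field K] [Field K'] {str : Spec (.of K) ⟶ S}
    {str' : Spec (.of K') ⟶ S} (c : (yon S).obj (Over.mk str) ⟶ F)
    (c' : (yon S).obj (Over.mk str') ⟶ F) :
    Points.mk (H5_ptOfHom c) = Points.mk (H5_ptOfHom c') ↔
      ∃ (Ω : Type u) (_ : Field Ω) (w : Spec (.of Ω) ⟶ S) (a : Over.mk w ⟶ Over.mk str)
        (b : Over.mk w ⟶ Over.mk str'), (yon S).map a ≫ c = (yon S).map b ≫ c' := by
  rw [Points.mk_eq_mk_iff, H5_rel_iff]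
  constructor
  · rintro ⟨Ω, _, w, a, b, h⟩
    rw [H5_fieldPtHom_ptOfHom, H5_fieldPtHom_ptOfHom] at h
    exact ⟨Ω, inferInstance, w, a, b, h⟩
  · rintro ⟨Ω, _, w, a, b, h⟩
    refine ⟨Ω, inferInstance, w, a, b, ?_⟩
    rw [H5_fieldPtHom_ptOfHom, H5_fieldPtHom_ptOfHom]
    exact h

theorem H5_mk_map_eq_mk_ptOfHom_iff {K : Type u} [Field K] {str : Spec (.of K) ⟶ S}
    (f : F ⟶ G) (q : FieldPt F) (c : (yon S).obj (Over.mk str) ⟶ G) :
    Points.mk (q.map f) = Points.mk (H5_ptOfHom c) ↔
      ∃ (Ω : Type u) (_ : Field Ω) (w : Spec (.of Ω) ⟶ S) (b : Over.mk w ⟶ q.pt)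
        (a : Over.mk w ⟶ Over.mk str), (yon S).map b ≫ H5_fieldPtHom q ≫ f = (yon S).map a ≫ c := by
  rw [Points.mk_eq_mk_iff, H5_rel_iff]
  constructor
  · rintro ⟨Ω, _, w, b, a, h⟩
    rw [H5_fieldPtHom_map, H5_fieldPtHom_ptOfHom] at h
    exact ⟨Ω, inferInstance, w, b, a, h⟩
  · rintro ⟨Ω, _, w, b, a, h⟩
    refine ⟨Ω, inferInstance, w, b, a, ?_⟩
    rw [H5_fieldPtHom_map, H5_fieldPtHom_ptOfHom]
    exact h

/-- Injectivity on field-valued points (as morphisms). -/
def H5_InjOnFieldPts (f : F ⟶ G) : Prop :=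
  ∀ (K : Type u) [Field K] (str : Spec (CommRingCat.of K) ⟶ S),
    Function.Injective (fun a : (yon S).obj (Over.mk str) ⟶ F => a ≫ f)

theorem H5_injOnFieldPts_baseChange {F G Z Z' : Sp S} {fst : Z' ⟶ F} {snd : Z' ⟶ Z} {f : F ⟶ G}
    {g : Z ⟶ G} (sq : IsPullback fst snd f g) (hf : H5_InjOnFieldPts f) : H5_InjOnFieldPts snd := by
  intro K _ str a a' haa
  have haa' : a ≫ snd = a' ≫ snd := haa
  refine sq.hom_ext ?_ haa'
  apply hf K str
  change (a ≫ fst) ≫ f = (a' ≫ fst) ≫ f
  rw [Category.assoc, Category.assoc, sq.w, ← Category.assoc, ← Category.assoc, haa']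

theorem H5_injective_of_injOnFieldPts (f : F ⟶ G) (hf : H5_InjOnFieldPts f) :
    Function.Injective (Points.map f) := by
  intro x x'
  induction x using Points.ind with
  | h p =>
  induction x' using Points.ind with
  | h p' =>
  intro h
  rw [Points.map_mk, Points.map_mk, Points.mk_eq_mk_iff, H5_rel_iff] at h
  obtain ⟨Ω, _, w, a, b, hab⟩ := h
  rw [H5_fieldPtHom_map, H5_fieldPtHom_map] at hab
  rw [Points.mk_eq_mk_iff, H5_rel_iff]
  exact ⟨Ω, inferInstance, w, a, b,
    hf Ω w ((Category.assoc _ _ _).trans (hab.trans (Category.assoc _ _ _).symm))⟩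

theorem H5_isUnivInjectiveMor_of_injOnFieldPts (f : F ⟶ G) (hf : H5_InjOnFieldPts f) :
    IsUnivInjectiveMor f := by
  intro Z Z' _ g fst snd sq
  exact H5_injective_of_injOnFieldPts snd (H5_injOnFieldPts_baseChange sq hf)

/-- Two field-valued points of a sheaf with representable diagonal that agree after a field
extension are equal. -/
theorem H5_hom_ext_of_fieldExt {X : Sp S} (hX : Representable (Limits.diag X)) {K : Type u}
    [Field K] {str : Spec (.of K) ⟶ S} (a a' : (yon S).obj (Over.mk str) ⟶ X) {Ω : Type u}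
    [Field Ω] {w : Spec (.of Ω) ⟶ S} (α : Over.mk w ⟶ Over.mk str)
    (h : (yon S).map α ≫ a = (yon S).map α ≫ a') : a = a' := by
  have sq := hX.isPullback (prod.lift a a')
  haveI : Mono (Limits.diag X) := mono_of_mono_fac (prod.lift_fst (𝟙 X) (𝟙 X))
  haveI hm : Mono ((yon S).map (hX.snd (prod.lift a a'))) :=
    MorphismProperty.of_isPullback (P := MorphismProperty.monomorphisms (Sp S)) sq
      (MorphismProperty.monomorphisms.infer_property _)
  haveI : Mono (hX.snd (prod.lift a a')) := (yon S).mono_of_mono_map hm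
  haveI : Mono (hX.snd (prod.lift a a')).left := inferInstance
  have hw : ((yon S).map α ≫ a) ≫ Limits.diag X = (yon S).map α ≫ prod.lift a a' :=
    CategoryTheory.H5_comp_diag_eq _ a a' h
  obtain ⟨σ, hσ⟩ := (yon S).map_surjective (sq.lift _ _ hw)
  haveI : Nonempty (hX.pullback (prod.lift a a')).left :=
    ⟨σ.left (IsLocalRing.closedPoint Ω)⟩
  haveI h1 : IsIso (hX.snd (prod.lift a a')).left :=
    H5_isIso_of_mono_of_nonempty (K := K) (hX.snd (prod.lift a a')).left
  haveI h1' : IsIso ((Over.forget S).map (hX.snd (prod.lift a a'))) := h1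
  haveI h2 : IsIso (hX.snd (prod.lift a a')) :=
    isIso_of_reflects_iso _ (Over.forget S)
  obtain ⟨e1, e2⟩ := CategoryTheory.H5_eq_of_comp_diag a a' _ _ sq.w
  exact (cancel_epi ((yon S).map (hX.snd (prod.lift a a')))).1 (e1.symm.trans e2)

/-- Universally injective morphisms out of a sheaf with representable diagonal are injective on
field-valued points. -/
theorem H5_injOnFieldPts_of_isUnivInjectiveMor {X Y : Sp S} (f : X ⟶ Y)
    (hX : Representable (Limits.diag X)) (hf : IsUnivInjectiveMor f) : H5_InjOnFieldPts f := by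
  intro K _ str a a' haa
  have haa' : a ≫ f = a' ≫ f := haa
  have sq := IsPullback.of_hasPullback f (a ≫ f)
  have hinj : Function.Injective (Points.map (pullback.snd f (a ≫ f))) :=
    hf (IsAlgSpace.yon_obj (Over.mk str)) (a ≫ f) _ _ sq
  have hs : pullback.lift a (𝟙 _) (by rw [Category.id_comp]) ≫ pullback.snd f (a ≫ f) = 𝟙 _ :=
    pullback.lift_snd _ _ _
  have hs' : pullback.lift a' (𝟙 _) (by rw [Category.id_comp, haa']) ≫ pullback.snd f (a ≫ f) =
      𝟙 _ := pullback.lift_snd _ _ _
  have h1 : Points.ofPt (pullback.lift a (𝟙 _) (by rw [Category.id_comp]) :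
        (yon S).obj (Over.mk str) ⟶ pullback f (a ≫ f)) (IsLocalRing.closedPoint K) =
      Points.ofPt (pullback.lift a' (𝟙 _) (by rw [Category.id_comp, haa']) :
        (yon S).obj (Over.mk str) ⟶ pullback f (a ≫ f)) (IsLocalRing.closedPoint K) := by
    apply hinj
    rw [Points.map_ofPt, Points.map_ofPt, hs, hs']
  rw [H5_ofPt_eq_mk_ptOfHom, H5_ofPt_eq_mk_ptOfHom, H5_mk_ptOfHom_eq_iff] at h1
  obtain ⟨Ω, _, w, α, β, hαβ⟩ := h1
  have e1 : (yon S).map α = (yon S).map β := by
    have := congrArg (· ≫ pullback.snd f (a ≫ f)) hαβ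
    beta_reduce at this
    rw [Category.assoc, Category.assoc, hs, hs'] at this
    exact ((Category.comp_id _).symm.trans this).trans (Category.comp_id _)
  have e2 : (yon S).map α ≫ a = (yon S).map β ≫ a' := by
    have := congrArg (· ≫ pullback.fst f (a ≫ f)) hαβ
    beta_reduce at this
    rw [Category.assoc, Category.assoc, pullback.lift_fst, pullback.lift_fst] at this
    exact this
  rw [← e1] at e2
  exact H5_hom_ext_of_fieldExt hX a a' α e2

theorem H5_surjective_diagonal_of_injOnFieldPts {X Y : Sp S} (f : X ⟶ Y)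
    (hf : H5_InjOnFieldPts f) : IsSurjectiveMor (pullback.diagonal f) := by
  intro z
  induction z using Points.ind with
  | h p =>
  have hc : H5_fieldPtHom p ≫ pullback.fst f f = H5_fieldPtHom p ≫ pullback.snd f f := by
    apply hf p.K p.str
    change (H5_fieldPtHom p ≫ pullback.fst f f) ≫ f = (H5_fieldPtHom p ≫ pullback.snd f f) ≫ f
    rw [Category.assoc, Category.assoc, pullback.condition]
  have e : H5_fieldPtHom p = (H5_fieldPtHom p ≫ pullback.fst f f) ≫ pullback.diagonal f := by
    apply pullback.hom_ext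
    · rw [Category.assoc, pullback.diagonal_fst, Category.comp_id]
    · rw [Category.assoc, pullback.diagonal_snd, Category.comp_id, hc]
  refine ⟨Points.ofPt (H5_fieldPtHom p ≫ pullback.fst f f) (IsLocalRing.closedPoint p.K), ?_⟩
  rw [Points.map_ofPt, ← e, ← H5_mk_eq_ofPt]

theorem H5_injOnFieldPts_of_surjective_diagonal {X Y : Sp S} (f : X ⟶ Y)
    (hX : Representable (Limits.diag X)) (hf : IsSurjectiveMor (pullback.diagonal f)) :
    H5_InjOnFieldPts f := by
  intro K _ str a a' haa
  have haa' : a ≫ f = a' ≫ f := haa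
  obtain ⟨x, hx⟩ := hf (Points.ofPt (pullback.lift a a' haa') (IsLocalRing.closedPoint K))
  induction x using Points.ind with
  | h q =>
  rw [Points.map_mk, H5_ofPt_eq_mk_ptOfHom, H5_mk_map_eq_mk_ptOfHom_iff] at hx
  obtain ⟨Ω, _, w, β, α, hβα⟩ := hx
  have e1 : (yon S).map β ≫ H5_fieldPtHom q = (yon S).map α ≫ a := by
    have := congrArg (· ≫ pullback.fst f f) hβα
    beta_reduce at this
    rw [Category.assoc, Category.assoc, Category.assoc, pullback.diagonal_fst, Category.comp_id,
      pullback.lift_fst] at this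
    exact this
  have e2 : (yon S).map β ≫ H5_fieldPtHom q = (yon S).map α ≫ a' := by
    have := congrArg (· ≫ pullback.snd f f) hβα
    beta_reduce at this
    rw [Category.assoc, Category.assoc, Category.assoc, pullback.diagonal_snd, Category.comp_id,
      pullback.lift_snd] at this
    exact this
  exact H5_hom_ext_of_fieldExt hX a a' α (e1.symm.trans e2)

end AlgSp
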