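import Groth.Agent.Lib.helper5.AlgSpDecent
import Groth.Agent.Lib.helper5.AlgSpInj

/-! Field-valued points: factorisation through a monomorphic point. -/

universe u

open CategoryTheory Limits AlgebraicGeometry Opposite

namespace AlgSp

variable {S : Scheme.{u}}

theorem H5_existsUnique_factor_of_mono {X : Sp S} (hX : IsAlgSpace X) (p q : FieldPt X)
    (h : Points.mk p = Points.mk q) (hm : Mono p.toHom) :
    ∃! c : q.pt ⟶ p.pt, (yon S).map c ≫ p.toHom = q.toHom := by
  rw [Points.mk_eq_mk_iff, H5_rel_iff] at h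
  obtain ⟨Ω, _, w, a, b, hab⟩ := h
  have hab' : (yon S).map a ≫ p.toHom = (yon S).map b ≫ q.toHom := hab
  have hrep : Representable p.toHom := hX.representable_from_yon _
  obtain ⟨E, sn, ft, sq⟩ : ∃ (E : Over S) (sn : E ⟶ q.pt)
      (ft : (yon S).obj E ⟶ (yon S).obj p.pt), IsPullback ft ((yon S).map sn) p.toHom q.toHom :=
    ⟨_, _, _, hrep.isPullback q.toHom⟩
  obtain ⟨ft', rfl⟩ := (yon S).map_surjective ft
  obtain ⟨e, he⟩ := (yon S).map_surjective (sq.lift ((yon S).map a) ((yon S).map b) hab')
  have h1 : Mono ((yon S).map sn) := @H5_mono_of_isPullback _ _ _ _ _ _ _ _ _ sq hm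
  have hsn : Mono sn := (yon S).mono_of_mono_map h1
  have hsnl : Mono sn.left := @Over.mono_left_of_mono _ _ _ _ _ sn hsn
  have hne : Nonempty E.left := ⟨e.left (IsLocalRing.closedPoint Ω)⟩
  have hiso : IsIso sn.left := @H5_isIso_of_mono_of_nonempty E.left q.K _ sn.left hsnl hne
  haveI : IsIso ((Over.forget S).map sn) := hiso
  haveI : IsIso sn := isIso_of_reflects_iso _ (Over.forget S)
  refine ⟨inv sn ≫ ft', ?_, ?_⟩
  · change (yon S).map (inv sn ≫ ft') ≫ p.toHom = q.toHom
    rw [Functor.map_comp, Category.assoc, sq.w, ← Category.assoc, ← Functor.map_comp,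
      IsIso.inv_hom_id, CategoryTheory.Functor.map_id, Category.id_comp]
  · intro c' hc'
    apply (yon S).map_injective
    apply hm.right_cancellation
    rw [hc', Functor.map_comp, Category.assoc, sq.w, ← Category.assoc, ← Functor.map_comp,
      IsIso.inv_hom_id, CategoryTheory.Functor.map_id, Category.id_comp]

theorem H5_repWith_quasiCompact_of_same_point {X : Sp S} (hX : IsAlgSpace X) (p q : FieldPt X)
    (hm : Mono p.toHom) (hp : RepWith @QuasiCompact p.toHom)
    (h : Points.mk q = Points.mk p) : RepWith @QuasiCompact q.toHom := by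
  obtain ⟨c, hc, -⟩ := H5_existsUnique_factor_of_mono hX p q h.symm hm
  have hc' : (yon S).map c ≫ p.toHom = q.toHom := hc
  rw [← hc']
  refine (RepWith @QuasiCompact).comp_mem _ _ ?_ hp
  rw [repWith_yon_map_iff]
  have hfin : Finite ↥(Spec (CommRingCat.of q.K)) := by
    change Finite (PrimeSpectrum q.K)
    infer_instance
  exact @H5_quasiCompact_of_finite _ _ c.left hfin

end AlgSp
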