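import Groth.Agent.Lib.helper5.AlgSpFib
import Groth.Prelude.Def_AlgSp3
import Groth.Prelude.Def_AlgSp4

/-! Diagonal properties of representable morphisms. -/

universe u

open CategoryTheory CategoryTheory.Limits AlgebraicGeometry Opposite

namespace AlgSp

variable {S : Scheme.{u}}

/-- For a representable morphism, the diagonal has `P` in the representable sense iff all the
representing morphisms of schemes have diagonal in `P`. -/
theorem H5_repWith_diagonal_iff (P : MorphismProperty Scheme.{u}) [P.IsStableUnderBaseChange]
    [P.IsMultiplicative] {F G : Sp S} (f : F ⟶ G) (hf : Representable f) :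
    RepWith P (pullback.diagonal f) ↔ RepWith P.diagonal f := by
  constructor
  · intro h
    refine ⟨hf, ?_⟩
    intro U V g fst v sq
    have h' : (RepWith (S := S) P).diagonal f := h
    have h2 : (RepWith (S := S) P).diagonal ((yon S).map v) :=
      MorphismProperty.of_isPullback sq h'
    exact (repWith_diagonal_yon_map_iff P v).1 h2
  · intro h
    refine MorphismProperty.relative.of_exists ?_
    intro T g
    obtain ⟨σ₁, σ₂, h1, h2, fst, sq⟩ := H5_relRep_diagonal_explicit (yon S) f hf g
    refine ⟨_, fst, _, sq, ?_⟩
    have hv : P.diagonal (hf.snd ((g ≫ pullback.fst f f) ≫ f)).left :=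
      h.2 _ _ _ (hf.isPullback _)
    haveI : P.HasOfPostcompProperty P.diagonal :=
      MorphismProperty.hasOfPostcompProperty_iff_le_diagonal.2 le_rfl
    have hσ₂ : P σ₂.left := by
      refine P.of_postcomp σ₂.left (hf.snd _).left hv ?_
      rw [← Over.comp_left, h2]
      exact P.id_mem _
    exact P.of_isPullback ((IsPullback.of_hasPullback σ₁ σ₂).flip.map (Over.forget S)) hσ₂

end AlgSp
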