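import Groth.Agent.Lib.helper5.AlgSpDiag2
import Groth.Agent.Lib.helper5.FppfLocalInst

set_option autoImplicit false
universe u
open CategoryTheory CategoryTheory.Limits AlgebraicGeometry

namespace AlgSp

variable {S : Scheme.{u}}

set_option backward.defeqAttrib.useBackward true in
set_option backward.isDefEq.respectTransparency false in
theorem H5_repWith_prodLift_iff' (P : MorphismProperty Scheme.{u}) [P.IsStableUnderBaseChange]
    {U V W : Over S} (f₁ : W ⟶ U) (f₂ : W ⟶ V) :
    RepWith P (prod.lift ((yon S).map f₁) ((yon S).map f₂)) ↔ P (prod.lift f₁ f₂).left := by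
  have key : prod.lift ((yon S).map f₁) ((yon S).map f₂) =
      (yon S).map (prod.lift f₁ f₂) ≫ prodComparison (yon S) U V := by
    apply Limits.prod.hom_ext
    · simp only [Category.assoc, prod.lift_fst, prodComparison_fst, ← Functor.map_comp]
    · simp only [Category.assoc, prod.lift_snd, prodComparison_snd, ← Functor.map_comp]
  rw [key, MorphismProperty.cancel_right_of_respectsIso (RepWith P)]
  exact repWith_yon_map_iff P _

/-- If the diagonal of `X` has `P`, then for every fibre product `W = U ×_X V` of schemes over `X`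
the morphism `W ⟶ U ×_S V` has `P`. -/
theorem H5_prodLift_left_of_diag (P : MorphismProperty Scheme.{u}) [P.IsStableUnderBaseChange]
    {X : Sp S} (hd : RepWith P (Limits.diag X)) {U V W : Over S}
    (a : (yon S).obj U ⟶ X) (b : (yon S).obj V ⟶ X) (f₁ : W ⟶ U) (f₂ : W ⟶ V)
    (sq : IsPullback ((yon S).map f₁) ((yon S).map f₂) a b) : P (prod.lift f₁ f₂).left :=
  (H5_repWith_prodLift_iff' P f₁ f₂).1
    (MorphismProperty.of_isPullback (H5_isPullback_diag sq) hd)

theorem H5_prod_snd_left_of (P : MorphismProperty Scheme.{u}) [P.IsStableUnderBaseChange]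
    (U V : Over S) (h : P U.hom) : P (prod.snd : U ⨯ V ⟶ V).left := by
  haveI : P.RespectsIso := MorphismProperty.IsStableUnderBaseChange.respectsIso
  rw [← Over.prodLeftIsoPullback_hom_snd, MorphismProperty.cancel_left_of_respectsIso P]
  exact P.pullback_snd _ _ h

theorem H5_prod_fst_left_of (P : MorphismProperty Scheme.{u}) [P.IsStableUnderBaseChange]
    (U V : Over S) (h : P V.hom) : P (prod.fst : U ⨯ V ⟶ U).left := by
  haveI : P.RespectsIso := MorphismProperty.IsStableUnderBaseChange.respectsIso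
  rw [← Over.prodLeftIsoPullback_hom_fst, MorphismProperty.cancel_left_of_respectsIso P]
  exact P.pullback_fst _ _ h

end AlgSp

namespace CategoryTheory

set_option backward.defeqAttrib.useBackward true in
set_option backward.isDefEq.respectTransparency false in
/-- The magic square: `Y ×_{X × X} X ⟶ Y ×_X Y` is a base change of the diagonal of `Y`. -/
theorem H5_isPullback_magic {C : Type*} [Category C] [HasBinaryProducts C] {X Y E P : C}
    (g : Y ⟶ X ⨯ X) {e₁ : E ⟶ X} {e₂ : E ⟶ Y} (sqE : IsPullback e₁ e₂ (Limits.diag X) g)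
    {p₁ p₂ : P ⟶ Y} (sqP : IsPullback p₁ p₂ (g ≫ prod.fst) (g ≫ prod.snd))
    (δ : E ⟶ P) (h₁ : δ ≫ p₁ = e₂) (h₂ : δ ≫ p₂ = e₂) :
    IsPullback δ e₂ (prod.lift p₁ p₂) (Limits.diag Y) := by
  have he₁ : e₁ = e₂ ≫ g ≫ prod.fst := by
    have := congrArg (· ≫ (prod.fst : X ⨯ X ⟶ X)) sqE.w
    simpa [Limits.diag] using this
  refine IsPullback.mk' ?_ ?_ ?_
  · apply Limits.prod.hom_ext
    · simp [Limits.diag, h₁]
    · simp [Limits.diag, h₂]
  · intro T φ φ' _ h
    apply sqE.hom_ext
    · rw [he₁, ← Category.assoc, h, Category.assoc]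
    · exact h
  · intro T α β hαβ
    have ha : α ≫ p₁ = β := by
      have := congrArg (· ≫ (prod.fst : Y ⨯ Y ⟶ Y)) hαβ
      simpa [Limits.diag] using this
    have hb : α ≫ p₂ = β := by
      have := congrArg (· ≫ (prod.snd : Y ⨯ Y ⟶ Y)) hαβ
      simpa [Limits.diag] using this
    have hβ : β ≫ g ≫ prod.fst = β ≫ g ≫ prod.snd := by
      calc β ≫ g ≫ prod.fst = α ≫ p₁ ≫ g ≫ prod.fst := by rw [← ha, Category.assoc]
        _ = α ≫ p₂ ≫ g ≫ prod.snd := by rw [sqP.w]
        _ = β ≫ g ≫ prod.snd := by rw [← hb, Category.assoc]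
    have hw : (β ≫ g ≫ prod.fst) ≫ Limits.diag X = β ≫ g := by
      apply Limits.prod.hom_ext
      · simp [Limits.diag]
      · simp only [Limits.diag, Category.assoc, prod.lift_snd, Category.comp_id]
        exact hβ
    refine ⟨sqE.lift _ _ hw, ?_, sqE.lift_snd _ _ _⟩
    apply sqP.hom_ext
    · rw [Category.assoc, h₁, sqE.lift_snd, ha]
    · rw [Category.assoc, h₂, sqE.lift_snd, hb]

end CategoryTheory

namespace AlgSp

variable {S : Scheme.{u}}

/-- To check `RepWith P f` for a Zariski-local `P` it suffices to test affine schemes. -/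
theorem H5_repWith_of_affine_base (P : MorphismProperty Scheme.{u}) [IsZariskiLocalAtTarget P]
    {F G : Sp S} (f : F ⟶ G) (hrep : Representable f)
    (h : ∀ ⦃T W : Over S⦄ (g : (yon S).obj T ⟶ G) (e₁ : (yon S).obj W ⟶ F) (e₂ : W ⟶ T),
      IsAffine T.left → IsPullback e₁ ((yon S).map e₂) f g → P e₂.left) : RepWith P f := by
  refine ⟨hrep, ?_⟩
  intro T W g e₁ e₂ sqE
  show P e₂.left
  refine IsZariskiLocalAtTarget.of_openCover (P := P) T.left.affineCover ?_
  intro i
  let ι : Over.mk (T.left.affineCover.f i ≫ T.hom) ⟶ T := Over.homMk (T.left.affineCover.f i) rfl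
  have sq' := IsPullback.of_hasPullback e₂ ι
  have big := H5_paste_yon sqE sq'
  have hP : P (pullback.snd e₂ ι).left :=
    h _ _ _ (inferInstance : IsAffine (T.left.affineCover.X i)) big
  have sq'' : IsPullback (pullback.fst e₂ ι).left (pullback.snd e₂ ι).left e₂.left
      (T.left.affineCover.f i) := sq'.map (Over.forget S)
  have e := sq''.isoPullback_hom_snd
  rw [← e] at hP
  exact (P.cancel_left_of_respectsIso _ _).1 hP

set_option backward.defeqAttrib.useBackward true in
set_option backward.isDefEq.respectTransparency false in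
/-- For affine `T`, the fibre product `T ×_{X × X} X` is a closed subscheme of `T ×_X T`. -/
theorem H5_magic_closedImmersion {X : Sp S} (hX : IsAlgSpace X) {T W : Over S} [IsAffine T.left]
    (g : (yon S).obj T ⟶ X ⨯ X) (e₁ : (yon S).obj W ⟶ X) (e₂ : W ⟶ T)
    (sqE : IsPullback e₁ ((yon S).map e₂) (Limits.diag X) g) :
    ∃ (P : Over S) (p₁ p₂ : P ⟶ T) (δ : W ⟶ P),
      IsPullback ((yon S).map p₁) ((yon S).map p₂) (g ≫ prod.fst) (g ≫ prod.snd) ∧
      δ ≫ p₁ = e₂ ∧ δ ≫ p₂ = e₂ ∧ IsClosedImmersion δ.left := by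
  obtain ⟨P, p₂, p₁', sqP⟩ := hX.representable_from_yon (g ≫ prod.fst) (g ≫ prod.snd)
  obtain ⟨p₁, rfl⟩ := (yon S).map_surjective p₁'
  have hw : (yon S).map e₂ ≫ g ≫ prod.fst = (yon S).map e₂ ≫ g ≫ prod.snd := by
    have h1 := congrArg (· ≫ (prod.fst : X ⨯ X ⟶ X)) sqE.w
    have h2 := congrArg (· ≫ (prod.snd : X ⨯ X ⟶ X)) sqE.w
    simp only [Limits.diag, Category.assoc, prod.lift_fst, prod.lift_snd, Category.comp_id]
      at h1 h2
    rw [← h1, ← h2]
  obtain ⟨δ, hδ⟩ := (yon S).map_surjective (sqP.lift _ _ hw)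
  have h₁ : (yon S).map δ ≫ (yon S).map p₁ = (yon S).map e₂ := by rw [hδ, sqP.lift_fst]
  have h₂ : (yon S).map δ ≫ (yon S).map p₂ = (yon S).map e₂ := by rw [hδ, sqP.lift_snd]
  have magic := H5_isPullback_magic g sqE sqP ((yon S).map δ) h₁ h₂
  haveI : IsSeparated T.hom := inferInstance
  have hcl : RepWith @IsClosedImmersion (Limits.diag ((yon S).obj T)) :=
    (repWith_diag_yon_iff @IsClosedImmersion T).2 inferInstance
  have hδcl : RepWith @IsClosedImmersion ((yon S).map δ) :=
    MorphismProperty.of_isPullback magic.flip hcl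
  refine ⟨P, p₁, p₂, δ, sqP, ?_, ?_, (repWith_yon_map_iff @IsClosedImmersion δ).1 hδcl⟩
  · apply (yon S).map_injective
    rw [Functor.map_comp, h₁]
  · apply (yon S).map_injective
    rw [Functor.map_comp, h₂]

theorem H5_ring_aux {A B C : Type u} [CommRing A] [CommRing B] [CommRing C]
    (φ₁ φ₂ : A →+* B) (ψ : B →+* C) (ε : A →+* C) (h₁ : ψ.comp φ₁ = ε) (h₂ : ψ.comp φ₂ = ε)
    (hψ : Function.Surjective ψ)
    (hprod : Function.Surjective
      (Algebra.TensorProduct.productMap φ₁.toIntAlgHom φ₂.toIntAlgHom)) :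
    Function.Surjective ε := by
  subst h₁
  intro c
  obtain ⟨b, rfl⟩ := hψ c
  obtain ⟨x, rfl⟩ := hprod b
  induction x using TensorProduct.induction_on with
  | zero => exact ⟨0, by simp⟩
  | tmul a a' =>
    refine ⟨a * a', ?_⟩
    have e2 : ψ (φ₂ a') = ψ (φ₁ a') := RingHom.congr_fun h₂ a'
    rw [Algebra.TensorProduct.productMap_apply_tmul, map_mul, map_mul]
    show ψ (φ₁ a) * ψ (φ₁ a') = ψ (φ₁ a) * ψ (φ₂ a')
    rw [e2]
  | add x y hx hy =>
    obtain ⟨a, ha⟩ := hx
    obtain ⟨a', ha'⟩ := hy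
    exact ⟨a + a', by rw [map_add, map_add, map_add, ha, ha']⟩

end AlgSp
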