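import Groth.Agent.Lib.helper5.AlgSpDiag
import Groth.Agent.Lib.helper5.AlgSpDiag2
import Groth.Agent.Lib.helper5.AlgSpAffine
import Groth.Agent.Lib.helper5.FppfLocalInst
import Groth.Agent.Lib.helper5.AlgSpUniv

/-! helper5 library: properties etale local on source and target. -/

set_option autoImplicit false

universe u

open CategoryTheory CategoryTheory.Limits AlgebraicGeometry Opposite

namespace AlgebraicGeometry

set_option backward.isDefEq.respectTransparency.types false

instance H5_fppfLocal_formallyUnramified :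
    MorphismProperty.IsLocalAtTarget (@FormallyUnramified : MorphismProperty Scheme.{u})
      Scheme.fppfPrecoverage :=
  H5_isLocalAtTarget_fppf _

theorem H5_lqf_of_unramified {X Y : Scheme.{u}} (f : X ⟶ Y) [LocallyOfFiniteType f]
    [FormallyUnramified f] : LocallyQuasiFinite f := by
  constructor
  intro U hU V hV e
  have h1 : (f.appLE U V e).hom.FiniteType :=
    HasRingHomProperty.appLE @LocallyOfFiniteType f ‹_› ⟨U, hU⟩ ⟨V, hV⟩ e
  have h2 : (f.appLE U V e).hom.FormallyUnramified :=
    HasRingHomProperty.appLE @FormallyUnramified f ‹_› ⟨U, hU⟩ ⟨V, hV⟩ e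
  algebraize [(f.appLE U V e).hom]
  rw [← RingHom.algebraMap_toAlgebra (f.appLE U V e).hom, RingHom.quasiFinite_algebraMap]
  infer_instance

end AlgebraicGeometry

namespace AlgSp

variable {S : Scheme.{u}}

theorem H5_repWith_etale_diagonal {F G : Sp S} (f : F ⟶ G) (hf : RepWith @Etale f) :
    RepWith @Etale (pullback.diagonal f) :=
  (H5_repWith_diagonal_iff @Etale f hf.1).2 ⟨hf.1, fun U V g fst snd sq => by
    haveI : Etale snd.left := hf.2 g fst snd sq
    show Etale (pullback.diagonal snd.left)
    infer_instance⟩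

theorem H5_repWith_etale_of_postcomp {F G H : Sp S} (a : F ⟶ G) (b : G ⟶ H)
    (hb : RepWith @Etale b) (hab : RepWith @Etale (a ≫ b)) : RepWith @Etale a :=
  H5_of_postcomp (RepWith @Etale) a b (H5_repWith_etale_diagonal b hb) hab

/-- A representable morphism with property `P` has `P` etale locally on source and target, when `P`
is stable under composition and contains etale morphisms. -/
theorem H5_locP_of_repWith (P : MorphismProperty Scheme.{u}) [P.IsStableUnderComposition]
    (hP : (@Etale : MorphismProperty Scheme.{u}) ≤ P) {F G : Sp S} (f : F ⟶ G)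
    (hf : RepWith P f) : LocP P f := by
  intro U V a b h ha hb w
  have sq := hf.1.isPullback b
  have he : P (hf.1.snd b).left := hf.2 _ _ _ sq
  obtain ⟨k, hk⟩ := (yon S).map_surjective (sq.lift a ((yon S).map h) w)
  have hk1 : (yon S).map k ≫ hf.1.fst b = a := by
    rw [hk]
    exact sq.lift_fst _ _ _
  have hk2 : k ≫ hf.1.snd b = h := by
    apply (yon S).map_injective
    rw [CategoryTheory.Functor.map_comp, hk]
    exact sq.lift_snd _ _ _
  have hfst : RepWith @Etale (hf.1.fst b) := MorphismProperty.of_isPullback sq.flip hb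
  have hk_et : Etale k.left :=
    (repWith_yon_map_iff @Etale k).1 (H5_repWith_etale_of_postcomp _ _ hfst (hk1 ▸ ha))
  rw [← hk2]
  exact P.comp_mem _ _ (hP _ _ _ hk_et) he

/-- If `f ≫ g` has `P` etale locally, so does `f`, for `P` fppf local on the target with cancellation. -/
theorem H5_locP_of_comp (P : MorphismProperty Scheme.{u}) [P.IsStableUnderBaseChange]
    [P.IsLocalAtTarget Scheme.fppfPrecoverage]
    (hcancel : ∀ ⦃A B C : Scheme.{u}⦄ (u : A ⟶ B) (v : B ⟶ C), P (u ≫ v) → P u)
    {X Y Z : Sp S} (hZ : IsAlgSpace Z) (f : X ⟶ Y) (g : Y ⟶ Z) (h : LocP P (f ≫ g)) :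
    LocP P f := by
  intro U V a b k ha hb w
  obtain ⟨W, c, hce, hcs⟩ := hZ.atlas
  have hc : Representable c := hce.1
  have sq1 := hc.isPullback' (b ≫ g)
  have hπe : RepWith @Etale ((yon S).map (hc.snd (b ≫ g))) := MorphismProperty.of_isPullback sq1 hce
  have hπs : RepWith @Surjective ((yon S).map (hc.snd (b ≫ g))) :=
    MorphismProperty.of_isPullback sq1 hcs
  have sq2 := IsPullback.of_hasPullback k (hc.snd (b ≫ g))
  have sq2' := sq2.map (yon S)
  have hp1 : RepWith @Etale ((yon S).map (pullback.fst k (hc.snd (b ≫ g)))) :=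
    MorphismProperty.of_isPullback sq2'.flip hπe
  have ha' : RepWith @Etale ((yon S).map (pullback.fst k (hc.snd (b ≫ g))) ≫ a) :=
    (RepWith @Etale).comp_mem _ _ hp1 ha
  have hcomm : ((yon S).map (pullback.fst k (hc.snd (b ≫ g))) ≫ a) ≫ f ≫ g =
      (yon S).map (pullback.snd k (hc.snd (b ≫ g)) ≫ hc.fst' (b ≫ g)) ≫ c := by
    rw [CategoryTheory.Functor.map_comp, Category.assoc, Category.assoc, sq1.w,
      ← Category.assoc ((yon S).map (pullback.snd k (hc.snd (b ≫ g)))),
      ← CategoryTheory.Functor.map_comp, ← sq2.w, CategoryTheory.Functor.map_comp, Category.assoc,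
      ← Category.assoc a, w, Category.assoc]
  have hP1 := h _ c _ ha' hce hcomm
  have hP2 : P (pullback.snd k (hc.snd (b ≫ g))).left := hcancel _ _ hP1
  haveI : Sheaf.IsLocallySurjective ((yon S).map (hc.snd (b ≫ g))) :=
    H5_isLocallySurjective_of_etale _ hπe hπs
  have hrep : RepWith P ((yon S).map k) :=
    H5_repWith_of_locSurj_base ((yon S).map k) (Functor.relativelyRepresentable.map (yon S) k)
      ((yon S).map (hc.snd (b ≫ g))) _ _ _ sq2' P ((repWith_yon_map_iff P _).2 hP2)
  exact (repWith_yon_map_iff P k).1 hrep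

/-- A morphism to an algebraic space that is etale locally on source and target etale is etale. -/
theorem H5_isEtaleMor_of_locP {X Y : Sp S} (hY : IsAlgSpace Y) (f : X ⟶ Y)
    (h : LocP @Etale f) : IsEtaleMor f := by
  intro U φ hφ
  have hrep : Representable (φ ≫ f) := hY.representable_from_yon _
  obtain ⟨V, b, hbe, hbs⟩ := hY.atlas
  have sq := hrep.isPullback' b
  have hp1 : RepWith @Etale ((yon S).map (hrep.fst' b)) := MorphismProperty.of_isPullback sq.flip hbe
  have ha' : RepWith @Etale ((yon S).map (hrep.fst' b) ≫ φ) :=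
    (RepWith @Etale).comp_mem _ _ hp1 hφ
  have hcomm : ((yon S).map (hrep.fst' b) ≫ φ) ≫ f = (yon S).map (hrep.snd b) ≫ b := by
    rw [Category.assoc]
    exact sq.w
  have hk : Etale (hrep.snd b).left := h _ b _ ha' hbe hcomm
  haveI : Sheaf.IsLocallySurjective b := H5_isLocallySurjective_of_etale b hbe hbs
  exact H5_repWith_of_locSurj_base (φ ≫ f) hrep b _ _ _ sq @Etale
    ((repWith_yon_map_iff @Etale _).2 hk)

/-- Descent of `LocP P` along an etale surjective base change from a scheme. -/
theorem H5_locP_descent (P : MorphismProperty Scheme.{u}) [P.IsStableUnderBaseChange]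
    [P.IsLocalAtTarget Scheme.fppfPrecoverage]
    (hcancel : ∀ ⦃A B C : Scheme.{u}⦄ (u : A ⟶ B) (v : B ⟶ C), Etale v → P (u ≫ v) → P u)
    {X Y : Sp S} (f : X ⟶ Y) {V : Over S} (p : (yon S).obj V ⟶ Y)
    (hp : RepWith @Etale p) (hps : RepWith @Surjective p) {Q : Sp S} (fst : Q ⟶ X)
    (snd : Q ⟶ (yon S).obj V) (sq : IsPullback fst snd f p) (h : LocP P snd) : LocP P f := by
  intro U V' a b k ha hb w
  have hpr : Representable p := hp.1
  have sq1 := hpr.isPullback' b
  have hπe : RepWith @Etale ((yon S).map (hpr.snd b)) := MorphismProperty.of_isPullback sq1 hp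
  have hπs : RepWith @Surjective ((yon S).map (hpr.snd b)) := MorphismProperty.of_isPullback sq1 hps
  have hωe : RepWith @Etale ((yon S).map (hpr.fst' b)) := MorphismProperty.of_isPullback sq1.flip hb
  have sq2 := IsPullback.of_hasPullback k (hpr.snd b)
  have sq2' := sq2.map (yon S)
  have hp1 : RepWith @Etale ((yon S).map (pullback.fst k (hpr.snd b))) :=
    MorphismProperty.of_isPullback sq2'.flip hπe
  have hcomm : ((yon S).map (pullback.fst k (hpr.snd b)) ≫ a) ≫ f =
      (yon S).map (pullback.snd k (hpr.snd b) ≫ hpr.fst' b) ≫ p := by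
    rw [CategoryTheory.Functor.map_comp, Category.assoc, Category.assoc, sq1.w,
      ← Category.assoc ((yon S).map (pullback.snd k (hpr.snd b))),
      ← CategoryTheory.Functor.map_comp, ← sq2.w, CategoryTheory.Functor.map_comp, Category.assoc, w]
  have hfst : RepWith @Etale fst := MorphismProperty.of_isPullback sq.flip hp
  have ha'' : RepWith @Etale (sq.lift _ _ hcomm) := by
    refine H5_repWith_etale_of_postcomp _ fst hfst ?_
    rw [sq.lift_fst]
    exact (RepWith @Etale).comp_mem _ _ hp1 ha
  have hc2 : sq.lift _ _ hcomm ≫ snd =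
      (yon S).map (pullback.snd k (hpr.snd b) ≫ hpr.fst' b) ≫ 𝟙 _ := by
    rw [sq.lift_snd, Category.comp_id]
  have hP1 : P (pullback.snd k (hpr.snd b) ≫ hpr.fst' b).left :=
    h _ (𝟙 _) _ ha'' (repWith_id _ V) hc2
  have hP2 : P (pullback.snd k (hpr.snd b)).left :=
    hcancel _ _ ((repWith_yon_map_iff @Etale _).1 hωe) hP1
  haveI : Sheaf.IsLocallySurjective ((yon S).map (hpr.snd b)) :=
    H5_isLocallySurjective_of_etale _ hπe hπs
  have hrep : RepWith P ((yon S).map k) :=
    H5_repWith_of_locSurj_base ((yon S).map k) (Functor.relativelyRepresentable.map (yon S) k)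
      ((yon S).map (hpr.snd b)) _ _ _ sq2' P ((repWith_yon_map_iff P _).2 hP2)
  exact (repWith_yon_map_iff P k).1 hrep

end AlgSp
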