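import Groth.Prelude.Def_AlgSpCov
import Groth.Agent.Lib.helper5.AlgSpUniv
import Groth.Agent.Lib.helper5.AlgSpLocP

/-! helper5 library: fppf morphisms of algebraic spaces are universally open; openness is fppf local on
the source. -/

set_option autoImplicit false

universe u

open CategoryTheory CategoryTheory.Limits AlgebraicGeometry Opposite

namespace AlgSp


variable {S : Scheme.{u}}

/-- A flat morphism locally of finite presentation between algebraic spaces is universally open. -/
theorem H5_isUnivOpenMor_of_fppf {X Y : Sp S} (hX : IsAlgSpace X) (hY : IsAlgSpace Y) (f : X ⟶ Y)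
    (h1 : LocP @Flat f) (h2 : LocP @LocallyOfFinitePresentation f) : IsUnivOpenMor f := by
  obtain ⟨U, φ, hφe, hφs⟩ := hX.atlas
  have hrep : Representable (φ ≫ f) := hY.representable_from_yon _
  obtain ⟨V, b, hbe, hbs⟩ := hY.atlas
  have sq := hrep.isPullback' b
  have hp1 : RepWith @Etale ((yon S).map (hrep.fst' b)) := MorphismProperty.of_isPullback sq.flip hbe
  have hp1s : RepWith @Surjective ((yon S).map (hrep.fst' b)) :=
    MorphismProperty.of_isPullback sq.flip hbs
  have ha' : RepWith @Etale ((yon S).map (hrep.fst' b) ≫ φ) :=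
    (RepWith @Etale).comp_mem _ _ hp1 hφe
  have ha's : RepWith @Surjective ((yon S).map (hrep.fst' b) ≫ φ) :=
    (RepWith @Surjective).comp_mem _ _ hp1s hφs
  have hcomm : ((yon S).map (hrep.fst' b) ≫ φ) ≫ f = (yon S).map (hrep.snd b) ≫ b := by
    rw [Category.assoc]
    exact sq.w
  haveI : Flat (hrep.snd b).left := h1 _ b _ ha' hbe hcomm
  haveI : LocallyOfFinitePresentation (hrep.snd b).left := h2 _ b _ ha' hbe hcomm
  have hk : UniversallyOpen (hrep.snd b).left := inferInstance
  refine H5_isUnivOpenMor_of_chart_comp f ((yon S).map (hrep.fst' b) ≫ φ)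
    (H5_surjective_of_repWith _ ha's) ?_
  rw [hcomm]
  exact (RepWith @UniversallyOpen).comp_mem _ _ ((repWith_yon_map_iff _ _).2 hk)
    (H5_repWith_of_le H5_etale_le_universallyOpen hbe)

theorem H5_Q_of_univSp {Q : MorphismProperty (Sp S)} {X Y : Sp S} {f : X ⟶ Y} (hY : IsAlgSpace Y)
    (h : UnivSp Q f) : Q f :=
  h hY (𝟙 Y) (𝟙 X) f IsPullback.of_id_fst

theorem H5_image_eq_iUnion {ι : Type u} {X Y : Sp S} {Xi : ι → Sp S} (g : ∀ i, Xi i ⟶ X)
    (hg : ∀ x : Points X, ∃ i, x ∈ Set.range (Points.map (g i))) (f : X ⟶ Y) (A : Set (Points X)) :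
    Points.map f '' A = ⋃ i, Points.map (g i ≫ f) '' (Points.map (g i) ⁻¹' A) := by
  ext y
  constructor
  · rintro ⟨x, hxA, rfl⟩
    obtain ⟨i, w, rfl⟩ := hg x
    exact Set.mem_iUnion.2 ⟨i, w, hxA, Points.map_comp _ _ _⟩
  · intro hy
    obtain ⟨i, w, hw, rfl⟩ := Set.mem_iUnion.1 hy
    exact ⟨Points.map (g i) w, hw, (Points.map_comp _ _ _).symm⟩

/-- Openness is fppf local on the source. -/
theorem H5_isLocalOnSource_fppf_isOpenMor :
    IsLocalOnSource (IsFppfCover (S := S)) IsOpenMor := by
  intro ι X Xi g hX hXi hτ Y f hY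
  constructor
  · intro hf i
    have h1 : IsOpenMap (Points.map (g i)) :=
      H5_Q_of_univSp hX (H5_isUnivOpenMor_of_fppf (hXi i) hX (g i) (hτ.1 i).1 (hτ.1 i).2)
    change IsOpenMap (Points.map (g i ≫ f))
    rw [show Points.map (g i ≫ f) = Points.map f ∘ Points.map (g i) from
      funext (Points.map_comp _ _)]
    exact IsOpenMap.comp hf h1
  · intro h A hA
    rw [H5_image_eq_iUnion g hτ.2 f A]
    exact isOpen_iUnion fun i => h i _ (hA.preimage (Points.continuous_map _))

/-- Universal openness is fppf local on the source. -/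
theorem H5_isLocalOnSource_fppf_isUnivOpenMor :
    IsLocalOnSource (IsFppfCover (S := S)) IsUnivOpenMor := by
  intro ι X Xi g hX hXi hτ Y f hY
  constructor
  · intro hf i
    refine H5_univSp_comp IsOpenMor (fun _ _ _ u v hu hv => ?_) (g i) f hX hY.diag
      (H5_isUnivOpenMor_of_fppf (hXi i) hX (g i) (hτ.1 i).1 (hτ.1 i).2) hf
    change IsOpenMap (Points.map (u ≫ v))
    rw [show Points.map (u ≫ v) = Points.map v ∘ Points.map u from funext (Points.map_comp _ _)]
    exact IsOpenMap.comp hv hu
  · intro h Z Z' hZ k a b sq A hA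
    have hsurj : ∀ x : Points Z', ∃ i, x ∈ Set.range (Points.map (pullback.snd (g i) a)) := by
      intro x
      obtain ⟨i, w, hw⟩ := hτ.2 (Points.map a x)
      obtain ⟨v, -, hv⟩ := H5_points_pullback_surj (IsPullback.of_hasPullback (g i) a) w x hw
      exact ⟨i, v, hv⟩
    rw [H5_image_eq_iUnion (fun i => pullback.snd (g i) a) hsurj b A]
    refine isOpen_iUnion fun i => ?_
    have big : IsPullback (pullback.fst (g i) a) (pullback.snd (g i) a ≫ b) (g i ≫ f) k :=
      (IsPullback.of_hasPullback (g i) a).paste_vert sq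
    exact h i hZ k _ _ big _ (hA.preimage (Points.continuous_map _))

end AlgSp
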