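import Groth.Agent.Lib.helper5.AlgSpFpqcTop
import Groth.Agent.Lib.helper5.AlgSpProd
import Groth.Agent.Lib.helper5.AlgSpDiag2

/-! helper5 library: fpqc descent on the base for representable morphisms with a property `P`;
(quasi-)separatedness and monomorphisms are fpqc local on the base. -/

set_option autoImplicit false

universe u

open CategoryTheory CategoryTheory.Limits AlgebraicGeometry Opposite MorphismProperty

namespace CategoryTheory

theorem H5_lift_map {C : Type*} [Category C] [HasPullbacks C] {A X X' Y Y' : C} (p : X' ⟶ Y')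
    (f : X ⟶ Y) (q : X' ⟶ X) (g : Y' ⟶ Y) (w : p ≫ g = q ≫ f) (a1 a2 : A ⟶ X')
    (ha : a1 ≫ p = a2 ≫ p) (k : A ⟶ pullback f f) (h1 : a1 ≫ q = k ≫ pullback.fst f f)
    (h2 : a2 ≫ q = k ≫ pullback.snd f f) :
    pullback.lift a1 a2 ha ≫ pullback.map p p f f q q g w w = k := by
  apply pullback.hom_ext
  · rw [Category.assoc, pullback.lift_fst, pullback.lift_fst_assoc, h1]
  · rw [Category.assoc, pullback.lift_snd, pullback.lift_snd_assoc, h2]

end CategoryTheory

namespace AlgebraicGeometry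

/-- Quasi-compactness descends along surjective quasi-compact morphisms. -/
instance H5_quasiCompact_descendsAlong :
    DescendsAlong @QuasiCompact
      (@Surjective ⊓ @Flat ⊓ @QuasiCompact : MorphismProperty Scheme.{u}) := by
  apply DescendsAlong.mk'
  intro X Y Z f g _ hf hfst
  have hfs : Surjective f := hf.1.1
  have hfq : QuasiCompact f := hf.2
  have hq : QuasiCompact (pullback.fst f g) := hfst
  rw [quasiCompact_iff_forall_isAffineOpen]
  intro U hU
  have h1 : IsCompact (f ⁻¹ᵁ U : Set X) := QuasiCompact.isCompact_preimage _ U.isOpen hU.isCompact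
  have h2 : IsCompact ((pullback.fst f g) ⁻¹' (f ⁻¹ᵁ U : Set X)) :=
    QuasiCompact.isCompact_preimage _ (f ⁻¹ᵁ U).isOpen h1
  have h3 := h2.image (pullback.snd f g).continuous
  convert h3 using 1
  ext y
  constructor
  · intro hy
    obtain ⟨x, hx⟩ := f.surjective (g y)
    obtain ⟨z, hz1, hz2⟩ := Scheme.Pullback.exists_preimage_pullback x y hx
    refine ⟨z, ?_, hz2⟩
    change f (pullback.fst f g z) ∈ U
    rw [hz1, hx]
    exact hy
  · rintro ⟨z, hz, rfl⟩
    change g (pullback.snd f g z) ∈ U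
    rw [← Scheme.Hom.comp_apply, ← pullback.condition, Scheme.Hom.comp_apply]
    exact hz

instance H5_mono_descendsAlong :
    DescendsAlong (monomorphisms Scheme.{u})
      (@Surjective ⊓ @Flat ⊓ @QuasiCompact : MorphismProperty Scheme.{u}) := by
  have e : monomorphisms Scheme.{u} = (isomorphisms Scheme.{u}).diagonal := by
    ext X Y f
    exact (pullback.isIso_diagonal_iff f).symm
  rw [e]
  infer_instance

instance H5_isClosedImmersion_descendsAlong :
    DescendsAlong @IsClosedImmersion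
      (@Surjective ⊓ @Flat ⊓ @QuasiCompact : MorphismProperty Scheme.{u}) := by
  apply DescendsAlong.mk'
  intro X Y Z f g _ hf hfst
  have hc : IsClosedImmersion (pullback.fst f g) := hfst
  have hm : Mono g := MorphismProperty.of_pullback_fst_of_descendsAlong
    (P := monomorphisms Scheme.{u}) (Q := @Surjective ⊓ @Flat ⊓ @QuasiCompact) (f := f) hf
    (inferInstance : Mono (pullback.fst f g))
  have h1 : UniversallyClosed g := MorphismProperty.of_pullback_fst_of_descendsAlong
    (P := @UniversallyClosed) (Q := @Surjective ⊓ @Flat ⊓ @QuasiCompact) (f := f) hf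
    (inferInstance : UniversallyClosed (pullback.fst f g))
  have h2 : LocallyOfFiniteType g := MorphismProperty.of_pullback_fst_of_descendsAlong
    (P := @LocallyOfFiniteType) (Q := @Surjective ⊓ @Flat ⊓ @QuasiCompact) (f := f) hf
    (inferInstance : LocallyOfFiniteType (pullback.fst f g))
  have h3 : IsProper g := { }
  exact (IsClosedImmersion.iff_isProper_and_mono g).2 ⟨h3, hm⟩

theorem H5_descend_finite_cover (P : MorphismProperty Scheme.{u})
    [P.DescendsAlong (@Surjective ⊓ @Flat ⊓ @QuasiCompact)]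
    [IsZariskiLocalAtTarget P] {T V : Scheme.{u}} [IsAffine T] (b : V ⟶ T) {m : ℕ}
    (W : Fin m → Scheme.{u}) (c : ∀ j, W j ⟶ T) [∀ j, IsAffine (W j)] [∀ j, Flat (c j)]
    (hsurj : ∀ z : T, ∃ j, z ∈ Set.range (c j))
    (h : ∀ j, P (pullback.fst (c j) b)) : P b := by
  have hs : Surjective (Sigma.desc c : ∐ W ⟶ T) := Surjective.sigmaDesc_of_union_range_eq_univ (by
    rw [Set.eq_univ_iff_forall]; intro z; obtain ⟨j, hj⟩ := hsurj z; exact Set.mem_iUnion.2 ⟨j, hj⟩)
  have hd : (@Surjective ⊓ @Flat ⊓ @QuasiCompact : MorphismProperty Scheme)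
      (Sigma.desc c : ∐ W ⟶ T) := ⟨⟨hs, inferInstance⟩, inferInstance⟩
  refine MorphismProperty.of_pullback_fst_of_descendsAlong (P := P) (f := Sigma.desc c) (g := b) hd ?_
  rw [IsZariskiLocalAtTarget.iff_of_openCover (P := P) (sigmaOpenCover W)]
  intro j
  have sq1 : IsPullback (pullback.fst (c j) b) (pullback.snd (c j) b) (c j) b := .of_hasPullback _ _
  have sqA := (IsPullback.of_hasPullback (Sigma.desc c) b).flip
  have sqB := IsPullback.of_hasPullback (pullback.fst (Sigma.desc c) b) (Sigma.ι W j)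
  have sq2 := (sqB.paste_horiz sqA).flip
  rw [Sigma.ι_desc] at sq2
  have e := sq2.isoIsPullback_hom_fst _ _ sq1
  change P (pullback.snd (pullback.fst (Sigma.desc c) b) (Sigma.ι W j))
  rw [← e, P.cancel_left_of_respectsIso]
  exact h j

end AlgebraicGeometry

namespace AlgSp

open Groth.Agent.Lib.helper5

variable {S : Scheme.{u}}

/-- The refinement part of an fpqc covering. -/
def H5_FpqcRefine {ι : Type u} {X : Sp S} (Y : ι → Sp S) (g : ∀ i, Y i ⟶ X) : Prop :=
  ∀ (Z : Over S), IsAffine Z.left → ∀ (h : (yon S).obj Z ⟶ X),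
      ∃ (m : ℕ) (W : Fin m → Over S) (c : ∀ j, W j ⟶ Z),
        (∀ j, IsAffine (W j).left) ∧ (∀ j, Flat (c j).left) ∧
        (∀ z : ↥Z.left, ∃ j, z ∈ Set.range (c j).left) ∧
        ∀ j, ∃ (i : _) (l : (yon S).obj (W j) ⟶ Y i), l ≫ g i = (yon S).map (c j) ≫ h

theorem H5_fpqcRefine_baseChange {ι : Type u} {Y : Sp S} {Yi : ι → Sp S} {g : ∀ i, Yi i ⟶ Y}
    (hτ : H5_FpqcRefine Yi g) {X : Sp S} {f : X ⟶ Y} {Xi : ι → Sp S} {p : ∀ i, Xi i ⟶ Yi i}
    {q : ∀ i, Xi i ⟶ X} (hsq : ∀ i, IsPullback (q i) (p i) f (g i)) : H5_FpqcRefine Xi q := by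
  intro Z hZ h
  obtain ⟨m, W, c, hWaff, hflat, hsurj, hlift⟩ := hτ Z hZ (h ≫ f)
  refine ⟨m, W, c, hWaff, hflat, hsurj, fun j => ?_⟩
  obtain ⟨i, l, hl⟩ := hlift j
  exact ⟨i, (hsq i).lift ((yon S).map (c j) ≫ h) l (by rw [Category.assoc, hl]),
    (hsq i).lift_fst _ _ _⟩

theorem H5_fpqcRefine_diagonal {ι : Type u} {Y : Sp S} {Yi : ι → Sp S} {g : ∀ i, Yi i ⟶ Y}
    (hτ : H5_FpqcRefine Yi g) {X : Sp S} {f : X ⟶ Y} {Xi : ι → Sp S} {p : ∀ i, Xi i ⟶ Yi i}
    {q : ∀ i, Xi i ⟶ X} (hsq : ∀ i, IsPullback (q i) (p i) f (g i)) :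
    H5_FpqcRefine (fun i => pullback (p i) (p i))
      (fun i => pullback.map (p i) (p i) f f (q i) (q i) (g i) (hsq i).w.symm (hsq i).w.symm) := by
  intro Z hZ h
  obtain ⟨m, W, c, hWaff, hflat, hsurj, hlift⟩ := hτ Z hZ (h ≫ pullback.fst f f ≫ f)
  refine ⟨m, W, c, hWaff, hflat, hsurj, fun j => ?_⟩
  obtain ⟨i, l, hl⟩ := hlift j
  have w1 : ((yon S).map (c j) ≫ h ≫ pullback.fst f f) ≫ f = l ≫ g i := by
    rw [hl]
    simp only [Category.assoc]
  have w2 : ((yon S).map (c j) ≫ h ≫ pullback.snd f f) ≫ f = l ≫ g i := by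
    rw [hl]
    simp only [Category.assoc]
    rw [pullback.condition]
  refine ⟨i, pullback.lift ((hsq i).lift _ _ w1) ((hsq i).lift _ _ w2)
    (by rw [(hsq i).lift_snd, (hsq i).lift_snd]), ?_⟩
  refine CategoryTheory.H5_lift_map (p i) f (q i) (g i) _ _ _ _ _ ?_ ?_
  · rw [(hsq i).lift_fst, Category.assoc]
  · rw [(hsq i).lift_fst, Category.assoc]

/-- For a Zariski local property, `RepWith` can be tested on affine schemes. -/
theorem H5_repWith_of_affine {F G : Sp S} (a : F ⟶ G) (ha : Representable a)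
    (Q : MorphismProperty Scheme.{u}) [IsZariskiLocalAtTarget Q]
    (h : ∀ ⦃U V : Over S⦄ (g : (yon S).obj U ⟶ G) (fst : (yon S).obj V ⟶ F) (snd : V ⟶ U),
      IsAffine U.left → IsPullback fst ((yon S).map snd) a g → Q snd.left) : RepWith Q a := by
  refine ⟨ha, ?_⟩
  intro U V g fst v sqV
  change Q v.left
  rw [IsZariskiLocalAtTarget.iff_of_openCover (P := Q) U.left.affineCover]
  intro i
  let Ui : Over S := Over.mk (U.left.affineCover.f i ≫ U.hom)
  let ui : Ui ⟶ U := Over.homMk (U.left.affineCover.f i) rfl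
  let Vi : Over S := Over.mk (pullback.snd v.left (U.left.affineCover.f i) ≫ Ui.hom)
  let vi : Vi ⟶ Ui := Over.homMk (pullback.snd v.left (U.left.affineCover.f i)) rfl
  let wi : Vi ⟶ V := Over.homMk (pullback.fst v.left (U.left.affineCover.f i)) (by
    change pullback.fst _ _ ≫ V.hom = pullback.snd _ _ ≫ U.left.affineCover.f i ≫ U.hom
    rw [← Over.w v, ← Category.assoc, pullback.condition, Category.assoc])
  have sqO : IsPullback wi vi v ui := H5_over_isPullback_of_left (IsPullback.of_hasPullback _ _)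
  have hUi : IsAffine Ui.left := by
    change IsAffine (U.left.affineCover.X i)
    infer_instance
  exact h ((yon S).map ui ≫ g) ((yon S).map wi ≫ fst) vi hUi
    ((sqO.map (yon S)).paste_horiz sqV)

/-- Descent of `RepWith P` along the refinement part of an fpqc covering, for representable
morphisms. -/
theorem H5_repWith_of_fpqcRefine (P : MorphismProperty Scheme.{u})
    [P.DescendsAlong (@Surjective ⊓ @Flat ⊓ @QuasiCompact)] [IsZariskiLocalAtTarget P]
    {ι : Type u} {Y : Sp S} {Yi : ι → Sp S} {g : ∀ i, Yi i ⟶ Y} (hτ : H5_FpqcRefine Yi g)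
    {X : Sp S} {f : X ⟶ Y} (hrep : Representable f) {Xi : ι → Sp S} {p : ∀ i, Xi i ⟶ Yi i}
    {q : ∀ i, Xi i ⟶ X} (hsq : ∀ i, IsPullback (q i) (p i) f (g i))
    (hp : ∀ i, RepWith P (p i)) : RepWith P f := by
  refine H5_repWith_of_affine f hrep P ?_
  intro T V t fst b hT sq
  obtain ⟨m, W, c, hWaff, hflat, hsurj, hlift⟩ := hτ T hT t
  haveI := hT
  haveI := hWaff
  haveI := hflat
  refine H5_descend_finite_cover P b.left (fun j => (W j).left) (fun j => (c j).left) hsurj ?_
  intro j
  obtain ⟨i, l, hl⟩ := hlift j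
  let Vj : Over S := Over.mk (pullback.fst (c j).left b.left ≫ (W j).hom)
  let vj : Vj ⟶ W j := Over.homMk (pullback.fst (c j).left b.left) rfl
  let wj : Vj ⟶ V := Over.homMk (pullback.snd (c j).left b.left) (by
    change pullback.snd _ _ ≫ V.hom = pullback.fst _ _ ≫ (W j).hom
    rw [← Over.w b, ← Category.assoc, ← pullback.condition, Category.assoc, Over.w (c j)])
  have sqO : IsPullback wj vj b (c j) :=
    H5_over_isPullback_of_left (IsPullback.of_hasPullback _ _).flip
  have big := (sqO.map (yon S)).paste_horiz sq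
  rw [← hl] at big
  have w : ((yon S).map wj ≫ fst) ≫ f = ((yon S).map vj ≫ l) ≫ g i := by
    rw [big.w, Category.assoc]
  have h1 : (hsq i).lift _ _ w ≫ q i = (yon S).map wj ≫ fst := (hsq i).lift_fst _ _ _
  have big' : IsPullback ((hsq i).lift _ _ w ≫ q i) ((yon S).map vj) f (l ≫ g i) := by
    rw [h1]
    exact big
  have sq' := IsPullback.of_right big' ((hsq i).lift_snd _ _ _) (hsq i)
  exact (hp i).2 l _ vj sq'

/-- A representable morphism all of whose base changes to schemes are isomorphisms is an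
isomorphism. -/
theorem H5_isIso_of_repWith_isomorphisms {F G : Sp S} (φ : F ⟶ G)
    (h : RepWith (MorphismProperty.isomorphisms Scheme.{u}) φ) : IsIso φ := by
  haveI : Mono φ := by
    constructor
    intro Z α β hαβ
    apply GrothendieckTopology.hom_ext_uliftYoneda.{u + 1} (J S)
    intro T x
    have sq := h.1.isPullback ((x ≫ α) ≫ φ)
    haveI hb : IsIso (h.1.snd ((x ≫ α) ≫ φ)).left := h.2 _ _ _ sq
    haveI : IsIso ((Over.forget S).map (h.1.snd ((x ≫ α) ≫ φ))) := hb
    haveI : IsIso (h.1.snd ((x ≫ α) ≫ φ)) := isIso_of_reflects_iso _ (Over.forget S)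
    have w1 : (x ≫ α) ≫ φ = 𝟙 _ ≫ (x ≫ α) ≫ φ := (Category.id_comp _).symm
    have w2 : (x ≫ β) ≫ φ = 𝟙 _ ≫ (x ≫ α) ≫ φ := by
      rw [Category.id_comp, Category.assoc, Category.assoc, hαβ]
    have e : sq.lift (x ≫ α) (𝟙 _) w1 = sq.lift (x ≫ β) (𝟙 _) w2 := by
      rw [← cancel_mono ((yon S).map (h.1.snd ((x ≫ α) ≫ φ))), sq.lift_snd, sq.lift_snd]
    have e1 := congrArg (· ≫ h.1.fst ((x ≫ α) ≫ φ)) e
    beta_reduce at e1
    rwa [sq.lift_fst, sq.lift_fst] at e1
  haveI : Epi φ := by
    constructor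
    intro Z α β hαβ
    apply GrothendieckTopology.hom_ext_uliftYoneda.{u + 1} (J S)
    intro T t
    have sq := h.1.isPullback t
    haveI hb : IsIso (h.1.snd t).left := h.2 _ _ _ sq
    haveI : IsIso ((Over.forget S).map (h.1.snd t)) := hb
    haveI : IsIso (h.1.snd t) := isIso_of_reflects_iso _ (Over.forget S)
    have e : ((yon S).map (inv (h.1.snd t)) ≫ h.1.fst t) ≫ φ = t := by
      rw [Category.assoc, sq.w, ← Category.assoc, ← CategoryTheory.Functor.map_comp,
        IsIso.inv_hom_id, CategoryTheory.Functor.map_id, Category.id_comp]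
    have key : ∀ (x : (yon S).obj T ⟶ F), (x ≫ φ) ≫ α = (x ≫ φ) ≫ β := fun x => by
      rw [Category.assoc, Category.assoc, hαβ]
    rw [← e]
    exact key _
  exact isIso_of_mono_of_epi φ

/-- Quasi-separatedness is fpqc local on the base. -/
theorem H5_isLocalOnBase_fpqc_isQuasiSeparatedMor :
    IsLocalOnBase (IsFpqcCover (S := S)) IsQuasiSeparatedMor := by
  intro ι Y Yi g hY hYi hτ X f hX Xi p q hXi hsq
  constructor
  · intro hf i
    exact H5_isQuasiSeparatedMor_baseChange (hsq i) hf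
  · intro hp
    exact H5_repWith_of_fpqcRefine @QuasiCompact (H5_fpqcRefine_diagonal hτ.2 hsq)
      (H5_diagonal_properties hX f).1 (fun i => H5_isPullback_diagonal_baseChange (hsq i)) hp

/-- Separatedness is fpqc local on the base. -/
theorem H5_isLocalOnBase_fpqc_isSeparatedMor :
    IsLocalOnBase (IsFpqcCover (S := S)) IsSeparatedMor := by
  intro ι Y Yi g hY hYi hτ X f hX Xi p q hXi hsq
  constructor
  · intro hf i
    exact MorphismProperty.of_isPullback (P := RepWith @IsClosedImmersion)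
      (H5_isPullback_diagonal_baseChange (hsq i)) hf
  · intro hp
    exact H5_repWith_of_fpqcRefine @IsClosedImmersion (H5_fpqcRefine_diagonal hτ.2 hsq)
      (H5_diagonal_properties hX f).1 (fun i => H5_isPullback_diagonal_baseChange (hsq i)) hp

/-- Being a monomorphism is fpqc local on the base. -/
theorem H5_isLocalOnBase_fpqc_monomorphisms :
    IsLocalOnBase (IsFpqcCover (S := S)) (MorphismProperty.monomorphisms (Sp S)) := by
  intro ι Y Yi g hY hYi hτ X f hX Xi p q hXi hsq
  constructor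
  · intro hf i
    exact MorphismProperty.of_isPullback (P := MorphismProperty.monomorphisms (Sp S)) (hsq i) hf
  · intro hp
    have hΔ : RepWith (MorphismProperty.isomorphisms Scheme.{u}) (pullback.diagonal f) := by
      refine H5_repWith_of_fpqcRefine (MorphismProperty.isomorphisms Scheme.{u})
        (H5_fpqcRefine_diagonal hτ.2 hsq) (H5_diagonal_properties hX f).1
        (fun i => H5_isPullback_diagonal_baseChange (hsq i)) (fun i => ?_)
      haveI : Mono (p i) := hp i
      exact H5_repWith_of_isIso _ _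
    haveI := H5_isIso_of_repWith_isomorphisms _ hΔ
    exact (pullback.isIso_diagonal_iff f).1 inferInstance

end AlgSp
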