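import Groth.Agent.Lib.helper5.AlgSpBasic

/-! fppf-local arguments for morphisms of sheaves on `Over S`. -/

universe u

open CategoryTheory CategoryTheory.Limits AlgebraicGeometry Opposite

namespace AlgSp

variable {S : Scheme.{u}}

set_option backward.isDefEq.respectTransparency.types false in
instance H5_fppfPrecoverage_hasIsos : Scheme.fppfPrecoverage.{u}.HasIsos := by
  unfold Scheme.fppfPrecoverage
  have : MorphismProperty.ContainsIdentities
      (@Flat ⊓ @LocallyOfFinitePresentation : MorphismProperty Scheme.{u}) :=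
    ⟨fun X => ⟨inferInstance, inferInstance⟩⟩
  infer_instance

/-- A covering sieve in `J S` contains an fppf covering family. -/
theorem H5_exists_fppf_le {U : Over S} {R : Sieve U} (hR : R ∈ J S U) :
    ∃ R' ∈ Scheme.fppfPrecoverage U.left, R' ≤ (Sieve.overEquiv U R).arrows := by
  have h1 : Sieve.overEquiv U R ∈ Scheme.fppfPrecoverage.toGrothendieck U.left :=
    (GrothendieckTopology.mem_over_iff _ _).1 hR
  exact Precoverage.mem_toGrothendieck_iff_of_isStableUnderComposition.1 h1

/-- fppf-locality on the target, phrased on `Over S`. -/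
theorem H5_P_of_local (P : MorphismProperty Scheme.{u}) [P.IsLocalAtTarget Scheme.fppfPrecoverage]
    {U V : Over S} (v : V ⟶ U) {R : Sieve U} (hR : R ∈ J S U)
    (hloc : ∀ ⦃W : Over S⦄ (u : W ⟶ U), R u → ∃ (V' : Over S) (p₁ : V' ⟶ V) (p₂ : V' ⟶ W),
      IsPullback p₁ p₂ v u ∧ P p₂.left) : P v.left := by
  obtain ⟨R', hR', hle⟩ := H5_exists_fppf_le hR
  refine MorphismProperty.IsLocalAtTarget.of_forall_pullbackSnd hR' ?_
  intro W g _ hg
  have hg' : R (Over.homMk g : Over.mk (g ≫ U.hom) ⟶ U) := (Sieve.overEquiv_iff _ _).1 (hle _ g hg)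
  obtain ⟨V', p₁, p₂, sq, hp⟩ := hloc _ hg'
  have sq' : IsPullback p₁.left p₂.left v.left g := sq.map (Over.forget S)
  have := sq'.isoPullback_hom_snd
  rw [← this] at hp
  exact (P.cancel_left_of_respectsIso _ _).1 hp

/-- Local lifting of sections along a locally surjective map of sheaves. -/
theorem H5_exists_local_lift {H G : Sp S} (b : H ⟶ G) [Sheaf.IsLocallySurjective b] {U : Over S}
    (g : (yon S).obj U ⟶ G) : ∃ R : Sieve U, R ∈ J S U ∧ ∀ ⦃W : Over S⦄ (u : W ⟶ U), R u →
      ∃ t : (yon S).obj W ⟶ H, t ≫ b = (yon S).map u ≫ g := by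
  refine ⟨Presheaf.imageSieve b.hom ((J S).uliftYonedaEquiv g),
    Presheaf.imageSieve_mem (J S) b.hom _, ?_⟩
  rintro W u ⟨t₀, ht₀⟩
  refine ⟨(J S).uliftYonedaEquiv.symm t₀, ?_⟩
  apply (J S).uliftYonedaEquiv.injective
  rw [GrothendieckTopology.uliftYonedaEquiv_comp, Equiv.apply_symm_apply, ht₀,
    GrothendieckTopology.uliftYonedaEquiv_naturality]

/-- Pasting a represented pullback square with the image of a pullback square of schemes. -/
theorem H5_paste_yon {F G : Sp S} {a : F ⟶ G} {U V W V' : Over S} {g : (yon S).obj U ⟶ G}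
    {fst : (yon S).obj V ⟶ F} {v : V ⟶ U} (sq : IsPullback fst ((yon S).map v) a g)
    {u : W ⟶ U} {p₁ : V' ⟶ V} {p₂ : V' ⟶ W} (sq' : IsPullback p₁ p₂ v u) :
    IsPullback ((yon S).map p₁ ≫ fst) ((yon S).map p₂) a ((yon S).map u ≫ g) :=
  (sq'.map (yon S)).paste_horiz sq

/-- Descent of `RepWith P` along a locally surjective base change. -/
theorem H5_repWith_of_locSurj_base {F G H : Sp S} (a : F ⟶ G)
    (ha : Representable a) (b : H ⟶ G) [Sheaf.IsLocallySurjective b] (Q : Sp S) (b' : Q ⟶ F)
    (a' : Q ⟶ H) (sq : IsPullback b' a' a b) (P : MorphismProperty Scheme.{u})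
    [P.IsLocalAtTarget Scheme.fppfPrecoverage] (h : RepWith P a') : RepWith P a := by
  refine ⟨ha, ?_⟩
  intro U V g fst v sqV
  obtain ⟨R, hR, hlift⟩ := H5_exists_local_lift b g
  refine H5_P_of_local P v hR ?_
  intro W u hu
  obtain ⟨t, ht⟩ := hlift u hu
  refine ⟨pullback v u, pullback.fst v u, pullback.snd v u, IsPullback.of_hasPullback v u, ?_⟩
  have big := H5_paste_yon sqV (IsPullback.of_hasPullback v u)
  rw [← ht] at big
  have hcomm : ((yon S).map (pullback.fst v u) ≫ fst) ≫ a =
      ((yon S).map (pullback.snd v u) ≫ t) ≫ b := by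
    rw [Category.assoc, Category.assoc]; exact big.w
  have hl1 : sq.lift _ _ hcomm ≫ b' = (yon S).map (pullback.fst v u) ≫ fst := sq.lift_fst _ _ _
  have hl2 : sq.lift _ _ hcomm ≫ a' = (yon S).map (pullback.snd v u) ≫ t := sq.lift_snd _ _ _
  rw [← hl1] at big
  exact h.2 t (sq.lift _ _ hcomm) (pullback.snd v u) (IsPullback.of_right big hl2 sq)

end AlgSp

namespace AlgSp

variable {S : Scheme.{u}}

/-- The sieve generated by a single fppf covering morphism is covering in `J S`. -/
theorem H5_generate_singleton_mem {U V : Over S} (v : V ⟶ U) [Flat v.left]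
    [LocallyOfFinitePresentation v.left] [Surjective v.left] :
    Sieve.generate (Presieve.singleton v) ∈ J S U := by
  refine (GrothendieckTopology.mem_over_iff _ _).2 ?_
  rw [Sieve.overEquiv_generate]
  refine GrothendieckTopology.superset_covering _ ?_
    (Precoverage.generate_mem_toGrothendieck (Scheme.Hom.singleton_mem_fppfPrecoverage v.left))
  apply Sieve.generate_mono
  rintro W f ⟨⟩
  exact Presieve.image_mem_functorPushforward (Over.forget S) _ (Presieve.singleton_self v)

/-- A representable fppf covering morphism is locally surjective. -/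
theorem H5_isLocallySurjective_of_fppf {F G : Sp S} (a : F ⟶ G)
    (h₁ : RepWith @Flat a) (h₂ : RepWith @LocallyOfFinitePresentation a)
    (h₃ : RepWith @Surjective a) : Sheaf.IsLocallySurjective a := by
  constructor
  intro U s
  let g : (yon S).obj U ⟶ G := (J S).uliftYonedaEquiv.symm s
  have ha : Representable a := h₁.1
  have sq := ha.isPullback g
  haveI hv1 : Flat (ha.snd g).left := h₁.2 g _ _ sq
  haveI hv2 : LocallyOfFinitePresentation (ha.snd g).left := h₂.2 g _ _ sq
  haveI hv3 : Surjective (ha.snd g).left := h₃.2 g _ _ sq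
  refine GrothendieckTopology.superset_covering _ ?_ (H5_generate_singleton_mem (ha.snd g))
  rw [Sieve.generate_le_iff]
  rintro W f ⟨⟩
  refine ⟨(J S).uliftYonedaEquiv (ha.fst g), ?_⟩
  rw [← GrothendieckTopology.uliftYonedaEquiv_comp, sq.w,
    ← GrothendieckTopology.uliftYonedaEquiv_naturality, Equiv.apply_symm_apply]

end AlgSp

namespace AlgSp

variable {S : Scheme.{u}}

/-- A morphism representable by monomorphisms of schemes is a monomorphism of sheaves. -/
theorem H5_mono_of_repWith {P : MorphismProperty Scheme.{u}}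
    (hP : P ≤ MorphismProperty.monomorphisms _) {F G : Sp S} (f : F ⟶ G) (hf : RepWith P f) :
    Mono f := by
  constructor
  intro Z α β hαβ
  apply GrothendieckTopology.hom_ext_uliftYoneda.{u + 1} (J S)
  intro T p
  have hrep : Representable f := hf.1
  have sq := hrep.isPullback ((p ≫ α) ≫ f)
  haveI h1 : Mono (hrep.snd ((p ≫ α) ≫ f)).left := hP _ (hf.2 _ _ _ sq)
  haveI h2 : Mono (hrep.snd ((p ≫ α) ≫ f)) := (Over.forget S).mono_of_mono_map h1
  have e1 : (p ≫ α) ≫ f = (yon S).map (𝟙 T) ≫ (p ≫ α) ≫ f := by simp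
  have e2 : (p ≫ β) ≫ f = (yon S).map (𝟙 T) ≫ (p ≫ α) ≫ f := by simp [hαβ]
  have hσ : hrep.lift (p ≫ α) (𝟙 T) e1 = hrep.lift (p ≫ β) (𝟙 T) e2 := by
    rw [← cancel_mono (hrep.snd ((p ≫ α) ≫ f)), hrep.lift_snd, hrep.lift_snd]
  calc p ≫ α = (yon S).map (hrep.lift (p ≫ α) (𝟙 T) e1) ≫ hrep.fst _ := (hrep.lift_fst _ _ _).symm
    _ = (yon S).map (hrep.lift (p ≫ β) (𝟙 T) e2) ≫ hrep.fst _ := by rw [hσ]
    _ = p ≫ β := hrep.lift_fst _ _ _

end AlgSp

namespace AlgSp

variable {S : Scheme.{u}}

/-- The diagonal is representable with `P` when all fibre products `h_U ×_F h_V` are represented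
with `W ⟶ U × V` having `P`. -/
theorem H5_repWith_diag_of_pairwise (F : Sp S) (P : MorphismProperty Scheme.{u})
    [P.IsStableUnderBaseChange]
    (h₁ : ∀ ⦃U V : Over S⦄ (a : (yon S).obj U ⟶ F) (b : (yon S).obj V ⟶ F),
      ∃ (W : Over S) (fst : W ⟶ U) (snd : W ⟶ V),
        IsPullback ((yon S).map fst) ((yon S).map snd) a b)
    (h₂ : ∀ ⦃U V W : Over S⦄ (a : (yon S).obj U ⟶ F) (b : (yon S).obj V ⟶ F) (fst : W ⟶ U)
      (snd : W ⟶ V), IsPullback ((yon S).map fst) ((yon S).map snd) a b →
        P (prod.lift fst snd).left) :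
    RepWith P (Limits.diag F) := by
  have hrepF : ∀ ⦃U : Over S⦄ (a : (yon S).obj U ⟶ F), Representable a := by
    intro U a V b
    obtain ⟨W, fst, snd, sq⟩ := h₁ a b
    exact ⟨W, snd, (yon S).map fst, sq⟩
  have hrep : Representable (Limits.diag F) :=
    Functor.relativelyRepresentable.diag_of_map_from_obj hrepF
  refine ⟨hrep, ?_⟩
  intro T E g fstE e sqE
  obtain ⟨W, p₁, p₂, sqW⟩ := h₁ (g ≫ prod.fst) (g ≫ prod.snd)
  have hP := h₂ _ _ p₁ p₂ sqW
  have d1 : Limits.diag F ≫ prod.fst = 𝟙 F := prod.lift_fst _ _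
  have d2 : Limits.diag F ≫ prod.snd = 𝟙 F := prod.lift_snd _ _
  have dT1 : Limits.diag T ≫ prod.fst = 𝟙 T := prod.lift_fst _ _
  have dT2 : Limits.diag T ≫ prod.snd = 𝟙 T := prod.lift_snd _ _
  have l1 : prod.lift p₁ p₂ ≫ prod.fst = p₁ := prod.lift_fst _ _
  have l2 : prod.lift p₁ p₂ ≫ prod.snd = p₂ := prod.lift_snd _ _
  have hE1 : fstE = (yon S).map e ≫ g ≫ prod.fst := by
    have := congrArg (· ≫ prod.fst) sqE.w
    simp only [Category.assoc] at this
    rw [d1, Category.comp_id] at this
    exact this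
  have hE2 : fstE = (yon S).map e ≫ g ≫ prod.snd := by
    have := congrArg (· ≫ prod.snd) sqE.w
    simp only [Category.assoc] at this
    rw [d2, Category.comp_id] at this
    exact this
  have hℓ : (yon S).map e ≫ g ≫ prod.fst = (yon S).map e ≫ g ≫ prod.snd := by rw [← hE1, ← hE2]
  let ℓ : E ⟶ W := (yon S).preimage (sqW.lift ((yon S).map e) ((yon S).map e) hℓ)
  have hℓ1 : ℓ ≫ p₁ = e := (yon S).map_injective (by
    rw [Functor.map_comp, Functor.map_preimage, sqW.lift_fst])
  have hℓ2 : ℓ ≫ p₂ = e := (yon S).map_injective (by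
    rw [Functor.map_comp, Functor.map_preimage, sqW.lift_snd])
  have key : ∀ {Z : Over S} (x : Z ⟶ W) (y : Z ⟶ T), x ≫ p₁ = y → x ≫ p₂ = y →
      ((yon S).map y ≫ g ≫ prod.fst) ≫ Limits.diag F = (yon S).map y ≫ g := by
    intro Z x y h1 h2
    apply Limits.prod.hom_ext
    · rw [Category.assoc, d1, Category.comp_id, Category.assoc]
    · rw [Category.assoc, d2, Category.comp_id, Category.assoc]
      calc (yon S).map y ≫ g ≫ prod.fst
          = (yon S).map x ≫ (yon S).map p₁ ≫ g ≫ prod.fst := by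
            rw [← h1, Functor.map_comp, Category.assoc]
        _ = (yon S).map x ≫ (yon S).map p₂ ≫ g ≫ prod.snd := by rw [sqW.w]
        _ = (yon S).map y ≫ g ≫ prod.snd := by
            rw [← h2, Functor.map_comp, Category.assoc]
  have sq' : IsPullback ℓ e (prod.lift p₁ p₂) (Limits.diag T) := by
    have w : ℓ ≫ prod.lift p₁ p₂ = e ≫ Limits.diag T := by
      apply Limits.prod.hom_ext
      · rw [Category.assoc, Category.assoc, l1, dT1, Category.comp_id, hℓ1]
      · rw [Category.assoc, Category.assoc, l2, dT2, Category.comp_id, hℓ2]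
    have hs : ∀ s : PullbackCone (prod.lift p₁ p₂) (Limits.diag T),
        s.fst ≫ p₁ = s.snd ∧ s.fst ≫ p₂ = s.snd := by
      intro s
      have c1 := congrArg (· ≫ prod.fst) s.condition
      have c2 := congrArg (· ≫ prod.snd) s.condition
      simp only [Category.assoc] at c1 c2
      rw [l1, dT1, Category.comp_id] at c1
      rw [l2, dT2, Category.comp_id] at c2
      exact ⟨c1, c2⟩
    refine ⟨⟨w⟩, ⟨PullbackCone.IsLimit.mk _ (fun s => (yon S).preimage
      (sqE.lift ((yon S).map s.snd ≫ g ≫ prod.fst) ((yon S).map s.snd)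
        (key s.fst s.snd (hs s).1 (hs s).2))) ?_ ?_ ?_⟩⟩
    · intro s
      apply (yon S).map_injective
      apply sqW.hom_ext
      · rw [Functor.map_comp, Functor.map_preimage, Category.assoc, ← Functor.map_comp, hℓ1,
          sqE.lift_snd, ← Functor.map_comp, (hs s).1]
      · rw [Functor.map_comp, Functor.map_preimage, Category.assoc, ← Functor.map_comp, hℓ2,
          sqE.lift_snd, ← Functor.map_comp, (hs s).2]
    · intro s
      apply (yon S).map_injective
      rw [Functor.map_comp, Functor.map_preimage, sqE.lift_snd]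
    · intro s m _ hm
      apply (yon S).map_injective
      rw [Functor.map_preimage]
      apply sqE.hom_ext
      · rw [sqE.lift_fst, hE1, ← Category.assoc, ← Functor.map_comp, hm]
      · rw [sqE.lift_snd, ← Functor.map_comp, hm]
  exact P.of_isPullback (sq'.map (Over.forget S)) hP

end AlgSp
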