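import Groth.Agent.Lib.helper5.AlgSpCompact
import Groth.Agent.Lib.helper5.AlgSpLocal
import Groth.Agent.Lib.helper5.AlgSpFpqcRep

/-! helper5 library: the open subspace of a sheaf attached to an open set of points. -/

set_option autoImplicit false

universe u

open CategoryTheory CategoryTheory.Limits AlgebraicGeometry Opposite

namespace AlgSp

open Groth.Agent.Lib.helper5

variable {S : Scheme.{u}}

/-- A covering sieve for the fppf topology is jointly surjective. -/
theorem H5_exists_mem_sieve_of_point {U : Over S} {R : Sieve U} (hR : R ∈ J S U) (t : U.left) :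
    ∃ (W : Over S) (f : W ⟶ U), R f ∧ t ∈ Set.range f.left := by
  obtain ⟨R', hR', hle⟩ := H5_exists_fppf_le hR
  haveI : Scheme.JointlySurjective Scheme.fppfPrecoverage := by
    unfold Scheme.fppfPrecoverage
    infer_instance
  obtain ⟨Y, g, hg, hy⟩ := Scheme.JointlySurjective.exists_eq (K := Scheme.fppfPrecoverage) R' hR' t
  have hg' : R (Over.homMk g : Over.mk (g ≫ U.hom) ⟶ U) := (Sieve.overEquiv_iff _ _).1 (hle _ g hg)
  exact ⟨_, _, hg', hy⟩

/-- The subfunctor of `F` of sections all of whose points lie in `V`. -/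
def H5_openSubfunctor (F : Sp S) (V : Set (Points F)) : Subfunctor F.obj where
  obj T := {x | ∀ t : T.unop.left, Points.ofPt ((J S).uliftYonedaEquiv.symm x) t ∈ V}
  map := by
    intro T T' i x hx t
    rw [GrothendieckTopology.uliftYonedaEquiv_symm_map, H5_ofPt_comp]
    exact hx _

theorem H5_openSubfunctor_isSheaf (F : Sp S) (V : Set (Points F)) :
    Presheaf.IsSheaf (J S) (H5_openSubfunctor F V).toFunctor := by
  rw [isSheaf_iff_isSheaf_of_type]
  rw [Subfunctor.isSheaf_iff _ ((isSheaf_iff_isSheaf_of_type _ _).1 F.property)]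
  intro T x hx t
  obtain ⟨W, f, hf, w, hw⟩ := H5_exists_mem_sieve_of_point hx t
  have h1 : F.obj.map f.op x ∈ (H5_openSubfunctor F V).obj (op W) := hf
  have h2 := h1 w
  rw [GrothendieckTopology.uliftYonedaEquiv_symm_map, H5_ofPt_comp] at h2
  change Points.ofPt ((J S).uliftYonedaEquiv.symm x) (f.left w) ∈ V at h2
  rwa [hw] at h2

/-- The open subsheaf of `F` attached to a set of points `V`. -/
def H5_openSub (F : Sp S) (V : Set (Points F)) : Sp S :=
  ⟨(H5_openSubfunctor F V).toFunctor, H5_openSubfunctor_isSheaf F V⟩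

/-- The inclusion of the open subsheaf. -/
def H5_openSubι (F : Sp S) (V : Set (Points F)) : H5_openSub F V ⟶ F :=
  ObjectProperty.homMk (H5_openSubfunctor F V).ι

instance H5_openSubι_mono (F : Sp S) (V : Set (Points F)) : Mono (H5_openSubι F V) := by
  haveI : Mono ((sheafToPresheaf _ _).map (H5_openSubι F V)) :=
    inferInstanceAs (Mono (H5_openSubfunctor F V).ι)
  exact (sheafToPresheaf _ _).mono_of_mono_map inferInstance

/-- A morphism of sheaves inducing bijections on `Hom(h_T, -)` for all `T` is an isomorphism. -/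
theorem H5_isIso_of_yon_bijective {F G : Sp S} (k : F ⟶ G)
    (h : ∀ (T : Over S), Function.Bijective (fun a : (yon S).obj T ⟶ F => a ≫ k)) : IsIso k := by
  haveI : Mono k := ⟨fun α β hαβ => by
    apply GrothendieckTopology.hom_ext_uliftYoneda.{u + 1} (J S)
    intro T x
    apply (h T).1
    change (x ≫ α) ≫ k = (x ≫ β) ≫ k
    rw [Category.assoc, Category.assoc, hαβ]⟩
  haveI : Epi k := ⟨fun α β hαβ => by
    apply GrothendieckTopology.hom_ext_uliftYoneda.{u + 1} (J S)
    intro T t
    obtain ⟨x, hx⟩ := (h T).2 t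
    have hx' : x ≫ k = t := hx
    rw [← hx', Category.assoc, Category.assoc, hαβ]⟩
  exact isIso_of_mono_of_epi k

/-- A commutative square of sheaves is a pullback square if it is one on `Hom(h_T, -)` for all `T`. -/
theorem H5_isPullback_of_yon {P X Y Z : Sp S} {fst : P ⟶ X} {snd : P ⟶ Y} {f : X ⟶ Z} {g : Y ⟶ Z}
    (w : fst ≫ f = snd ≫ g)
    (h : ∀ (T : Over S) (a : (yon S).obj T ⟶ X) (b : (yon S).obj T ⟶ Y), a ≫ f = b ≫ g →
      ∃! c : (yon S).obj T ⟶ P, c ≫ fst = a ∧ c ≫ snd = b) : IsPullback fst snd f g := by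
  haveI : IsIso (pullback.lift fst snd w) := H5_isIso_of_yon_bijective _ (fun T => by
    constructor
    · intro c c' hcc
      have hcc' : c ≫ pullback.lift fst snd w = c' ≫ pullback.lift fst snd w := hcc
      have h1 := congrArg (· ≫ pullback.fst f g) hcc'
      have h2 := congrArg (· ≫ pullback.snd f g) hcc'
      beta_reduce at h1 h2
      rw [Category.assoc, Category.assoc, pullback.lift_fst] at h1
      rw [Category.assoc, Category.assoc, pullback.lift_snd] at h2
      obtain ⟨c₀, -, huniq⟩ := h T (c ≫ fst) (c ≫ snd) (by rw [Category.assoc, w, Category.assoc])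
      exact (huniq c ⟨rfl, rfl⟩).trans (huniq c' ⟨h1.symm, h2.symm⟩).symm
    · intro d
      obtain ⟨c, ⟨hc1, hc2⟩, -⟩ := h T (d ≫ pullback.fst f g) (d ≫ pullback.snd f g)
        (by rw [Category.assoc, pullback.condition, Category.assoc])
      refine ⟨c, ?_⟩
      apply pullback.hom_ext
      · rw [Category.assoc, pullback.lift_fst, hc1]
      · rw [Category.assoc, pullback.lift_snd, hc2])
  exact IsPullback.of_iso_pullback ⟨w⟩ (asIso (pullback.lift fst snd w)) (pullback.lift_fst _ _ _)
    (pullback.lift_snd _ _ _)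

/-- A morphism from a representable sheaf whose points land in `V` factors through the open
subsheaf. -/
def H5_openSubLift {F : Sp S} {V : Set (Points F)} {T : Over S} (x : (yon S).obj T ⟶ F)
    (h : ∀ t : T.left, Points.ofPt x t ∈ V) : (yon S).obj T ⟶ H5_openSub F V :=
  (J S).uliftYonedaEquiv.symm ⟨(J S).uliftYonedaEquiv x, by
    intro t
    rw [Equiv.symm_apply_apply]
    exact h t⟩

theorem H5_openSubLift_ι {F : Sp S} {V : Set (Points F)} {T : Over S} (x : (yon S).obj T ⟶ F)
    (h : ∀ t : T.left, Points.ofPt x t ∈ V) : H5_openSubLift x h ≫ H5_openSubι F V = x := by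
  unfold H5_openSubLift
  rw [GrothendieckTopology.uliftYonedaEquiv_symm_naturality_right]
  exact Equiv.symm_apply_apply _ _

/-- Points of sections of the open subsheaf lie in `V`. -/
theorem H5_openSub_ofPt_mem {F : Sp S} {V : Set (Points F)} {T : Over S}
    (b : (yon S).obj T ⟶ H5_openSub F V) (t : T.left) :
    Points.ofPt (b ≫ H5_openSubι F V) t ∈ V := by
  have h1 := ((J S).uliftYonedaEquiv b).2 t
  have h2 : (J S).uliftYonedaEquiv.symm ((J S).uliftYonedaEquiv b).1 = b ≫ H5_openSubι F V := by
    apply (J S).uliftYonedaEquiv.injective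
    rw [Equiv.apply_symm_apply]
    rfl
  rw [h2] at h1
  exact h1

theorem H5_openSub_range {F : Sp S} {V : Set (Points F)} :
    Set.range (Points.map (H5_openSubι F V)) = V := by
  ext v
  constructor
  · rintro ⟨x, rfl⟩
    obtain ⟨K, _, str, b, rfl⟩ := H5_exists_ofPt x
    rw [Points.map_ofPt]
    exact H5_openSub_ofPt_mem b _
  · intro hv
    obtain ⟨K, _, str, b, rfl⟩ := H5_exists_ofPt v
    have hb : ∀ t : (Over.mk str).left, Points.ofPt b t ∈ V := by
      intro t
      have hss : ∀ t' : Spec (CommRingCat.of K), t' = IsLocalRing.closedPoint K :=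
        fun t' => Subsingleton.elim _ _
      rw [hss t]
      exact hv
    refine ⟨Points.ofPt (H5_openSubLift b hb) (IsLocalRing.closedPoint K), ?_⟩
    rw [Points.map_ofPt, H5_openSubLift_ι]

/-- A morphism of sheaves whose points land in `V` factors through the open subsheaf. -/
theorem H5_exists_lift_openSub {F Z : Sp S} {V : Set (Points F)} (a : Z ⟶ F)
    (h : Set.range (Points.map a) ⊆ V) : ∃ b : Z ⟶ H5_openSub F V, b ≫ H5_openSubι F V = a := by
  refine ⟨ObjectProperty.homMk (Subfunctor.lift a.hom ?_), ?_⟩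
  · rintro ⟨T⟩ _ ⟨z, rfl⟩
    intro t
    have e : (GrothendieckTopology.uliftYonedaEquiv.{u + 1} (J S)).symm (a.hom.app ⟨T⟩ z) =
        (GrothendieckTopology.uliftYonedaEquiv.{u + 1} (J S)).symm z ≫ a := by
      rw [GrothendieckTopology.uliftYonedaEquiv_symm_naturality_right]
    change Points.ofPt ((GrothendieckTopology.uliftYonedaEquiv.{u + 1} (J S)).symm
      (a.hom.app ⟨T⟩ z)) t ∈ V
    rw [e, ← Points.map_ofPt]
    exact h ⟨_, rfl⟩
  · apply Sheaf.hom_ext
    rfl

/-- The pullback of the open subsheaf along a morphism from a representable sheaf. -/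
theorem H5_openSub_isPullback {F : Sp S} {V : Set (Points F)} {T : Over S}
    (x : (yon S).obj T ⟶ F) (W : T.left.Opens) (hW : (W : Set T.left) = Points.ofPt x ⁻¹' V) :
    ∃ top : (yon S).obj (H5_overOpen T W) ⟶ H5_openSub F V,
      IsPullback top ((yon S).map (H5_overOpenι T W)) (H5_openSubι F V) x := by
  have hpts : ∀ t : (H5_overOpen T W).left,
      Points.ofPt ((yon S).map (H5_overOpenι T W) ≫ x) t ∈ V := by
    intro t
    rw [H5_ofPt_comp]
    have h1 : (H5_overOpenι T W).left t ∈ (W : Set T.left) := t.2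
    rw [hW] at h1
    exact h1
  refine ⟨H5_openSubLift _ hpts, H5_isPullback_of_yon (H5_openSubLift_ι _ _) ?_⟩
  intro T' a b hab
  obtain ⟨ψ, rfl⟩ := (yon S).map_surjective b
  have hψ : ∀ t' : T'.left, ψ.left t' ∈ W := by
    intro t'
    change ψ.left t' ∈ (W : Set T.left)
    rw [hW]
    change Points.ofPt x (ψ.left t') ∈ V
    rw [← H5_ofPt_comp, ← hab]
    exact H5_openSub_ofPt_mem a t'
  have hrange : Set.range ψ.left ⊆ Set.range W.ι := by
    rintro _ ⟨t', rfl⟩
    rw [Scheme.Opens.range_ι]
    exact hψ t'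
  have hψ'l : IsOpenImmersion.lift W.ι ψ.left hrange ≫ W.ι = ψ.left :=
    IsOpenImmersion.lift_fac _ _ _
  let ψ' : T' ⟶ H5_overOpen T W := Over.homMk (IsOpenImmersion.lift W.ι ψ.left hrange) (by
    change IsOpenImmersion.lift W.ι ψ.left hrange ≫ W.ι ≫ T.hom = T'.hom
    rw [← Category.assoc, hψ'l, Over.w ψ])
  have hψ' : ψ' ≫ H5_overOpenι T W = ψ := by
    apply Over.OverMorphism.ext
    exact hψ'l
  refine ⟨(yon S).map ψ', ⟨?_, ?_⟩, ?_⟩
  · rw [← cancel_mono (H5_openSubι F V), Category.assoc, H5_openSubLift_ι, ← Category.assoc,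
      ← CategoryTheory.Functor.map_comp, hψ', hab]
  · rw [← CategoryTheory.Functor.map_comp, hψ']
  · rintro c ⟨-, hc2⟩
    obtain ⟨φ, rfl⟩ := (yon S).map_surjective c
    congr 1
    have h2 : φ ≫ H5_overOpenι T W = ψ' ≫ H5_overOpenι T W := by
      apply (yon S).map_injective
      rw [CategoryTheory.Functor.map_comp, hc2, hψ']
    apply Over.OverMorphism.ext
    have h3 : φ.left ≫ W.ι = ψ'.left ≫ W.ι := congrArg (fun m => m.left) h2
    exact (cancel_mono W.ι).1 h3

/-- The inclusion of the open subsheaf attached to an open set is a representable open immersion. -/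
theorem H5_repWith_isOpenImmersion_openSubι (F : Sp S) {V : Set (Points F)} (hV : IsOpen V) :
    RepWith @IsOpenImmersion (H5_openSubι F V) := by
  refine MorphismProperty.relative.of_exists ?_
  intro T x
  obtain ⟨top, sq⟩ := H5_openSub_isPullback (V := V) x
    ⟨Points.ofPt x ⁻¹' V, Points.isOpen_iff.1 hV T x⟩ rfl
  exact ⟨_, top, H5_overOpenι T _, sq, (inferInstance : IsOpenImmersion (Scheme.Opens.ι _))⟩

/-- The open subsheaf of an algebraic space attached to an open set of points is an algebraic
space. -/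
theorem H5_isAlgSpace_openSub {F : Sp S} (hF : IsAlgSpace F) {V : Set (Points F)} (hV : IsOpen V) :
    IsAlgSpace (H5_openSub F V) where
  diag := by
    have sq : IsPullback (𝟙 _) (𝟙 _) (H5_openSubι F V) (H5_openSubι F V) :=
      IsKernelPair.id_of_mono _
    exact MorphismProperty.of_isPullback (H5_isPullback_diag sq) hF.diag
  atlas := by
    obtain ⟨U, p, hpe, hps⟩ := hF.atlas
    obtain ⟨top, sq⟩ := H5_openSub_isPullback (V := V) p
      ⟨Points.ofPt p ⁻¹' V, Points.isOpen_iff.1 hV U p⟩ rfl
    exact ⟨_, top, MorphismProperty.of_isPullback sq.flip hpe,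
      MorphismProperty.of_isPullback sq.flip hps⟩

/-- A morphism whose points land in the image of a representable open immersion factors through
it. -/
theorem H5_exists_factor_of_range_subset {X X' Z : Sp S} (j : X' ⟶ X)
    (hj : RepWith @IsOpenImmersion j) (a : Z ⟶ X)
    (h : Set.range (Points.map a) ⊆ Set.range (Points.map j)) : ∃ g : Z ⟶ X', g ≫ j = a := by
  have sq := IsPullback.of_hasPullback a j
  have h1 : RepWith @IsOpenImmersion (pullback.fst a j) := MorphismProperty.of_isPullback sq.flip hj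
  have h2 : Function.Surjective (Points.map (pullback.fst a j)) := by
    intro z
    obtain ⟨y, hy⟩ := h ⟨z, rfl⟩
    obtain ⟨w, hw1, -⟩ := H5_points_pullback_surj sq z y hy.symm
    exact ⟨w, hw1⟩
  have h3 : RepWith @Surjective (pullback.fst a j) :=
    H5_repWith_surjective_of_surjective _ h1.1 h2
  have h4 : RepWith (MorphismProperty.isomorphisms Scheme.{u}) (pullback.fst a j) := by
    refine ⟨h1.1, fun T V' g fst snd sq' => ?_⟩
    haveI : IsOpenImmersion snd.left := h1.2 g fst snd sq'
    haveI : Surjective snd.left := h3.2 g fst snd sq'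
    exact (isIso_iff_isOpenImmersion_and_surjective snd.left).2 ⟨inferInstance, inferInstance⟩
  haveI := H5_isIso_of_repWith_isomorphisms _ h4
  refine ⟨inv (pullback.fst a j) ≫ pullback.snd a j, ?_⟩
  rw [Category.assoc, ← pullback.condition, IsIso.inv_hom_id_assoc]

end AlgSp
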