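import Groth.Agent.Lib.helper5.AlgSpFpqcOI
import Groth.Agent.Lib.helper5.AlgSpOpenSub
import Groth.Agent.Lib.helper5.AlgSpFppfOpen
import Groth.Agent.Lib.helper5.AlgSpInj
import Groth.Agent.Lib.helper5.AlgSpLocP
import Groth.Agent.Lib.helper5.AlgSpDiag2
import Mathlib.AlgebraicGeometry.Morphisms.FlatMono

/-! Etale universally injective morphisms of algebraic spaces are open immersions. -/

universe u

open CategoryTheory Limits AlgebraicGeometry Opposite

namespace AlgSp

variable {S : Scheme.{u}}

/-- Local surjectivity as a morphism property of sheaves. -/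
def H5_locSurj : MorphismProperty (Sp S) := fun _ _ f => Sheaf.IsLocallySurjective f

instance H5_locSurj_baseChange : (H5_locSurj (S := S)).IsStableUnderBaseChange where
  of_isPullback {X Y Y' Z f g f' g'} sq hg := by
    haveI : Sheaf.IsLocallySurjective g := hg
    exact H5_isLocallySurjective_of_isPullback sq

instance H5_locSurj_comp : (H5_locSurj (S := S)).IsStableUnderComposition where
  comp_mem f g hf hg := by
    haveI : Sheaf.IsLocallySurjective f := hf
    haveI : Sheaf.IsLocallySurjective g := hg
    exact Presheaf.isLocallySurjective_comp (J S) f.hom g.hom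

theorem H5_isLocallySurjective_pullback_map {U X Y : Sp S} (a : U ⟶ X) (f : X ⟶ Y)
    [Sheaf.IsLocallySurjective a] :
    Sheaf.IsLocallySurjective (pullback.map (a ≫ f) (a ≫ f) f f a a (𝟙 Y)
      (Category.comp_id _) (Category.comp_id _)) :=
  MorphismProperty.pullbackMap (P := H5_locSurj) (show H5_locSurj a from ‹_›)
    (show H5_locSurj a from ‹_›) rfl rfl

/-- A representable etale monomorphism is an open immersion. -/
theorem H5_repWith_isOpenImmersion_of_etale_of_mono {F G : Sp S} (k : F ⟶ G)
    (h : RepWith @Etale k) [Mono k] : RepWith @IsOpenImmersion k := by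
  refine ⟨h.1, fun T V g fst snd sq => ?_⟩
  haveI : Etale snd.left := h.2 g fst snd sq
  haveI : Mono ((yon S).map snd) := H5_mono_of_isPullback sq
  haveI : Mono snd := (yon S).mono_of_mono_map ‹_›
  haveI : Mono snd.left := inferInstance
  exact IsOpenImmersion.of_flat_of_mono snd.left

/-- The diagonal of an etale morphism (in the sense of the reference) of algebraic spaces is an
open immersion. -/
theorem H5_repWith_isOpenImmersion_diagonal_of_isEtaleMor {X Y : Sp S} (hX : IsAlgSpace X)
    (f : X ⟶ Y) (het : IsEtaleMor f) : RepWith @IsOpenImmersion (pullback.diagonal f) := by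
  obtain ⟨U, a, ha1, ha3⟩ := hX.atlas
  have hg : RepWith @Etale (a ≫ f) := het a ha1
  haveI : Sheaf.IsLocallySurjective a := H5_isLocallySurjective_of_etale a ha1 ha3
  haveI := H5_isLocallySurjective_pullback_map a f
  have sq := pullback_map_diagonal_isPullback a a f
  -- the base change of the diagonal
  have hδ1 : RepWith @Etale (pullback.mapDesc a a f) := by
    refine H5_repWith_etale_of_postcomp _ (pullback.fst (a ≫ f) (a ≫ f))
      (MorphismProperty.pullback_fst _ _ hg) ?_
    have e : pullback.mapDesc a a f ≫ pullback.fst (a ≫ f) (a ≫ f) = pullback.fst a a :=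
      (pullback.lift_fst _ _ _).trans (Category.comp_id _)
    rw [e]
    exact MorphismProperty.pullback_fst _ _ ha1
  haveI : Mono (pullback.mapDesc a a f) := by
    constructor
    intro Z φ ψ h
    have h1 := congrArg (· ≫ pullback.fst (a ≫ f) (a ≫ f)) h
    have h2 := congrArg (· ≫ pullback.snd (a ≫ f) (a ≫ f)) h
    simp only [Category.assoc, pullback.lift_fst, pullback.lift_snd, Category.comp_id] at h1 h2
    exact pullback.hom_ext h1 h2
  have hδ : RepWith @IsOpenImmersion (pullback.mapDesc a a f) :=
    H5_repWith_isOpenImmersion_of_etale_of_mono _ hδ1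
  exact H5_repWith_of_locSurj_base (pullback.diagonal f) (H5_diagonal_properties hX f).1
    _ _ _ _ sq @IsOpenImmersion hδ

/-- An etale universally injective morphism of algebraic spaces is a monomorphism. -/
theorem H5_mono_of_isEtaleMor_of_isUnivInjectiveMor {X Y : Sp S} (hX : IsAlgSpace X)
    (f : X ⟶ Y) (het : IsEtaleMor f) (hinj : IsUnivInjectiveMor f) : Mono f := by
  have h1 := H5_repWith_isOpenImmersion_diagonal_of_isEtaleMor hX f het
  have h2 : IsSurjectiveMor (pullback.diagonal f) :=
    H5_surjective_diagonal_of_injOnFieldPts f (H5_injOnFieldPts_of_isUnivInjectiveMor f hX.diag hinj)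
  haveI : IsIso (pullback.diagonal f) :=
    H5_isIso_of_repWith_isOpenImmersion_of_surjective _ h1 h2
  exact (pullback.isIso_diagonal_iff f).1 inferInstance

end AlgSp
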