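import Groth.Prelude.Def_AlgSpInf

/-! Diagram chases with infinitesimal lifting squares. -/

universe u

open CategoryTheory Limits AlgebraicGeometry Opposite

namespace AlgSp

variable {S : Scheme.{u}}

theorem H5_hasUniqLift_iff {F G : Sp S} {f : F ⟶ G} (sq : InfSq f) :
    sq.HasUniqLift ↔ sq.HasLift ∧ sq.HasUniq := by
  constructor
  · rintro ⟨l, hl, hu⟩
    refine ⟨⟨l, hl⟩, fun l1 l2 h1 h2 h3 h4 => ?_⟩
    rw [hu l1 ⟨h1, h2⟩, hu l2 ⟨h3, h4⟩]
  · rintro ⟨⟨l, hl⟩, hu⟩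
    exact ⟨l, hl, fun l' hl' => hu l' l hl'.1 hl'.2 hl.1 hl.2⟩

theorem H5_isFormallyEtaleMor_iff {F G : Sp S} (f : F ⟶ G) :
    IsFormallyEtaleMor f ↔ IsFormallySmoothMor f ∧ IsFormallyUnramifiedMor f := by
  constructor
  · intro h
    exact ⟨fun sq => ((H5_hasUniqLift_iff sq).1 (h sq)).1, fun sq => ((H5_hasUniqLift_iff sq).1 (h sq)).2⟩
  · rintro ⟨h1, h2⟩ sq
    exact (H5_hasUniqLift_iff sq).2 ⟨h1 sq, h2 sq⟩

/-- Change the arrows of an infinitesimal square, keeping the thickening. -/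
noncomputable abbrev H5_InfSq_change {F G F' G' : Sp S} {f : F ⟶ G} (sq : InfSq f) (f' : F' ⟶ G')
    (top : (yon S).obj sq.ptT ⟶ F') (bot : (yon S).obj sq.ptT' ⟶ G')
    (comm : top ≫ f' = (yon S).map sq.j ≫ bot) : InfSq f' where
  A := sq.A
  I := sq.I
  sq_zero := sq.sq_zero
  str := sq.str
  top := top
  bot := bot
  comm := comm

theorem H5_formallySmooth_comp {F G H : Sp S} (a : F ⟶ G) (b : G ⟶ H)
    (ha : IsFormallySmoothMor a) (hb : IsFormallySmoothMor b) : IsFormallySmoothMor (a ≫ b) := by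
  intro sq
  obtain ⟨l1, h1, h2⟩ := hb (H5_InfSq_change sq b (sq.top ≫ a) sq.bot
    (by rw [Category.assoc]; exact sq.comm))
  obtain ⟨l, h3, h4⟩ := ha (H5_InfSq_change sq a sq.top l1 h1.symm)
  refine ⟨l, h3, ?_⟩
  have : l ≫ a = l1 := h4
  rw [← Category.assoc, this]
  exact h2

theorem H5_formallyUnramified_comp {F G H : Sp S} (a : F ⟶ G) (b : G ⟶ H)
    (ha : IsFormallyUnramifiedMor a) (hb : IsFormallyUnramifiedMor b) :
    IsFormallyUnramifiedMor (a ≫ b) := by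
  intro sq l l' h1 h2 h3 h4
  have e : l ≫ a = l' ≫ a := by
    refine hb (H5_InfSq_change sq b (sq.top ≫ a) sq.bot (by rw [Category.assoc]; exact sq.comm))
      (l ≫ a) (l' ≫ a) ?_ ?_ ?_ ?_
    · change (yon S).map sq.j ≫ l ≫ a = sq.top ≫ a
      rw [← Category.assoc, h1]
    · change (l ≫ a) ≫ b = sq.bot
      rw [Category.assoc]; exact h2
    · change (yon S).map sq.j ≫ l' ≫ a = sq.top ≫ a
      rw [← Category.assoc, h3]
    · change (l' ≫ a) ≫ b = sq.bot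
      rw [Category.assoc]; exact h4
  refine ha (H5_InfSq_change sq a sq.top (l ≫ a) (by rw [← Category.assoc, h1])) l l' h1 rfl h3 e.symm

theorem H5_formallyUnramified_of_comp {F G H : Sp S} (a : F ⟶ G) (b : G ⟶ H)
    (h : IsFormallyUnramifiedMor (a ≫ b)) : IsFormallyUnramifiedMor a := by
  intro sq l l' h1 h2 h3 h4
  refine h (H5_InfSq_change sq (a ≫ b) sq.top (sq.bot ≫ b)
    (by rw [← Category.assoc, sq.comm, Category.assoc])) l l' h1 ?_ h3 ?_
  · change l ≫ a ≫ b = sq.bot ≫ b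
    rw [← Category.assoc, h2]
  · change l' ≫ a ≫ b = sq.bot ≫ b
    rw [← Category.assoc, h4]

theorem H5_formallySmooth_of_comp {F G H : Sp S} (a : F ⟶ G) (b : G ⟶ H)
    (hb : IsFormallyUnramifiedMor b)
    (h : IsFormallySmoothMor (a ≫ b)) : IsFormallySmoothMor a := by
  intro sq
  obtain ⟨l, h1, h2⟩ : ∃ l : (yon S).obj sq.ptT' ⟶ F,
      (yon S).map sq.j ≫ l = sq.top ∧ l ≫ a ≫ b = sq.bot ≫ b :=
    h (H5_InfSq_change sq (a ≫ b) sq.top (sq.bot ≫ b)
      (by rw [← Category.assoc, sq.comm, Category.assoc]))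
  refine ⟨l, h1, ?_⟩
  refine hb (H5_InfSq_change sq b (sq.top ≫ a) (sq.bot ≫ b)
    (by rw [sq.comm, Category.assoc])) (l ≫ a) sq.bot ?_ ?_ ?_ rfl
  · change (yon S).map sq.j ≫ l ≫ a = sq.top ≫ a
    have : (yon S).map sq.j ≫ l = sq.top := h1
    rw [← Category.assoc, this]
  · change (l ≫ a) ≫ b = sq.bot ≫ b
    exact (Category.assoc _ _ _).trans h2
  · exact sq.comm.symm

theorem H5_formallySmooth_baseChange {F G H P : Sp S} (a : F ⟶ G) (b : H ⟶ G)
    (b' : P ⟶ F) (a' : P ⟶ H) (hP : IsPullback b' a' a b)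
    (ha : IsFormallySmoothMor a) : IsFormallySmoothMor a' := by
  intro sq
  obtain ⟨l, h1, h2⟩ := ha (H5_InfSq_change sq a (sq.top ≫ b') (sq.bot ≫ b)
    (by rw [Category.assoc, hP.w, ← Category.assoc, sq.comm, Category.assoc]))
  have h1' : (yon S).map sq.j ≫ l = sq.top ≫ b' := h1
  have h2' : l ≫ a = sq.bot ≫ b := h2
  refine ⟨hP.lift l sq.bot h2', ?_, hP.lift_snd _ _ _⟩
  apply hP.hom_ext
  · rw [Category.assoc, hP.lift_fst, h1']
  · rw [Category.assoc, hP.lift_snd, sq.comm]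

theorem H5_formallyUnramified_baseChange {F G H P : Sp S} (a : F ⟶ G) (b : H ⟶ G)
    (b' : P ⟶ F) (a' : P ⟶ H) (hP : IsPullback b' a' a b)
    (ha : IsFormallyUnramifiedMor a) : IsFormallyUnramifiedMor a' := by
  intro sq l l' h1 h2 h3 h4
  apply hP.hom_ext
  · refine ha (H5_InfSq_change sq a (sq.top ≫ b') (sq.bot ≫ b)
      (by rw [Category.assoc, hP.w, ← Category.assoc, sq.comm, Category.assoc]))
      (l ≫ b') (l' ≫ b') ?_ ?_ ?_ ?_
    · change (yon S).map sq.j ≫ l ≫ b' = sq.top ≫ b'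
      rw [← Category.assoc, h1]
    · change (l ≫ b') ≫ a = sq.bot ≫ b
      rw [Category.assoc, hP.w, ← Category.assoc, h2]
    · change (yon S).map sq.j ≫ l' ≫ b' = sq.top ≫ b'
      rw [← Category.assoc, h3]
    · change (l' ≫ b') ≫ a = sq.bot ≫ b
      rw [Category.assoc, hP.w, ← Category.assoc, h4]
  · rw [h2, h4]

end AlgSp
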