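import Groth.Prelude.Def_AlgSpInf
import Groth.Agent.S1489
import Groth.Agent.Lib.helper5.AlgSpInfSq
import Groth.Agent.Lib.helper5.AlgSpAffine

/-! Formally étale / unramified morphisms of sheaves: representable étale maps are formally étale,
restriction of infinitesimal squares along ring maps, local uniqueness. -/

universe u

open CategoryTheory CategoryTheory.Limits AlgebraicGeometry Opposite

namespace AlgSp

variable {S : Scheme.{u}}

/-- A representable étale morphism of sheaves is formally étale. -/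
theorem H5_hasUniqLift_of_repWith_etale {F G : Sp S} (a : F ⟶ G) (h : RepWith @Etale a)
    (sq : InfSq a) : sq.HasUniqLift := by
  obtain ⟨W, snd, fst, pb⟩ := h.1 sq.bot
  have het : Etale snd.left := h.2 sq.bot fst snd pb
  have hfe : MoreMor.IsFormallyEtaleHom snd.left :=
    ((Groth.Agent.S1489.result snd.left).1 het).2
  obtain ⟨s, hs⟩ := (yon S).map_surjective (pb.lift sq.top ((yon S).map sq.j) sq.comm)
  have hs1 : (yon S).map s ≫ fst = sq.top := by rw [hs]; exact pb.lift_fst _ _ _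
  have hs2 : s ≫ snd = sq.j := by
    apply (yon S).map_injective
    rw [CategoryTheory.Functor.map_comp, hs]; exact pb.lift_snd _ _ _
  have hs2' : Spec.map (CommRingCat.ofHom (Ideal.Quotient.mk sq.I)) ≫
      𝟙 (Spec (CommRingCat.of sq.A)) = s.left ≫ snd.left := by
    rw [Category.comp_id]
    exact (congrArg CommaMorphism.left hs2).symm
  obtain ⟨l₀, ⟨hl1, hl2⟩, hl3⟩ := hfe sq.A sq.I sq.sq_zero s.left (𝟙 _) hs2'
  have hw : l₀ ≫ W.hom = sq.ptT'.hom := by
    rw [← Over.w snd, ← Category.assoc, hl2, Category.id_comp]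
  let l : sq.ptT' ⟶ W := Over.homMk l₀ hw
  have hl_snd : l ≫ snd = 𝟙 _ := Over.OverMorphism.ext hl2
  have hjl : sq.j ≫ l = s := Over.OverMorphism.ext hl1
  refine ⟨(yon S).map l ≫ fst, ⟨?_, ?_⟩, ?_⟩
  · rw [← Category.assoc, ← CategoryTheory.Functor.map_comp, hjl, hs1]
  · rw [Category.assoc, pb.w, ← Category.assoc, ← CategoryTheory.Functor.map_comp, hl_snd,
      CategoryTheory.Functor.map_id, Category.id_comp]
  · rintro l' ⟨h1, h2⟩
    obtain ⟨m₀, hm₀⟩ := (yon S).map_surjective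
      (pb.lift l' (𝟙 _) (by rw [h2, Category.id_comp]))
    have hm1 : (yon S).map m₀ ≫ fst = l' := by rw [hm₀]; exact pb.lift_fst _ _ _
    have hm2 : m₀ ≫ snd = 𝟙 _ := by
      apply (yon S).map_injective
      rw [CategoryTheory.Functor.map_comp, hm₀, pb.lift_snd, CategoryTheory.Functor.map_id]
    have hm3 : sq.j ≫ m₀ = s := by
      apply (yon S).map_injective
      apply pb.hom_ext
      · rw [CategoryTheory.Functor.map_comp, Category.assoc, hm1, h1, hs1]
      · rw [← CategoryTheory.Functor.map_comp, ← CategoryTheory.Functor.map_comp, Category.assoc,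
          hm2, Category.comp_id, hs2]
    have e1 : m₀.left = l₀ :=
      hl3 m₀.left ⟨congrArg CommaMorphism.left hm3, congrArg CommaMorphism.left hm2⟩
    have e2 : m₀ = l := Over.OverMorphism.ext e1
    rw [← hm1, e2]

theorem H5_isFormallyEtaleMor_of_repWith_etale {F G : Sp S} (a : F ⟶ G) (h : RepWith @Etale a) :
    IsFormallyEtaleMor a := fun sq => H5_hasUniqLift_of_repWith_etale a h sq

theorem H5_thk_square {A B : Type u} [CommRing A] [CommRing B] (I : Ideal A) (φ : A →+* B) :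
    Spec.map (CommRingCat.ofHom (Ideal.Quotient.mk (I.map φ))) ≫ Spec.map (CommRingCat.ofHom φ) =
      Spec.map (CommRingCat.ofHom (Ideal.quotientMap (I.map φ) φ Ideal.le_comap_map)) ≫
        Spec.map (CommRingCat.ofHom (Ideal.Quotient.mk I)) := by
  rw [← Spec.map_comp, ← Spec.map_comp]
  congr 1

instance H5_thk_isClosedImmersion (A : Type u) [CommRing A] (I : Ideal A) :
    IsClosedImmersion (Spec.map (CommRingCat.ofHom (Ideal.Quotient.mk I))) :=
  IsClosedImmersion.spec_of_surjective _ Ideal.Quotient.mk_surjective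

theorem H5_thk_ker_isNilpotent (A : Type u) [CommRing A] (I : Ideal A) (hI : I ^ 2 = ⊥) :
    IsNilpotent (Spec.map (CommRingCat.ofHom (Ideal.Quotient.mk I))).ker := by
  refine ⟨2, ?_⟩
  apply Scheme.IdealSheafData.ext_of_isAffine
  rw [pow_two]
  change (Spec.map (CommRingCat.ofHom (Ideal.Quotient.mk I))).ker.ideal _ *
    (Spec.map (CommRingCat.ofHom (Ideal.Quotient.mk I))).ker.ideal _ = ⊥
  rw [Scheme.Hom.ker_apply, eq_bot_iff, Ideal.mul_le]
  intro r hr s hs
  have key : ∀ x, x ∈ RingHom.ker ((Spec.map (CommRingCat.ofHom (Ideal.Quotient.mk I))).app ⊤).hom →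
      (Scheme.ΓSpecIso (CommRingCat.of A)).hom x ∈ I := by
    intro x hx
    have h1 : (Scheme.ΓSpecIso (CommRingCat.of (A ⧸ I))).hom
        ((Spec.map (CommRingCat.ofHom (Ideal.Quotient.mk I))).appTop x) =
        (CommRingCat.ofHom (Ideal.Quotient.mk I)) ((Scheme.ΓSpecIso (CommRingCat.of A)).hom x) := by
      have := congr($(Scheme.ΓSpecIso_naturality (CommRingCat.ofHom (Ideal.Quotient.mk I))) x)
      exact this
    have hx' : (Spec.map (CommRingCat.ofHom (Ideal.Quotient.mk I))).appTop x = 0 := hx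
    rw [hx', map_zero] at h1
    have h2 : (Ideal.Quotient.mk I) ((Scheme.ΓSpecIso (CommRingCat.of A)).hom x) = 0 := h1.symm
    rwa [Ideal.Quotient.eq_zero_iff_mem] at h2
  have h3 : (Scheme.ΓSpecIso (CommRingCat.of A)).hom (r * s) ∈ I ^ 2 := by
    rw [map_mul, pow_two]
    exact Ideal.mul_mem_mul (key r hr) (key s hs)
  rw [hI, Ideal.mem_bot] at h3
  rw [Ideal.mem_bot]
  exact (ConcreteCategory.bijective_of_isIso (Scheme.ΓSpecIso (CommRingCat.of A)).hom).1
    (by rw [h3, map_zero])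


section Res

variable {F G : Sp S} {f : F ⟶ G}

/-- `Spec B` over `S` via `φ : A → B`. -/
noncomputable abbrev H5_resT' (sq : InfSq f) {B : Type u} [CommRing B] (φ : sq.A →+* B) : Over S :=
  Over.mk (Spec.map (CommRingCat.ofHom φ) ≫ sq.str)

/-- `Spec (B / IB)` over `S`. -/
noncomputable abbrev H5_resT (sq : InfSq f) {B : Type u} [CommRing B] (φ : sq.A →+* B) : Over S :=
  Over.mk (Spec.map (CommRingCat.ofHom (Ideal.Quotient.mk (sq.I.map φ))) ≫
    Spec.map (CommRingCat.ofHom φ) ≫ sq.str)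

noncomputable abbrev H5_resr (sq : InfSq f) {B : Type u} [CommRing B] (φ : sq.A →+* B) :
    H5_resT' sq φ ⟶ sq.ptT' := Over.homMk (Spec.map (CommRingCat.ofHom φ)) rfl

noncomputable abbrev H5_resq (sq : InfSq f) {B : Type u} [CommRing B] (φ : sq.A →+* B) :
    H5_resT sq φ ⟶ sq.ptT :=
  Over.homMk (Spec.map (CommRingCat.ofHom (Ideal.quotientMap (sq.I.map φ) φ Ideal.le_comap_map)))
    (by
      change _ ≫ Spec.map _ ≫ sq.str = Spec.map _ ≫ Spec.map _ ≫ sq.str
      rw [← Category.assoc, ← H5_thk_square, Category.assoc])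

noncomputable abbrev H5_resj (sq : InfSq f) {B : Type u} [CommRing B] (φ : sq.A →+* B) :
    H5_resT sq φ ⟶ H5_resT' sq φ :=
  Over.homMk (Spec.map (CommRingCat.ofHom (Ideal.Quotient.mk (sq.I.map φ)))) rfl

theorem H5_res_w (sq : InfSq f) {B : Type u} [CommRing B] (φ : sq.A →+* B) :
    H5_resq sq φ ≫ sq.j = H5_resj sq φ ≫ H5_resr sq φ :=
  Over.OverMorphism.ext (H5_thk_square sq.I φ).symm

/-- Restriction of an infinitesimal square along a ring map `A → B`. -/
noncomputable abbrev H5_InfSq_res (sq : InfSq f) {B : Type u} [CommRing B] (φ : sq.A →+* B) :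
    InfSq f where
  A := B
  I := sq.I.map φ
  sq_zero := by rw [← Ideal.map_pow, sq.sq_zero, Ideal.map_bot]
  str := Spec.map (CommRingCat.ofHom φ) ≫ sq.str
  top := (yon S).map (H5_resq sq φ) ≫ sq.top
  bot := (yon S).map (H5_resr sq φ) ≫ sq.bot
  comm := calc
    ((yon S).map (H5_resq sq φ) ≫ sq.top) ≫ f
        = (yon S).map (H5_resq sq φ) ≫ (sq.top ≫ f) := Category.assoc _ _ _
    _ = (yon S).map (H5_resq sq φ) ≫ ((yon S).map sq.j ≫ sq.bot) := by rw [sq.comm]
    _ = (yon S).map (H5_resq sq φ ≫ sq.j) ≫ sq.bot := by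
        rw [CategoryTheory.Functor.map_comp, Category.assoc]
    _ = (yon S).map (H5_resj sq φ ≫ H5_resr sq φ) ≫ sq.bot := by rw [H5_res_w]
    _ = (yon S).map (H5_resj sq φ) ≫ (yon S).map (H5_resr sq φ) ≫ sq.bot := by
        rw [CategoryTheory.Functor.map_comp, Category.assoc]

/-- An affine scheme over `T'` is isomorphic to some `Spec B` as above. -/
theorem H5_exists_res_iso (sq : InfSq f) {Z : Over S} (hZ : IsAffine Z.left) (c : Z ⟶ sq.ptT') :
    ∃ (B : Type u) (_ : CommRing B) (φ : sq.A →+* B) (ε : Z ⟶ H5_resT' sq φ)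
      (ε' : H5_resT' sq φ ⟶ Z), ε ≫ ε' = 𝟙 _ ∧ ε' ≫ ε = 𝟙 _ ∧ ε ≫ H5_resr sq φ = c := by
  haveI := hZ
  let e := Z.left.isoSpec
  let φc : CommRingCat.of sq.A ⟶ Γ(Z.left, ⊤) := Spec.preimage (e.inv ≫ c.left)
  have hφc : Spec.map φc = e.inv ≫ c.left := Spec.map_preimage _
  have hw1 : e.hom ≫ Spec.map φc ≫ sq.str = Z.hom := by
    rw [hφc, Category.assoc, Iso.hom_inv_id_assoc]
    exact Over.w c
  have hw2 : e.inv ≫ Z.hom = Spec.map φc ≫ sq.str := by
    rw [← hw1, Iso.inv_hom_id_assoc]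
  refine ⟨Γ(Z.left, ⊤), inferInstance, φc.hom, Over.homMk e.hom hw1, Over.homMk e.inv hw2,
    ?_, ?_, ?_⟩
  · exact Over.OverMorphism.ext e.hom_inv_id
  · exact Over.OverMorphism.ext e.inv_hom_id
  · apply Over.OverMorphism.ext
    change e.hom ≫ Spec.map φc = c.left
    rw [hφc, Iso.hom_inv_id_assoc]

/-- Maps from a scheme over `T'` to a sheaf agree if they agree on all affine schemes `Spec B`
over it. -/
theorem H5_hom_ext_res (sq : InfSq f) {X : Sp S} {Z : Over S}
    (z : Z ⟶ sq.ptT') (x₁ x₂ : (yon S).obj Z ⟶ X)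
    (h : ∀ (B : Type u) [CommRing B] (φ : sq.A →+* B) (v : H5_resT' sq φ ⟶ Z),
      v ≫ z = H5_resr sq φ → (yon S).map v ≫ x₁ = (yon S).map v ≫ x₂) : x₁ = x₂ := by
  refine H5_hom_ext_of_sieve (H5_affineSieve_mem Z) _ _ ?_
  rintro W u ⟨Z₁, hZ₁, a, b, rfl⟩
  obtain ⟨B, instB, φ, ε, ε', h1, h2, h3⟩ := H5_exists_res_iso sq hZ₁ (b ≫ z)
  have key := h B φ (ε' ≫ b) (by rw [Category.assoc, ← h3, ← Category.assoc, h2, Category.id_comp])
  have e : a ≫ b = (a ≫ ε) ≫ (ε' ≫ b) := by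
    rw [Category.assoc, ← Category.assoc ε, h1, Category.id_comp]
  rw [e, CategoryTheory.Functor.map_comp, Category.assoc, Category.assoc, key]

end Res

/-- If `a` is locally surjective and formally smooth and `a ≫ f` is formally unramified, then `f`
is formally unramified. -/
theorem H5_formallyUnramified_of_locSurj_smooth {H X Y : Sp S} (a : H ⟶ X) (f : X ⟶ Y)
    [Sheaf.IsLocallySurjective a] (ha : IsFormallySmoothMor a)
    (haf : IsFormallyUnramifiedMor (a ≫ f)) : IsFormallyUnramifiedMor f := by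
  intro sq l l' h1 h2 h3 h4
  obtain ⟨R, hR, hlift⟩ := H5_exists_local_lift a l
  refine H5_hom_ext_of_sieve hR _ _ ?_
  intro W u hu
  obtain ⟨t, ht⟩ := hlift u hu
  refine H5_hom_ext_res sq u _ _ ?_
  intro B _ φ v hv
  obtain ⟨u₁, hu₁⟩ : ∃ u₁ : (yon S).obj (H5_resT' sq φ) ⟶ H, u₁ = (yon S).map v ≫ t := ⟨_, rfl⟩
  have hu₁a : u₁ ≫ a = (yon S).map (H5_resr sq φ) ≫ l := by
    rw [hu₁, Category.assoc, ht, ← Category.assoc ((yon S).map v),
      ← CategoryTheory.Functor.map_comp, hv]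
  have hq : ∀ m : (yon S).obj sq.ptT' ⟶ X, (yon S).map sq.j ≫ m = sq.top →
      (yon S).map (H5_resj sq φ) ≫ (yon S).map (H5_resr sq φ) ≫ m =
        (yon S).map (H5_resq sq φ) ≫ sq.top := by
    intro m hm
    rw [← Category.assoc ((yon S).map (H5_resj sq φ)), ← CategoryTheory.Functor.map_comp,
      ← H5_res_w, CategoryTheory.Functor.map_comp, Category.assoc, hm]
  obtain ⟨u₂, hu₂1, hu₂2⟩ : ∃ u₂ : (yon S).obj (H5_resT' sq φ) ⟶ H,
      (yon S).map (H5_resj sq φ) ≫ u₂ = (yon S).map (H5_resj sq φ) ≫ u₁ ∧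
        u₂ ≫ a = (yon S).map (H5_resr sq φ) ≫ l' :=
    ha (H5_InfSq_change (H5_InfSq_res sq φ) a ((yon S).map (H5_resj sq φ) ≫ u₁)
      ((yon S).map (H5_resr sq φ) ≫ l') (by
        rw [Category.assoc, hu₁a, hq l h1]
        exact (hq l' h3).symm))
  have e : u₁ = u₂ := by
    refine haf (H5_InfSq_change (H5_InfSq_res sq φ) (a ≫ f) ((yon S).map (H5_resj sq φ) ≫ u₁)
      ((yon S).map (H5_resr sq φ) ≫ sq.bot) ?_) u₁ u₂ rfl ?_ hu₂1 ?_
    · rw [Category.assoc, ← Category.assoc u₁, hu₁a, Category.assoc, h2]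
    · show u₁ ≫ a ≫ f = (yon S).map (H5_resr sq φ) ≫ sq.bot
      rw [← Category.assoc u₁ a f, hu₁a, Category.assoc, h2]
    · show u₂ ≫ a ≫ f = (yon S).map (H5_resr sq φ) ≫ sq.bot
      rw [← Category.assoc u₂ a f, hu₂2, Category.assoc, h4]
  rw [← Category.assoc ((yon S).map v) ((yon S).map u) l,
    ← Category.assoc ((yon S).map v) ((yon S).map u) l', ← CategoryTheory.Functor.map_comp, hv,
    ← hu₁a, e, hu₂2]

end AlgSp
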