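import Groth.Agent.Lib.helper5.AlgSpEtMono
import Groth.Agent.Lib.helper5.AlgSpFib
import Mathlib.AlgebraicGeometry.Morphisms.FormallyUnramified

/-! Unramified morphisms of algebraic spaces and the diagonal. -/

universe u

open CategoryTheory Limits AlgebraicGeometry Opposite

namespace CategoryTheory

theorem H5_diagonal_comp {C : Type*} [Category C] [HasPullbacks C] {X Y Z : C} (f : X ⟶ Y)
    (g : Y ⟶ Z) : pullback.diagonal (f ≫ g) = pullback.diagonal f ≫ pullback.mapDesc f f g := by
  apply pullback.hom_ext
  · rw [pullback.diagonal_fst, Category.assoc]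
    erw [pullback.lift_fst]
    rw [Category.comp_id, pullback.diagonal_fst]
  · rw [pullback.diagonal_snd, Category.assoc]
    erw [pullback.lift_snd]
    rw [Category.comp_id, pullback.diagonal_snd]

instance H5_mono_mapDesc {C : Type*} [Category C] [HasPullbacks C] {X Y Z T : C} (f : X ⟶ Z)
    (g : Y ⟶ Z) (i : Z ⟶ T) : Mono (pullback.mapDesc f g i) := by
  constructor
  intro W φ ψ h
  have h1 := congrArg (· ≫ pullback.fst (f ≫ i) (g ≫ i)) h
  have h2 := congrArg (· ≫ pullback.snd (f ≫ i) (g ≫ i)) h
  simp only [Category.assoc, pullback.lift_fst, pullback.lift_snd, Category.comp_id] at h1 h2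
  exact pullback.hom_ext h1 h2

/-- If the diagonal of `f ≫ g` has `Q` so has the diagonal of `f`. -/
theorem H5_diagonal_of_comp {C : Type*} [Category C] [HasPullbacks C] (Q : MorphismProperty C)
    [Q.IsStableUnderBaseChange] {X Y Z : C} (f : X ⟶ Y) (g : Y ⟶ Z)
    (h : Q (pullback.diagonal (f ≫ g))) : Q (pullback.diagonal f) := by
  rw [H5_diagonal_comp] at h
  exact Q.of_postcomp (W' := MorphismProperty.monomorphisms C) _ (pullback.mapDesc f f g)
    (MorphismProperty.monomorphisms.infer_property _) h

end CategoryTheory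

namespace AlgSp

variable {S : Scheme.{u}}

/-- The diagonal of a representable etale morphism is an open immersion. -/
theorem H5_repWith_isOpenImmersion_diagonal_of_etale {F G : Sp S} (b : F ⟶ G)
    (hb : RepWith @Etale b) : RepWith @IsOpenImmersion (pullback.diagonal b) :=
  H5_repWith_isOpenImmersion_of_etale_of_mono _ (H5_repWith_etale_diagonal b hb)

theorem H5_isOpenImmersion_le_etale :
    (@IsOpenImmersion : MorphismProperty Scheme.{u}) ≤ @Etale := fun _ _ k hk => by
  haveI : IsOpenImmersion k := hk
  exact (inferInstance : Etale k)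

/-- If the diagonal of `a ≫ f` is an open immersion for an etale surjective `a` then so is the
diagonal of `f`. -/
theorem H5_repWith_isOpenImmersion_diagonal_of_atlas {X Y F : Sp S} (hX : IsAlgSpace X)
    (f : X ⟶ Y) (a : F ⟶ X) (ha1 : RepWith @Etale a) (ha3 : RepWith @Surjective a)
    (h : RepWith @IsOpenImmersion (pullback.diagonal (a ≫ f))) :
    RepWith @IsOpenImmersion (pullback.diagonal f) := by
  haveI : Sheaf.IsLocallySurjective a := H5_isLocallySurjective_of_etale a ha1 ha3
  haveI := H5_isLocallySurjective_pullback_map a f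
  have sq := pullback_map_diagonal_isPullback a a f
  have hΔ : RepWith @Etale (pullback.diagonal (pullback.fst (a ≫ f) (a ≫ f))) := by
    refine H5_repWith_of_le H5_isOpenImmersion_le_etale ?_
    exact MorphismProperty.pullback_fst (P := (RepWith (S := S) @IsOpenImmersion).diagonal) _ _ h
  have hδ1 : RepWith @Etale (pullback.mapDesc a a f) := by
    refine H5_of_postcomp (RepWith @Etale) _ (pullback.fst (a ≫ f) (a ≫ f)) hΔ ?_
    have e : pullback.mapDesc a a f ≫ pullback.fst (a ≫ f) (a ≫ f) = pullback.fst a a :=
      (pullback.lift_fst _ _ _).trans (Category.comp_id _)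
    rw [e]
    exact MorphismProperty.pullback_fst _ _ ha1
  have hδ : RepWith @IsOpenImmersion (pullback.mapDesc a a f) :=
    H5_repWith_isOpenImmersion_of_etale_of_mono _ hδ1
  exact H5_repWith_of_locSurj_base (pullback.diagonal f) (H5_diagonal_properties hX f).1
    _ _ _ _ sq @IsOpenImmersion hδ

/-- A morphism locally of finite type with diagonal an open immersion is unramified. -/
theorem H5_locP_unramified_of_diagonal {X Y : Sp S} (f : X ⟶ Y)
    (hlft : LocP @LocallyOfFiniteType f)
    (hΔ : RepWith @IsOpenImmersion (pullback.diagonal f)) :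
    LocP (@LocallyOfFiniteType ⊓ @FormallyUnramified) f := by
  intro U V a b h ha hb hcomm
  refine ⟨hlft a b h ha hb hcomm, ?_⟩
  have h1 : (RepWith (S := S) @IsOpenImmersion).diagonal (a ≫ f) :=
    MorphismProperty.comp_mem _ _ _ (H5_repWith_isOpenImmersion_diagonal_of_etale a ha) hΔ
  rw [hcomm] at h1
  have h2 : RepWith @IsOpenImmersion (pullback.diagonal ((yon S).map h)) :=
    CategoryTheory.H5_diagonal_of_comp _ _ b h1
  haveI : IsOpenImmersion (pullback.diagonal h.left) :=
    (repWith_diagonal_yon_map_iff @IsOpenImmersion h).1 h2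
  exact (inferInstance : FormallyUnramified h.left)

/-- The diagonal of an unramified morphism of algebraic spaces is an open immersion. -/
theorem H5_diagonal_of_locP_unramified {X Y : Space S} (f : X ⟶ Y)
    (hunr : LocP (@LocallyOfFiniteType ⊓ @FormallyUnramified) f.hom) :
    RepWith @IsOpenImmersion (pullback.diagonal f.hom) := by
  obtain ⟨V, b, hb1, hb3⟩ := Y.property.atlas
  have hXV : IsAlgSpace (pullback f.hom b) :=
    H5_isAlgSpace_of_isPullback Y.obj Y.property.diag X ⟨(yon S).obj V, IsAlgSpace.yon_obj V⟩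
      f.hom b _ _ _ (IsPullback.of_hasPullback f.hom b)
  obtain ⟨U, a', ha1', ha3'⟩ := hXV.atlas
  have ha1 : RepWith @Etale (a' ≫ pullback.fst f.hom b) :=
    MorphismProperty.comp_mem _ _ _ ha1' (MorphismProperty.pullback_fst _ _ hb1)
  have ha3 : RepWith @Surjective (a' ≫ pullback.fst f.hom b) :=
    MorphismProperty.comp_mem _ _ _ ha3' (MorphismProperty.pullback_fst _ _ hb3)
  obtain ⟨h, hh⟩ := (yon S).map_surjective (a' ≫ pullback.snd f.hom b)
  have hcomm : (a' ≫ pullback.fst f.hom b) ≫ f.hom = (yon S).map h ≫ b := by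
    rw [Category.assoc, pullback.condition, ← Category.assoc, hh]
  obtain ⟨hP1, hP2⟩ := hunr _ b h ha1 hb1 hcomm
  haveI : LocallyOfFiniteType h.left := hP1
  haveI : FormallyUnramified h.left := hP2
  have h1 : (RepWith (S := S) @IsOpenImmersion).diagonal ((yon S).map h) :=
    (repWith_diagonal_yon_map_iff @IsOpenImmersion h).2
      (inferInstance : IsOpenImmersion (pullback.diagonal h.left))
  have h2 : (RepWith (S := S) @IsOpenImmersion).diagonal ((yon S).map h ≫ b) :=
    MorphismProperty.comp_mem _ _ _ h1 (H5_repWith_isOpenImmersion_diagonal_of_etale b hb1)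
  rw [← hcomm] at h2
  exact H5_repWith_isOpenImmersion_diagonal_of_atlas X.property f.hom _ ha1 ha3 h2

end AlgSp
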