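import Groth.Agent.Lib.helper5.AlgSpFEt
import Groth.Agent.Lib.helper5.AlgSpUnram
import Groth.Agent.Lib.helper5.AlgSpFib
import Groth.Agent.Lib.helper1.FEtHom4

/-! Formal smoothness / unramifiedness: scheme-level bridging and chart lemmas. -/

universe u

open CategoryTheory CategoryTheory.Limits AlgebraicGeometry Opposite

namespace AlgSp

variable {S : Scheme.{u}}

/-- The infinitesimal square of `h_g` attached to a lifting problem of schemes. -/
noncomputable abbrev H5_InfSq_ofScheme {U V : Over S} (g : U ⟶ V) (A : Type u) [CommRing A]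
    (I : Ideal A) (hI : I ^ 2 = ⊥)
    (a : Spec (CommRingCat.of (A ⧸ I)) ⟶ U.left) (b : Spec (CommRingCat.of A) ⟶ V.left)
    (w : Spec.map (CommRingCat.ofHom (Ideal.Quotient.mk I)) ≫ b = a ≫ g.left) :
    InfSq ((yon S).map g) where
  A := A
  I := I
  sq_zero := hI
  str := b ≫ V.hom
  top := (yon S).map (Over.homMk a (by
    change a ≫ U.hom = Spec.map (CommRingCat.ofHom (Ideal.Quotient.mk I)) ≫ b ≫ V.hom
    rw [← Over.w g, ← Category.assoc a, ← w, Category.assoc]))
  bot := (yon S).map (Over.homMk b rfl)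
  comm := by
    rw [← CategoryTheory.Functor.map_comp, ← CategoryTheory.Functor.map_comp]
    exact congrArg (yon S).map (Over.OverMorphism.ext w.symm)

/-- Scheme-level uniqueness of lifts from formal unramifiedness of `h_g`. -/
theorem H5_scheme_lift_unique {U V : Over S} (g : U ⟶ V)
    (hg : IsFormallyUnramifiedMor ((yon S).map g)) (A : Type u) [CommRing A] (I : Ideal A)
    (hI : I ^ 2 = ⊥) (g₁ g₂ : Spec (CommRingCat.of A) ⟶ U.left)
    (h1 : Spec.map (CommRingCat.ofHom (Ideal.Quotient.mk I)) ≫ g₁ =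
      Spec.map (CommRingCat.ofHom (Ideal.Quotient.mk I)) ≫ g₂)
    (h2 : g₁ ≫ g.left = g₂ ≫ g.left) : g₁ = g₂ := by
  have hw1 : g₁ ≫ U.hom = (g₁ ≫ g.left) ≫ V.hom := by rw [Category.assoc, Over.w g]
  have hw2 : g₂ ≫ U.hom = (g₁ ≫ g.left) ≫ V.hom := by rw [h2, Category.assoc, Over.w g]
  have key := hg (H5_InfSq_ofScheme g A I hI
    (Spec.map (CommRingCat.ofHom (Ideal.Quotient.mk I)) ≫ g₁) (g₁ ≫ g.left)
    (Category.assoc _ _ _).symm)
    ((yon S).map (Over.homMk g₁ hw1)) ((yon S).map (Over.homMk g₂ hw2))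
    (by rw [← CategoryTheory.Functor.map_comp]
        exact congrArg (yon S).map (Over.OverMorphism.ext rfl))
    (by rw [← CategoryTheory.Functor.map_comp]
        exact congrArg (yon S).map (Over.OverMorphism.ext rfl))
    (by rw [← CategoryTheory.Functor.map_comp]
        exact congrArg (yon S).map (Over.OverMorphism.ext h1.symm))
    (by rw [← CategoryTheory.Functor.map_comp]
        exact congrArg (yon S).map (Over.OverMorphism.ext h2.symm))
  exact congrArg CommaMorphism.left ((yon S).map_injective key)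

/-- `h_g` is formally unramified iff `g.left` is. -/
theorem H5_isFormallyUnramifiedMor_yon_map_iff {U V : Over S} (g : U ⟶ V) :
    IsFormallyUnramifiedMor ((yon S).map g) ↔ FormallyUnramified g.left := by
  constructor
  · intro hg
    refine FormallyUnramified.of_hom_ext g.left ?_
    intro R S' φ hφ hker g₁ g₂ h1 h2
    let e : (R ⧸ RingHom.ker φ.hom) ≃+* S' := RingHom.quotientKerEquivOfSurjective hφ
    let ε : CommRingCat.of (R ⧸ RingHom.ker φ.hom) ≅ S' := e.toCommRingCatIso
    have hε : CommRingCat.ofHom (Ideal.Quotient.mk (RingHom.ker φ.hom)) ≫ ε.hom = φ := by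
      ext x; rfl
    have hS : Spec.map φ = Spec.map ε.hom ≫
        Spec.map (CommRingCat.ofHom (Ideal.Quotient.mk (RingHom.ker φ.hom))) := by
      rw [← Spec.map_comp]
      exact congrArg Spec.map hε.symm
    have h1' : Spec.map (CommRingCat.ofHom (Ideal.Quotient.mk (RingHom.ker φ.hom))) ≫ g₁ =
        Spec.map (CommRingCat.ofHom (Ideal.Quotient.mk (RingHom.ker φ.hom))) ≫ g₂ := by
      rw [hS, Category.assoc, Category.assoc] at h1
      exact (cancel_epi (Spec.map ε.hom)).1 h1
    exact H5_scheme_lift_unique g hg R (RingHom.ker φ.hom) hker g₁ g₂ h1' h2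
  · intro hg sq l l' h1 h2 h3 h4
    obtain ⟨v₁, rfl⟩ := (yon S).map_surjective l
    obtain ⟨v₂, rfl⟩ := (yon S).map_surjective l'
    congr 1
    apply Over.OverMorphism.ext
    haveI := hg
    haveI : IsClosedImmersion sq.j.left := H5_thk_isClosedImmersion sq.A sq.I
    refine FormallyUnramified.hom_ext sq.j.left (H5_thk_ker_isNilpotent sq.A sq.I sq.sq_zero)
      g.left ?_ ?_
    · have := h1.trans h3.symm
      rw [← CategoryTheory.Functor.map_comp, ← CategoryTheory.Functor.map_comp] at this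
      exact congrArg CommaMorphism.left ((yon S).map_injective this)
    · have := h2.trans h4.symm
      rw [← CategoryTheory.Functor.map_comp, ← CategoryTheory.Functor.map_comp] at this
      exact congrArg CommaMorphism.left ((yon S).map_injective this)

/-- `h_g` formally smooth implies `g.left` formally smooth (lifting sense), and conversely. -/
theorem H5_isFormallySmoothMor_yon_map_iff {U V : Over S} (g : U ⟶ V) :
    IsFormallySmoothMor ((yon S).map g) ↔ MoreMor.IsFormallySmoothHom g.left := by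
  constructor
  · intro hg A _ I hI a b w
    obtain ⟨l, h1, h2⟩ := hg (H5_InfSq_ofScheme g A I hI a b w)
    obtain ⟨l₀, rfl⟩ := (yon S).map_surjective l
    rw [← CategoryTheory.Functor.map_comp] at h1 h2
    refine ⟨l₀.left, ?_, ?_⟩
    · exact congrArg CommaMorphism.left ((yon S).map_injective h1)
    · exact congrArg CommaMorphism.left ((yon S).map_injective h2)
  · intro hg sq
    obtain ⟨t₀, ht₀⟩ := (yon S).map_surjective sq.top
    obtain ⟨b₀, hb₀⟩ := (yon S).map_surjective sq.bot
    have hc : t₀ ≫ g = sq.j ≫ b₀ := by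
      apply (yon S).map_injective
      rw [CategoryTheory.Functor.map_comp, CategoryTheory.Functor.map_comp, ht₀, hb₀]
      exact sq.comm
    have w : Spec.map (CommRingCat.ofHom (Ideal.Quotient.mk sq.I)) ≫ b₀.left =
        t₀.left ≫ g.left := (congrArg CommaMorphism.left hc).symm
    obtain ⟨l₀, h1, h2⟩ := hg sq.A sq.I sq.sq_zero t₀.left b₀.left w
    have hw : l₀ ≫ U.hom = sq.ptT'.hom := by
      rw [← Over.w g, ← Category.assoc, h2]
      exact Over.w b₀
    refine ⟨(yon S).map (Over.homMk l₀ hw), ?_, ?_⟩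
    · rw [← ht₀, ← CategoryTheory.Functor.map_comp]
      exact congrArg (yon S).map (Over.OverMorphism.ext h1)
    · rw [← hb₀, ← CategoryTheory.Functor.map_comp]
      exact congrArg (yon S).map (Over.OverMorphism.ext h2)

/-- `h_g` formally étale implies `g.left` formally étale (lifting sense). -/
theorem H5_isFormallyEtaleHom_of_yon_map {U V : Over S} (g : U ⟶ V)
    (hg : IsFormallyEtaleMor ((yon S).map g)) : MoreMor.IsFormallyEtaleHom g.left := by
  intro A _ I hI a b w
  have hg' := (H5_isFormallyEtaleMor_iff _).1 hg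
  obtain ⟨l, h1, h2⟩ := (H5_isFormallySmoothMor_yon_map_iff g).1 hg'.1 A I hI a b w
  refine ⟨l, ⟨h1, h2⟩, ?_⟩
  rintro l' ⟨h3, h4⟩
  exact H5_scheme_lift_unique g hg'.2 A I hI l' l (h3.trans h1.symm) (h4.trans h2.symm)

/-- Charts of a formally smooth morphism along a formally étale source chart and a formally
unramified target chart are formally smooth. -/
theorem H5_formallySmooth_of_charts {U' V' X Y : Sp S} (a : U' ⟶ X) (b : V' ⟶ Y) (h' : U' ⟶ V')
    (f : X ⟶ Y) (w : a ≫ f = h' ≫ b) (ha : IsFormallyEtaleMor a)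
    (hb : IsFormallyUnramifiedMor b) (hf : IsFormallySmoothMor f) : IsFormallySmoothMor h' := by
  intro sq
  obtain ⟨lX, h1, h2⟩ : ∃ lX : (yon S).obj sq.ptT' ⟶ X,
      (yon S).map sq.j ≫ lX = sq.top ≫ a ∧ lX ≫ f = sq.bot ≫ b :=
    hf (H5_InfSq_change sq f (sq.top ≫ a) (sq.bot ≫ b) (by
      rw [Category.assoc, w, ← Category.assoc, sq.comm, Category.assoc]))
  obtain ⟨l, h3, h4⟩ : ∃ l : (yon S).obj sq.ptT' ⟶ U',
      (yon S).map sq.j ≫ l = sq.top ∧ l ≫ a = lX :=
    ((H5_hasUniqLift_iff _).1 (ha (H5_InfSq_change sq a sq.top lX h1.symm))).1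
  refine ⟨l, h3, ?_⟩
  refine hb (H5_InfSq_change sq b (sq.top ≫ h') (sq.bot ≫ b) (by
    rw [sq.comm, Category.assoc])) (l ≫ h') sq.bot ?_ ?_ sq.comm.symm rfl
  · show (yon S).map sq.j ≫ l ≫ h' = sq.top ≫ h'
    rw [← Category.assoc, h3]
  · show (l ≫ h') ≫ b = sq.bot ≫ b
    rw [Category.assoc, ← w, ← Category.assoc, h4, h2]

/-- Charts of a formally unramified morphism are formally unramified. -/
theorem H5_formallyUnramified_of_charts {U' V' X Y : Sp S} (a : U' ⟶ X) (b : V' ⟶ Y)
    (h' : U' ⟶ V') (f : X ⟶ Y) (w : a ≫ f = h' ≫ b) (ha : IsFormallyUnramifiedMor a)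
    (hf : IsFormallyUnramifiedMor f) : IsFormallyUnramifiedMor h' := by
  refine H5_formallyUnramified_of_comp h' b ?_
  rw [← w]
  exact H5_formallyUnramified_comp a f ha hf

/-- A morphism with a surjective étale chart whose chart map is formally unramified is formally
unramified. -/
theorem H5_formallyUnramified_of_chart {X Y : Sp S} (f : X ⟶ Y) {U V : Over S}
    (a : (yon S).obj U ⟶ X) (b : (yon S).obj V ⟶ Y) (h : U ⟶ V)
    (ha : RepWith @Etale a) (has : RepWith @Surjective a) (hb : RepWith @Etale b)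
    (w : a ≫ f = (yon S).map h ≫ b) (hh : FormallyUnramified h.left) :
    IsFormallyUnramifiedMor f := by
  haveI : Sheaf.IsLocallySurjective a := H5_isLocallySurjective_of_etale a ha has
  have hae := (H5_isFormallyEtaleMor_iff a).1 (H5_isFormallyEtaleMor_of_repWith_etale a ha)
  have hbe := (H5_isFormallyEtaleMor_iff b).1 (H5_isFormallyEtaleMor_of_repWith_etale b hb)
  refine H5_formallyUnramified_of_locSurj_smooth a f hae.1 ?_
  rw [w]
  exact H5_formallyUnramified_comp _ _ ((H5_isFormallyUnramifiedMor_yon_map_iff h).2 hh) hbe.2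

/-- Compatible surjective étale charts of a morphism of algebraic spaces. -/
theorem H5_exists_charts {X Y : Space S} (f : X ⟶ Y) :
    ∃ (U V : Over S) (a : (yon S).obj U ⟶ X.obj) (b : (yon S).obj V ⟶ Y.obj) (h : U ⟶ V),
      RepWith @Etale a ∧ RepWith @Surjective a ∧ RepWith @Etale b ∧ RepWith @Surjective b ∧
        a ≫ f.hom = (yon S).map h ≫ b := by
  obtain ⟨V, b, hb1, hb3⟩ := Y.property.atlas
  have hXV : IsAlgSpace (pullback f.hom b) :=
    H5_isAlgSpace_of_isPullback Y.obj Y.property.diag X ⟨(yon S).obj V, IsAlgSpace.yon_obj V⟩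
      f.hom b _ _ _ (IsPullback.of_hasPullback f.hom b)
  obtain ⟨U, a', ha1', ha3'⟩ := hXV.atlas
  have ha1 : RepWith @Etale (a' ≫ pullback.fst f.hom b) :=
    MorphismProperty.comp_mem _ _ _ ha1' (MorphismProperty.pullback_fst _ _ hb1)
  have ha3 : RepWith @Surjective (a' ≫ pullback.fst f.hom b) :=
    MorphismProperty.comp_mem _ _ _ ha3' (MorphismProperty.pullback_fst _ _ hb3)
  obtain ⟨h, hh⟩ := (yon S).map_surjective (a' ≫ pullback.snd f.hom b)
  refine ⟨U, V, _, b, h, ha1, ha3, hb1, hb3, ?_⟩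
  rw [Category.assoc, pullback.condition, ← Category.assoc, hh]

end AlgSp
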