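import Groth.Agent.Lib.helper5.AlgSpFEt2
import Mathlib.CategoryTheory.Sites.RegularEpi

/-! Étale morphisms of algebraic spaces (in the sense of the reference) are formally étale. -/

universe u

open CategoryTheory CategoryTheory.Limits AlgebraicGeometry Opposite

namespace AlgSp

variable {S : Scheme.{u}}

/-- Uniqueness of lifts over an arbitrary scheme over `T'`, for a formally unramified morphism. -/
theorem H5_unram_hom_ext {F G : Sp S} {f : F ⟶ G} (hf : IsFormallyUnramifiedMor f)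
    (sq : InfSq f) {Z : Over S} (z : Z ⟶ sq.ptT') (m₁ m₂ : (yon S).obj Z ⟶ F)
    (h₁ : m₁ ≫ f = (yon S).map z ≫ sq.bot) (h₂ : m₂ ≫ f = (yon S).map z ≫ sq.bot)
    (hc₁ : ∀ (Z₀ : Over S) (c : Z₀ ⟶ Z) (d : Z₀ ⟶ sq.ptT), c ≫ z = d ≫ sq.j →
      (yon S).map c ≫ m₁ = (yon S).map d ≫ sq.top)
    (hc₂ : ∀ (Z₀ : Over S) (c : Z₀ ⟶ Z) (d : Z₀ ⟶ sq.ptT), c ≫ z = d ≫ sq.j →
      (yon S).map c ≫ m₂ = (yon S).map d ≫ sq.top) : m₁ = m₂ := by
  refine H5_hom_ext_res sq z _ _ ?_
  intro B _ φ v hv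
  have hcd : (H5_resj sq φ ≫ v) ≫ z = H5_resq sq φ ≫ sq.j := by
    rw [Category.assoc, hv, H5_res_w]
  refine hf (H5_InfSq_res sq φ) ((yon S).map v ≫ m₁) ((yon S).map v ≫ m₂) ?_ ?_ ?_ ?_
  · show (yon S).map (H5_resj sq φ) ≫ (yon S).map v ≫ m₁ = (yon S).map (H5_resq sq φ) ≫ sq.top
    rw [← Category.assoc ((yon S).map (H5_resj sq φ)), ← CategoryTheory.Functor.map_comp]
    exact hc₁ _ _ _ hcd
  · show ((yon S).map v ≫ m₁) ≫ f = (yon S).map (H5_resr sq φ) ≫ sq.bot
    rw [Category.assoc, h₁, ← Category.assoc ((yon S).map v), ← CategoryTheory.Functor.map_comp, hv]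
  · show (yon S).map (H5_resj sq φ) ≫ (yon S).map v ≫ m₂ = (yon S).map (H5_resq sq φ) ≫ sq.top
    rw [← Category.assoc ((yon S).map (H5_resj sq φ)), ← CategoryTheory.Functor.map_comp]
    exact hc₂ _ _ _ hcd
  · show ((yon S).map v ≫ m₂) ≫ f = (yon S).map (H5_resr sq φ) ≫ sq.bot
    rw [Category.assoc, h₂, ← Category.assoc ((yon S).map v), ← CategoryTheory.Functor.map_comp, hv]

/-- Existence of infinitesimal lifts for a morphism with a surjective étale chart `φ` such that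
`φ ≫ f` is representable étale. -/
theorem H5_formallySmooth_of_chart {X Y : Sp S} (f : X ⟶ Y) {U : Over S}
    (φ : (yon S).obj U ⟶ X) (hφe : RepWith @Etale φ) (hφs : RepWith @Surjective φ)
    (hg : RepWith @Etale (φ ≫ f)) (hfu : IsFormallyUnramifiedMor f) : IsFormallySmoothMor f := by
  intro sq
  obtain ⟨W', snd', fst', pb'⟩ := hg.1 sq.bot
  haveI het' : Etale snd'.left := hg.2 sq.bot fst' snd' pb'
  obtain ⟨W, snd, fst, pb⟩ := hφe.1 sq.top
  haveI het : Etale snd.left := hφe.2 sq.top fst snd pb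
  haveI hsurj : Surjective snd.left := hφs.2 sq.top fst snd pb
  have hkw : fst ≫ (φ ≫ f) = (yon S).map (snd ≫ sq.j) ≫ sq.bot := by
    rw [← Category.assoc, pb.w, Category.assoc, sq.comm, CategoryTheory.Functor.map_comp,
      Category.assoc]
  obtain ⟨k, hk⟩ := (yon S).map_surjective (pb'.lift fst ((yon S).map (snd ≫ sq.j)) hkw)
  have hk1 : (yon S).map k ≫ fst' = fst := by rw [hk]; exact pb'.lift_fst _ _ _
  have hk2 : k ≫ snd' = snd ≫ sq.j := by
    apply (yon S).map_injective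
    rw [CategoryTheory.Functor.map_comp, hk]; exact pb'.lift_snd _ _ _
  -- the fibre product `Q = W' ×_{T'} T`
  obtain ⟨Q, q1, q2, sqQ⟩ : ∃ (Q : Over S) (q1 : Q ⟶ W') (q2 : Q ⟶ sq.ptT),
      IsPullback q1 q2 snd' sq.j := ⟨_, _, _, IsPullback.of_hasPullback _ _⟩
  obtain ⟨c, hc1, hc2⟩ : ∃ c : W ⟶ Q, c ≫ q1 = k ∧ c ≫ q2 = snd :=
    ⟨sqQ.lift k snd hk2, sqQ.lift_fst _ _ _, sqQ.lift_snd _ _ _⟩
  haveI hcm : Mono c := by
    constructor
    intro A α β hαβ
    apply (yon S).map_injective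
    apply pb.hom_ext
    · rw [← hk1, ← Category.assoc, ← Category.assoc, ← CategoryTheory.Functor.map_comp,
        ← CategoryTheory.Functor.map_comp, ← hc1, ← Category.assoc, ← Category.assoc, hαβ]
    · rw [← CategoryTheory.Functor.map_comp, ← CategoryTheory.Functor.map_comp, ← hc2,
        ← Category.assoc, ← Category.assoc, hαβ]
  have sqQ' : IsPullback q1.left q2.left snd'.left sq.j.left := sqQ.map (Over.forget S)
  haveI hq2e : Etale q2.left := MorphismProperty.of_isPullback (P := @Etale) sqQ' het'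
  haveI hjc : IsClosedImmersion sq.j.left := H5_thk_isClosedImmersion sq.A sq.I
  haveI hjs : Surjective sq.j.left :=
    ⟨Groth.Agent.H1.H1_thk_surjective sq.A sq.I sq.sq_zero⟩
  haveI hq1c : IsClosedImmersion q1.left :=
    MorphismProperty.of_isPullback (P := @IsClosedImmersion) sqQ'.flip hjc
  haveI hq1s : Surjective q1.left :=
    MorphismProperty.of_isPullback (P := @Surjective) sqQ'.flip hjs
  have hq1h : IsHomeomorph q1.left :=
    isHomeomorph_iff_continuous_isClosedMap_bijective.2 ⟨q1.left.continuous,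
      q1.left.isClosedEmbedding.isClosedMap, q1.left.isClosedEmbedding.injective, hq1s.surj⟩
  haveI hce : Etale c.left := by
    haveI : Etale (c.left ≫ q2.left) := by
      show Etale (c ≫ q2).left
      rw [hc2]; exact het
    exact Etale.of_comp c.left q2.left
  haveI hcml : Mono c.left := inferInstance
  haveI hco : IsOpenImmersion c.left := IsOpenImmersion.of_flat_of_mono c.left
  have hkx : ∀ w : W.left, k.left w = q1.left (c.left w) := by
    intro w
    rw [← hc1]; rfl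
  have hΩ : IsOpen (Set.range k.left) := by
    have e : Set.range k.left = q1.left '' Set.range c.left := by
      ext x
      constructor
      · rintro ⟨w, rfl⟩
        exact ⟨c.left w, ⟨w, rfl⟩, (hkx w).symm⟩
      · rintro ⟨_, ⟨w, rfl⟩, rfl⟩
        exact ⟨w, hkx w⟩
    rw [e]
    exact hq1h.isOpenMap _ c.left.isOpenEmbedding.isOpen_range
  -- the open subscheme `O'` of `W'`
  obtain ⟨O', hO'⟩ : ∃ O' : W'.left.Opens, (O' : Set W'.left) = Set.range k.left :=
    ⟨⟨Set.range k.left, hΩ⟩, rfl⟩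
  obtain ⟨O'S, ι', hι'⟩ : ∃ (O'S : Over S) (ι' : O'S ⟶ W'), IsOpenImmersion ι'.left ∧
      Set.range ι'.left = Set.range k.left :=
    ⟨Over.mk (O'.ι ≫ W'.hom), Over.homMk O'.ι rfl, inferInstanceAs (IsOpenImmersion O'.ι),
      by rw [← hO']; exact Scheme.Opens.range_ι O'⟩
  haveI hι'o : IsOpenImmersion ι'.left := hι'.1
  haveI hι'm : Mono ι' := by
    constructor
    intro A α β hαβ
    apply Over.OverMorphism.ext
    rw [← cancel_mono ι'.left]
    exact congrArg CommaMorphism.left hαβ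
  obtain ⟨o', ho'⟩ : ∃ o' : O'S ⟶ sq.ptT', o' = ι' ≫ snd' := ⟨_, rfl⟩
  have hkr : Set.range k.left ⊆ Set.range ι'.left := hι'.2.symm.subset
  obtain ⟨k₀, hk₀⟩ : ∃ k₀ : W ⟶ O'S, k₀ ≫ ι' = k := by
    refine ⟨Over.homMk (IsOpenImmersion.lift ι'.left k.left hkr) ?_, ?_⟩
    · rw [← Over.w ι', ← Category.assoc, IsOpenImmersion.lift_fac]
      exact Over.w k
    · exact Over.OverMorphism.ext (IsOpenImmersion.lift_fac _ _ _)
  have hk₀o : k₀ ≫ o' = snd ≫ sq.j := by
    rw [ho', ← Category.assoc, hk₀, hk2]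
  obtain ⟨l', hl'⟩ : ∃ l' : (yon S).obj O'S ⟶ X, l' = (yon S).map ι' ≫ fst' ≫ φ := ⟨_, rfl⟩
  have hl'f : l' ≫ f = (yon S).map o' ≫ sq.bot := by
    rw [hl', ho', Category.assoc, Category.assoc, pb'.w, CategoryTheory.Functor.map_comp,
      Category.assoc]
  -- compatibility of `l'` with the top arrow
  have hcompat : ∀ (Z₀ : Over S) (c₀ : Z₀ ⟶ O'S) (d : Z₀ ⟶ sq.ptT), c₀ ≫ o' = d ≫ sq.j →
      (yon S).map c₀ ≫ l' = (yon S).map d ≫ sq.top := by
    intro Z₀ c₀ d hcd
    have hcd' : (c₀ ≫ ι') ≫ snd' = d ≫ sq.j := by rw [Category.assoc, ← ho']; exact hcd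
    obtain ⟨a₀, ha1, ha2⟩ : ∃ a₀ : Z₀ ⟶ Q, a₀ ≫ q1 = c₀ ≫ ι' ∧ a₀ ≫ q2 = d :=
      ⟨sqQ.lift _ _ hcd', sqQ.lift_fst _ _ _, sqQ.lift_snd _ _ _⟩
    have hrange : Set.range a₀.left ⊆ Set.range c.left := by
      rintro _ ⟨z, rfl⟩
      have h1 : q1.left (a₀.left z) = ι'.left (c₀.left z) := by
        have := congrArg CommaMorphism.left ha1
        exact congrArg (fun m : Z₀.left ⟶ W'.left => m z) this
      have h2 : ι'.left (c₀.left z) ∈ Set.range k.left := hι'.2 ▸ ⟨_, rfl⟩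
      obtain ⟨w, hw⟩ := h2
      refine ⟨w, hq1h.injective ?_⟩
      rw [← hkx w, hw, h1]
    obtain ⟨e, he⟩ : ∃ e : Z₀ ⟶ W, e ≫ c = a₀ := by
      refine ⟨Over.homMk (IsOpenImmersion.lift c.left a₀.left hrange) ?_, ?_⟩
      · rw [← Over.w c, ← Category.assoc, IsOpenImmersion.lift_fac]
        exact Over.w a₀
      · exact Over.OverMorphism.ext (IsOpenImmersion.lift_fac _ _ _)
    have e1 : c₀ ≫ ι' = e ≫ k := by rw [← ha1, ← he, Category.assoc, hc1]
    have e2 : e ≫ snd = d := by rw [← hc2, ← Category.assoc, he, ha2]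
    rw [hl', ← Category.assoc, ← CategoryTheory.Functor.map_comp, e1,
      CategoryTheory.Functor.map_comp, Category.assoc, ← Category.assoc ((yon S).map k), hk1,
      pb.w, ← Category.assoc, ← CategoryTheory.Functor.map_comp, e2]
  -- kernel pair of `o'`
  obtain ⟨Z, p1, p2, sqZ⟩ : ∃ (Z : Over S) (p1 p2 : Z ⟶ O'S), IsPullback p1 p2 o' o' :=
    ⟨_, _, _, IsPullback.of_hasPullback _ _⟩
  have hmm : (yon S).map p1 ≫ l' = (yon S).map p2 ≫ l' := by
    refine H5_unram_hom_ext hfu sq (p1 ≫ o') _ _ ?_ ?_ ?_ ?_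
    · rw [Category.assoc, hl'f, ← Category.assoc, ← CategoryTheory.Functor.map_comp]
    · rw [Category.assoc, hl'f, ← Category.assoc, ← CategoryTheory.Functor.map_comp, sqZ.w]
    · intro Z₀ c₀ d hcd
      rw [← Category.assoc, ← CategoryTheory.Functor.map_comp]
      exact hcompat Z₀ (c₀ ≫ p1) d (by rw [Category.assoc]; exact hcd)
    · intro Z₀ c₀ d hcd
      rw [← Category.assoc, ← CategoryTheory.Functor.map_comp]
      exact hcompat Z₀ (c₀ ≫ p2) d (by rw [Category.assoc, ← sqZ.w]; exact hcd)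
  -- descent along the étale covering `o'`
  have ho'e : Etale o'.left := by
    rw [ho']
    show Etale (ι'.left ≫ snd'.left)
    infer_instance
  have ho's : Surjective o'.left := by
    refine ⟨fun y => ?_⟩
    obtain ⟨t, rfl⟩ := hjs.surj y
    obtain ⟨w, rfl⟩ := hsurj.surj t
    refine ⟨k₀.left w, ?_⟩
    exact congrArg (fun m : W.left ⟶ sq.ptT'.left => m w) (congrArg CommaMorphism.left hk₀o)
  haveI : Sheaf.IsLocallySurjective ((yon S).map o') :=
    H5_isLocallySurjective_of_etale _ ((repWith_yon_map_iff @Etale o').2 ho'e)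
      ((repWith_yon_map_iff @Surjective o').2 ho's)
  haveI : IsRegularEpi ((yon S).map o') := IsRegularEpiCategory.regularEpiOfEpi _
  have hkp : IsKernelPair ((yon S).map o') ((yon S).map p1) ((yon S).map p2) := sqZ.map (yon S)
  obtain ⟨l, hl⟩ := IsRegularEpi.exists_of_isKernelPair ((yon S).map o') hkp l' hmm
  haveI : Sheaf.IsLocallySurjective ((yon S).map snd) :=
    H5_isLocallySurjective_of_etale _ ((repWith_yon_map_iff @Etale snd).2 het)
      ((repWith_yon_map_iff @Surjective snd).2 hsurj)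
  refine ⟨l, ?_, ?_⟩
  · rw [← cancel_epi ((yon S).map snd), ← Category.assoc, ← CategoryTheory.Functor.map_comp,
      ← hk₀o, CategoryTheory.Functor.map_comp, Category.assoc, hl]
    exact hcompat W k₀ snd hk₀o
  · rw [← cancel_epi ((yon S).map o'), ← Category.assoc, hl, hl'f]

/-- A morphism with a surjective étale chart `φ` such that `φ ≫ f` is representable étale is
formally étale. -/
theorem H5_isFormallyEtaleMor_of_chart {X Y : Sp S} (f : X ⟶ Y) {U : Over S}
    (φ : (yon S).obj U ⟶ X) (hφe : RepWith @Etale φ) (hφs : RepWith @Surjective φ)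
    (hg : RepWith @Etale (φ ≫ f)) : IsFormallyEtaleMor f := by
  haveI : Sheaf.IsLocallySurjective φ := H5_isLocallySurjective_of_etale φ hφe hφs
  have hφ := (H5_isFormallyEtaleMor_iff φ).1 (H5_isFormallyEtaleMor_of_repWith_etale φ hφe)
  have hgg := (H5_isFormallyEtaleMor_iff _).1 (H5_isFormallyEtaleMor_of_repWith_etale _ hg)
  have hfu : IsFormallyUnramifiedMor f :=
    H5_formallyUnramified_of_locSurj_smooth φ f hφ.1 hgg.2
  exact (H5_isFormallyEtaleMor_iff f).2 ⟨H5_formallySmooth_of_chart f φ hφe hφs hg hfu, hfu⟩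

/-- An étale morphism (in the sense of the reference) from an algebraic space is formally étale. -/
theorem H5_isFormallyEtaleMor_of_isEtaleMor {X Y : Sp S} (hX : IsAlgSpace X) (f : X ⟶ Y)
    (hf : IsEtaleMor f) : IsFormallyEtaleMor f := by
  obtain ⟨U, φ, hφe, hφs⟩ := hX.atlas
  exact H5_isFormallyEtaleMor_of_chart f φ hφe hφs (hf φ hφe)

end AlgSp
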