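import Groth.Agent.Lib.helper5.AlgSpFEt3

/-! Uniqueness of lifts for formally unramified morphisms along first order thickenings of
algebraic spaces. -/

universe u

open CategoryTheory CategoryTheory.Limits AlgebraicGeometry Opposite

namespace AlgSp

variable {S : Scheme.{u}}

/-- Uniqueness of lifts along a thickening presented as `Spec (A/I) → Spec A`. -/
theorem H5_unram_unique_of_spec {F G : Sp S} {f : F ⟶ G} (hf : IsFormallyUnramifiedMor f)
    (A : Type u) [CommRing A] (I : Ideal A) (hI : I ^ 2 = ⊥) {Z₀ Z : Over S} (i : Z₀ ⟶ Z)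
    (e : Spec (CommRingCat.of A) ≅ Z.left) (τ₀ : Spec (CommRingCat.of (A ⧸ I)) ⟶ Z₀.left)
    (hτ₀ : τ₀ ≫ i.left = Spec.map (CommRingCat.ofHom (Ideal.Quotient.mk I)) ≫ e.hom)
    (l₁ l₂ : (yon S).obj Z ⟶ F) (h1 : (yon S).map i ≫ l₁ = (yon S).map i ≫ l₂)
    (h2 : l₁ ≫ f = l₂ ≫ f) : l₁ = l₂ := by
  obtain ⟨ZA, hZA⟩ : ∃ ZA : Over S, ZA = Over.mk (e.hom ≫ Z.hom) := ⟨_, rfl⟩
  have hw : τ₀ ≫ Z₀.hom =
      Spec.map (CommRingCat.ofHom (Ideal.Quotient.mk I)) ≫ e.hom ≫ Z.hom := by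
    rw [← Over.w i, ← Category.assoc, hτ₀, Category.assoc]
  let ε' : Over.mk (e.hom ≫ Z.hom) ⟶ Z := Over.homMk e.hom rfl
  let ε : Z ⟶ Over.mk (e.hom ≫ Z.hom) := Over.homMk e.inv (by
    change e.inv ≫ e.hom ≫ Z.hom = Z.hom
    rw [Iso.inv_hom_id_assoc])
  have hεε' : ε ≫ ε' = 𝟙 Z := Over.OverMorphism.ext e.inv_hom_id
  let τ : Over.mk (Spec.map (CommRingCat.ofHom (Ideal.Quotient.mk I)) ≫ e.hom ≫ Z.hom) ⟶ Z₀ :=
    Over.homMk τ₀ hw
  let jj : Over.mk (Spec.map (CommRingCat.ofHom (Ideal.Quotient.mk I)) ≫ e.hom ≫ Z.hom) ⟶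
      Over.mk (e.hom ≫ Z.hom) := Over.homMk (Spec.map (CommRingCat.ofHom (Ideal.Quotient.mk I))) rfl
  have hfact : τ ≫ i = jj ≫ ε' := Over.OverMorphism.ext hτ₀
  have hfact' : ∀ {H : Sp S} (m : (yon S).obj Z ⟶ H),
      (yon S).map jj ≫ (yon S).map ε' ≫ m = (yon S).map τ ≫ (yon S).map i ≫ m := by
    intro H m
    rw [← Category.assoc ((yon S).map jj), ← CategoryTheory.Functor.map_comp, ← hfact,
      CategoryTheory.Functor.map_comp, Category.assoc]
  have key : (yon S).map ε' ≫ l₁ = (yon S).map ε' ≫ l₂ := by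
    refine hf { A := A, I := I, sq_zero := hI, str := e.hom ≫ Z.hom,
                top := (yon S).map τ ≫ (yon S).map i ≫ l₁,
                bot := (yon S).map ε' ≫ l₁ ≫ f,
                comm := ?_ } ((yon S).map ε' ≫ l₁) ((yon S).map ε' ≫ l₂) ?_ ?_ ?_ ?_
    · rw [Category.assoc, Category.assoc]
      exact (hfact' (l₁ ≫ f)).symm
    · exact hfact' l₁
    · exact Category.assoc _ _ _
    · show (yon S).map jj ≫ (yon S).map ε' ≫ l₂ = (yon S).map τ ≫ (yon S).map i ≫ l₁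
      rw [h1]
      exact hfact' l₂
    · show ((yon S).map ε' ≫ l₂) ≫ f = (yon S).map ε' ≫ l₁ ≫ f
      rw [Category.assoc, h2]
  have e1 : ∀ m : (yon S).obj Z ⟶ F, m = (yon S).map ε ≫ (yon S).map ε' ≫ m := by
    intro m
    rw [← Category.assoc, ← CategoryTheory.Functor.map_comp, hεε', CategoryTheory.Functor.map_id,
      Category.id_comp]
  rw [e1 l₁, e1 l₂, key]

/-- A square-zero closed immersion into an affine scheme is of the form `Spec (A/I) → Spec A`. -/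
theorem H5_exists_spec_presentation {Z₀ Z : Scheme.{u}} (i : Z₀ ⟶ Z) [IsAffine Z]
    [IsClosedImmersion i] (hker : i.ker * i.ker = ⊥) :
    ∃ (A : Type u) (_ : CommRing A) (I : Ideal A) (_ : I ^ 2 = ⊥)
      (e : Spec (CommRingCat.of A) ≅ Z) (τ₀ : Spec (CommRingCat.of (A ⧸ I)) ⟶ Z₀),
      τ₀ ≫ i = Spec.map (CommRingCat.ofHom (Ideal.Quotient.mk I)) ≫ e.hom := by
  obtain ⟨hZ₀, hsurj⟩ := IsClosedImmersion.isAffine_surjective_of_isAffine i
  haveI := hZ₀
  have hI : (RingHom.ker i.appTop.hom) ^ 2 = ⊥ := by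
    have e1 : i.ker.ideal ⟨⊤, isAffineOpen_top Z⟩ = RingHom.ker i.appTop.hom :=
      Scheme.Hom.ker_apply i ⟨⊤, isAffineOpen_top Z⟩
    have e2 : (i.ker * i.ker).ideal ⟨⊤, isAffineOpen_top Z⟩ =
        i.ker.ideal ⟨⊤, isAffineOpen_top Z⟩ * i.ker.ideal ⟨⊤, isAffineOpen_top Z⟩ := rfl
    rw [hker] at e2
    rw [sq, ← e1, ← e2]
    rfl
  let e' : (Γ(Z, ⊤) ⧸ RingHom.ker i.appTop.hom) ≃+* Γ(Z₀, ⊤) :=
    RingHom.quotientKerEquivOfSurjective hsurj
  let ε : Γ(Z₀, ⊤) ⟶ CommRingCat.of (Γ(Z, ⊤) ⧸ RingHom.ker i.appTop.hom) :=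
    CommRingCat.ofHom e'.symm.toRingHom
  have hε : i.appTop ≫ ε = CommRingCat.ofHom (Ideal.Quotient.mk (RingHom.ker i.appTop.hom)) := by
    ext x
    show e'.symm (i.appTop.hom x) = Ideal.Quotient.mk _ x
    rw [RingEquiv.symm_apply_eq]
    rfl
  refine ⟨Γ(Z, ⊤), inferInstance, RingHom.ker i.appTop.hom, hI, Z.isoSpec.symm,
    Spec.map ε ≫ Z₀.isoSpec.inv, ?_⟩
  show (Spec.map ε ≫ Z₀.isoSpec.inv) ≫ i = _ ≫ Z.isoSpec.inv
  rw [Category.assoc, ← Scheme.isoSpec_inv_naturality, ← Category.assoc, ← Spec.map_comp, hε]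

/-- Uniqueness of lifts along a square-zero closed immersion into an affine scheme. -/
theorem H5_unram_unique_of_affine_thickening {F G : Sp S} {f : F ⟶ G}
    (hf : IsFormallyUnramifiedMor f) {Z₀ Z : Over S} (i : Z₀ ⟶ Z) (hZ : IsAffine Z.left)
    (hi : IsClosedImmersion i.left) (hker : i.left.ker * i.left.ker = ⊥)
    (l₁ l₂ : (yon S).obj Z ⟶ F) (h1 : (yon S).map i ≫ l₁ = (yon S).map i ≫ l₂)
    (h2 : l₁ ≫ f = l₂ ≫ f) : l₁ = l₂ := by
  haveI := hZ
  haveI := hi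
  obtain ⟨A, instA, I, hI, e, τ₀, hτ₀⟩ := H5_exists_spec_presentation i.left hker
  exact H5_unram_unique_of_spec hf A I hI i e τ₀ hτ₀ l₁ l₂ h1 h2

/-- The sieve of morphisms factoring through an affine open subscheme. -/
def H5_affineOpenSieve (T : Over S) : Sieve T where
  arrows W u := ∃ (Z : Over S) (_ : IsAffine Z.left) (a : W ⟶ Z) (b : Z ⟶ T),
    IsOpenImmersion b.left ∧ a ≫ b = u
  downward_closed := by
    rintro W W' u ⟨Z, hZ, a, b, hb, rfl⟩ w
    exact ⟨Z, hZ, w ≫ a, b, hb, by simp⟩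

theorem H5_affineOpenSieve_mem (T : Over S) : H5_affineOpenSieve T ∈ J S T := by
  refine (GrothendieckTopology.mem_over_iff _ _).2 ?_
  have hcov : Presieve.ofArrows T.left.affineCover.X T.left.affineCover.f ∈
      Scheme.fppfPrecoverage T.left :=
    Scheme.zariskiPrecoverage_le_fppfPrecoverage _ T.left.affineCover.mem₀
  refine GrothendieckTopology.superset_covering _ ?_
    (Precoverage.generate_mem_toGrothendieck hcov)
  rw [Sieve.generate_le_iff]
  rintro W f ⟨i⟩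
  rw [Sieve.overEquiv_iff]
  refine ⟨Over.mk (T.left.affineCover.f i ≫ T.hom), ?_, 𝟙 _, Over.homMk (T.left.affineCover.f i),
    ?_, by simp⟩
  · change IsAffine (T.left.affineCover.X i)
    infer_instance
  · change IsOpenImmersion (T.left.affineCover.f i)
    infer_instance

/-- Uniqueness of lifts for a formally unramified morphism along a first order thickening of
algebraic spaces. -/
theorem H5_unram_unique_of_space_thickening {X Y T T' : Sp S} (f : X ⟶ Y)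
    (hf : IsFormallyUnramifiedMor f) (hT' : IsAlgSpace T') (j : T ⟶ T') (hj : IsFOThickMor j)
    (l l' : T' ⟶ X) (h1 : j ≫ l = j ≫ l') (h2 : l ≫ f = l' ≫ f) : l = l' := by
  obtain ⟨W', p, hpe, hps⟩ := hT'.atlas
  haveI : Sheaf.IsLocallySurjective p := H5_isLocallySurjective_of_etale p hpe hps
  rw [← cancel_epi p]
  refine H5_hom_ext_of_sieve (H5_affineOpenSieve_mem W') _ _ ?_
  rintro W u ⟨Z, hZ, a, b, hb, rfl⟩
  haveI := hb
  have hbZ : RepWith @Etale ((yon S).map b ≫ p) :=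
    (RepWith @Etale).comp_mem _ _ ((repWith_yon_map_iff @Etale b).2 inferInstance) hpe
  obtain ⟨Z₀, snd, fst, pb⟩ := hj.1.1 ((yon S).map b ≫ p)
  have hth : thick snd.left := hj.1.2 _ fst snd pb
  have hsq : snd.left.ker * snd.left.ker = ⊥ := hj.2 _ fst snd hZ hbZ pb
  have c1 : (yon S).map snd ≫ ((yon S).map b ≫ p) ≫ l =
      (yon S).map snd ≫ ((yon S).map b ≫ p) ≫ l' := by
    rw [← Category.assoc, ← pb.w, Category.assoc, h1, ← Category.assoc, pb.w, Category.assoc]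
  have c2 : (((yon S).map b ≫ p) ≫ l) ≫ f = (((yon S).map b ≫ p) ≫ l') ≫ f := by
    simp only [Category.assoc, h2]
  have key := H5_unram_unique_of_affine_thickening hf snd hZ hth.1 hsq
    (((yon S).map b ≫ p) ≫ l) (((yon S).map b ≫ p) ≫ l') c1 c2
  rw [CategoryTheory.Functor.map_comp, Category.assoc, Category.assoc]
  rw [Category.assoc, Category.assoc] at key
  rw [key]

end AlgSp
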