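import Groth.Agent.Lib.helper5.AlgSpFEt4

/-! Existence of lifts for formally étale morphisms along first order thickenings of
algebraic spaces. -/

universe u

open CategoryTheory CategoryTheory.Limits AlgebraicGeometry Opposite

namespace AlgSp

variable {S : Scheme.{u}}

/-- A square-zero closed immersion into an affine scheme is isomorphic to `Spec (A/I) → Spec A`. -/
theorem H5_exists_spec_presentation' {Z₀ Z : Scheme.{u}} (i : Z₀ ⟶ Z) [IsAffine Z]
    [IsClosedImmersion i] (hker : i.ker * i.ker = ⊥) :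
    ∃ (A : Type u) (_ : CommRing A) (I : Ideal A) (_ : I ^ 2 = ⊥)
      (e : Spec (CommRingCat.of A) ≅ Z) (τ₀ : Spec (CommRingCat.of (A ⧸ I)) ⟶ Z₀),
      IsIso τ₀ ∧ τ₀ ≫ i = Spec.map (CommRingCat.ofHom (Ideal.Quotient.mk I)) ≫ e.hom := by
  obtain ⟨hZ₀, hsurj⟩ := IsClosedImmersion.isAffine_surjective_of_isAffine i
  haveI := hZ₀
  have hI : (RingHom.ker i.appTop.hom) ^ 2 = ⊥ := by
    have e1 : i.ker.ideal ⟨⊤, isAffineOpen_top Z⟩ = RingHom.ker i.appTop.hom :=
      Scheme.Hom.ker_apply i ⟨⊤, isAffineOpen_top Z⟩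
    have e2 : (i.ker * i.ker).ideal ⟨⊤, isAffineOpen_top Z⟩ =
        i.ker.ideal ⟨⊤, isAffineOpen_top Z⟩ * i.ker.ideal ⟨⊤, isAffineOpen_top Z⟩ := rfl
    rw [hker] at e2
    rw [sq, ← e1, ← e2]
    rfl
  let e' : (Γ(Z, ⊤) ⧸ RingHom.ker i.appTop.hom) ≃+* Γ(Z₀, ⊤) :=
    RingHom.quotientKerEquivOfSurjective hsurj
  let ε : Γ(Z₀, ⊤) ⟶ CommRingCat.of (Γ(Z, ⊤) ⧸ RingHom.ker i.appTop.hom) :=
    CommRingCat.ofHom e'.symm.toRingHom
  let ε₂ : CommRingCat.of (Γ(Z, ⊤) ⧸ RingHom.ker i.appTop.hom) ⟶ Γ(Z₀, ⊤) :=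
    CommRingCat.ofHom e'.toRingHom
  have hε : i.appTop ≫ ε = CommRingCat.ofHom (Ideal.Quotient.mk (RingHom.ker i.appTop.hom)) := by
    ext x
    show e'.symm (i.appTop.hom x) = Ideal.Quotient.mk _ x
    rw [RingEquiv.symm_apply_eq]
    rfl
  haveI : IsIso ε := by
    refine ⟨⟨ε₂, ?_, ?_⟩⟩
    · ext x
      show e' (e'.symm x) = x
      exact e'.apply_symm_apply x
    · ext x
      show e'.symm (e' x) = x
      exact e'.symm_apply_apply x
  refine ⟨Γ(Z, ⊤), inferInstance, RingHom.ker i.appTop.hom, hI, Z.isoSpec.symm,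
    Spec.map ε ≫ Z₀.isoSpec.inv, inferInstance, ?_⟩
  show (Spec.map ε ≫ Z₀.isoSpec.inv) ≫ i = _ ≫ Z.isoSpec.inv
  rw [Category.assoc, ← Scheme.isoSpec_inv_naturality, ← Category.assoc, ← Spec.map_comp, hε]

/-- Existence of lifts for a formally smooth morphism along a square-zero closed immersion into
an affine scheme. -/
theorem H5_smooth_lift_of_affine_thickening {F G : Sp S} {f : F ⟶ G}
    (hf : IsFormallySmoothMor f) {Z₀ Z : Over S} (i : Z₀ ⟶ Z) (hZ : IsAffine Z.left)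
    (hi : IsClosedImmersion i.left) (hker : i.left.ker * i.left.ker = ⊥)
    (a₀ : (yon S).obj Z₀ ⟶ F) (b₀ : (yon S).obj Z ⟶ G) (w : a₀ ≫ f = (yon S).map i ≫ b₀) :
    ∃ l : (yon S).obj Z ⟶ F, (yon S).map i ≫ l = a₀ ∧ l ≫ f = b₀ := by
  haveI := hZ
  haveI := hi
  obtain ⟨A, instA, I, hI, e, τ₀, hτiso, hτ₀⟩ := H5_exists_spec_presentation' i.left hker
  haveI := hτiso
  have hw : τ₀ ≫ Z₀.hom =
      Spec.map (CommRingCat.ofHom (Ideal.Quotient.mk I)) ≫ e.hom ≫ Z.hom := by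
    rw [← Over.w i, ← Category.assoc, hτ₀, Category.assoc]
  let ε' : Over.mk (e.hom ≫ Z.hom) ⟶ Z := Over.homMk e.hom rfl
  let ε : Z ⟶ Over.mk (e.hom ≫ Z.hom) := Over.homMk e.inv (by
    change e.inv ≫ e.hom ≫ Z.hom = Z.hom
    rw [Iso.inv_hom_id_assoc])
  have hεε' : ε ≫ ε' = 𝟙 Z := Over.OverMorphism.ext e.inv_hom_id
  have hε'ε : ε' ≫ ε = 𝟙 _ := Over.OverMorphism.ext e.hom_inv_id
  let τ : Over.mk (Spec.map (CommRingCat.ofHom (Ideal.Quotient.mk I)) ≫ e.hom ≫ Z.hom) ⟶ Z₀ :=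
    Over.homMk τ₀ hw
  let τi : Z₀ ⟶ Over.mk (Spec.map (CommRingCat.ofHom (Ideal.Quotient.mk I)) ≫ e.hom ≫ Z.hom) :=
    Over.homMk (inv τ₀) (by
      change inv τ₀ ≫ Spec.map (CommRingCat.ofHom (Ideal.Quotient.mk I)) ≫ e.hom ≫ Z.hom = Z₀.hom
      rw [← hw, IsIso.inv_hom_id_assoc])
  have hττ : τi ≫ τ = 𝟙 Z₀ := Over.OverMorphism.ext (IsIso.inv_hom_id τ₀)
  let jj : Over.mk (Spec.map (CommRingCat.ofHom (Ideal.Quotient.mk I)) ≫ e.hom ≫ Z.hom) ⟶
      Over.mk (e.hom ≫ Z.hom) := Over.homMk (Spec.map (CommRingCat.ofHom (Ideal.Quotient.mk I))) rfl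
  have hfact : τ ≫ i = jj ≫ ε' := Over.OverMorphism.ext hτ₀
  have hfact2 : τ ≫ i ≫ ε = jj := by
    calc τ ≫ i ≫ ε = (τ ≫ i) ≫ ε := (Category.assoc _ _ _).symm
      _ = (jj ≫ ε') ≫ ε := by rw [hfact]
      _ = jj ≫ ε' ≫ ε := Category.assoc _ _ _
      _ = jj := by rw [hε'ε, Category.comp_id]
  have hcomm : ((yon S).map τ ≫ a₀) ≫ f = (yon S).map jj ≫ (yon S).map ε' ≫ b₀ := by
    calc ((yon S).map τ ≫ a₀) ≫ f = (yon S).map τ ≫ a₀ ≫ f := Category.assoc _ _ _
      _ = (yon S).map τ ≫ (yon S).map i ≫ b₀ := by rw [w]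
      _ = ((yon S).map τ ≫ (yon S).map i) ≫ b₀ := (Category.assoc _ _ _).symm
      _ = ((yon S).map jj ≫ (yon S).map ε') ≫ b₀ := by
          rw [← CategoryTheory.Functor.map_comp, hfact, CategoryTheory.Functor.map_comp]
      _ = (yon S).map jj ≫ (yon S).map ε' ≫ b₀ := Category.assoc _ _ _
  let sq : InfSq f :=
    { A := A
      I := I
      sq_zero := hI
      str := e.hom ≫ Z.hom
      top := (yon S).map τ ≫ a₀
      bot := (yon S).map ε' ≫ b₀
      comm := hcomm }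
  obtain ⟨L, hL1, hL2⟩ := hf sq
  have hL1' : (yon S).map jj ≫ L = (yon S).map τ ≫ a₀ := hL1
  have hL2' : L ≫ f = (yon S).map ε' ≫ b₀ := hL2
  refine ⟨(yon S).map ε ≫ L, ?_, ?_⟩
  · have e1 : (yon S).map τ ≫ (yon S).map i ≫ (yon S).map ε ≫ L = (yon S).map τ ≫ a₀ := by
      rw [← hL1', ← hfact2, CategoryTheory.Functor.map_comp, CategoryTheory.Functor.map_comp,
        Category.assoc, Category.assoc]
    calc (yon S).map i ≫ (yon S).map ε ≫ L
        = (yon S).map (τi ≫ τ) ≫ (yon S).map i ≫ (yon S).map ε ≫ L := by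
          rw [hττ, CategoryTheory.Functor.map_id, Category.id_comp]
      _ = (yon S).map τi ≫ (yon S).map τ ≫ a₀ := by
          rw [CategoryTheory.Functor.map_comp, Category.assoc, e1]
      _ = a₀ := by
          rw [← Category.assoc, ← CategoryTheory.Functor.map_comp, hττ,
            CategoryTheory.Functor.map_id, Category.id_comp]
  · rw [Category.assoc, hL2', ← Category.assoc, ← CategoryTheory.Functor.map_comp, hεε',
      CategoryTheory.Functor.map_id, Category.id_comp]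

/-- The base change of a first order thickening along an étale chart is a first order
thickening. -/
theorem H5_isFOThickMor_of_isPullback {T T' : Sp S} {j : T ⟶ T'} (hj : IsFOThickMor j)
    {V V₀ : Over S} (c : (yon S).obj V ⟶ T') (hc : RepWith @Etale c)
    (fst : (yon S).obj V₀ ⟶ T) (snd : V₀ ⟶ V) (pb : IsPullback fst ((yon S).map snd) j c) :
    IsFOThickMor ((yon S).map snd) := by
  refine ⟨(repWith_yon_map_iff thick snd).2 (hj.1.2 c fst snd pb), ?_⟩
  intro V' W' b' fst' snd' hV' hb' pb'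
  exact hj.2 (b' ≫ c) (fst' ≫ fst) snd' hV' ((RepWith @Etale).comp_mem _ _ hb' hc)
    (pb'.paste_horiz pb)

/-- Gluing maps from a representable sheaf along a covering sieve: local existence, uniqueness
and stability under restriction of a predicate give a global section. -/
theorem H5_glue_of_pred {X : Sp S} {T : Over S} {R : Sieve T} (hR : R ∈ J S T)
    (P : ∀ (W : Over S), (W ⟶ T) → ((yon S).obj W ⟶ X) → Prop)
    (hex : ∀ ⦃W : Over S⦄ (u : W ⟶ T), R u → ∃ l, P W u l)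
    (huniq : ∀ ⦃W : Over S⦄ (u : W ⟶ T) (l l' : (yon S).obj W ⟶ X), P W u l → P W u l' → l = l')
    (hres : ∀ ⦃W W' : Over S⦄ (u : W ⟶ T) (g : W' ⟶ W) (l : (yon S).obj W ⟶ X), P W u l →
      P W' (g ≫ u) ((yon S).map g ≫ l)) :
    ∃ l : (yon S).obj T ⟶ X, ∀ ⦃W : Over S⦄ (u : W ⟶ T), R u → P W u ((yon S).map u ≫ l) := by
  classical
  have hX : Presieve.IsSheaf (J S) X.obj := (isSheaf_iff_isSheaf_of_type _ _).1 X.property
  let fam : Presieve.FamilyOfElements X.obj R.arrows :=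
    fun W u hu => (J S).uliftYonedaEquiv (hex u hu).choose
  have hfam : fam.SieveCompatible := by
    intro W W' u g hu
    show (J S).uliftYonedaEquiv (hex (g ≫ u) (R.downward_closed hu g)).choose =
      X.obj.map g.op ((J S).uliftYonedaEquiv (hex u hu).choose)
    rw [GrothendieckTopology.uliftYonedaEquiv_naturality]
    congr 1
    exact huniq (g ≫ u) _ _ (hex (g ≫ u) (R.downward_closed hu g)).choose_spec
      (hres u g _ (hex u hu).choose_spec)
  obtain ⟨t, ht, -⟩ := hX R hR fam ((Presieve.compatible_iff_sieveCompatible fam).2 hfam)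
  refine ⟨(J S).uliftYonedaEquiv.symm t, ?_⟩
  intro W u hu
  have e : (yon S).map u ≫ (J S).uliftYonedaEquiv.symm t = (hex u hu).choose := by
    apply (J S).uliftYonedaEquiv.injective
    rw [← GrothendieckTopology.uliftYonedaEquiv_naturality, Equiv.apply_symm_apply]
    exact ht u hu
  rw [e]
  exact (hex u hu).choose_spec

end AlgSp
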