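import Groth.Agent.Lib.helper5.AlgSpFEt5

/-! Existence of lifts for formally étale morphisms along first order thickenings of
schemes and of algebraic spaces. -/

universe u

open CategoryTheory CategoryTheory.Limits AlgebraicGeometry Opposite

namespace AlgSp

variable {S : Scheme.{u}}

/-- `l` is a lift over `u : W ⟶ V` of the lifting problem `(i, a₀, b₀)` for `f`. -/
def H5_IsLiftOn {X Y : Sp S} (f : X ⟶ Y) {V₀ V : Over S} (i : V₀ ⟶ V)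
    (a₀ : (yon S).obj V₀ ⟶ X) (b₀ : (yon S).obj V ⟶ Y) {W : Over S} (u : W ⟶ V)
    (l : (yon S).obj W ⟶ X) : Prop :=
  l ≫ f = (yon S).map u ≫ b₀ ∧ ∀ (W₀ : Over S) (c₀ : W₀ ⟶ W) (d : W₀ ⟶ V₀), c₀ ≫ u = d ≫ i →
      (yon S).map c₀ ≫ l = (yon S).map d ≫ a₀

theorem H5_IsLiftOn.res {X Y : Sp S} {f : X ⟶ Y} {V₀ V : Over S} {i : V₀ ⟶ V}
    {a₀ : (yon S).obj V₀ ⟶ X} {b₀ : (yon S).obj V ⟶ Y} {W W' : Over S} {u : W ⟶ V}
    {l : (yon S).obj W ⟶ X} (h : H5_IsLiftOn f i a₀ b₀ u l) (g : W' ⟶ W) :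
    H5_IsLiftOn f i a₀ b₀ (g ≫ u) ((yon S).map g ≫ l) := by
  refine ⟨?_, ?_⟩
  · rw [Category.assoc, h.1, CategoryTheory.Functor.map_comp, Category.assoc]
  · intro W₀ c₀ d hcd
    rw [← Category.assoc, ← CategoryTheory.Functor.map_comp]
    exact h.2 W₀ (c₀ ≫ g) d (by rw [Category.assoc]; exact hcd)

theorem H5_IsLiftOn.unique {X Y : Sp S} {f : X ⟶ Y} (hfu : IsFormallyUnramifiedMor f)
    {V₀ V : Over S} {i : V₀ ⟶ V} (hi : IsFOThickMor ((yon S).map i))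
    {a₀ : (yon S).obj V₀ ⟶ X} {b₀ : (yon S).obj V ⟶ Y} {W : Over S} {u : W ⟶ V}
    (hu : Etale u.left) {l l' : (yon S).obj W ⟶ X}
    (h : H5_IsLiftOn f i a₀ b₀ u l) (h' : H5_IsLiftOn f i a₀ b₀ u l') : l = l' := by
  have hue : RepWith @Etale ((yon S).map u) := (repWith_yon_map_iff @Etale u).2 hu
  obtain ⟨W₀, snd, fst, pb⟩ := hi.1.1 ((yon S).map u)
  obtain ⟨d, rfl⟩ := (yon S).map_surjective fst
  have hcd : snd ≫ u = d ≫ i := (yon S).map_injective (by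
    rw [CategoryTheory.Functor.map_comp, CategoryTheory.Functor.map_comp]
    exact pb.w.symm)
  have hFO : IsFOThickMor ((yon S).map snd) :=
    H5_isFOThickMor_of_isPullback hi _ hue _ snd pb
  refine H5_unram_unique_of_space_thickening f hfu (IsAlgSpace.yon_obj W) ((yon S).map snd) hFO
    l l' ?_ ?_
  · rw [h.2 W₀ snd d hcd, h'.2 W₀ snd d hcd]
  · rw [h.1, h'.1]

/-- Existence of a lift on an affine étale chart. -/
theorem H5_IsLiftOn.exists_of_affine {X Y : Sp S} {f : X ⟶ Y} (hfs : IsFormallySmoothMor f)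
    {V₀ V : Over S} {i : V₀ ⟶ V} (hi : IsFOThickMor ((yon S).map i))
    {a₀ : (yon S).obj V₀ ⟶ X} {b₀ : (yon S).obj V ⟶ Y} (w : a₀ ≫ f = (yon S).map i ≫ b₀)
    {Z : Over S} (b : Z ⟶ V) (hZ : IsAffine Z.left) (hb : Etale b.left) :
    ∃ l : (yon S).obj Z ⟶ X, H5_IsLiftOn f i a₀ b₀ b l := by
  have hbe : RepWith @Etale ((yon S).map b) := (repWith_yon_map_iff @Etale b).2 hb
  obtain ⟨Z₀, snd, fst, pb⟩ := hi.1.1 ((yon S).map b)
  have hth : thick snd.left := hi.1.2 _ fst snd pb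
  have hsq : snd.left.ker * snd.left.ker = ⊥ := hi.2 _ fst snd hZ hbe pb
  have hw : (fst ≫ a₀) ≫ f = (yon S).map snd ≫ (yon S).map b ≫ b₀ := by
    rw [Category.assoc, w, ← Category.assoc, pb.w, Category.assoc]
  obtain ⟨l, hl1, hl2⟩ := H5_smooth_lift_of_affine_thickening hfs snd hZ hth.1 hsq (fst ≫ a₀)
    ((yon S).map b ≫ b₀) hw
  refine ⟨l, hl2, ?_⟩
  intro W₀ c₀ d hcd
  have hcd' : (yon S).map d ≫ (yon S).map i = (yon S).map c₀ ≫ (yon S).map b := by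
    rw [← CategoryTheory.Functor.map_comp, ← CategoryTheory.Functor.map_comp, hcd]
  have e1 : pb.lift _ _ hcd' ≫ fst = (yon S).map d := pb.lift_fst _ _ _
  have e2 : pb.lift _ _ hcd' ≫ (yon S).map snd = (yon S).map c₀ := pb.lift_snd _ _ _
  rw [← e2, Category.assoc, hl1, ← Category.assoc, e1]

/-- Compatibility of lifts on two étale charts. -/
theorem H5_IsLiftOn.compat {X Y : Sp S} {f : X ⟶ Y} (hfu : IsFormallyUnramifiedMor f)
    {V₀ V : Over S} {i : V₀ ⟶ V} (hi : IsFOThickMor ((yon S).map i))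
    {a₀ : (yon S).obj V₀ ⟶ X} {b₀ : (yon S).obj V ⟶ Y} {Z₁ Z₂ W : Over S}
    {b₁ : Z₁ ⟶ V} {b₂ : Z₂ ⟶ V} (hb₁ : Etale b₁.left) (hb₂ : Etale b₂.left)
    {l₁ : (yon S).obj Z₁ ⟶ X} {l₂ : (yon S).obj Z₂ ⟶ X}
    (h₁ : H5_IsLiftOn f i a₀ b₀ b₁ l₁) (h₂ : H5_IsLiftOn f i a₀ b₀ b₂ l₂)
    (c₁ : W ⟶ Z₁) (c₂ : W ⟶ Z₂) (hc : c₁ ≫ b₁ = c₂ ≫ b₂) :
    (yon S).map c₁ ≫ l₁ = (yon S).map c₂ ≫ l₂ := by
  obtain ⟨Q, p₁, p₂, sqQ⟩ : ∃ (Q : Over S) (p₁ : Q ⟶ Z₁) (p₂ : Q ⟶ Z₂),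
      IsPullback p₁ p₂ b₁ b₂ := ⟨_, _, _, IsPullback.of_hasPullback _ _⟩
  haveI := hb₂
  haveI hp2 : Etale p₂.left :=
    MorphismProperty.of_isPullback (P := @Etale) (sqQ.map (Over.forget S)) hb₁
  have hE : Etale (p₂ ≫ b₂).left := by
    show Etale (p₂.left ≫ b₂.left)
    infer_instance
  have k₁ : H5_IsLiftOn f i a₀ b₀ (p₂ ≫ b₂) ((yon S).map p₁ ≫ l₁) := by
    rw [← sqQ.w]
    exact h₁.res p₁
  have k₂ : H5_IsLiftOn f i a₀ b₀ (p₂ ≫ b₂) ((yon S).map p₂ ≫ l₂) := h₂.res p₂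
  have e := H5_IsLiftOn.unique hfu hi hE k₁ k₂
  calc (yon S).map c₁ ≫ l₁ = (yon S).map (sqQ.lift c₁ c₂ hc ≫ p₁) ≫ l₁ := by
        rw [sqQ.lift_fst]
    _ = (yon S).map (sqQ.lift c₁ c₂ hc) ≫ (yon S).map p₁ ≫ l₁ := by
        rw [CategoryTheory.Functor.map_comp, Category.assoc]
    _ = (yon S).map (sqQ.lift c₁ c₂ hc) ≫ (yon S).map p₂ ≫ l₂ := by rw [e]
    _ = (yon S).map (sqQ.lift c₁ c₂ hc ≫ p₂) ≫ l₂ := by
        rw [CategoryTheory.Functor.map_comp, Category.assoc]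
    _ = (yon S).map c₂ ≫ l₂ := by rw [sqQ.lift_snd]

/-- `l` is induced from a lift on an étale chart through which `u` factors. -/
def H5_IsLiftVia {X Y : Sp S} (f : X ⟶ Y) {V₀ V : Over S} (i : V₀ ⟶ V)
    (a₀ : (yon S).obj V₀ ⟶ X) (b₀ : (yon S).obj V ⟶ Y) (W : Over S) (u : W ⟶ V)
    (l : (yon S).obj W ⟶ X) : Prop :=
  ∃ (Z : Over S) (a : W ⟶ Z) (b : Z ⟶ V) (lZ : (yon S).obj Z ⟶ X),
    Etale b.left ∧ a ≫ b = u ∧ H5_IsLiftOn f i a₀ b₀ b lZ ∧ l = (yon S).map a ≫ lZ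

/-- Existence of lifts for a formally étale morphism along a first order thickening of
schemes. -/
theorem H5_etale_lift_of_scheme_thickening {X Y : Sp S} (f : X ⟶ Y) (hf : IsFormallyEtaleMor f)
    {V₀ V : Over S} (i : V₀ ⟶ V) (hi : IsFOThickMor ((yon S).map i))
    (a₀ : (yon S).obj V₀ ⟶ X) (b₀ : (yon S).obj V ⟶ Y) (w : a₀ ≫ f = (yon S).map i ≫ b₀) :
    ∃ l : (yon S).obj V ⟶ X, (yon S).map i ≫ l = a₀ ∧ l ≫ f = b₀ := by
  obtain ⟨hfs, hfu⟩ := (H5_isFormallyEtaleMor_iff f).1 hf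
  obtain ⟨l, hl⟩ : ∃ l : (yon S).obj V ⟶ X, ∀ ⦃W : Over S⦄ (u : W ⟶ V),
      H5_affineOpenSieve V u → H5_IsLiftVia f i a₀ b₀ W u ((yon S).map u ≫ l) := by
    refine H5_glue_of_pred (X := X) (H5_affineOpenSieve_mem V) (H5_IsLiftVia f i a₀ b₀) ?_ ?_ ?_
    · rintro W u ⟨Z, hZ, a, b, hb, rfl⟩
      haveI := hb
      obtain ⟨lZ, hlZ⟩ := H5_IsLiftOn.exists_of_affine hfs hi w b hZ inferInstance
      exact ⟨(yon S).map a ≫ lZ, Z, a, b, lZ, inferInstance, rfl, hlZ, rfl⟩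
    · rintro W u l l' ⟨Z, a, b, lZ, hb, hab, hlZ, rfl⟩ ⟨Z', a', b', lZ', hb', hab', hlZ', rfl⟩
      exact H5_IsLiftOn.compat hfu hi hb hb' hlZ hlZ' a a' (hab.trans hab'.symm)
    · rintro W W' u g l ⟨Z, a, b, lZ, hb, hab, hlZ, rfl⟩
      exact ⟨Z, g ≫ a, b, lZ, hb, by rw [Category.assoc, hab], hlZ,
        by rw [CategoryTheory.Functor.map_comp, Category.assoc]⟩
  have hl' : ∀ ⦃W : Over S⦄ (u : W ⟶ V), H5_affineOpenSieve V u →
      H5_IsLiftOn f i a₀ b₀ u ((yon S).map u ≫ l) := by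
    intro W u hu
    obtain ⟨Z, a, b, lZ, hb, hab, hlZ, hl2⟩ := hl u hu
    rw [hl2, ← hab]
    exact hlZ.res a
  refine ⟨l, ?_, ?_⟩
  · refine H5_hom_ext_of_sieve ((J S).pullback_stable i (H5_affineOpenSieve_mem V)) _ _ ?_
    intro W₀ c₀ hc₀
    have key := (hl' (c₀ ≫ i) hc₀).2 W₀ (𝟙 W₀) c₀ (Category.id_comp _)
    rw [CategoryTheory.Functor.map_id, Category.id_comp, CategoryTheory.Functor.map_comp,
      Category.assoc] at key
    exact key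
  · refine H5_hom_ext_of_sieve (H5_affineOpenSieve_mem V) _ _ ?_
    intro W u hu
    rw [← Category.assoc]
    exact (hl' u hu).1

/-- Existence of lifts for a formally étale morphism along a first order thickening of
algebraic spaces. -/
theorem H5_etale_lift_of_space_thickening {X Y T T' : Sp S} (f : X ⟶ Y)
    (hf : IsFormallyEtaleMor f) (hT' : IsAlgSpace T') (j : T ⟶ T') (hj : IsFOThickMor j)
    (a : T ⟶ X) (b : T' ⟶ Y) (w : a ≫ f = j ≫ b) : ∃ l : T' ⟶ X, j ≫ l = a ∧ l ≫ f = b := by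
  obtain ⟨hfs, hfu⟩ := (H5_isFormallyEtaleMor_iff f).1 hf
  obtain ⟨W', p, hpe, hps⟩ := hT'.atlas
  haveI : Sheaf.IsLocallySurjective p := H5_isLocallySurjective_of_etale p hpe hps
  obtain ⟨W₀, snd, fst, pb⟩ := hj.1.1 p
  have hFO : IsFOThickMor ((yon S).map snd) := H5_isFOThickMor_of_isPullback hj p hpe fst snd pb
  have hw : (fst ≫ a) ≫ f = (yon S).map snd ≫ p ≫ b := by
    rw [Category.assoc, w, ← Category.assoc, pb.w, Category.assoc]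
  obtain ⟨lp, hlp1, hlp2⟩ :=
    H5_etale_lift_of_scheme_thickening f hf snd hFO (fst ≫ a) (p ≫ b) hw
  have hkey : ∀ (Q : Sp S) (m : Q ⟶ (yon S).obj W') (n : Q ⟶ T), n ≫ j = m ≫ p →
      m ≫ lp = n ≫ a := by
    intro Q m n hmn
    have e1 : pb.lift n m hmn ≫ fst = n := pb.lift_fst _ _ _
    have e2 : pb.lift n m hmn ≫ (yon S).map snd = m := pb.lift_snd _ _ _
    rw [← e2, Category.assoc, hlp1, ← Category.assoc, e1]
  obtain ⟨R', q₂, q₁, pbR⟩ := hpe.1 p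
  obtain ⟨q₁', rfl⟩ := (yon S).map_surjective q₁
  have hq₂ : Etale q₂.left := hpe.2 p _ q₂ pbR
  have hce : RepWith @Etale ((yon S).map q₂ ≫ p) :=
    (RepWith @Etale).comp_mem _ _ ((repWith_yon_map_iff @Etale q₂).2 hq₂) hpe
  have heq : (yon S).map q₁' ≫ lp = (yon S).map q₂ ≫ lp := by
    obtain ⟨R₀, snd', fst', pb'⟩ := hj.1.1 ((yon S).map q₂ ≫ p)
    have hFO' : IsFOThickMor ((yon S).map snd') :=
      H5_isFOThickMor_of_isPullback hj _ hce fst' snd' pb'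
    refine H5_unram_unique_of_space_thickening f hfu (IsAlgSpace.yon_obj R') ((yon S).map snd')
      hFO' _ _ ?_ ?_
    · have k₁ := hkey _ ((yon S).map snd' ≫ (yon S).map q₁') fst' (by
        rw [Category.assoc, pbR.w]
        exact pb'.w)
      have k₂ := hkey _ ((yon S).map snd' ≫ (yon S).map q₂) fst' (by
        rw [Category.assoc]
        exact pb'.w)
      rw [Category.assoc] at k₁ k₂
      rw [k₁, k₂]
    · rw [Category.assoc, Category.assoc, hlp2, ← Category.assoc, ← Category.assoc, pbR.w]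
  haveI : IsRegularEpi p := IsRegularEpiCategory.regularEpiOfEpi _
  have hkp : IsKernelPair p ((yon S).map q₁') ((yon S).map q₂) := pbR
  obtain ⟨l, hl⟩ := IsRegularEpi.exists_of_isKernelPair p hkp lp heq
  haveI : Sheaf.IsLocallySurjective fst := H5_isLocallySurjective_of_isPullback pb.flip
  refine ⟨l, ?_, ?_⟩
  · rw [← cancel_epi fst, ← Category.assoc, pb.w, Category.assoc, hl, hlp1]
  · rw [← cancel_epi p, ← Category.assoc, hl, hlp2]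

end AlgSp
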