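import Groth.Agent.Lib.helper5.AlgSpTI5

/-! First order thickenings of algebraic spaces are stable under arbitrary base change. -/

universe u

open CategoryTheory CategoryTheory.Limits AlgebraicGeometry Opposite

namespace AlgSp

variable {S : Scheme.{u}}

/-- `Spec (A/I) → Spec A` has square-zero kernel when `I² = 0`. -/
theorem H5_thk_ker_mul_self (A : Type u) [CommRing A] (I : Ideal A) (hI : I ^ 2 = ⊥) :
    (Spec.map (CommRingCat.ofHom (Ideal.Quotient.mk I))).ker *
      (Spec.map (CommRingCat.ofHom (Ideal.Quotient.mk I))).ker = ⊥ := by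
  apply Scheme.IdealSheafData.ext_of_isAffine
  change (Spec.map (CommRingCat.ofHom (Ideal.Quotient.mk I))).ker.ideal _ *
    (Spec.map (CommRingCat.ofHom (Ideal.Quotient.mk I))).ker.ideal _ = ⊥
  rw [Scheme.Hom.ker_apply, eq_bot_iff, Ideal.mul_le]
  intro r hr s hs
  have key : ∀ x, x ∈ RingHom.ker ((Spec.map (CommRingCat.ofHom (Ideal.Quotient.mk I))).app ⊤).hom →
      (Scheme.ΓSpecIso (CommRingCat.of A)).hom x ∈ I := by
    intro x hx
    have h1 : (Scheme.ΓSpecIso (CommRingCat.of (A ⧸ I))).hom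
        ((Spec.map (CommRingCat.ofHom (Ideal.Quotient.mk I))).appTop x) =
        (CommRingCat.ofHom (Ideal.Quotient.mk I)) ((Scheme.ΓSpecIso (CommRingCat.of A)).hom x) := by
      have := congr($(Scheme.ΓSpecIso_naturality (CommRingCat.ofHom (Ideal.Quotient.mk I))) x)
      exact this
    have hx' : (Spec.map (CommRingCat.ofHom (Ideal.Quotient.mk I))).appTop x = 0 := hx
    rw [hx', map_zero] at h1
    have h2 : (Ideal.Quotient.mk I) ((Scheme.ΓSpecIso (CommRingCat.of A)).hom x) = 0 := h1.symm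
    rwa [Ideal.Quotient.eq_zero_iff_mem] at h2
  have h3 : (Scheme.ΓSpecIso (CommRingCat.of A)).hom (r * s) ∈ I ^ 2 := by
    rw [map_mul, pow_two]
    exact Ideal.mul_mem_mul (key r hr) (key s hs)
  rw [hI, Ideal.mem_bot] at h3
  rw [Ideal.mem_bot]
  exact (ConcreteCategory.bijective_of_isIso (Scheme.ΓSpecIso (CommRingCat.of A)).hom).1
    (by rw [h3, map_zero])

/-- Pullback of ideal sheaves along an affine morphism is submultiplicative. -/
theorem H5_comap_mul_le {X Y : Scheme.{u}} (g : X ⟶ Y) [IsAffineHom g]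
    (I₁ I₂ : Y.IdealSheafData) : (I₁ * I₂).comap g ≤ I₁.comap g * I₂.comap g := by
  rw [← Scheme.IdealSheafData.le_map_iff_comap_le]
  intro U
  rw [Scheme.IdealSheafData.ideal_map_of_isAffineHom]
  have h1 : I₁.ideal U ≤ ((I₁.comap g).ideal ⟨_, U.2.preimage g⟩).comap (g.app U).hom := by
    rw [← Scheme.IdealSheafData.ideal_map_of_isAffineHom]
    exact Scheme.IdealSheafData.le_map_comap I₁ g U
  have h2 : I₂.ideal U ≤ ((I₂.comap g).ideal ⟨_, U.2.preimage g⟩).comap (g.app U).hom := by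
    rw [← Scheme.IdealSheafData.ideal_map_of_isAffineHom]
    exact Scheme.IdealSheafData.le_map_comap I₂ g U
  calc (I₁ * I₂).ideal U = I₁.ideal U * I₂.ideal U := rfl
    _ ≤ ((I₁.comap g).ideal ⟨_, U.2.preimage g⟩).comap (g.app U).hom *
        ((I₂.comap g).ideal ⟨_, U.2.preimage g⟩).comap (g.app U).hom := Ideal.mul_mono h1 h2
    _ ≤ ((I₁.comap g).ideal ⟨_, U.2.preimage g⟩ *
        (I₂.comap g).ideal ⟨_, U.2.preimage g⟩).comap (g.app U).hom := Ideal.le_comap_mul _
    _ = ((I₁.comap g * I₂.comap g).ideal ⟨_, U.2.preimage g⟩).comap (g.app U).hom := rfl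

/-- The pullback of a square-zero closed immersion of affine schemes along a map from `Spec B`
is square-zero. -/
theorem H5_sqZero_comap_spec {Z₀ Z : Scheme.{u}} [IsAffine Z] (i : Z₀ ⟶ Z) [IsClosedImmersion i]
    (hker : i.ker * i.ker = ⊥) {B : Type u} [CommRing B] (g : Spec (CommRingCat.of B) ⟶ Z) :
    i.ker.comap g * i.ker.comap g = ⊥ := by
  obtain ⟨A, _, J, hJ, e, τ₀, hτiso, hτ₀⟩ := H5_exists_spec_presentation' i hker
  haveI := hτiso
  obtain ⟨φc, hφc⟩ : ∃ φc : CommRingCat.of A ⟶ CommRingCat.of B, Spec.map φc = g ≫ e.inv :=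
    ⟨Spec.preimage (g ≫ e.inv), Spec.map_preimage _⟩
  obtain ⟨φ, rfl⟩ : ∃ φ : A →+* B, CommRingCat.ofHom φ = φc := ⟨φc.hom, rfl⟩
  have hpb : IsPullback (Spec.map (CommRingCat.ofHom (Ideal.Quotient.mk (J.map φ))))
      (Spec.map (CommRingCat.ofHom (Ideal.quotientMap (J.map φ) φ Ideal.le_comap_map)) ≫ τ₀)
      g i := by
    refine (H5_thk_isPullback J φ).flip.of_iso (Iso.refl _) (Iso.refl _) (asIso τ₀) e ?_ ?_ ?_ ?_
    · simp
    · simp
    · simp only [Iso.refl_hom, Category.id_comp]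
      rw [hφc, Category.assoc, Iso.inv_hom_id, Category.comp_id]
    · simpa using hτ₀.symm
  have e1 : (pullback.fst g i).ker =
      (Spec.map (CommRingCat.ofHom (Ideal.Quotient.mk (J.map φ)))).ker := by
    have h := hpb.isoPullback_hom_fst
    rw [← h, Scheme.Hom.ker_comp_of_isIso]
  rw [← Scheme.IdealSheafData.ker_fst_of_isClosedImmersion, e1]
  refine H5_thk_ker_mul_self B (J.map φ) ?_
  rw [← Ideal.map_pow, hJ, Ideal.map_bot]

/-- Affine open neighbourhoods in `Spec` form. -/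
theorem H5_exists_affine_nbhd_spec (X : Scheme.{u}) (x : X) (U : Set X) (hU : IsOpen U)
    (hx : x ∈ U) :
    ∃ (B : Type u) (_ : CommRing B) (o : Spec (CommRingCat.of B) ⟶ X),
      IsOpenImmersion o ∧ x ∈ Set.range o ∧ Set.range o ⊆ U := by
  obtain ⟨B₀, hB₀, hxB, hsub⟩ :=
    (TopologicalSpace.Opens.isBasis_iff_nbhd.1 X.isBasis_affineOpens)
      (show x ∈ (⟨U, hU⟩ : X.Opens) from hx)
  have hB₀' : IsAffineOpen B₀ := hB₀
  refine ⟨Γ(X, B₀), inferInstance, hB₀'.fromSpec, inferInstance, ?_, ?_⟩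
  · rw [hB₀'.range_fromSpec]
    exact hxB
  · rw [hB₀'.range_fromSpec]
    exact hsub

end AlgSp
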