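import Groth.Agent.Lib.helper5.AlgSpFOBC

/-! First order thickenings of algebraic spaces are stable under arbitrary base change. -/

universe u

open CategoryTheory CategoryTheory.Limits AlgebraicGeometry Opposite

namespace AlgSp

variable {S : Scheme.{u}}

/-- A scheme-level pullback square as a pullback square in `Over S`, pasted onto a represented
pullback square of sheaves. -/
theorem H5_paste_scheme_pullback {W W' : Sp S} {i : W ⟶ W'} {V V₀ Vx : Over S}
    (b : (yon S).obj V ⟶ W') (fst : (yon S).obj V₀ ⟶ W) (snd : V₀ ⟶ V)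
    (pb : IsPullback fst ((yon S).map snd) i b) (r : Vx ⟶ V) :
    ∃ (P : Over S) (p1 : P ⟶ Vx) (p2 : P ⟶ V₀),
      p1.left.ker = (pullback.fst r.left snd.left).ker ∧
      IsPullback ((yon S).map p2 ≫ fst) ((yon S).map p1) i ((yon S).map r ≫ b) := by
  have hw : pullback.snd r.left snd.left ≫ V₀.hom = pullback.fst r.left snd.left ≫ Vx.hom := by
    rw [← Over.w snd, ← Over.w r, ← Category.assoc, ← Category.assoc, pullback.condition]
  refine ⟨Over.mk (pullback.fst r.left snd.left ≫ Vx.hom),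
    Over.homMk (pullback.fst r.left snd.left) rfl,
    Over.homMk (pullback.snd r.left snd.left) hw, rfl, ?_⟩
  have sqO : IsPullback (Over.homMk (pullback.snd r.left snd.left) hw :
      Over.mk (pullback.fst r.left snd.left ≫ Vx.hom) ⟶ V₀)
      (Over.homMk (pullback.fst r.left snd.left) rfl :
      Over.mk (pullback.fst r.left snd.left ≫ Vx.hom) ⟶ Vx) snd r :=
    H5_over_isPullback_of_left (IsPullback.of_hasPullback r.left snd.left).flip
  exact (sqO.map (yon S)).paste_horiz pb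

/-- Local form: the square of the kernel of the base change of a first order thickening dies on
an étale neighbourhood of every point. -/
theorem H5_sqZero_local {W W' : Sp S} (hW' : IsAlgSpace W') {i : W ⟶ W'}
    (hi : IsFOThickMor i) {V V₀ : Over S} (hV : IsAffine V.left) (b : (yon S).obj V ⟶ W')
    (fst : (yon S).obj V₀ ⟶ W) (snd : V₀ ⟶ V) (pb : IsPullback fst ((yon S).map snd) i b)
    (y : V.left) :
    ∃ (Vx : Over S) (r : Vx ⟶ V), Etale r.left ∧ y ∈ Set.range r.left ∧
      snd.left.ker * snd.left.ker ≤ r.left.ker := by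
  haveI := hV
  have hth : thick snd.left := hi.1.2 b fst snd pb
  haveI hci : IsClosedImmersion snd.left := hth.1
  obtain ⟨Q, q, hqe, hqs⟩ := hW'.atlas
  obtain ⟨V1, r1, t1, pb1⟩ := hqe.1 b
  haveI het1 : Etale r1.left := hqe.2 b t1 r1 pb1
  have hsu1 : Surjective r1.left := hqs.2 b t1 r1 pb1
  obtain ⟨t1₀, rfl⟩ := (yon S).map_surjective t1
  obtain ⟨x, rfl⟩ := hsu1.surj y
  -- affine chart of `Q` around the image of `x`
  obtain ⟨A₁, _, oQ₀, hoQ, hxA, -⟩ :=
    H5_exists_affine_nbhd_spec Q.left (t1₀.left x) Set.univ isOpen_univ trivial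
  haveI := hoQ
  -- affine chart of `V1` around `x` mapping into it
  obtain ⟨B, _, oV₀, hoV, hxB, hBsub⟩ :=
    H5_exists_affine_nbhd_spec V1.left x (t1₀.left ⁻¹' Set.range oQ₀)
      (oQ₀.isOpenEmbedding.isOpen_range.preimage t1₀.left.continuous) hxA
  haveI := hoV
  have hrange : Set.range (oV₀ ≫ t1₀.left) ⊆ Set.range oQ₀ := by
    rintro _ ⟨z, rfl⟩
    exact hBsub ⟨z, rfl⟩
  have hfac : IsOpenImmersion.lift oQ₀ (oV₀ ≫ t1₀.left) hrange ≫ oQ₀ = oV₀ ≫ t1₀.left :=
    IsOpenImmersion.lift_fac _ _ _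
  generalize IsOpenImmersion.lift oQ₀ (oV₀ ≫ t1₀.left) hrange = tx₀ at hfac
  -- objects over `S`
  have htxw : tx₀ ≫ oQ₀ ≫ Q.hom = oV₀ ≫ V1.hom := by
    rw [← Category.assoc, hfac, Category.assoc, Over.w t1₀]
  let oQ : Over.mk (oQ₀ ≫ Q.hom) ⟶ Q := Over.homMk oQ₀ rfl
  let oV : Over.mk (oV₀ ≫ V1.hom) ⟶ V1 := Over.homMk oV₀ rfl
  let tx : Over.mk (oV₀ ≫ V1.hom) ⟶ Over.mk (oQ₀ ≫ Q.hom) := Over.homMk tx₀ htxw
  have htx : tx ≫ oQ = oV ≫ t1₀ := Over.OverMorphism.ext hfac
  have hoQe : Etale oQ.left := (inferInstance : Etale oQ₀)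
  have hcx : RepWith @Etale ((yon S).map oQ ≫ q) :=
    (RepWith @Etale).comp_mem _ _ ((repWith_yon_map_iff @Etale oQ).2 hoQe) hqe
  obtain ⟨Q0, sndQ, fstQ, pbQ⟩ := hi.1.1 ((yon S).map oQ ≫ q)
  have hthQ : thick sndQ.left := hi.1.2 _ fstQ sndQ pbQ
  haveI : IsClosedImmersion sndQ.left := hthQ.1
  have hQaff : IsAffine (Over.mk (oQ₀ ≫ Q.hom)).left :=
    (inferInstance : IsAffine (Spec (CommRingCat.of A₁)))
  have hsqQ : sndQ.left.ker * sndQ.left.ker = ⊥ := hi.2 _ fstQ sndQ hQaff hcx pbQ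
  -- the étale neighbourhood
  refine ⟨Over.mk (oV₀ ≫ V1.hom), oV ≫ r1, ?_, ?_, ?_⟩
  · show Etale (oV₀ ≫ r1.left)
    infer_instance
  · obtain ⟨z, hz⟩ := hxB
    exact ⟨z, by
      show r1.left (oV₀ z) = r1.left x
      rw [hz]⟩
  · have heq : (yon S).map tx ≫ ((yon S).map oQ ≫ q) = (yon S).map (oV ≫ r1) ≫ b := by
      calc (yon S).map tx ≫ ((yon S).map oQ ≫ q) = (yon S).map (tx ≫ oQ) ≫ q := by
            rw [CategoryTheory.Functor.map_comp, Category.assoc]
        _ = (yon S).map oV ≫ (yon S).map t1₀ ≫ q := by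
            rw [htx, CategoryTheory.Functor.map_comp, Category.assoc]
        _ = (yon S).map oV ≫ (yon S).map r1 ≫ b := by rw [pb1.w]
        _ = (yon S).map (oV ≫ r1) ≫ b := by
            rw [CategoryTheory.Functor.map_comp, Category.assoc]
    obtain ⟨P, p1, p2, hp1, PB1⟩ := H5_paste_scheme_pullback b fst snd pb (oV ≫ r1)
    obtain ⟨P', p1', p2', hp1', PB2⟩ :=
      H5_paste_scheme_pullback ((yon S).map oQ ≫ q) fstQ sndQ pbQ tx
    rw [heq] at PB2
    obtain ⟨ε₀, hε₀⟩ := (yon S).map_surjective (PB1.isoIsPullback _ _ PB2).hom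
    have hε1 : ε₀ ≫ p1' = p1 := by
      apply (yon S).map_injective
      rw [CategoryTheory.Functor.map_comp, hε₀]
      exact IsPullback.isoIsPullback_hom_snd _ _ PB1 PB2
    haveI : IsIso ((yon S).map ε₀) := by
      rw [hε₀]
      infer_instance
    haveI : IsIso ε₀ := isIso_of_fully_faithful (yon S) ε₀
    haveI : IsIso ε₀.left := (inferInstance : IsIso ((Over.forget S).map ε₀))
    have hker : (pullback.fst (oV ≫ r1).left snd.left).ker =
        (pullback.fst tx.left sndQ.left).ker := by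
      rw [← hp1, ← hp1', ← hε1]
      exact Scheme.Hom.ker_comp_of_isIso ε₀.left p1'.left
    have hK : snd.left.ker.comap (oV ≫ r1).left * snd.left.ker.comap (oV ≫ r1).left = ⊥ := by
      rw [← Scheme.IdealSheafData.ker_fst_of_isClosedImmersion, hker,
        Scheme.IdealSheafData.ker_fst_of_isClosedImmersion]
      haveI := hQaff
      exact H5_sqZero_comap_spec sndQ.left hsqQ tx₀
    haveI : IsAffine (Over.mk (oV₀ ≫ V1.hom)).left :=
      (inferInstance : IsAffine (Spec (CommRingCat.of B)))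
    have hle := H5_comap_mul_le (oV ≫ r1).left snd.left.ker snd.left.ker
    rw [hK, ← Scheme.IdealSheafData.le_map_iff_comap_le, Scheme.IdealSheafData.map_bot] at hle
    exact hle

/-- The base change of a first order thickening along any map from an affine scheme has
square-zero kernel. -/
theorem H5_sqZero_of_isPullback {W W' : Sp S} (hW' : IsAlgSpace W') {i : W ⟶ W'}
    (hi : IsFOThickMor i) {V V₀ : Over S} (hV : IsAffine V.left) (b : (yon S).obj V ⟶ W')
    (fst : (yon S).obj V₀ ⟶ W) (snd : V₀ ⟶ V) (pb : IsPullback fst ((yon S).map snd) i b) :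
    snd.left.ker * snd.left.ker = ⊥ := by
  have hloc : ∀ y : V.left, ∃ (Vx : Over S) (r : Vx ⟶ V), Etale r.left ∧
      y ∈ Set.range r.left ∧ snd.left.ker * snd.left.ker ≤ r.left.ker :=
    fun y => H5_sqZero_local hW' hi hV b fst snd pb y
  generalize snd.left.ker * snd.left.ker = K at hloc ⊢
  let ιO : Over.mk (K.subschemeι ≫ V.hom) ⟶ V := Over.homMk K.subschemeι rfl
  let R : Sieve V :=
    { arrows := fun W u => ∃ l : W ⟶ Over.mk (K.subschemeι ≫ V.hom), l ≫ ιO = u
      downward_closed := by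
        rintro W W' u ⟨l, rfl⟩ g
        exact ⟨g ≫ l, Category.assoc _ _ _⟩ }
  have hR : R ∈ J S V := by
    refine H5_mem_J_of_etale_cover R ?_
    intro y
    obtain ⟨Vx, r, hr, hy, hle⟩ := hloc y
    have hle' : K.subschemeι.ker ≤ r.left.ker := by
      rw [Scheme.IdealSheafData.ker_subschemeι]
      exact hle
    have hl₀ : IsClosedImmersion.lift K.subschemeι r.left hle' ≫ K.subschemeι = r.left :=
      IsClosedImmersion.lift_fac _ _ _
    generalize IsClosedImmersion.lift K.subschemeι r.left hle' = l₀ at hl₀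
    have hw : l₀ ≫ K.subschemeι ≫ V.hom = Vx.hom := by
      rw [← Category.assoc, hl₀]
      exact Over.w r
    exact ⟨Vx, r, ⟨Over.homMk l₀ hw, Over.OverMorphism.ext hl₀⟩, hr, hy⟩
  obtain ⟨σ, hσ⟩ : ∃ σ : (yon S).obj V ⟶ (yon S).obj (Over.mk (K.subschemeι ≫ V.hom)),
      ∀ ⦃W : Over S⦄ (u : W ⟶ V), R u →
        ((yon S).map u ≫ σ) ≫ (yon S).map ιO = (yon S).map u := by
    refine H5_glue_of_pred (X := (yon S).obj (Over.mk (K.subschemeι ≫ V.hom))) hR
      (fun W u m => m ≫ (yon S).map ιO = (yon S).map u) ?_ ?_ ?_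
    · rintro W u ⟨l, rfl⟩
      exact ⟨(yon S).map l, (CategoryTheory.Functor.map_comp _ _ _).symm⟩
    · intro W u m m' hm hm'
      obtain ⟨m₀, rfl⟩ := (yon S).map_surjective m
      obtain ⟨m₀', rfl⟩ := (yon S).map_surjective m'
      rw [← CategoryTheory.Functor.map_comp] at hm hm'
      have e1 : m₀ ≫ ιO = m₀' ≫ ιO := (yon S).map_injective (hm.trans hm'.symm)
      have e2 : m₀.left ≫ K.subschemeι = m₀'.left ≫ K.subschemeι :=
        congrArg CommaMorphism.left e1
      congr 1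
      exact Over.OverMorphism.ext ((cancel_mono K.subschemeι).1 e2)
    · intro W W' u g m hm
      show ((yon S).map g ≫ m) ≫ (yon S).map ιO = (yon S).map (g ≫ u)
      rw [Category.assoc, hm, CategoryTheory.Functor.map_comp]
  have hσ1 : σ ≫ (yon S).map ιO = 𝟙 _ := by
    refine H5_hom_ext_of_sieve hR _ _ ?_
    intro W u hu
    rw [← Category.assoc, hσ u hu, Category.comp_id]
  obtain ⟨σ₀, rfl⟩ := (yon S).map_surjective σ
  have hσ2 : σ₀ ≫ ιO = 𝟙 V := by
    apply (yon S).map_injective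
    rw [CategoryTheory.Functor.map_comp, hσ1, CategoryTheory.Functor.map_id]
  have hσ3 : σ₀.left ≫ K.subschemeι = 𝟙 V.left := congrArg CommaMorphism.left hσ2
  have h1 : K.subschemeι.ker ≤ (σ₀.left ≫ K.subschemeι).ker := Scheme.Hom.le_ker_comp _ _
  rw [Scheme.IdealSheafData.ker_subschemeι, hσ3, Scheme.Hom.ker_eq_bot_of_isIso] at h1
  exact le_bot_iff.1 h1

/-- First order thickenings of algebraic spaces are stable under base change. -/
theorem H5_isFOThickMor_baseChange {W W' P P' : Sp S} (hW' : IsAlgSpace W') {i : W ⟶ W'}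
    (hi : IsFOThickMor i) {g : P' ⟶ W'} {fstP : P ⟶ W} {i' : P ⟶ P'}
    (sq : IsPullback fstP i' i g) : IsFOThickMor i' := by
  refine ⟨MorphismProperty.of_isPullback (P := RepWith thick) sq hi.1, ?_⟩
  intro V V₀ b fst snd hV hb pb
  exact H5_sqZero_of_isPullback hW' hi hV (b ≫ g) (fst ≫ fstP) snd (pb.paste_horiz sq)

end AlgSp
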