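import Groth.Prelude.Def_AlgSpGpd

/-! Generalised-element calculus for groupoids in sheaves. -/

universe u

open CategoryTheory CategoryTheory.Limits AlgebraicGeometry Opposite

namespace AlgSp

namespace GroupoidSp

variable {S : Scheme.{u}} {B : Sp S} (G : GroupoidSp B)

/-- Composition of `T`-valued arrows `α ∘ β` (for `s α = t β`). -/
noncomputable def H5_comp {T : Sp S} (α β : T ⟶ G.R) (h : α ≫ G.s = β ≫ G.t) : T ⟶ G.R :=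
  pullback.lift α β h ≫ G.c

theorem H5_comp_congr {T : Sp S} {α α' β β' : T ⟶ G.R} (h : α ≫ G.s = β ≫ G.t)
    (h' : α' ≫ G.s = β' ≫ G.t) (hα : α = α') (hβ : β = β') :
    G.H5_comp α β h = G.H5_comp α' β' h' := by
  subst hα hβ
  rfl

theorem H5_comp_s {T : Sp S} (α β : T ⟶ G.R) (h : α ≫ G.s = β ≫ G.t) :
    G.H5_comp α β h ≫ G.s = β ≫ G.s := G.comp_s α β h

theorem H5_comp_t {T : Sp S} (α β : T ⟶ G.R) (h : α ≫ G.s = β ≫ G.t) :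
    G.H5_comp α β h ≫ G.t = α ≫ G.t := G.comp_t α β h

theorem H5_map_comp {T T' : Sp S} (m : T' ⟶ T) (α β : T ⟶ G.R) (h : α ≫ G.s = β ≫ G.t)
    (h' : (m ≫ α) ≫ G.s = (m ≫ β) ≫ G.t) :
    m ≫ G.H5_comp α β h = G.H5_comp (m ≫ α) (m ≫ β) h' := by
  unfold H5_comp
  rw [← Category.assoc]
  congr 1
  apply pullback.hom_ext
  · rw [Category.assoc, pullback.lift_fst, pullback.lift_fst]
  · rw [Category.assoc, pullback.lift_snd, pullback.lift_snd]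

theorem H5_comp_assoc {T : Sp S} (α β γ : T ⟶ G.R) (h₁ : α ≫ G.s = β ≫ G.t)
    (h₂ : β ≫ G.s = γ ≫ G.t) (h₃ : G.H5_comp α β h₁ ≫ G.s = γ ≫ G.t)
    (h₄ : α ≫ G.s = G.H5_comp β γ h₂ ≫ G.t) :
    G.H5_comp (G.H5_comp α β h₁) γ h₃ = G.H5_comp α (G.H5_comp β γ h₂) h₄ :=
  G.assoc α β γ h₁ h₂

theorem H5_comp_right_unit {T : Sp S} (α ε : T ⟶ G.R) (hε : ε = α ≫ G.s ≫ G.e)
    (h : α ≫ G.s = ε ≫ G.t) : G.H5_comp α ε h = α := by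
  subst hε
  exact G.comp_e α

theorem H5_comp_left_unit {T : Sp S} (α ε : T ⟶ G.R) (hε : ε = α ≫ G.t ≫ G.e)
    (h : ε ≫ G.s = α ≫ G.t) : G.H5_comp ε α h = α := by
  subst hε
  exact G.e_comp α

theorem H5_comp_right_inv {T : Sp S} (α ι : T ⟶ G.R) (hι : ι = α ≫ G.i)
    (h : α ≫ G.s = ι ≫ G.t) : G.H5_comp α ι h = α ≫ G.t ≫ G.e := by
  subst hι
  exact G.comp_i α

theorem H5_comp_left_inv {T : Sp S} (α ι : T ⟶ G.R) (hι : ι = α ≫ G.i)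
    (h : ι ≫ G.s = α ≫ G.t) : G.H5_comp ι α h = α ≫ G.s ≫ G.e := by
  subst hι
  exact G.i_comp α

theorem H5_inv_s {T : Sp S} (α : T ⟶ G.R) : (α ≫ G.i) ≫ G.s = α ≫ G.t := by
  rw [Category.assoc, G.i_s]

theorem H5_inv_t {T : Sp S} (α : T ⟶ G.R) : (α ≫ G.i) ≫ G.t = α ≫ G.s := by
  rw [Category.assoc, G.i_t]

/-- `(α ∘ β) ∘ β⁻¹ = α`. -/
theorem H5_comp_comp_inv {T : Sp S} (α β : T ⟶ G.R) (h : α ≫ G.s = β ≫ G.t)
    (h' : G.H5_comp α β h ≫ G.s = (β ≫ G.i) ≫ G.t) :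
    G.H5_comp (G.H5_comp α β h) (β ≫ G.i) h' = α := by
  have h₂ : β ≫ G.s = (β ≫ G.i) ≫ G.t := (G.H5_inv_t β).symm
  have e1 : G.H5_comp β (β ≫ G.i) h₂ = β ≫ G.t ≫ G.e := G.H5_comp_right_inv β _ rfl h₂
  have h₄ : α ≫ G.s = G.H5_comp β (β ≫ G.i) h₂ ≫ G.t := by
    rw [G.H5_comp_t]
    exact h
  rw [G.H5_comp_assoc α β (β ≫ G.i) h h₂ h' h₄]
  refine G.H5_comp_right_unit α _ ?_ h₄
  rw [e1, ← Category.assoc, ← h, Category.assoc]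

/-- `(α ∘ β⁻¹) ∘ β = α` (for `s α = s β`). -/
theorem H5_comp_inv_comp {T : Sp S} (α β : T ⟶ G.R) (h : α ≫ G.s = (β ≫ G.i) ≫ G.t)
    (h' : G.H5_comp α (β ≫ G.i) h ≫ G.s = β ≫ G.t) :
    G.H5_comp (G.H5_comp α (β ≫ G.i) h) β h' = α := by
  have h₂ : (β ≫ G.i) ≫ G.s = β ≫ G.t := G.H5_inv_s β
  have e1 : G.H5_comp (β ≫ G.i) β h₂ = β ≫ G.s ≫ G.e := G.H5_comp_left_inv β _ rfl h₂
  have h₄ : α ≫ G.s = G.H5_comp (β ≫ G.i) β h₂ ≫ G.t := by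
    rw [G.H5_comp_t]
    exact h
  rw [G.H5_comp_assoc α (β ≫ G.i) β h h₂ h' h₄]
  refine G.H5_comp_right_unit α _ ?_ h₄
  rw [e1, ← Category.assoc, ← G.H5_inv_t β, ← h, Category.assoc]

/-- `α⁻¹ ∘ (α ∘ β) = β`. -/
theorem H5_inv_comp_comp {T : Sp S} (α β : T ⟶ G.R) (h : α ≫ G.s = β ≫ G.t)
    (h' : (α ≫ G.i) ≫ G.s = G.H5_comp α β h ≫ G.t) :
    G.H5_comp (α ≫ G.i) (G.H5_comp α β h) h' = β := by
  have h₁ : (α ≫ G.i) ≫ G.s = α ≫ G.t := G.H5_inv_s α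
  have e1 : G.H5_comp (α ≫ G.i) α h₁ = α ≫ G.s ≫ G.e := G.H5_comp_left_inv α _ rfl h₁
  have h₃ : G.H5_comp (α ≫ G.i) α h₁ ≫ G.s = β ≫ G.t := by
    rw [G.H5_comp_s]
    exact h
  rw [← G.H5_comp_assoc (α ≫ G.i) α β h₁ h h₃ h']
  refine G.H5_comp_left_unit β _ ?_ h₃
  rw [e1, ← Category.assoc, h, Category.assoc]

/-- `α ∘ (α⁻¹ ∘ β) = β` (for `t α = t β`). -/
theorem H5_comp_inv_comp' {T : Sp S} (α β : T ⟶ G.R) (h : (α ≫ G.i) ≫ G.s = β ≫ G.t)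
    (h' : α ≫ G.s = G.H5_comp (α ≫ G.i) β h ≫ G.t) :
    G.H5_comp α (G.H5_comp (α ≫ G.i) β h) h' = β := by
  have h₁ : α ≫ G.s = (α ≫ G.i) ≫ G.t := (G.H5_inv_t α).symm
  have e1 : G.H5_comp α (α ≫ G.i) h₁ = α ≫ G.t ≫ G.e := G.H5_comp_right_inv α _ rfl h₁
  have h₃ : G.H5_comp α (α ≫ G.i) h₁ ≫ G.s = β ≫ G.t := by
    rw [G.H5_comp_s]
    exact h
  rw [← G.H5_comp_assoc α (α ≫ G.i) β h₁ h h₃ h']
  refine G.H5_comp_left_unit β _ ?_ h₃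
  rw [e1, ← Category.assoc, ← G.H5_inv_s α, h, Category.assoc]

theorem H5_c_eq : G.c = G.H5_comp (pullback.fst G.s G.t) (pullback.snd G.s G.t)
    pullback.condition := by
  unfold H5_comp
  have : pullback.lift (pullback.fst G.s G.t) (pullback.snd G.s G.t) pullback.condition =
      𝟙 _ := by
    apply pullback.hom_ext
    · rw [pullback.lift_fst, Category.id_comp]
    · rw [pullback.lift_snd, Category.id_comp]
  rw [this, Category.id_comp]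

theorem H5_c_s : G.c ≫ G.s = pullback.snd G.s G.t ≫ G.s := by
  rw [G.H5_c_eq, G.H5_comp_s]

theorem H5_c_t : G.c ≫ G.t = pullback.fst G.s G.t ≫ G.t := by
  rw [G.H5_c_eq, G.H5_comp_t]

theorem H5_hom_c {T : Sp S} (m : T ⟶ pullback G.s G.t)
    (h : (m ≫ pullback.fst G.s G.t) ≫ G.s = (m ≫ pullback.snd G.s G.t) ≫ G.t) :
    m ≫ G.c = G.H5_comp (m ≫ pullback.fst G.s G.t) (m ≫ pullback.snd G.s G.t) h := by
  rw [G.H5_c_eq]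
  exact G.H5_map_comp m _ _ _ h

end GroupoidSp

end AlgSp
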