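import Groth.Prelude.Def_AlgSpGpd
import Mathlib.CategoryTheory.Monoidal.Cartesian.Grp

/-! helper5 library: testing monomorphisms of sheaves on representables; free group actions. -/

set_option autoImplicit false

universe u

open CategoryTheory CategoryTheory.Limits AlgebraicGeometry Opposite MonoidalCategory
  CartesianMonoidalCategory MonObj

namespace AlgSp

variable {S : Scheme.{u}}

/-- A morphism of sheaves is a monomorphism as soon as it is injective on scheme-valued points. -/
theorem H5_mono_of_yon_cancel {F G : Sp S} (f : F ⟶ G)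
    (h : ∀ (T : Over S) (a b : (yon S).obj T ⟶ F), a ≫ f = b ≫ f → a = b) : Mono f := by
  constructor
  intro Z α β hαβ
  apply GrothendieckTopology.hom_ext_uliftYoneda.{u + 1} (J S)
  intro T x
  exact h T _ _ (by rw [Category.assoc, Category.assoc, hαβ])

open scoped MonObj

theorem H5_gaction_cancel {B : Sp S} {G X : Over B} [GrpObj G] (a : GAction G X) (ha : a.IsFree)
    {T : Over S} (β : (yon S).obj T ⟶ B) (g g' : Over.mk β ⟶ G) (x : Over.mk β ⟶ X)
    (h : lift g x ≫ a.act = lift g' x ≫ a.act) : g = g' := by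
  have hone : ∀ y : Over.mk β ⟶ X, lift (1 : Over.mk β ⟶ G) y ≫ a.act = y := by
    intro y
    have e : lift (1 : Over.mk β ⟶ G) y = lift (toUnit _) y ≫ (η[G] ▷ X) := by
      rw [Hom.one_def]; simp
    rw [e, Category.assoc, a.one_act]; simp
  have hmul : ∀ (p q : Over.mk β ⟶ G) (y : Over.mk β ⟶ X),
      lift (p * q) y ≫ a.act = lift p (lift q y ≫ a.act) ≫ a.act := by
    intro p q y
    have e : lift (p * q) y = lift (lift p q) y ≫ (μ[G] ▷ X) := by
      rw [Hom.mul_def]; simp
    rw [e, Category.assoc, a.mul_act]; simp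
  have h1 : lift (g'⁻¹ * g) x ≫ a.act = x := by
    rw [hmul, h, ← hmul, inv_mul_cancel, hone]
  have h2 : g'⁻¹ * g = 1 := ha β (g'⁻¹ * g) x h1
  exact (inv_mul_eq_one.1 h2).symm

/-- Free action ⇒ the shear map `(g, x) ↦ (g x, x)` is a monomorphism. -/
theorem H5_mono_shear {B : Sp S} {G X : Over B} [GrpObj G] (a : GAction G X) (ha : a.IsFree) :
    Mono (lift a.act (snd G X)).left := by
  apply H5_mono_of_yon_cancel
  intro T p q hpq
  have hw : p ≫ (G ⊗ X).hom = q ≫ (G ⊗ X).hom := by
    have h0 := congrArg (· ≫ (X ⊗ X).hom) hpq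
    simp only [Category.assoc, Over.w] at h0
    exact h0
  let p' : Over.mk (p ≫ (G ⊗ X).hom) ⟶ G ⊗ X := Over.homMk p rfl
  let q' : Over.mk (p ≫ (G ⊗ X).hom) ⟶ G ⊗ X := Over.homMk q hw.symm
  have hpq' : p' ≫ lift a.act (snd G X) = q' ≫ lift a.act (snd G X) := by
    apply Over.OverMorphism.ext
    rw [Over.comp_left, Over.comp_left]
    exact hpq
  have hsnd : p' ≫ snd G X = q' ≫ snd G X := by
    have h0 := congrArg (· ≫ snd X X) hpq'
    simp only [Category.assoc, lift_snd] at h0
    exact h0
  have hact : p' ≫ a.act = q' ≫ a.act := by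
    have h0 := congrArg (· ≫ fst X X) hpq'
    simp only [Category.assoc, lift_fst] at h0
    exact h0
  have hfst : p' ≫ fst G X = q' ≫ fst G X := by
    apply H5_gaction_cancel a ha _ _ _ (p' ≫ snd G X)
    calc lift (p' ≫ fst G X) (p' ≫ snd G X) ≫ a.act = p' ≫ a.act := by
          rw [lift_comp_fst_snd]
      _ = q' ≫ a.act := hact
      _ = lift (q' ≫ fst G X) (p' ≫ snd G X) ≫ a.act := by
          rw [hsnd, lift_comp_fst_snd]
  have hfin : p' = q' := by
    rw [← lift_comp_fst_snd p', ← lift_comp_fst_snd q', hfst, hsnd]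
  exact congrArg (fun k => k.left) hfin

end AlgSp
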