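import Groth.Agent.Lib.helper5.AlgSpUniv
import Groth.Agent.Lib.helper5.AlgSpFlatSrc
import Groth.Agent.Lib.helper5.AlgSpMono
import Groth.Agent.Lib.helper5.AlgSpGpd

/-! helper5 library: morphisms to the spectrum of a field are flat and universally open;
the multiplication of a group object is a base change of the structure map. -/

set_option autoImplicit false

universe u

open CategoryTheory CategoryTheory.Limits AlgebraicGeometry Opposite MonoidalCategory
  CartesianMonoidalCategory MonObj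

namespace AlgSp

variable {S : Scheme.{u}}

theorem H5_locP_flat_to_field {k : Type u} [Field k] (σ : Spec (CommRingCat.of k) ⟶ S) {X : Sp S}
    (f : X ⟶ (yon S).obj (Over.mk σ)) : LocP @Flat f := by
  intro U V a b h ha hb w
  obtain ⟨b', rfl⟩ := (yon S).map_surjective b
  haveI : Etale b'.left := (repWith_yon_map_iff @Etale b').1 hb
  haveI : Subsingleton (Spec (CommRingCat.of k)) := inferInstance
  haveI : Flat (h.left ≫ b'.left) :=
    (inferInstance : @Flat _ (Spec (CommRingCat.of k)) (h.left ≫ b'.left))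
  exact H5_flat_of_comp_etale h.left b'.left

theorem H5_isUnivOpenMor_to_field {k : Type u} [Field k] (σ : Spec (CommRingCat.of k) ⟶ S)
    {X : Sp S} (hX : IsAlgSpace X) (f : X ⟶ (yon S).obj (Over.mk σ)) : IsUnivOpenMor f := by
  obtain ⟨U, a, hae, has⟩ := hX.atlas
  refine H5_isUnivOpenMor_of_chart_comp f a (H5_surjective_of_repWith a has) ?_
  obtain ⟨k', hk'⟩ := (yon S).map_surjective (a ≫ f)
  rw [← hk', repWith_yon_map_iff]
  haveI : Subsingleton (Spec (CommRingCat.of k)) := inferInstance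
  exact (inferInstance : @UniversallyOpen _ (Spec (CommRingCat.of k)) k'.left)

namespace GroupoidSp

variable {B : Sp S} (G : GroupoidSp B)

/-- The composition of a groupoid is a base change of the source map. -/
theorem H5_c_isPullback : IsPullback G.c (pullback.snd G.s G.t) G.s G.s := by
  refine IsPullback.mk' G.H5_c_s ?_ ?_
  · intro T φ φ' h1 h2
    have hφ : (φ ≫ pullback.fst G.s G.t) ≫ G.s = (φ ≫ pullback.snd G.s G.t) ≫ G.t := by
      rw [Category.assoc, Category.assoc, pullback.condition]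
    have hφ' : (φ' ≫ pullback.fst G.s G.t) ≫ G.s = (φ' ≫ pullback.snd G.s G.t) ≫ G.t := by
      rw [Category.assoc, Category.assoc, pullback.condition]
    have e1 := G.H5_hom_c φ hφ
    have e2 := G.H5_hom_c φ' hφ'
    have hα : φ ≫ pullback.fst G.s G.t = φ' ≫ pullback.fst G.s G.t := by
      have k1 := G.H5_comp_comp_inv (φ ≫ pullback.fst G.s G.t) (φ ≫ pullback.snd G.s G.t) hφ
        (by rw [G.H5_comp_s, G.H5_inv_t])
      have k2 := G.H5_comp_comp_inv (φ' ≫ pullback.fst G.s G.t) (φ' ≫ pullback.snd G.s G.t) hφ'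
        (by rw [G.H5_comp_s, G.H5_inv_t])
      exact k1.symm.trans ((G.H5_comp_congr _ _ (by rw [← e1, ← e2, h1]) (by rw [h2])).trans k2)
    exact pullback.hom_ext hα h2
  · intro T a b hab
    have h0 : a ≫ G.s = (b ≫ G.i) ≫ G.t := by rw [G.H5_inv_t]; exact hab
    have h1 : G.H5_comp a (b ≫ G.i) h0 ≫ G.s = b ≫ G.t := by rw [G.H5_comp_s, G.H5_inv_s]
    refine ⟨pullback.lift (G.H5_comp a (b ≫ G.i) h0) b h1, ?_, pullback.lift_snd _ _ _⟩
    rw [G.H5_hom_c _ (by rw [pullback.lift_fst, pullback.lift_snd]; exact h1)]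
    exact (G.H5_comp_congr _ _ (pullback.lift_fst _ _ _) (pullback.lift_snd _ _ _)).trans
      (G.H5_comp_inv_comp a b h0 h1)

end GroupoidSp

end AlgSp

namespace CategoryTheory

/-- The multiplication of a group object is a base change of the map to the terminal object. -/
theorem H5_grp_mul_isPullback {C : Type*} [Category C] [CartesianMonoidalCategory C] (G : C)
    [GrpObj G] : IsPullback μ[G] (fst G G) (toUnit G) (toUnit G) := by
  have hmul : ∀ {T : C} (p q : T ⟶ G), lift p q ≫ μ[G] = p * q :=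
    fun p q => (Hom.mul_def p q).symm
  refine IsPullback.mk' (toUnit_unique _ _) ?_ ?_
  · intro T φ φ' h1 h2
    have e1 : (φ ≫ fst G G) * (φ ≫ snd G G) = φ ≫ μ[G] := by
      rw [← hmul, lift_comp_fst_snd]
    have e2 : (φ' ≫ fst G G) * (φ' ≫ snd G G) = φ' ≫ μ[G] := by
      rw [← hmul, lift_comp_fst_snd]
    have e3 : (φ ≫ fst G G) * (φ ≫ snd G G) = (φ ≫ fst G G) * (φ' ≫ snd G G) := by
      rw [e1, h1, ← e2, h2]
    have e4 : φ ≫ snd G G = φ' ≫ snd G G := mul_left_cancel e3
    rw [← lift_comp_fst_snd φ, ← lift_comp_fst_snd φ', h2, e4]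
  · intro T a b _
    refine ⟨lift b (b⁻¹ * a), ?_, lift_fst _ _⟩
    rw [hmul, mul_inv_cancel_left]

/-- The diagonal of a group object is a base change of the unit. -/
theorem H5_grp_diag_isPullback {C : Type*} [Category C] [CartesianMonoidalCategory C] (G : C)
    [GrpObj G] : IsPullback (toUnit G) (lift (𝟙 G) (𝟙 G)) η[G]
      (lift (fst G G ≫ ι[G]) (snd G G) ≫ μ[G]) := by
  have hmul : ∀ {T : C} (p q : T ⟶ G), lift p q ≫ μ[G] = p * q :=
    fun p q => (Hom.mul_def p q).symm
  have hd : ∀ {T : C} (b : T ⟶ G ⊗ G), b ≫ (lift (fst G G ≫ ι[G]) (snd G G) ≫ μ[G])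
      = (b ≫ fst G G)⁻¹ * (b ≫ snd G G) := by
    intro T b
    rw [← Category.assoc, comp_lift, hmul, Hom.inv_def, Category.assoc]
  have hone : ∀ {T : C} (a : T ⟶ 𝟙_ C), a ≫ η[G] = (1 : T ⟶ G) := by
    intro T a
    rw [Hom.one_def, toUnit_unique a (toUnit T)]
  refine IsPullback.mk' ?_ ?_ ?_
  · rw [hd, hone, lift_fst, lift_snd, inv_mul_cancel]
  · intro T φ φ' _ h2
    have := congrArg (· ≫ fst G G) h2
    simpa using this
  · intro T a b hab
    rw [hd, hone] at hab
    have hb : b ≫ fst G G = b ≫ snd G G := inv_mul_eq_one.1 hab.symm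
    refine ⟨b ≫ fst G G, toUnit_unique _ _, ?_⟩
    rw [comp_lift, Category.comp_id]
    conv_rhs => rw [← lift_comp_fst_snd b]
    rw [← hb]

end CategoryTheory
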