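import Groth.Agent.Lib.helper5.AlgSpCompact

/-! helper5 library: quasi-compact morphisms of algebraic spaces. -/

set_option autoImplicit false

universe u

open CategoryTheory CategoryTheory.Limits AlgebraicGeometry Opposite

namespace AlgSp

open Groth.Agent.Lib.helper5

variable {S : Scheme.{u}}

theorem H5_isQuasiCompactSp_of_iso {F F' : Sp S} (e : F ≅ F') (h : IsQuasiCompactSp F) :
    IsQuasiCompactSp F' := by
  obtain ⟨U, p, hpe, hps, hU⟩ := h
  exact ⟨U, p ≫ e.hom, (MorphismProperty.cancel_right_of_respectsIso (RepWith @Etale) p e.hom).2 hpe,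
    (MorphismProperty.cancel_right_of_respectsIso (RepWith @Surjective) p e.hom).2 hps, hU⟩

/-- Quasi-compact morphisms are stable under base change. -/
theorem H5_isQuasiCompactMor_baseChange {F G G' F' : Sp S} {f : F ⟶ G} {g : G' ⟶ G}
    {fst : F' ⟶ F} {f' : F' ⟶ G'} (sq : IsPullback fst f' f g) (hf : IsQuasiCompactMor f) :
    IsQuasiCompactMor f' := by
  intro Z Z' hZ hZq k a b sqZ
  exact hf hZ hZq (k ≫ g) (a ≫ fst) b (sqZ.paste_horiz sq)

theorem H5_isQuasiCompactSp_of_baseChange {F G G' F' : Sp S} {f : F ⟶ G} {g : G' ⟶ G}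
    {fst : F' ⟶ F} {f' : F' ⟶ G'} (sq : IsPullback fst f' f g) (hf' : IsQuasiCompactMor f')
    {Z Z' : Sp S} (hZ : IsAlgSpace Z) (hZq : IsQuasiCompactSp Z) (k : Z ⟶ G')
    (a : Z' ⟶ F) (b : Z' ⟶ Z) (sqZ : IsPullback a b f (k ≫ g)) : IsQuasiCompactSp Z' := by
  have hw : a ≫ f = (b ≫ k) ≫ g := by rw [sqZ.w, Category.assoc]
  refine hf' hZ hZq k (sq.lift a (b ≫ k) hw) b ?_
  refine IsPullback.of_right ?_ (sq.lift_snd _ _ _) sq
  rw [sq.lift_fst]
  exact sqZ

/-- Quasi-compact morphisms are stable under composition. -/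
theorem H5_isQuasiCompactMor_comp {F G H : Sp S} (f : F ⟶ G) (g : G ⟶ H) (hG : IsAlgSpace G)
    (hH : Representable (Limits.diag H))
    (hf : IsQuasiCompactMor f) (hg : IsQuasiCompactMor g) : IsQuasiCompactMor (f ≫ g) := by
  intro Z Z' hZ hZq k a b sqZ
  have sq1 := IsPullback.of_hasPullback g k
  have hZ'' : IsAlgSpace (pullback g k) :=
    H5_isAlgSpace_of_isPullback H hH ⟨G, hG⟩ ⟨Z, hZ⟩ g k _ _ _ sq1
  have hZ''q : IsQuasiCompactSp (pullback g k) := hg hZ hZq k _ _ sq1
  have hw : (a ≫ f) ≫ g = b ≫ k := by rw [Category.assoc, sqZ.w]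
  have sq2 : IsPullback a (pullback.lift (a ≫ f) b hw) f (pullback.fst g k) := by
    refine IsPullback.of_bot ?_ (pullback.lift_fst _ _ _).symm sq1
    rw [pullback.lift_snd]
    exact sqZ
  exact hf hZ'' hZ''q (pullback.fst g k) a _ sq2

/-- If `f ≫ g` is quasi-compact and `g` is quasi-separated then `f` is quasi-compact. -/
theorem H5_isQuasiCompactMor_of_comp {F G H : Sp S} (f : F ⟶ G) (g : G ⟶ H) (hF : IsAlgSpace F)
    (hH : Representable (Limits.diag H))
    (hgf : IsQuasiCompactMor (f ≫ g)) (hg : IsQuasiSeparatedMor g) : IsQuasiCompactMor f := by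
  intro W W' hW hWq k a b sqW
  have sq1 := IsPullback.of_hasPullback (f ≫ g) (k ≫ g)
  have hW''q : IsQuasiCompactSp (pullback (f ≫ g) (k ≫ g)) := hgf hW hWq (k ≫ g) _ _ sq1
  have hW'' : IsAlgSpace (pullback (f ≫ g) (k ≫ g)) :=
    H5_isAlgSpace_of_isPullback H hH ⟨F, hF⟩ ⟨W, hW⟩ _ _ _ _ _ sq1
  have hΔ : IsQuasiCompactMor (pullback.diagonal g) := H5_isQuasiCompactMor_of_repWith _ hg
  have key := pullback_map_diagonal_isPullback f k g
  have hm := H5_isQuasiCompactMor_baseChange key hΔ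
  have h1 : IsQuasiCompactSp (pullback f k) := hm hW'' hW''q (𝟙 _) (𝟙 _) _ IsPullback.of_id_fst
  exact H5_isQuasiCompactSp_of_iso sqW.isoPullback.symm h1

/-- If `f` is surjective and `f ≫ q` is quasi-compact then `q` is quasi-compact. -/
theorem H5_isQuasiCompactMor_of_surjective_comp {F G H : Sp S} (f : F ⟶ G) (q : G ⟶ H)
    (hG : IsAlgSpace G) (hH : Representable (Limits.diag H))
    (hf : IsSurjectiveMor f) (hp : IsQuasiCompactMor (f ≫ q)) : IsQuasiCompactMor q := by
  intro W W' hW hWq k a b sqW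
  have hW' : IsAlgSpace W' := H5_isAlgSpace_of_isPullback H hH ⟨G, hG⟩ ⟨W, hW⟩ q k _ a b sqW
  have sq1 := IsPullback.of_hasPullback f a
  have big : IsPullback (pullback.fst f a) (pullback.snd f a ≫ b) (f ≫ q) k := sq1.paste_vert sqW
  have hq'' : IsQuasiCompactSp (pullback f a) := hp hW hWq k _ _ big
  haveI := H5_compactSpace_points hq''
  have hs : Function.Surjective (Points.map (pullback.snd f a)) := H5_surjective_baseChange sq1 hf
  haveI : CompactSpace (Points W') := ⟨by
    rw [← hs.range_eq]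
    exact isCompact_range (Points.continuous_map _)⟩
  exact H5_isQuasiCompactSp_of_compactSpace hW'

theorem H5_isQuasiCompactSp_yon_of_isAffine (Z : Over S) (hZ : IsAffine Z.left) :
    IsQuasiCompactSp ((yon S).obj Z) :=
  (H5_isQuasiCompactSp_yon_iff Z).2 inferInstance

/-- Quasi-compactness of a morphism can be tested on affine schemes over the target. -/
theorem H5_isQuasiCompactMor_of_affine {F G : Sp S} (f : F ⟶ G) (hF : IsAlgSpace F)
    (hG : Representable (Limits.diag G))
    (h : ∀ (Z : Over S), IsAffine Z.left → ∀ (g : (yon S).obj Z ⟶ G) (P : Sp S)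
        (fst : P ⟶ F) (snd : P ⟶ (yon S).obj Z), IsPullback fst snd f g → IsQuasiCompactSp P) :
    IsQuasiCompactMor f := by
  intro W W' hW hWq k a b sqW
  have hW' : IsAlgSpace W' := H5_isAlgSpace_of_isPullback G hG ⟨F, hF⟩ ⟨W, hW⟩ f k _ a b sqW
  obtain ⟨U, p, hpe, hps, hU⟩ := hWq
  have hsurj : Function.Surjective (Points.ofPt p) :=
    H5_ofPt_surjective p (H5_surjective_of_repWith p hps)
  obtain ⟨t, ht⟩ := isCompact_univ.elim_finite_subcover
    (fun V : U.left.affineOpens => ((V : U.left.Opens) : Set U.left))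
    (fun V => (V : U.left.Opens).2) (by
      intro u _
      obtain ⟨V, hV, huV, -⟩ := exists_isAffineOpen_mem_and_subset (x := u) (U := ⊤) trivial
      exact Set.mem_iUnion.2 ⟨⟨V, hV⟩, huV⟩)
  haveI : CompactSpace (Points W') := by
    refine H5_compactSpace_of_cover b (ι := t)
      (fun V => (yon S).obj (H5_overOpen U (V.1 : U.left.Opens)))
      (fun V => (yon S).map (H5_overOpenι U (V.1 : U.left.Opens)) ≫ p) ?_ ?_
    · intro w
      obtain ⟨u, rfl⟩ := hsurj w
      have := ht (Set.mem_univ u)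
      simp only [Set.mem_iUnion] at this
      obtain ⟨V, hV, huV⟩ := this
      refine ⟨⟨V, hV⟩, Points.ofScheme _ (⟨u, huV⟩ : (V : U.left.Opens)), ?_⟩
      rw [← Points.ofPt_eq_map_ofScheme, H5_ofPt_overOpenι]
    · intro V
      have hV : IsAffineOpen (V.1 : U.left.Opens) := V.1.2
      exact H5_compactSpace_points (h (H5_overOpen U (V.1 : U.left.Opens)) hV _ _ _ _
        ((IsPullback.of_hasPullback b _).paste_horiz sqW))
  exact H5_isQuasiCompactSp_of_compactSpace hW'

/-- For a quasi-compact morphism, preimages of compact opens are compact. -/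
theorem H5_isCompact_preimage {X Y : Sp S} (f : X ⟶ Y) (hY : IsAlgSpace Y)
    (hf : IsQuasiCompactMor f) (V : Set (Points Y)) (hV : IsOpen V) (hVc : IsCompact V) :
    IsCompact (Points.map f ⁻¹' V) := by
  obtain ⟨U, p, hpe, hps⟩ := hY.atlas
  have hopen := H5_ofPt_isOpenMap p (H5_EtSurj_isOpenMap ⟨hpe, hps⟩)
  have hsurj := H5_ofPt_surjective p (H5_surjective_of_repWith p hps)
  have hVU : IsOpen (Points.ofPt p ⁻¹' V) := hV.preimage (Points.continuous_ofPt p)
  obtain ⟨t, ht⟩ := hVc.elim_finite_subcover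
    (fun W : {W : U.left.affineOpens //
        ((W : U.left.Opens) : Set U.left) ⊆ Points.ofPt p ⁻¹' V} =>
      Points.ofPt p '' ((W.1 : U.left.Opens) : Set U.left))
    (fun W => hopen _ (W.1 : U.left.Opens).2) (by
      intro v hv
      obtain ⟨u, rfl⟩ := hsurj v
      obtain ⟨W, hW, huW, hWV⟩ := exists_isAffineOpen_mem_and_subset (x := u)
        (U := ⟨_, hVU⟩) hv
      exact Set.mem_iUnion.2 ⟨⟨⟨W, hW⟩, hWV⟩, u, huW, rfl⟩)
  refine H5_isCompact_preimage_of_cover f (ι := t)
    (fun W => (yon S).obj (H5_overOpen U (W.1.1 : U.left.Opens)))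
    (fun W => (yon S).map (H5_overOpenι U (W.1.1 : U.left.Opens)) ≫ p) V ?_ ?_ ?_
  · rintro W _ ⟨y, rfl⟩
    obtain ⟨u, rfl⟩ := (Points.schemeEquiv _).surjective y
    change Points.map _ (Points.ofScheme _ u) ∈ V
    rw [← Points.ofPt_eq_map_ofScheme]
    obtain ⟨u, hu⟩ := u
    rw [H5_ofPt_overOpenι]
    exact W.1.2 hu
  · intro v hv
    have := ht hv
    simp only [Set.mem_iUnion] at this
    obtain ⟨W, hW, u, huW, rfl⟩ := this
    refine ⟨⟨W, hW⟩, Points.ofScheme _ (⟨u, huW⟩ : (W.1 : U.left.Opens)), ?_⟩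
    rw [← Points.ofPt_eq_map_ofScheme, H5_ofPt_overOpenι]
  · intro W
    have hW : IsAffineOpen (W.1.1 : U.left.Opens) := W.1.1.2
    exact H5_compactSpace_points (hf (IsAlgSpace.yon_obj _)
      (H5_isQuasiCompactSp_yon_of_isAffine (H5_overOpen U (W.1.1 : U.left.Opens)) hW) _ _ _
      (IsPullback.of_hasPullback f _))

/-- Quasi-compactness descends along a universally open surjective base change. -/
theorem H5_isQuasiCompactMor_descent_univOpen {F G G' F' : Sp S} {f : F ⟶ G} {g : G' ⟶ G}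
    {fst : F' ⟶ F} {f' : F' ⟶ G'} (sq : IsPullback fst f' f g) (hF : IsAlgSpace F)
    (hG : IsAlgSpace G) (hG' : IsAlgSpace G') (hg : IsUnivOpenMor g) (hgs : IsSurjectiveMor g)
    (hf' : IsQuasiCompactMor f') : IsQuasiCompactMor f := by
  intro W W' hW hWq k a b sqW
  have hW' : IsAlgSpace W' :=
    H5_isAlgSpace_of_isPullback G hG.diag ⟨F, hF⟩ ⟨W, hW⟩ f k _ a b sqW
  have sq1 := IsPullback.of_hasPullback k g
  have hW'' : IsAlgSpace (pullback k g) :=
    H5_isAlgSpace_of_isPullback G hG.diag ⟨W, hW⟩ ⟨G', hG'⟩ k g _ _ _ sq1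
  have hop : IsOpenMap (Points.map (pullback.fst k g)) := hg hW k _ _ sq1.flip
  have hsu : Function.Surjective (Points.map (pullback.fst k g)) :=
    H5_surjective_baseChange sq1.flip hgs
  obtain ⟨U, p, hpe, hps⟩ := hW''.atlas
  have hcomp : Points.map (p ≫ pullback.fst k g) =
      Points.map (pullback.fst k g) ∘ Points.map p := funext (Points.map_comp _ _)
  have hopen : IsOpenMap (Points.ofPt (p ≫ pullback.fst k g)) :=
    H5_ofPt_isOpenMap _ (by
      rw [hcomp]
      exact hop.comp (H5_EtSurj_isOpenMap ⟨hpe, hps⟩))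
  have hsurj : Function.Surjective (Points.ofPt (p ≫ pullback.fst k g)) :=
    H5_ofPt_surjective _ (by
      rw [hcomp]
      exact hsu.comp (H5_surjective_of_repWith p hps))
  haveI := H5_compactSpace_points hWq
  obtain ⟨t, ht⟩ := isCompact_univ.elim_finite_subcover
    (fun V : U.left.affineOpens =>
      Points.ofPt (p ≫ pullback.fst k g) '' ((V : U.left.Opens) : Set U.left))
    (fun V => hopen _ (V : U.left.Opens).2) (by
      intro w _
      obtain ⟨u, rfl⟩ := hsurj w
      obtain ⟨V, hV, huV, -⟩ := exists_isAffineOpen_mem_and_subset (x := u) (U := ⊤) trivial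
      exact Set.mem_iUnion.2 ⟨⟨V, hV⟩, u, huV, rfl⟩)
  haveI : CompactSpace (Points W') := by
    refine H5_compactSpace_of_cover b (ι := t)
      (fun V => (yon S).obj (H5_overOpen U (V.1 : U.left.Opens)))
      (fun V => (yon S).map (H5_overOpenι U (V.1 : U.left.Opens)) ≫ p ≫ pullback.fst k g) ?_ ?_
    · intro w
      have := ht (Set.mem_univ w)
      simp only [Set.mem_iUnion] at this
      obtain ⟨V, hV, u, huV, rfl⟩ := this
      refine ⟨⟨V, hV⟩, Points.ofScheme _ (⟨u, huV⟩ : (V : U.left.Opens)), ?_⟩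
      rw [← Points.ofPt_eq_map_ofScheme, H5_ofPt_overOpenι]
    · intro V
      have hV : IsAffineOpen (V.1 : U.left.Opens) := V.1.2
      have sqZ := (IsPullback.of_hasPullback b
        ((yon S).map (H5_overOpenι U (V.1 : U.left.Opens)) ≫ p ≫ pullback.fst k g)).paste_horiz sqW
      have e : ((yon S).map (H5_overOpenι U (V.1 : U.left.Opens)) ≫ p ≫ pullback.fst k g) ≫ k =
          ((yon S).map (H5_overOpenι U (V.1 : U.left.Opens)) ≫ p ≫ pullback.snd k g) ≫ g := by
        simp only [Category.assoc, pullback.condition]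
      rw [e] at sqZ
      exact H5_compactSpace_points (H5_isQuasiCompactSp_of_baseChange sq hf'
        (IsAlgSpace.yon_obj _) (H5_isQuasiCompactSp_yon_of_isAffine
          (H5_overOpen U (V.1 : U.left.Opens)) hV) _ _ _ sqZ)
  exact H5_isQuasiCompactSp_of_compactSpace hW'

end AlgSp
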