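import Groth.Agent.Lib.helper5.AlgSpAffBC
import Groth.Agent.Lib.helper5.AlgSpQCMor
import Groth.Agent.Lib.helper5.AlgSpAffine

/-! helper5 library: affine / integral / finite morphisms of algebraic spaces. -/

set_option autoImplicit false

universe u

open CategoryTheory CategoryTheory.Limits AlgebraicGeometry Opposite

namespace AlgSp

variable {S : Scheme.{u}}

/-- Base changes to affine schemes are representable by affine schemes with `Q`. -/
def H5_AffRep (Q : MorphismProperty Scheme.{u}) : MorphismProperty (Sp S) := fun F G f =>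
  ∀ ⦃Z : Over S⦄, IsAffine Z.left → ∀ (g : (yon S).obj Z ⟶ G),
    ∃ (W : Over S) (i : W ⟶ Z) (fst : (yon S).obj W ⟶ F),
      IsPullback fst ((yon S).map i) f g ∧ IsAffine W.left ∧ Q i.left

theorem H5_isFiniteMor_iff {F G : Sp S} (f : F ⟶ G) : IsFiniteMor f ↔ H5_AffRep @IsFinite f :=
  Iff.rfl

theorem H5_isIntegralMor_iff {F G : Sp S} (f : F ⟶ G) :
    IsIntegralMor f ↔ H5_AffRep @IsIntegralHom f := Iff.rfl

theorem H5_isAffineMor_iff {F G : Sp S} (f : F ⟶ G) : IsAffineMor f ↔ H5_AffRep ⊤ f :=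
  ⟨fun h Z hZ g => by
    obtain ⟨W, i, fst, sq, hW⟩ := h hZ g
    exact ⟨W, i, fst, sq, hW, MorphismProperty.top_apply _⟩,
   fun h Z hZ g => by
    obtain ⟨W, i, fst, sq, hW, -⟩ := h hZ g
    exact ⟨W, i, fst, sq, hW⟩⟩

theorem H5_affRep_baseChange (Q : MorphismProperty Scheme.{u}) {F G G' F' : Sp S} {f : F ⟶ G}
    {g : G' ⟶ G} {fst : F' ⟶ F} {f' : F' ⟶ G'} (sq : IsPullback fst f' f g)
    (hf : H5_AffRep Q f) : H5_AffRep Q f' := by
  intro Z hZ t
  obtain ⟨W, i, a, sqW, hW, hi⟩ := hf hZ (t ≫ g)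
  have hcomm : a ≫ f = ((yon S).map i ≫ t) ≫ g := by rw [Category.assoc]; exact sqW.w
  have hl1 : sq.lift _ _ hcomm ≫ fst = a := sq.lift_fst _ _ _
  have hl2 : sq.lift _ _ hcomm ≫ f' = (yon S).map i ≫ t := sq.lift_snd _ _ _
  rw [← hl1] at sqW
  exact ⟨W, i, sq.lift _ _ hcomm, IsPullback.of_right sqW hl2 sq, hW, hi⟩

theorem H5_affRep_closedImmersion_comp (Q : MorphismProperty Scheme.{u})
    [Q.IsStableUnderComposition] (hQ : @IsClosedImmersion ≤ Q)
    {F G H : Sp S} (c : F ⟶ G) (p : G ⟶ H) (hc : RepWith @IsClosedImmersion c)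
    (hp : H5_AffRep Q p) : H5_AffRep Q (c ≫ p) := by
  intro Z hZ t
  obtain ⟨W, i, a, sqW, hW, hi⟩ := hp hZ t
  obtain ⟨W', k, e, pb⟩ := hc.1 a
  have hk : IsClosedImmersion k.left := hc.2 a e k pb
  refine ⟨W', k ≫ i, e, ?_, ?_, ?_⟩
  · rw [Functor.map_comp]
    exact pb.paste_vert sqW
  · haveI := hW
    exact isAffine_of_isAffineHom k.left
  · exact Q.comp_mem _ _ (hQ _ _ _ hk) hi

theorem H5_affRep_comp (Q : MorphismProperty Scheme.{u}) [Q.IsStableUnderComposition]
    {F G H : Sp S} (f : F ⟶ G) (g : G ⟶ H) (hf : H5_AffRep Q f) (hg : H5_AffRep Q g) :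
    H5_AffRep Q (f ≫ g) := by
  intro Z hZ t
  obtain ⟨W, i, a, sqW, hW, hi⟩ := hg hZ t
  obtain ⟨W', k, e, pb, hW', hk⟩ := hf hW a
  refine ⟨W', k ≫ i, e, ?_, hW', ?_⟩
  · rw [Functor.map_comp]
    exact pb.paste_vert sqW
  · exact Q.comp_mem _ _ hk hi

theorem H5_affRep_of_comp_separated (Q : MorphismProperty Scheme.{u})
    [Q.IsStableUnderComposition] (hQ : @IsClosedImmersion ≤ Q)
    {X Y Z : Sp S} (f : X ⟶ Y) (g : Y ⟶ Z) (hg : IsSeparatedMor g)
    (h : H5_AffRep Q (f ≫ g)) : H5_AffRep Q f := by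
  have h1 : RepWith @IsClosedImmersion
      (pullback.lift (𝟙 X) f (by simp) : X ⟶ pullback (f ≫ g) g) :=
    MorphismProperty.of_isPullback (pullback_lift_diagonal_isPullback f g) hg
  have h2 : H5_AffRep Q (pullback.snd (f ≫ g) g) :=
    H5_affRep_baseChange Q (IsPullback.of_hasPullback (f ≫ g) g) h
  have h3 := H5_affRep_closedImmersion_comp Q hQ _ _ h1 h2
  rwa [pullback.lift_snd] at h3

/-- If base changes of `f` to affine schemes are representable with `P`, then `f` has `P` etale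
locally on source and target. -/
theorem H5_locP_of_affineRep (P : MorphismProperty Scheme.{u}) [IsZariskiLocalAtTarget P]
    (hP : ∀ ⦃A B C : Scheme.{u}⦄ (u : A ⟶ B) (v : B ⟶ C), Etale u → P v → P (u ≫ v))
    {X Y : Sp S} (f : X ⟶ Y)
    (hrep : ∀ ⦃Z : Over S⦄, IsAffine Z.left → ∀ (g : (yon S).obj Z ⟶ Y),
      ∃ (W : Over S) (i : W ⟶ Z) (fst : (yon S).obj W ⟶ X),
        IsPullback fst ((yon S).map i) f g ∧ P i.left) : LocP P f := by
  intro U V a b h ha hb w
  refine IsZariskiLocalAtTarget.of_openCover (P := P) V.left.affineCover ?_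
  intro v₀
  let V₀ : Over S := Over.mk (V.left.affineCover.f v₀ ≫ V.hom)
  let j₀ : V₀ ⟶ V := Over.homMk (V.left.affineCover.f v₀) rfl
  let U₀ : Over S := Over.mk (pullback.fst h.left (V.left.affineCover.f v₀) ≫ U.hom)
  let u₀ : U₀ ⟶ U := Over.homMk (pullback.fst h.left (V.left.affineCover.f v₀)) rfl
  let h₀ : U₀ ⟶ V₀ := Over.homMk (pullback.snd h.left (V.left.affineCover.f v₀)) (by
    show pullback.snd h.left (V.left.affineCover.f v₀) ≫ V.left.affineCover.f v₀ ≫ V.hom =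
      pullback.fst h.left (V.left.affineCover.f v₀) ≫ U.hom
    rw [← pullback.condition_assoc, Over.w h])
  have hsqO : u₀ ≫ h = h₀ ≫ j₀ := by
    apply Over.OverMorphism.ext
    exact pullback.condition
  have hu₀ : RepWith @Etale ((yon S).map u₀) :=
    (repWith_yon_map_iff @Etale u₀).2
      (inferInstance : Etale (pullback.fst h.left (V.left.affineCover.f v₀)))
  have hj₀ : RepWith @Etale ((yon S).map j₀) :=
    (repWith_yon_map_iff @Etale j₀).2 (inferInstance : Etale (V.left.affineCover.f v₀))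
  have ha₀ : RepWith @Etale ((yon S).map u₀ ≫ a) := (RepWith @Etale).comp_mem _ _ hu₀ ha
  have hb₀ : RepWith @Etale ((yon S).map j₀ ≫ b) := (RepWith @Etale).comp_mem _ _ hj₀ hb
  have w₀ : ((yon S).map u₀ ≫ a) ≫ f = (yon S).map h₀ ≫ (yon S).map j₀ ≫ b := by
    rw [Category.assoc, w, ← Category.assoc, ← Functor.map_comp, hsqO, Functor.map_comp,
      Category.assoc]
  have hV₀aff : IsAffine V₀.left := (inferInstance : IsAffine (V.left.affineCover.X v₀))
  obtain ⟨W₀, i₀, fst₀, sq₀, hPi₀⟩ := hrep hV₀aff ((yon S).map j₀ ≫ b)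
  have hfst₀ : RepWith @Etale fst₀ := MorphismProperty.of_isPullback sq₀.flip hb₀
  obtain ⟨l, hl⟩ := (yon S).map_surjective (sq₀.lift _ _ w₀)
  have hl1 : (yon S).map l ≫ fst₀ = (yon S).map u₀ ≫ a := by
    rw [hl]; exact sq₀.lift_fst _ _ _
  have hl2 : l ≫ i₀ = h₀ := by
    apply (yon S).map_injective
    rw [Functor.map_comp, hl]; exact sq₀.lift_snd _ _ _
  have hl_et : Etale l.left :=
    (repWith_yon_map_iff @Etale l).1
      (H5_repWith_etale_of_postcomp _ _ hfst₀ (by rw [hl1]; exact ha₀))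
  show P h₀.left
  rw [← hl2]
  exact hP _ _ hl_et hPi₀

theorem H5_isSeparatedMor_of_isAffineMor {X Y : Sp S} (hX : IsAlgSpace X) (f : X ⟶ Y)
    (hrep : IsAffineMor f) : IsSeparatedMor f := by
  refine H5_repWith_diagonal_of_affine hX f @IsClosedImmersion ?_
  intro Z hZ g P fst snd sq
  obtain ⟨W, i, fst₀, sq₀, hW⟩ := hrep hZ g
  have e : snd = (sq.isoIsPullback _ _ sq₀).hom ≫ (yon S).map i :=
    (sq.isoIsPullback_hom_snd _ _ sq₀).symm
  have h1 : RepWith @IsClosedImmersion (pullback.diagonal ((yon S).map i)) := by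
    rw [repWith_diagonal_yon_map_iff]
    haveI := hZ
    haveI := hW
    infer_instance
  have h2 : (RepWith @IsClosedImmersion).diagonal ((yon S).map i) := h1
  have h3 : (RepWith @IsClosedImmersion).diagonal snd := by
    rw [e]
    exact (MorphismProperty.cancel_left_of_respectsIso
      ((RepWith @IsClosedImmersion).diagonal) _ _).2 h2
  exact h3

theorem H5_isQuasiCompactMor_of_isAffineMor {X Y : Sp S} (hX : IsAlgSpace X)
    (hY : Representable (Limits.diag Y)) (f : X ⟶ Y) (hrep : IsAffineMor f) :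
    IsQuasiCompactMor f := by
  refine H5_isQuasiCompactMor_of_affine f hX hY ?_
  intro Z hZ g P fst snd sq
  obtain ⟨W, i, fst₀, sq₀, hW⟩ := hrep hZ g
  exact H5_isQuasiCompactSp_of_iso (sq₀.isoIsPullback _ _ sq)
    (H5_isQuasiCompactSp_yon_of_isAffine W hW)

end AlgSp
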