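import Groth.Agent.Lib.helper5.AlgSpFlatSrc
import Groth.Agent.Lib.helper5.AlgSpFpqcRep

/-! Flatness of morphisms of algebraic spaces is fpqc local on the base. -/

universe u

open CategoryTheory Limits AlgebraicGeometry Opposite

namespace CategoryTheory

theorem H5_isPullback_of_lift {C : Type*} [Category C] {A A' X X' T T' : C} {a : A ⟶ X}
    {s : X ⟶ T} {ρ : X' ⟶ X} {s' : X' ⟶ T'} {τ : T' ⟶ T} (sq : IsPullback ρ s' s τ)
    {p₁ : A' ⟶ A} {p₂ : A' ⟶ T'} (big : IsPullback p₁ p₂ (a ≫ s) τ) (l : A' ⟶ X')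
    (hl1 : l ≫ ρ = p₁ ≫ a) (hl2 : l ≫ s' = p₂) : IsPullback l p₁ ρ a := by
  subst hl2
  exact IsPullback.of_right big.flip hl1 sq.flip

end CategoryTheory

namespace AlgSp

variable {S : Scheme.{u}}

/-- Key step: flatness of a chart can be checked after base change to the members of an fpqc
refinement. -/
theorem H5_flat_chart_of_fpqc {ι : Type u} {Y : Sp S} (Yi : ι → Sp S) (g : ∀ i, Yi i ⟶ Y)
    (hYi : ∀ i, IsAlgSpace (Yi i)) {X : Sp S} (f : X ⟶ Y)
    (Xi : ι → Sp S) (p : ∀ i, Xi i ⟶ Yi i) (q : ∀ i, Xi i ⟶ X) (hXi : ∀ i, IsAlgSpace (Xi i))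
    (hsq : ∀ i, IsPullback (q i) (p i) f (g i)) (hp : ∀ i, LocP @Flat (p i))
    {U V : Over S} (a : (yon S).obj U ⟶ X) (b : (yon S).obj V ⟶ Y) (h : U ⟶ V)
    (ha : RepWith @Etale a) (hb : RepWith @Etale b) (w : a ≫ f = (yon S).map h ≫ b)
    {Wj : Over S} (c : Wj ⟶ V) (i : ι) (l : (yon S).obj Wj ⟶ Yi i)
    (hl : l ≫ g i = (yon S).map c ≫ b) : Flat (pullback.fst c h).left := by
  have sqO' := (IsPullback.of_hasPullback c h).map (yon S)
  have hflat_j : LocP @Flat (pullback.snd (p i) l) :=
    H5_locP_baseChange @Flat H5_etLocal_flat (hXi i) (hYi i) (IsAlgSpace.yon_obj Wj) (p i) l _ _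
      (IsPullback.of_hasPullback (p i) l) (hp i)
  have sq_j : IsPullback (pullback.fst (p i) l ≫ q i) (pullback.snd (p i) l) f
      ((yon S).map c ≫ b) := by
    rw [← hl]
    exact (IsPullback.of_hasPullback (p i) l).paste_horiz (hsq i)
  have hρc : (pullback.fst (p i) l ≫ q i) ≫ f = (pullback.snd (p i) l ≫ (yon S).map c) ≫ b := by
    rw [Category.assoc _ _ b]; exact sq_j.w
  have hρ1 : pullback.lift _ _ hρc ≫ pullback.fst f b = pullback.fst (p i) l ≫ q i :=
    pullback.lift_fst _ _ _
  have hρ2 : pullback.lift _ _ hρc ≫ pullback.snd f b = pullback.snd (p i) l ≫ (yon S).map c :=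
    pullback.lift_snd _ _ _
  have bigρ : IsPullback (pullback.lift _ _ hρc ≫ pullback.fst f b) (pullback.snd (p i) l) f
      ((yon S).map c ≫ b) := by
    rw [hρ1]; exact sq_j
  have sqρ : IsPullback (pullback.lift _ _ hρc) (pullback.snd (p i) l) (pullback.snd f b)
      ((yon S).map c) := IsPullback.of_right bigρ hρ2 (IsPullback.of_hasPullback f b)
  have hl01 : pullback.lift a ((yon S).map h) w ≫ pullback.fst f b = a := pullback.lift_fst _ _ _
  have hl02 : pullback.lift a ((yon S).map h) w ≫ pullback.snd f b = (yon S).map h :=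
    pullback.lift_snd _ _ _
  have hlift₀ : RepWith @Etale (pullback.lift a ((yon S).map h) w) := by
    refine H5_repWith_etale_of_postcomp _ (pullback.fst f b)
      (MorphismProperty.pullback_fst _ _ hb) ?_
    rw [hl01]; exact ha
  have big₂ : IsPullback ((yon S).map (pullback.snd c h)) ((yon S).map (pullback.fst c h))
      (pullback.lift a ((yon S).map h) w ≫ pullback.snd f b) ((yon S).map c) := by
    rw [hl02]; exact sqO'.flip
  have hl'c : ((yon S).map (pullback.snd c h) ≫ pullback.lift a ((yon S).map h) w) ≫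
      pullback.snd f b = (yon S).map (pullback.fst c h) ≫ (yon S).map c := by
    rw [Category.assoc, hl02]; exact sqO'.w.symm
  have sq_l := CategoryTheory.H5_isPullback_of_lift sqρ big₂ (sqρ.lift _ _ hl'c)
    (sqρ.lift_fst _ _ _) (sqρ.lift_snd _ _ _)
  have hl'et : RepWith @Etale (sqρ.lift _ _ hl'c) := MorphismProperty.of_isPullback sq_l.flip hlift₀
  exact hflat_j (sqρ.lift _ _ hl'c) (𝟙 _) (pullback.fst c h) hl'et (repWith_id _ Wj)
    (by rw [Category.comp_id]; exact sqρ.lift_snd _ _ _)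

theorem H5_isLocalOnBase_fpqc_locP_flat :
    IsLocalOnBase (IsFpqcCover (S := S)) (LocP @Flat) := by
  intro ι Y Yi g hY hYi hτ X f hX Xi p q hXi hsq
  constructor
  · intro hf i
    exact H5_locP_baseChange @Flat H5_etLocal_flat hX hY (hYi i) f (g i) (q i) (p i) (hsq i) hf
  · intro hp U V a b h ha hb w
    rw [IsZariskiLocalAtTarget.iff_of_openCover (P := @Flat) V.left.affineCover]
    intro v₀
    -- the restricted chart over an affine open of `V`
    let V₀ : Over S := Over.mk (V.left.affineCover.f v₀ ≫ V.hom)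
    let j₀ : V₀ ⟶ V := Over.homMk (V.left.affineCover.f v₀) rfl
    let U₀ : Over S := Over.mk (pullback.fst h.left (V.left.affineCover.f v₀) ≫ U.hom)
    let u₀ : U₀ ⟶ U := Over.homMk (pullback.fst h.left (V.left.affineCover.f v₀)) rfl
    let h₀ : U₀ ⟶ V₀ := Over.homMk (pullback.snd h.left (V.left.affineCover.f v₀)) (by
      show pullback.snd h.left (V.left.affineCover.f v₀) ≫ V.left.affineCover.f v₀ ≫ V.hom =
        pullback.fst h.left (V.left.affineCover.f v₀) ≫ U.hom
      rw [← pullback.condition_assoc, Over.w h])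
    have hsqO : u₀ ≫ h = h₀ ≫ j₀ := by
      apply Over.OverMorphism.ext
      exact pullback.condition
    have hu₀ : RepWith @Etale ((yon S).map u₀) :=
      (repWith_yon_map_iff @Etale u₀).2
        (inferInstance : Etale (pullback.fst h.left (V.left.affineCover.f v₀)))
    have hj₀ : RepWith @Etale ((yon S).map j₀) :=
      (repWith_yon_map_iff @Etale j₀).2 (inferInstance : Etale (V.left.affineCover.f v₀))
    have ha₀ : RepWith @Etale ((yon S).map u₀ ≫ a) := (RepWith @Etale).comp_mem _ _ hu₀ ha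
    have hb₀ : RepWith @Etale ((yon S).map j₀ ≫ b) := (RepWith @Etale).comp_mem _ _ hj₀ hb
    have w₀ : ((yon S).map u₀ ≫ a) ≫ f = (yon S).map h₀ ≫ (yon S).map j₀ ≫ b := by
      rw [Category.assoc, w, ← Category.assoc, ← Functor.map_comp, hsqO, Functor.map_comp,
        Category.assoc]
    have hV₀aff : IsAffine V₀.left := (inferInstance : IsAffine (V.left.affineCover.X v₀))
    obtain ⟨m, W, c, hWaff, hcflat, hcsurj, hlift⟩ := hτ.2 V₀ hV₀aff ((yon S).map j₀ ≫ b)
    show Flat h₀.left
    haveI := hV₀aff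
    haveI : ∀ j, IsAffine (W j).left := hWaff
    haveI : ∀ j, Flat (c j).left := hcflat
    refine H5_descend_finite_cover @Flat h₀.left (fun j => (W j).left) (fun j => (c j).left)
      hcsurj ?_
    intro j
    obtain ⟨i, l, hl⟩ := hlift j
    have key := H5_flat_chart_of_fpqc Yi g hYi f Xi p q hXi hsq hp _ _ h₀ ha₀ hb₀ w₀ (c j) i l hl
    have sqS := (IsPullback.of_hasPullback (c j) h₀).map (Over.forget S)
    have e := (IsPullback.of_hasPullback (c j).left h₀.left).isoIsPullback_hom_fst _ _ sqS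
    rw [← e]
    exact (MorphismProperty.cancel_left_of_respectsIso @Flat _ _).2 key

end AlgSp
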