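import Groth.Agent.Lib.helper5.AlgSpFlatBase

/-! Composition of `LocP`, and flatness is fpqc local on the source. -/

universe u

open CategoryTheory Limits AlgebraicGeometry Opposite

namespace AlgebraicGeometry

theorem H5_flat_of_forall_exists_flat_comp {W T : Scheme.{u}} (k : W ⟶ T)
    (H : ∀ w : W, ∃ (W' : Scheme.{u}) (e : W' ⟶ W), Flat e ∧ Flat (e ≫ k) ∧ w ∈ Set.range e) :
    Flat k := by
  rw [Flat.iff_flat_stalkMap]
  intro w
  obtain ⟨W', e, he, hek, w', rfl⟩ := H w
  have h1 := Flat.stalkMap (e ≫ k) w'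
  rw [Scheme.Hom.stalkMap_comp] at h1
  have h2 := Flat.stalkMap e w'
  exact H5_ringHom_flat_of_comp_of_isLocalHom (k.stalkMap (e w')).hom (e.stalkMap w').hom h2 h1

end AlgebraicGeometry

namespace AlgSp

variable {S : Scheme.{u}}

/-- `LocP P` is stable under composition, for `P` etale local on the source. -/
theorem H5_locP_comp (P : MorphismProperty Scheme.{u}) [P.IsStableUnderComposition]
    (hP : H5_EtLocal P) {X Y Z : Sp S} (hZ : IsAlgSpace Z) (hY : IsAlgSpace Y) (f : X ⟶ Y)
    (g : Y ⟶ Z) (hf : LocP P f) (hg : LocP P g) : LocP P (f ≫ g) := by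
  intro U W a c h ha hc w
  have hYW : IsAlgSpace (pullback g c) :=
    H5_isAlgSpace_of_isPullback Z hZ.diag ⟨Y, hY⟩ ⟨_, IsAlgSpace.yon_obj W⟩ g c _ _ _
      (IsPullback.of_hasPullback g c)
  obtain ⟨V, v, hv1, hv3⟩ := hYW.atlas
  obtain ⟨k, hk⟩ := (yon S).map_surjective (v ≫ pullback.snd g c)
  have hfstet : RepWith @Etale (pullback.fst g c) := MorphismProperty.pullback_fst _ _ hc
  have hPk : P k.left := hg (v ≫ pullback.fst g c) c k ((RepWith @Etale).comp_mem _ _ hv1 hfstet)
    hc (by rw [Category.assoc, pullback.condition, ← Category.assoc, hk])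
  have hφc : (a ≫ f) ≫ g = (yon S).map h ≫ c := by rw [Category.assoc]; exact w
  have hφ1 : pullback.lift (a ≫ f) ((yon S).map h) hφc ≫ pullback.fst g c = a ≫ f :=
    pullback.lift_fst _ _ _
  have hφ2 : pullback.lift (a ≫ f) ((yon S).map h) hφc ≫ pullback.snd g c = (yon S).map h :=
    pullback.lift_snd _ _ _
  have hvrep : Representable v := hv1.1
  have sq3 := hvrep.isPullback' (pullback.lift (a ≫ f) ((yon S).map h) hφc)
  have he_et' : RepWith @Etale ((yon S).map (hvrep.snd (pullback.lift (a ≫ f) ((yon S).map h) hφc))) :=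
    MorphismProperty.of_isPullback sq3 hv1
  have he_et : Etale (hvrep.snd (pullback.lift (a ≫ f) ((yon S).map h) hφc)).left :=
    (repWith_yon_map_iff @Etale _).1 he_et'
  have he_su : Surjective (hvrep.snd (pullback.lift (a ≫ f) ((yon S).map h) hφc)).left :=
    (repWith_yon_map_iff @Surjective _).1 (MorphismProperty.of_isPullback sq3 hv3)
  have hPψ : P (hvrep.fst' (pullback.lift (a ≫ f) ((yon S).map h) hφc)).left := by
    refine hf ((yon S).map (hvrep.snd _) ≫ a) (v ≫ pullback.fst g c) (hvrep.fst' _)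
      ((RepWith @Etale).comp_mem _ _ he_et' ha) ((RepWith @Etale).comp_mem _ _ hv1 hfstet) ?_
    calc ((yon S).map (hvrep.snd (pullback.lift (a ≫ f) ((yon S).map h) hφc)) ≫ a) ≫ f
        = (yon S).map (hvrep.snd (pullback.lift (a ≫ f) ((yon S).map h) hφc)) ≫
          (pullback.lift (a ≫ f) ((yon S).map h) hφc ≫ pullback.fst g c) := by
          rw [Category.assoc, hφ1]
      _ = ((yon S).map (hvrep.snd (pullback.lift (a ≫ f) ((yon S).map h) hφc)) ≫
          pullback.lift (a ≫ f) ((yon S).map h) hφc) ≫ pullback.fst g c :=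
          (Category.assoc _ _ _).symm
      _ = ((yon S).map (hvrep.fst' (pullback.lift (a ≫ f) ((yon S).map h) hφc)) ≫ v) ≫
          pullback.fst g c := by rw [← sq3.w]
      _ = _ := Category.assoc _ _ _
  have hP1 : P ((hvrep.fst' (pullback.lift (a ≫ f) ((yon S).map h) hφc)).left ≫ k.left) :=
    P.comp_mem _ _ hPψ hPk
  have heq : hvrep.fst' (pullback.lift (a ≫ f) ((yon S).map h) hφc) ≫ k =
      hvrep.snd (pullback.lift (a ≫ f) ((yon S).map h) hφc) ≫ h := by
    apply (yon S).map_injective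
    rw [Functor.map_comp, Functor.map_comp, hk, ← Category.assoc, sq3.w, Category.assoc, hφ2]
  have heq' : (hvrep.fst' (pullback.lift (a ≫ f) ((yon S).map h) hφc)).left ≫ k.left =
      (hvrep.snd (pullback.lift (a ≫ f) ((yon S).map h) hφc)).left ≫ h.left :=
    congrArg (fun k => k.left) heq
  rw [heq'] at hP1
  exact hP.source _ _ he_et he_su hP1

theorem H5_isLocalOnSource_fpqc_locP_flat :
    IsLocalOnSource (IsFpqcCover (S := S)) (LocP @Flat) := by
  intro ι X Xi g hX hXi hτ Y f hY
  constructor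
  · intro hf i
    exact H5_locP_comp @Flat H5_etLocal_flat hY hX (g i) f (hτ.1 i) hf
  · intro hgf U V a b h ha hb w
    apply H5_flat_of_forall_exists_flat_comp
    intro u
    -- an affine open neighbourhood of `u`
    let U₀ : Over S := Over.mk (U.left.affineCover.f (U.left.affineCover.idx u) ≫ U.hom)
    let j₀ : U₀ ⟶ U := Over.homMk (U.left.affineCover.f (U.left.affineCover.idx u)) rfl
    obtain ⟨u₀, hu₀⟩ := U.left.affineCover.covers u
    have hj₀ : RepWith @Etale ((yon S).map j₀) :=
      (repWith_yon_map_iff @Etale j₀).2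
        (inferInstance : Etale (U.left.affineCover.f (U.left.affineCover.idx u)))
    have ha₀ : RepWith @Etale ((yon S).map j₀ ≫ a) := (RepWith @Etale).comp_mem _ _ hj₀ ha
    have hU₀aff : IsAffine U₀.left :=
      (inferInstance : IsAffine (U.left.affineCover.X (U.left.affineCover.idx u)))
    obtain ⟨m, W, c, hWaff, hcflat, hcsurj, hlift⟩ := hτ.2 U₀ hU₀aff ((yon S).map j₀ ≫ a)
    obtain ⟨j, wj, hwj⟩ := hcsurj u₀
    obtain ⟨i, l, hl⟩ := hlift j
    have hXiU : IsAlgSpace (pullback (g i) ((yon S).map j₀ ≫ a)) :=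
      H5_isAlgSpace_of_isPullback X hX.diag ⟨Xi i, hXi i⟩ ⟨_, IsAlgSpace.yon_obj U₀⟩ (g i) _ _ _ _
        (IsPullback.of_hasPullback _ _)
    obtain ⟨E, ε, hε1, hε3⟩ := hXiU.atlas
    obtain ⟨k, hk⟩ := (yon S).map_surjective (ε ≫ pullback.snd (g i) ((yon S).map j₀ ≫ a))
    have hfstet : RepWith @Etale (pullback.fst (g i) ((yon S).map j₀ ≫ a)) :=
      MorphismProperty.pullback_fst _ _ ha₀
    have hεf : RepWith @Etale (ε ≫ pullback.fst (g i) ((yon S).map j₀ ≫ a)) :=
      (RepWith @Etale).comp_mem _ _ hε1 hfstet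
    have hcomm1 : (ε ≫ pullback.fst (g i) ((yon S).map j₀ ≫ a)) ≫ g i =
        (yon S).map k ≫ (yon S).map j₀ ≫ a := by
      rw [Category.assoc, pullback.condition, ← Category.assoc, hk]
    have hkflat : Flat k.left := hτ.1 i _ _ k hεf ha₀ hcomm1
    have hcomm2 : (ε ≫ pullback.fst (g i) ((yon S).map j₀ ≫ a)) ≫ g i ≫ f =
        (yon S).map ((k ≫ j₀) ≫ h) ≫ b := by
      rw [← Category.assoc, hcomm1, Functor.map_comp, Functor.map_comp]
      simp only [Category.assoc]
      rw [w]
    have hkhflat : Flat ((k ≫ j₀) ≫ h).left := hgf i _ b _ hεf hb hcomm2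
    refine ⟨E.left, k.left ≫ U.left.affineCover.f (U.left.affineCover.idx u), ?_, ?_, ?_⟩
    · haveI := hkflat
      infer_instance
    · exact hkhflat
    · -- a point of `E` over `u₀`
      have hlc : l ≫ g i = (yon S).map (c j) ≫ (yon S).map j₀ ≫ a := hl
      obtain ⟨z, hz⟩ := H5_surjective_of_repWith ε hε3
        (Points.ofPt (pullback.lift l ((yon S).map (c j)) hlc) wj)
      refine ⟨Points.toScheme E z, ?_⟩
      refine Eq.trans ?_ hu₀
      show (U.left.affineCover.f (U.left.affineCover.idx u)) (k.left (Points.toScheme E z)) =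
        (U.left.affineCover.f (U.left.affineCover.idx u)) u₀
      congr 1
      have h1 : k.left (Points.toScheme E z) =
          Points.toScheme U₀ (Points.map ((yon S).map k) z) := by
        rw [← Points.toScheme_ofPt k (Points.toScheme E z), Points.ofPt_eq_map_ofScheme,
          Points.ofScheme_toScheme]
      rw [h1, hk, Points.map_comp, hz, Points.map_ofPt, pullback.lift_snd, Points.toScheme_ofPt]
      exact hwj

end AlgSp
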