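import Groth.Prelude.Def_AlgSpCov
import Groth.Agent.Lib.helper5.AlgSpQCMor
import Groth.Agent.Lib.helper5.AlgSpInj

/-! helper5 library: properties fpqc local on the base. -/

set_option autoImplicit false

universe u

open CategoryTheory CategoryTheory.Limits AlgebraicGeometry Opposite

namespace AlgSp

open Groth.Agent.Lib.helper5

variable {S : Scheme.{u}}

/-- A jointly surjective family of scheme morphisms is jointly surjective on points of sheaves. -/
theorem H5_points_jointly_surjective {Z : Over S} {m : ℕ} (W : Fin m → Over S) (c : ∀ j, W j ⟶ Z)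
    (hsurj : ∀ z : Z.left, ∃ j, z ∈ Set.range (c j).left) (z : Points ((yon S).obj Z)) :
    ∃ j y, Points.map ((yon S).map (c j)) y = z := by
  obtain ⟨z₀, rfl⟩ := (Points.schemeEquiv Z).surjective z
  obtain ⟨j, w, hw⟩ := hsurj z₀
  refine ⟨j, Points.ofScheme _ w, ?_⟩
  rw [← Points.ofPt_eq_map_ofScheme, H5_ofPt_yon_map, hw]
  rfl

/-- Quasi-compactness of morphisms is fpqc local on the base. -/
theorem H5_isLocalOnBase_fpqc_isQuasiCompactMor :
    IsLocalOnBase (IsFpqcCover (S := S)) IsQuasiCompactMor := by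
  intro ι Y Yi g hY hYi hτ X f hX Xi p q hXi hsq
  constructor
  · intro hf i
    exact H5_isQuasiCompactMor_baseChange (hsq i) hf
  · intro hp
    refine H5_isQuasiCompactMor_of_affine f hX hY.diag ?_
    intro Z hZ h P fst snd sqZ
    have hP : IsAlgSpace P :=
      H5_isAlgSpace_of_isPullback Y hY.diag ⟨X, hX⟩ ⟨_, IsAlgSpace.yon_obj Z⟩ f h _ fst snd sqZ
    obtain ⟨m, W, c, hWaff, -, hsurj, hlift⟩ := hτ.2 Z hZ h
    haveI : CompactSpace (Points P) := by
      refine H5_compactSpace_of_cover snd (ι := Fin m) (fun j => (yon S).obj (W j))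
        (fun j => (yon S).map (c j)) (H5_points_jointly_surjective W c hsurj) ?_
      intro j
      obtain ⟨i, l, hl⟩ := hlift j
      have sqj := (IsPullback.of_hasPullback snd ((yon S).map (c j))).paste_horiz sqZ
      rw [← hl] at sqj
      exact H5_compactSpace_points (H5_isQuasiCompactSp_of_baseChange (hsq i) (hp i)
        (IsAlgSpace.yon_obj _) (H5_isQuasiCompactSp_yon_of_isAffine _ (hWaff j)) l _ _ sqj)
    exact H5_isQuasiCompactSp_of_compactSpace hP

/-- Universal injectivity is fpqc local on the base. -/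
theorem H5_isLocalOnBase_fpqc_isUnivInjectiveMor :
    IsLocalOnBase (IsFpqcCover (S := S)) IsUnivInjectiveMor := by
  intro ι Y Yi g hY hYi hτ X f hX Xi p q hXi hsq
  constructor
  · intro hf i
    exact H5_univSp_baseChange _ (hsq i) hf
  · intro hp
    refine H5_isUnivInjectiveMor_of_injOnFieldPts f ?_
    intro K _ str a a' haa
    have haa' : a ≫ f = a' ≫ f := haa
    obtain ⟨m, W, c, hWaff, -, hsurj, hlift⟩ := hτ.2 (Over.mk str) (by
      change IsAffine (Spec (CommRingCat.of K)); infer_instance) (a ≫ f)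
    obtain ⟨j, w, -⟩ := hsurj (IsLocalRing.closedPoint K)
    obtain ⟨i, l, hl⟩ := hlift j
    -- the residue field point of `W j` at `w`
    let Ωstr : Spec (CommRingCat.of ((W j).left.residueField w)) ⟶ S :=
      (W j).left.fromSpecResidueField w ≫ (W j).hom
    let r : Over.mk Ωstr ⟶ W j := Over.homMk ((W j).left.fromSpecResidueField w) rfl
    have hinj := H5_injOnFieldPts_of_isUnivInjectiveMor (p i) (hXi i).diag (hp i)
      ((W j).left.residueField w) Ωstr
    have hw1 : ((yon S).map (r ≫ c j) ≫ a) ≫ f = ((yon S).map r ≫ l) ≫ g i := by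
      rw [Category.assoc, Category.assoc, hl, CategoryTheory.Functor.map_comp, Category.assoc]
    have hw2 : ((yon S).map (r ≫ c j) ≫ a') ≫ f = ((yon S).map r ≫ l) ≫ g i := by
      rw [Category.assoc, ← haa', Category.assoc, hl, CategoryTheory.Functor.map_comp,
        Category.assoc]
    have e : (hsq i).lift _ _ hw1 = (hsq i).lift _ _ hw2 := by
      apply hinj
      change (hsq i).lift _ _ hw1 ≫ p i = (hsq i).lift _ _ hw2 ≫ p i
      rw [(hsq i).lift_snd, (hsq i).lift_snd]
    have e2 := congrArg (· ≫ q i) e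
    beta_reduce at e2
    rw [(hsq i).lift_fst, (hsq i).lift_fst] at e2
    exact H5_hom_ext_of_fieldExt hX.diag a a' (r ≫ c j) e2

end AlgSp
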