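import Groth.Agent.Lib.helper5.AlgSpFpqcRep
import Groth.Agent.Lib.helper5.AlgSpFib
import Groth.Agent.Lib.helper5.AlgSpAffine

/-! helper5 library: isomorphisms are fpqc local on the base. -/

set_option autoImplicit false

universe u

open CategoryTheory CategoryTheory.Limits AlgebraicGeometry Opposite MorphismProperty

namespace AlgSp

open Groth.Agent.Lib.helper5

variable {S : Scheme.{u}}

theorem H5_univSp_isomorphisms_of_isIso {F G : Sp S} (p : F ⟶ G) [IsIso p] :
    UnivSp (MorphismProperty.isomorphisms (Sp S)) p := by
  intro Z Z' _ g fst snd sq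
  exact MorphismProperty.of_isPullback (P := MorphismProperty.isomorphisms (Sp S)) sq
    (MorphismProperty.isomorphisms.infer_property p)

/-- Key step: if `f` is fpqc locally on the base an isomorphism, then for every affine `T` and
`t : h_T ⟶ Y`, an atlas of the fibre product gives an etale surjective morphism to `T`. -/
theorem H5_etale_surjective_of_fpqc_local_iso {ι : Type u} {Y : Sp S} {Yi : ι → Sp S}
    {g : ∀ i, Yi i ⟶ Y} (hτ : H5_FpqcRefine Yi g) {X : Sp S} {f : X ⟶ Y} {Xi : ι → Sp S}
    {p : ∀ i, Xi i ⟶ Yi i} {q : ∀ i, Xi i ⟶ X} (hsq : ∀ i, IsPullback (q i) (p i) f (g i))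
    (hp : ∀ i, IsIso (p i)) {T : Over S} (hT : IsAffine T.left) (t : (yon S).obj T ⟶ Y)
    {U : Over S} (a : (yon S).obj U ⟶ pullback f t) (hae : RepWith @Etale a)
    (has : RepWith @Surjective a) (h : U ⟶ T) (hh : (yon S).map h = a ≫ pullback.snd f t) :
    Etale h.left ∧ Surjective h.left := by
  obtain ⟨m, W, c, hWaff, hflat, hsurj, hlift⟩ := hτ T hT t
  haveI := hT
  haveI := hWaff
  haveI := hflat
  have key : ∀ j, Etale (pullback.fst (c j).left h.left) ∧
      Surjective (pullback.fst (c j).left h.left) := by
    intro j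
    obtain ⟨i, l, hl⟩ := hlift j
    let Vj : Over S := Over.mk (pullback.fst (c j).left h.left ≫ (W j).hom)
    let vj : Vj ⟶ W j := Over.homMk (pullback.fst (c j).left h.left) rfl
    let wj : Vj ⟶ U := Over.homMk (pullback.snd (c j).left h.left) (by
      change pullback.snd _ _ ≫ U.hom = pullback.fst _ _ ≫ (W j).hom
      rw [← Over.w h, ← Category.assoc, ← pullback.condition, Category.assoc, Over.w (c j)])
    have sqO : IsPullback wj vj h (c j) :=
      H5_over_isPullback_of_left (IsPullback.of_hasPullback _ _).flip
    have big := sqO.map (yon S)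
    rw [hh] at big
    have sqP := IsPullback.of_hasPullback (pullback.snd f t) ((yon S).map (c j))
    -- the projection `P_j ⟶ h_{W j}` is an isomorphism
    have hiso : IsIso (pullback.snd (pullback.snd f t) ((yon S).map (c j))) := by
      haveI := hp i
      have sqj := sqP.paste_horiz (IsPullback.of_hasPullback f t)
      rw [← hl] at sqj
      exact H5_Q_of_big (MorphismProperty.isomorphisms (Sp S)) (hsq i)
        (H5_univSp_isomorphisms_of_isIso (p i)) (IsAlgSpace.yon_obj _) l _ _ sqj
    have w : ((yon S).map wj ≫ a) ≫ pullback.snd f t = (yon S).map vj ≫ (yon S).map (c j) := by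
      rw [Category.assoc]
      exact big.w
    have hk1 : sqP.lift ((yon S).map wj ≫ a) ((yon S).map vj) w ≫
        pullback.fst (pullback.snd f t) ((yon S).map (c j)) = (yon S).map wj ≫ a :=
      sqP.lift_fst _ _ _
    have hk2 : sqP.lift ((yon S).map wj ≫ a) ((yon S).map vj) w ≫
        pullback.snd (pullback.snd f t) ((yon S).map (c j)) = (yon S).map vj :=
      sqP.lift_snd _ _ _
    have big' : IsPullback ((yon S).map wj)
        (sqP.lift ((yon S).map wj ≫ a) ((yon S).map vj) w ≫
          pullback.snd (pullback.snd f t) ((yon S).map (c j)))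
        (a ≫ pullback.snd f t) ((yon S).map (c j)) := by
      rw [hk2]
      exact big
    have sqk := IsPullback.of_bot big' hk1.symm sqP
    have hke : RepWith @Etale (sqP.lift ((yon S).map wj ≫ a) ((yon S).map vj) w) :=
      MorphismProperty.of_isPullback sqk hae
    have hks : RepWith @Surjective (sqP.lift ((yon S).map wj ≫ a) ((yon S).map vj) w) :=
      MorphismProperty.of_isPullback sqk has
    have h1 : RepWith @Etale ((yon S).map vj) := by
      rw [← hk2]
      exact (RepWith @Etale).comp_mem _ _ hke (H5_repWith_of_isIso _ _)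
    have h2 : RepWith @Surjective ((yon S).map vj) := by
      rw [← hk2]
      exact (RepWith @Surjective).comp_mem _ _ hks (H5_repWith_of_isIso _ _)
    exact ⟨(repWith_yon_map_iff @Etale vj).1 h1, (repWith_yon_map_iff @Surjective vj).1 h2⟩
  exact ⟨H5_descend_finite_cover @Etale h.left (fun j => (W j).left) (fun j => (c j).left) hsurj
      (fun j => (key j).1),
    H5_descend_finite_cover @Surjective h.left (fun j => (W j).left) (fun j => (c j).left) hsurj
      (fun j => (key j).2)⟩

/-- Being an isomorphism is fpqc local on the base. -/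
theorem H5_isLocalOnBase_fpqc_isomorphisms :
    IsLocalOnBase (IsFpqcCover (S := S)) (MorphismProperty.isomorphisms (Sp S)) := by
  intro ι Y Yi g hY hYi hτ X f hX Xi p q hXi hsq
  constructor
  · intro hf i
    exact MorphismProperty.of_isPullback (P := MorphismProperty.isomorphisms (Sp S)) (hsq i) hf
  · intro hp
    haveI : Mono f :=
      (H5_isLocalOnBase_fpqc_monomorphisms Yi g hY hYi hτ f hX Xi p q hXi hsq).2 (fun i => by
        haveI : IsIso (p i) := hp i
        exact MorphismProperty.monomorphisms.infer_property (p i))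
    haveI : Epi f := by
      constructor
      intro Z' α β hαβ
      apply GrothendieckTopology.hom_ext_uliftYoneda.{u + 1} (J S)
      intro T₀ t₀
      refine H5_hom_ext_of_sieve (H5_affineSieve_mem T₀) _ _ ?_
      rintro W₀ u₀ ⟨T, hT, a₀, b₀, rfl⟩
      -- reduce to the affine scheme `T` and `t = h_{b₀} ≫ t₀`
      have main : ∀ t : (yon S).obj T ⟶ Y, t ≫ α = t ≫ β := by
        intro t
        have hP : IsAlgSpace (pullback f t) :=
          H5_isAlgSpace_of_isPullback Y hY.diag ⟨X, hX⟩ ⟨_, IsAlgSpace.yon_obj T⟩ f _ _ _ _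
            (IsPullback.of_hasPullback _ _)
        obtain ⟨U, a, hae, has⟩ := hP.atlas
        obtain ⟨h, hh⟩ := (yon S).map_surjective (a ≫ pullback.snd f t)
        obtain ⟨he, hs⟩ := H5_etale_surjective_of_fpqc_local_iso hτ.2 hsq hp hT _ a hae has h hh
        haveI := he
        haveI := hs
        have hc : pullback.snd f t ≫ t ≫ α = pullback.snd f t ≫ t ≫ β := by
          rw [← pullback.condition_assoc, ← pullback.condition_assoc, hαβ]
        refine H5_hom_ext_of_sieve (H5_generate_singleton_mem h) _ _ ?_
        rintro W₁ u₁ ⟨V₁, w₁, v₁, ⟨⟩, rfl⟩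
        rw [CategoryTheory.Functor.map_comp, hh, Category.assoc, Category.assoc, hc,
          Category.assoc, Category.assoc]
      rw [CategoryTheory.Functor.map_comp, Category.assoc, Category.assoc,
        ← Category.assoc ((yon S).map b₀), ← Category.assoc ((yon S).map b₀), main]
    exact isIso_of_mono_of_epi f

end AlgSp
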