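import Groth.Agent.Lib.helper5.AlgSpFpqcIso
import Groth.Agent.Lib.helper5.AlgSpOpenSub

/-! helper5 library: open immersions are fpqc local on the base. -/

set_option autoImplicit false

universe u

open CategoryTheory CategoryTheory.Limits AlgebraicGeometry Opposite MorphismProperty

namespace AlgSp

open Groth.Agent.Lib.helper5

variable {S : Scheme.{u}}

/-- A representable open immersion which is surjective on points is an isomorphism. -/
theorem H5_isIso_of_repWith_isOpenImmersion_of_surjective {F G : Sp S} (k : F ⟶ G)
    (h1 : RepWith @IsOpenImmersion k) (h2 : Function.Surjective (Points.map k)) : IsIso k := by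
  have h3 : RepWith @Surjective k := H5_repWith_surjective_of_surjective _ h1.1 h2
  have h4 : RepWith (MorphismProperty.isomorphisms Scheme.{u}) k := by
    refine ⟨h1.1, fun T V' g fst snd sq' => ?_⟩
    haveI : IsOpenImmersion snd.left := h1.2 g fst snd sq'
    haveI : Surjective snd.left := h3.2 g fst snd sq'
    exact (isIso_iff_isOpenImmersion_and_surjective snd.left).2 ⟨inferInstance, inferInstance⟩
  exact H5_isIso_of_repWith_isomorphisms _ h4

/-- Generalised key step: if the base changes of `pullback.snd f t` to the members of fpqc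
refinements are isomorphisms, an atlas of the fibre product is etale surjective over `T`. -/
theorem H5_etale_surjective_of_fpqc_local_iso' {ι : Type u} {Y : Sp S} {Yi : ι → Sp S}
    {g : ∀ i, Yi i ⟶ Y} (hτ : H5_FpqcRefine Yi g) {X : Sp S} {f : X ⟶ Y}
    {T : Over S} (hT : IsAffine T.left) (t : (yon S).obj T ⟶ Y)
    (hloc : ∀ (W : Over S) (c : W ⟶ T) (i : ι) (l : (yon S).obj W ⟶ Yi i),
      l ≫ g i = (yon S).map c ≫ t → IsIso (pullback.snd (pullback.snd f t) ((yon S).map c)))
    {U : Over S} (a : (yon S).obj U ⟶ pullback f t) (hae : RepWith @Etale a)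
    (has : RepWith @Surjective a) (h : U ⟶ T) (hh : (yon S).map h = a ≫ pullback.snd f t) :
    Etale h.left ∧ Surjective h.left := by
  obtain ⟨m, W, c, hWaff, hflat, hsurj, hlift⟩ := hτ T hT t
  haveI := hT
  haveI := hWaff
  haveI := hflat
  have key : ∀ j, Etale (pullback.fst (c j).left h.left) ∧
      Surjective (pullback.fst (c j).left h.left) := by
    intro j
    obtain ⟨i, l, hl⟩ := hlift j
    let Vj : Over S := Over.mk (pullback.fst (c j).left h.left ≫ (W j).hom)
    let vj : Vj ⟶ W j := Over.homMk (pullback.fst (c j).left h.left) rfl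
    let wj : Vj ⟶ U := Over.homMk (pullback.snd (c j).left h.left) (by
      change pullback.snd _ _ ≫ U.hom = pullback.fst _ _ ≫ (W j).hom
      rw [← Over.w h, ← Category.assoc, ← pullback.condition, Category.assoc, Over.w (c j)])
    have sqO : IsPullback wj vj h (c j) :=
      H5_over_isPullback_of_left (IsPullback.of_hasPullback _ _).flip
    have big := sqO.map (yon S)
    rw [hh] at big
    have sqP := IsPullback.of_hasPullback (pullback.snd f t) ((yon S).map (c j))
    haveI hiso : IsIso (pullback.snd (pullback.snd f t) ((yon S).map (c j))) := hloc _ _ i l hl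
    have w : ((yon S).map wj ≫ a) ≫ pullback.snd f t = (yon S).map vj ≫ (yon S).map (c j) := by
      rw [Category.assoc]
      exact big.w
    have hk1 : sqP.lift ((yon S).map wj ≫ a) ((yon S).map vj) w ≫
        pullback.fst (pullback.snd f t) ((yon S).map (c j)) = (yon S).map wj ≫ a :=
      sqP.lift_fst _ _ _
    have hk2 : sqP.lift ((yon S).map wj ≫ a) ((yon S).map vj) w ≫
        pullback.snd (pullback.snd f t) ((yon S).map (c j)) = (yon S).map vj :=
      sqP.lift_snd _ _ _
    have big' : IsPullback ((yon S).map wj)
        (sqP.lift ((yon S).map wj ≫ a) ((yon S).map vj) w ≫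
          pullback.snd (pullback.snd f t) ((yon S).map (c j)))
        (a ≫ pullback.snd f t) ((yon S).map (c j)) := by
      rw [hk2]
      exact big
    have sqk := IsPullback.of_bot big' hk1.symm sqP
    have hke : RepWith @Etale (sqP.lift ((yon S).map wj ≫ a) ((yon S).map vj) w) :=
      MorphismProperty.of_isPullback sqk hae
    have hks : RepWith @Surjective (sqP.lift ((yon S).map wj ≫ a) ((yon S).map vj) w) :=
      MorphismProperty.of_isPullback sqk has
    have h1 : RepWith @Etale ((yon S).map vj) := by
      rw [← hk2]
      exact (RepWith @Etale).comp_mem _ _ hke (H5_repWith_of_isIso _ _)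
    have h2 : RepWith @Surjective ((yon S).map vj) := by
      rw [← hk2]
      exact (RepWith @Surjective).comp_mem _ _ hks (H5_repWith_of_isIso _ _)
    exact ⟨(repWith_yon_map_iff @Etale vj).1 h1, (repWith_yon_map_iff @Surjective vj).1 h2⟩
  exact ⟨H5_descend_finite_cover @Etale h.left (fun j => (W j).left) (fun j => (c j).left) hsurj
      (fun j => (key j).1),
    H5_descend_finite_cover @Surjective h.left (fun j => (W j).left) (fun j => (c j).left) hsurj
      (fun j => (key j).2)⟩

/-- For a monomorphism `f` of algebraic spaces, the base change to an affine scheme is an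
isomorphism as soon as it is one fpqc locally. -/
theorem H5_isIso_snd_of_fpqc_local {ι : Type u} {Y : Sp S} {Yi : ι → Sp S}
    {g : ∀ i, Yi i ⟶ Y} (hτ : H5_FpqcRefine Yi g) (hY : IsAlgSpace Y) {X : Sp S}
    (hX : IsAlgSpace X) {f : X ⟶ Y} [Mono f]
    {T : Over S} (hT : IsAffine T.left) (t : (yon S).obj T ⟶ Y)
    (hloc : ∀ (W : Over S) (c : W ⟶ T) (i : ι) (l : (yon S).obj W ⟶ Yi i),
      l ≫ g i = (yon S).map c ≫ t → IsIso (pullback.snd (pullback.snd f t) ((yon S).map c))) :
    IsIso (pullback.snd f t) := by
  have hP : IsAlgSpace (pullback f t) :=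
    H5_isAlgSpace_of_isPullback Y hY.diag ⟨X, hX⟩ ⟨_, IsAlgSpace.yon_obj T⟩ f _ _ _ _
      (IsPullback.of_hasPullback _ _)
  obtain ⟨U, a, hae, has⟩ := hP.atlas
  obtain ⟨h, hh⟩ := (yon S).map_surjective (a ≫ pullback.snd f t)
  obtain ⟨he, hs⟩ := H5_etale_surjective_of_fpqc_local_iso' hτ hT t hloc a hae has h hh
  haveI := he
  haveI := hs
  haveI : Epi (pullback.snd f t) := by
    constructor
    intro Z' α β hαβ
    refine H5_hom_ext_of_sieve (H5_generate_singleton_mem h) _ _ ?_
    rintro W₁ u₁ ⟨V₁, w₁, v₁, ⟨⟩, rfl⟩
    rw [CategoryTheory.Functor.map_comp, hh, Category.assoc, Category.assoc, hαβ,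
      Category.assoc, Category.assoc]
  exact isIso_of_mono_of_epi _

/-- Open immersions are fpqc local on the base. -/
theorem H5_isLocalOnBase_fpqc_repWith_isOpenImmersion :
    IsLocalOnBase (IsFpqcCover (S := S)) (RepWith @IsOpenImmersion) := by
  intro ι Y Yi g hY hYi hτ X f hX Xi p q hXi hsq
  constructor
  · intro hf i
    exact MorphismProperty.of_isPullback (hsq i) hf
  · intro hp
    have hle : (@IsOpenImmersion : MorphismProperty Scheme.{u}) ≤
        MorphismProperty.monomorphisms _ := fun _ _ k hk => by
      haveI : IsOpenImmersion k := hk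
      exact MorphismProperty.monomorphisms.infer_property k
    haveI : Mono f :=
      (H5_isLocalOnBase_fpqc_monomorphisms Yi g hY hYi hτ f hX Xi p q hXi hsq).2 (fun i =>
        H5_mono_of_repWith hle (p i) (hp i))
    have huo : IsUnivOpenMor f :=
      (H5_isLocalOnBase_fpqc_isUnivOpenMor Yi g hY hYi hτ f hX Xi p q hXi hsq).2 (fun i =>
        (H5_repWith_universallyOpen_iff (p i) (hp i).1).1 (H5_repWith_of_le (fun _ _ k hk => by
          haveI : IsOpenImmersion k := hk
          infer_instance) (hp i)))
    have hopen : IsOpen (Set.range (Points.map f)) :=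
      (huo hY (𝟙 Y) (𝟙 X) f IsPullback.of_id_fst : IsOpenMap (Points.map f)).isOpen_range
    obtain ⟨f₁, hf₁⟩ := H5_exists_lift_openSub (V := Set.range (Points.map f)) f subset_rfl
    haveI : Mono (f₁ ≫ H5_openSubι Y (Set.range (Points.map f))) := by
      rw [hf₁]
      infer_instance
    haveI : Mono f₁ := mono_of_mono f₁ (H5_openSubι Y (Set.range (Points.map f)))
    haveI : Epi f₁ := by
      constructor
      intro Z' α β hαβ
      apply GrothendieckTopology.hom_ext_uliftYoneda.{u + 1} (J S)
      intro T₀ t₀
      refine H5_hom_ext_of_sieve (H5_affineSieve_mem T₀) _ _ ?_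
      rintro W₀ u₀ ⟨T, hT, a₀, b₀, rfl⟩
      have main : ∀ t₁ : (yon S).obj T ⟶ H5_openSub Y (Set.range (Points.map f)),
          t₁ ≫ α = t₁ ≫ β := by
        intro t₁
        have hsurj : Function.Surjective
            (Points.map (pullback.snd f (t₁ ≫ H5_openSubι Y (Set.range (Points.map f))))) := by
          intro z
          obtain ⟨z₀, rfl⟩ := (Points.schemeEquiv T).surjective z
          have hz : Points.ofPt (t₁ ≫ H5_openSubι Y (Set.range (Points.map f))) z₀ ∈
              Set.range (Points.map f) := H5_openSub_ofPt_mem t₁ z₀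
          obtain ⟨x, hx⟩ := hz
          obtain ⟨w, -, hw2⟩ := H5_points_pullback_surj (IsPullback.of_hasPullback f
            (t₁ ≫ H5_openSubι Y (Set.range (Points.map f)))) x (Points.ofScheme T z₀)
            (by rw [hx, Points.ofPt_eq_map_ofScheme])
          exact ⟨w, hw2⟩
        haveI : IsIso (pullback.snd f (t₁ ≫ H5_openSubι Y (Set.range (Points.map f)))) := by
          refine H5_isIso_snd_of_fpqc_local hτ.2 hY hX hT _ ?_
          intro W c i l hl
          have sqP := IsPullback.of_hasPullback
            (pullback.snd f (t₁ ≫ H5_openSubι Y (Set.range (Points.map f)))) ((yon S).map c)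
          have sqj := sqP.paste_horiz (IsPullback.of_hasPullback f
            (t₁ ≫ H5_openSubι Y (Set.range (Points.map f))))
          rw [← hl] at sqj
          have hoi : RepWith @IsOpenImmersion (pullback.snd
              (pullback.snd f (t₁ ≫ H5_openSubι Y (Set.range (Points.map f))))
              ((yon S).map c)) :=
            H5_Q_of_big (RepWith @IsOpenImmersion) (hsq i)
              (fun _ _ _ k a b sq => MorphismProperty.of_isPullback sq (hp i))
              (IsAlgSpace.yon_obj _) l _ _ sqj
          exact H5_isIso_of_repWith_isOpenImmersion_of_surjective _ hoi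
            (H5_surjective_baseChange sqP hsurj)
        have e : (inv (pullback.snd f (t₁ ≫ H5_openSubι Y (Set.range (Points.map f)))) ≫
            pullback.fst f (t₁ ≫ H5_openSubι Y (Set.range (Points.map f)))) ≫ f₁ = t₁ := by
          rw [← cancel_mono (H5_openSubι Y (Set.range (Points.map f))), Category.assoc,
            Category.assoc, hf₁, pullback.condition, IsIso.inv_hom_id_assoc]
        have key : ∀ s : (yon S).obj T ⟶ X, (s ≫ f₁) ≫ α = (s ≫ f₁) ≫ β := fun s => by
          rw [Category.assoc, Category.assoc, hαβ]
        have h3 := key (inv (pullback.snd f (t₁ ≫ H5_openSubι Y (Set.range (Points.map f)))) ≫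
            pullback.fst f (t₁ ≫ H5_openSubι Y (Set.range (Points.map f))))
        rwa [e] at h3
      rw [CategoryTheory.Functor.map_comp, Category.assoc, Category.assoc,
        ← Category.assoc ((yon S).map b₀), ← Category.assoc ((yon S).map b₀), main]
    haveI : IsIso f₁ := isIso_of_mono_of_epi f₁
    rw [← hf₁]
    exact (RepWith @IsOpenImmersion).comp_mem _ _ (H5_repWith_of_isIso _ _)
      (H5_repWith_isOpenImmersion_openSubι Y hopen)

end AlgSp
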