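import Groth.Agent.Lib.helper5.AlgSpFpqcRep

/-! helper5 library: fpqc coverings are jointly surjective on points; descent of open subsets. -/

set_option autoImplicit false

universe u

open CategoryTheory CategoryTheory.Limits AlgebraicGeometry Opposite

namespace AlgSp

open Groth.Agent.Lib.helper5

variable {S : Scheme.{u}}

/-- A family with the fpqc refinement property is jointly surjective on points. -/
theorem H5_fpqcRefine_jointly_surjective {ι : Type u} {T : Sp S} {Ti : ι → Sp S}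
    {g : ∀ i, Ti i ⟶ T} (hτ : H5_FpqcRefine Ti g) (t : Points T) :
    ∃ i, t ∈ Set.range (Points.map (g i)) := by
  obtain ⟨K, _, str, b, rfl⟩ := H5_exists_ofPt t
  obtain ⟨m, W, c, -, -, hsurj, hlift⟩ := hτ (Over.mk str) (by
    change IsAffine (Spec (CommRingCat.of K)); infer_instance) b
  obtain ⟨j, w, hw⟩ := hsurj (IsLocalRing.closedPoint K)
  obtain ⟨i, l, hl⟩ := hlift j
  refine ⟨i, Points.ofPt l w, ?_⟩
  rw [Points.map_ofPt, hl, H5_ofPt_comp, hw]

/-- Open subsets descend along fpqc coverings (existence part). -/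
theorem H5_isOpen_iUnion_image_of_fpqcRefine {ι : Type u} {T : Sp S} {Ti : ι → Sp S}
    {g : ∀ i, Ti i ⟶ T} (hτ : H5_FpqcRefine Ti g)
    (Wi : ∀ i, Set (Points (Ti i))) (hW : ∀ i, IsOpen (Wi i))
    (hc : ∀ i j, Points.map (pullback.fst (g i) (g j)) ⁻¹' Wi i =
      Points.map (pullback.snd (g i) (g j)) ⁻¹' Wi j) :
    (∀ i, Points.map (g i) ⁻¹' (⋃ j, Points.map (g j) '' Wi j) = Wi i) ∧
    IsOpen (⋃ j, Points.map (g j) '' Wi j) := by
  have h1 : ∀ i, Points.map (g i) ⁻¹' (⋃ j, Points.map (g j) '' Wi j) = Wi i := by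
    intro i
    ext x
    constructor
    · intro hx
      obtain ⟨j, y, hy, hyx⟩ := Set.mem_iUnion.1 hx
      obtain ⟨z, hz1, hz2⟩ := H5_points_pullback_surj (IsPullback.of_hasPullback (g i) (g j)) x y
        hyx.symm
      have : z ∈ Points.map (pullback.snd (g i) (g j)) ⁻¹' Wi j := by
        change Points.map _ z ∈ Wi j
        rw [hz2]
        exact hy
      rw [← hc i j] at this
      change Points.map _ z ∈ Wi i at this
      rwa [hz1] at this
    · intro hx
      exact Set.mem_iUnion.2 ⟨i, x, hx, rfl⟩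
  refine ⟨h1, ?_⟩
  rw [H5_isOpen_iff_affine]
  intro Z hZ h
  obtain ⟨m, W, c, hWaff, hflat, hsurj, hlift⟩ := hτ Z hZ h
  haveI := hZ
  haveI := hWaff
  haveI := hflat
  refine H5_isOpen_of_fpqc (fun j => (W j).left) (fun j => (c j).left) hsurj _ fun k => ?_
  obtain ⟨i, l, hl⟩ := hlift k
  have e : (c k).left ⁻¹' (Points.ofPt h ⁻¹' (⋃ j, Points.map (g j) '' Wi j)) =
      Points.ofPt l ⁻¹' Wi i := by
    ext v
    simp only [Set.mem_preimage]
    rw [← H5_ofPt_comp, ← hl, ← Points.map_ofPt]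
    have := Set.ext_iff.1 (h1 i) (Points.ofPt l v)
    exact this
  rw [e]
  exact (hW i).preimage (Points.continuous_ofPt _)

end AlgSp
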