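import Groth.Agent.Lib.helper5.AlgSpFlatSrc
import Groth.Agent.Lib.helper5.AlgSpQCMor
import Groth.Agent.Lib.helper5.AlgSpFpqcIso

/-! A flat, quasi-compact, surjective morphism of algebraic spaces is an fpqc covering. -/

universe u

open CategoryTheory Limits AlgebraicGeometry Opposite

namespace AlgSp

variable {S : Scheme.{u}}

theorem H5_isFpqcCover_of_flat_qc_surjective {X Y : Sp S} (hX : IsAlgSpace X) (hY : IsAlgSpace Y)
    (f : X ⟶ Y) (hqc : IsQuasiCompactMor f) (hflat : LocP @Flat f) (hsurj : IsSurjectiveMor f) :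
    IsFpqcCover (fun _ : PUnit.{u + 1} => X) (fun _ => f) := by
  refine ⟨fun _ => hflat, ?_⟩
  intro Z hZ h
  have hXZ : IsAlgSpace (pullback f h) :=
    H5_isAlgSpace_of_isPullback Y hY.diag ⟨X, hX⟩ ⟨_, IsAlgSpace.yon_obj Z⟩ f h _ _ _
      (IsPullback.of_hasPullback f h)
  have hqcZ : IsQuasiCompactSp (pullback f h) :=
    hqc (IsAlgSpace.yon_obj Z) (H5_isQuasiCompactSp_yon_of_isAffine Z hZ) h _ _
      (IsPullback.of_hasPullback f h)
  obtain ⟨U₀, a₀, ha1, ha3, hc⟩ := hqcZ
  haveI : CompactSpace ↥U₀.left := hc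
  obtain ⟨k, hk⟩ := (yon S).map_surjective (a₀ ≫ pullback.snd f h)
  have hflatZ : LocP @Flat (pullback.snd f h) :=
    H5_locP_baseChange @Flat H5_etLocal_flat hX hY (IsAlgSpace.yon_obj Z) f h _ _
      (IsPullback.of_hasPullback f h) hflat
  have hkflat : Flat k.left :=
    hflatZ a₀ (𝟙 _) k ha1 (repWith_id _ Z) (by rw [Category.comp_id, hk])
  have hksurj : Surjective k.left := by
    have h1 : Function.Surjective (Points.map ((yon S).map k)) := by
      rw [hk]
      have h2 : Points.map (a₀ ≫ pullback.snd f h) =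
          Points.map (pullback.snd f h) ∘ Points.map a₀ := funext (Points.map_comp _ _)
      rw [h2]
      exact (H5_surjective_baseChange (IsPullback.of_hasPullback f h) hsurj).comp
        (H5_surjective_of_repWith a₀ ha3)
    exact (repWith_yon_map_iff @Surjective k).1
      (H5_repWith_surjective_of_surjective _ (Functor.relativelyRepresentable.map (yon S) k) h1)
  obtain ⟨m, W, ι, hWaff, hιoi, hcov⟩ := H5_exists_finite_affine_cover U₀.left
  refine ⟨m, fun j => Over.mk (ι j ≫ U₀.hom),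
    fun j => (Over.homMk (ι j) rfl : Over.mk (ι j ≫ U₀.hom) ⟶ U₀) ≫ k, fun j => hWaff j,
    fun j => ?_, fun z => ?_, fun j => ⟨PUnit.unit,
      (yon S).map (Over.homMk (ι j) rfl : Over.mk (ι j ≫ U₀.hom) ⟶ U₀) ≫ a₀ ≫ pullback.fst f h,
      ?_⟩⟩
  · haveI := hιoi j
    haveI := hkflat
    show Flat (ι j ≫ k.left)
    infer_instance
  · obtain ⟨u, rfl⟩ := hksurj.surj z
    obtain ⟨j, w, rfl⟩ := hcov u
    exact ⟨j, w, rfl⟩
  · simp only [Functor.map_comp, Category.assoc, pullback.condition, hk]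

/-- A monomorphism of algebraic spaces which is quasi-compact, flat and surjective is an
isomorphism. -/
theorem H5_isIso_of_mono_flat_qc_surjective {X Y : Sp S} (hX : IsAlgSpace X) (hY : IsAlgSpace Y)
    (f : X ⟶ Y) (hqc : IsQuasiCompactMor f) (hflat : LocP @Flat f) (hsurj : IsSurjectiveMor f)
    [Mono f] : IsIso f := by
  have hcov := H5_isFpqcCover_of_flat_qc_surjective hX hY f hqc hflat hsurj
  have := (H5_isLocalOnBase_fpqc_isomorphisms (fun _ : PUnit.{u + 1} => X) (fun _ => f) hY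
    (fun _ => hX) hcov f hX (fun _ => X) (fun _ => 𝟙 X) (fun _ => 𝟙 X) (fun _ => hX)
    (fun _ => IsKernelPair.id_of_mono f)).2
    (fun _ => MorphismProperty.isomorphisms.infer_property (𝟙 X))
  exact this

end AlgSp
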