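import Groth.Agent.Lib.helper5.AlgSpUniv
import Groth.Prelude.Def_Flat

/-! helper5 library: universal homeomorphisms of algebraic spaces. -/

set_option autoImplicit false

universe u

open CategoryTheory CategoryTheory.Limits AlgebraicGeometry Opposite

namespace AlgSp

variable {S : Scheme.{u}}

theorem H5_isHomeomorph_left_iff {T T' : Over S} (φ : T ⟶ T') :
    IsHomeomorph (Points.map ((yon S).map φ)) ↔ IsHomeomorph φ.left := by
  constructor
  · intro h
    change IsHomeomorph (fun t => φ.left t)
    rw [H5_left_eq]
    exact (Points.schemeHomeo T').symm.isHomeomorph.comp (h.comp (Points.schemeHomeo T).isHomeomorph)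
  · intro h
    rw [Points.map_yon_map_eq]
    exact (Points.schemeHomeo T').isHomeomorph.comp (h.comp (Points.schemeHomeo T).symm.isHomeomorph)

theorem H5_universally_topologically_mono
    {P Q : ∀ {α β : Type u} [TopologicalSpace α] [TopologicalSpace β] (_ : α → β), Prop}
    (h : ∀ {α β : Type u} [TopologicalSpace α] [TopologicalSpace β] (f : α → β), P f → Q f) :
    (topologically @P).universally ≤ (topologically @Q).universally :=
  MorphismProperty.universally_mono fun _ _ f hf => h f hf

/-- Universal homeomorphisms: representable version agrees with the pointwise one. -/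
theorem H5_repWith_isUnivHomeo_iff {F G : Sp S} (f : F ⟶ G) (hrep : Representable f) :
    RepWith FlatMor.IsUnivHomeo f ↔ IsUnivHomeoMor f := by
  constructor
  · intro hf Z Z' _ g fst snd sq
    have hs : RepWith FlatMor.IsUnivHomeo snd := MorphismProperty.of_isPullback sq hf
    have h1 : RepWith @UniversallyOpen snd := by
      rw [UniversallyOpen.eq]
      exact H5_repWith_of_le (H5_universally_topologically_mono fun f (hf : IsHomeomorph f) => hf.isOpenMap) hs
    have h2 : RepWith @UniversallyInjective snd := by
      rw [universallyInjective_eq]
      exact H5_repWith_of_le (H5_universally_topologically_mono fun f (hf : IsHomeomorph f) => hf.injective) hs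
    have h3 : RepWith @Surjective snd := by
      refine H5_repWith_of_le ?_ hs
      intro A B k hk
      have : IsHomeomorph k := hk _ _ _ IsPullback.of_id_snd
      exact ⟨this.surjective⟩
    exact ⟨Points.continuous_map snd, H5_isOpenMap_of_repWith snd h1,
      ⟨H5_injective_of_repWith snd h2, H5_surjective_of_repWith snd h3⟩⟩
  · intro hf
    refine H5_repWith_universally f hrep _ fun T V g a b sq => ?_
    exact (H5_isHomeomorph_left_iff b).1 (hf (IsAlgSpace.yon_obj T) g a _ sq)

end AlgSp
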