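import Groth.Agent.Lib.helper5.AlgSpFpqc
import Groth.Agent.Lib.helper5.AlgSpUniv
import Groth.Agent.Lib.helper5.AlgSpHomeo

/-! helper5 library: topological properties fpqc local on the base. -/

set_option autoImplicit false

universe u

open CategoryTheory CategoryTheory.Limits AlgebraicGeometry Opposite

namespace AlgebraicGeometry

theorem H5_isQuotientMap_sigmaDesc {Z : Scheme.{u}} [IsAffine Z] {m : ℕ} (W : Fin m → Scheme.{u})
    (c : ∀ j, W j ⟶ Z) [∀ j, IsAffine (W j)] [∀ j, Flat (c j)]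
    (hsurj : ∀ z : Z, ∃ j, z ∈ Set.range (c j)) :
    Topology.IsQuotientMap (Sigma.desc c : ∐ W ⟶ Z) := by
  have : Surjective (Sigma.desc c : ∐ W ⟶ Z) := Surjective.sigmaDesc_of_union_range_eq_univ (by
    rw [Set.eq_univ_iff_forall]; intro z; obtain ⟨j, hj⟩ := hsurj z; exact Set.mem_iUnion.2 ⟨j, hj⟩)
  have : QuasiCompact (Sigma.desc c : ∐ W ⟶ Z) := inferInstance
  exact Flat.isQuotientMap_of_surjective _

theorem H5_isOpen_of_fpqc {Z : Scheme.{u}} [IsAffine Z] {m : ℕ} (W : Fin m → Scheme.{u})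
    (c : ∀ j, W j ⟶ Z) [∀ j, IsAffine (W j)] [∀ j, Flat (c j)]
    (hsurj : ∀ z : Z, ∃ j, z ∈ Set.range (c j))
    (B : Set Z) (hB : ∀ j, IsOpen ((c j) ⁻¹' B)) : IsOpen B := by
  have hq := H5_isQuotientMap_sigmaDesc W c hsurj
  rw [← hq.isOpen_preimage, isOpen_iff_forall_mem_open]
  intro x hx
  obtain ⟨y, hy⟩ := (sigmaOpenCover W).covers x
  have hy' : (Sigma.ι W ((sigmaOpenCover W).idx x)) y = x := hy
  refine ⟨(Sigma.ι W ((sigmaOpenCover W).idx x)) '' ((c ((sigmaOpenCover W).idx x)) ⁻¹' B), ?_,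
    (Sigma.ι W _).isOpenEmbedding.isOpenMap _ (hB _), ⟨y, ?_, hy'⟩⟩
  · rintro _ ⟨y', hy'', rfl⟩
    change (Sigma.desc c : ∐ W ⟶ Z) ((Sigma.ι W _) y') ∈ B
    rw [← Scheme.Hom.comp_apply, Sigma.ι_desc]
    exact hy''
  · change c _ y ∈ B
    rw [← hy'] at hx
    change (Sigma.desc c : ∐ W ⟶ Z) ((Sigma.ι W _) y) ∈ B at hx
    rwa [← Scheme.Hom.comp_apply, Sigma.ι_desc] at hx

theorem H5_isClosed_of_fpqc {Z : Scheme.{u}} [IsAffine Z] {m : ℕ} (W : Fin m → Scheme.{u})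
    (c : ∀ j, W j ⟶ Z) [∀ j, IsAffine (W j)] [∀ j, Flat (c j)]
    (hsurj : ∀ z : Z, ∃ j, z ∈ Set.range (c j))
    (B : Set Z) (hB : ∀ j, IsClosed ((c j) ⁻¹' B)) : IsClosed B := by
  rw [← isOpen_compl_iff]
  refine H5_isOpen_of_fpqc W c hsurj _ fun j => ?_
  rw [Set.preimage_compl, isOpen_compl_iff]
  exact hB j

end AlgebraicGeometry

namespace AlgSp

open Groth.Agent.Lib.helper5

variable {S : Scheme.{u}}

theorem H5_isOpen_of_fpqc_points {Z : Over S} (hZ : IsAffine Z.left) {m : ℕ} (W : Fin m → Over S)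
    (c : ∀ j, W j ⟶ Z) (hWaff : ∀ j, IsAffine (W j).left) (hflat : ∀ j, Flat (c j).left)
    (hsurj : ∀ z : Z.left, ∃ j, z ∈ Set.range (c j).left)
    (B : Set (Points ((yon S).obj Z)))
    (hB : ∀ j, IsOpen (Points.map ((yon S).map (c j)) ⁻¹' B)) : IsOpen B := by
  rw [← (Points.schemeHomeo Z).isOpen_preimage]
  haveI := hZ
  haveI := hWaff
  haveI := hflat
  refine H5_isOpen_of_fpqc (fun j => (W j).left) (fun j => (c j).left) hsurj _ fun j => ?_
  have e : (c j).left ⁻¹' ((Points.schemeHomeo Z) ⁻¹' B) =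
      (Points.schemeHomeo (W j)) ⁻¹' (Points.map ((yon S).map (c j)) ⁻¹' B) := by
    ext t
    simp only [Set.mem_preimage, Points.map_yon_map_apply]
  rw [e]
  exact (hB j).preimage (Points.schemeHomeo (W j)).continuous

theorem H5_isClosed_of_fpqc_points {Z : Over S} (hZ : IsAffine Z.left) {m : ℕ} (W : Fin m → Over S)
    (c : ∀ j, W j ⟶ Z) (hWaff : ∀ j, IsAffine (W j).left) (hflat : ∀ j, Flat (c j).left)
    (hsurj : ∀ z : Z.left, ∃ j, z ∈ Set.range (c j).left)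
    (B : Set (Points ((yon S).obj Z)))
    (hB : ∀ j, IsClosed (Points.map ((yon S).map (c j)) ⁻¹' B)) : IsClosed B := by
  rw [← isOpen_compl_iff]
  refine H5_isOpen_of_fpqc_points hZ W c hWaff hflat hsurj _ fun j => ?_
  rw [Set.preimage_compl, isOpen_compl_iff]
  exact hB j

theorem H5_Q_of_big (Q : MorphismProperty (Sp S)) {X Y Y' X' : Sp S} {f : X ⟶ Y} {g : Y' ⟶ Y}
    {q : X' ⟶ X} {p : X' ⟶ Y'} (sq : IsPullback q p f g) (hp : UnivSp Q p) {Z Z' : Sp S}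
    (hZ : IsAlgSpace Z) (l : Z ⟶ Y') (a : Z' ⟶ X) (b : Z' ⟶ Z)
    (big : IsPullback a b f (l ≫ g)) : Q b := by
  have w : a ≫ f = (b ≫ l) ≫ g := by rw [big.w, Category.assoc]
  have h1 : sq.lift a (b ≫ l) w ≫ q = a := sq.lift_fst _ _ _
  have big' : IsPullback (sq.lift a (b ≫ l) w ≫ q) b f (l ≫ g) := by rw [h1]; exact big
  exact hp hZ l _ b (IsPullback.of_right big' (sq.lift_snd _ _ _) sq)

theorem H5_fpqc_local_data {ι : Type u} {Y : Sp S} {Yi : ι → Sp S} {g : ∀ i, Yi i ⟶ Y}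
    (hτ : IsFpqcCover Yi g) {X : Sp S} {f : X ⟶ Y} {Xi : ι → Sp S} {p : ∀ i, Xi i ⟶ Yi i}
    {q : ∀ i, Xi i ⟶ X} (hsq : ∀ i, IsPullback (q i) (p i) f (g i))
    (Q : MorphismProperty (Sp S)) (hp : ∀ i, UnivSp Q (p i))
    (Z : Over S) (hZ : IsAffine Z.left) (h : (yon S).obj Z ⟶ Y) {P : Sp S} (fst : P ⟶ X)
    (snd : P ⟶ (yon S).obj Z) (sqZ : IsPullback fst snd f h) :
    ∃ (m : ℕ) (W : Fin m → Over S) (c : ∀ j, W j ⟶ Z), (∀ j, IsAffine (W j).left) ∧
      (∀ j, Flat (c j).left) ∧ (∀ z : Z.left, ∃ j, z ∈ Set.range (c j).left) ∧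
      ∀ j, Q (pullback.snd snd ((yon S).map (c j))) := by
  obtain ⟨m, W, c, hWaff, hflat, hsurj, hlift⟩ := hτ.2 Z hZ h
  refine ⟨m, W, c, hWaff, hflat, hsurj, fun j => ?_⟩
  obtain ⟨i, l, hl⟩ := hlift j
  have sqj := (IsPullback.of_hasPullback snd ((yon S).map (c j))).paste_horiz sqZ
  rw [← hl] at sqj
  exact H5_Q_of_big Q (hsq i) (hp i) (IsAlgSpace.yon_obj _) l _ _ sqj

/-- Universal openness is fpqc local on the base. -/
theorem H5_isLocalOnBase_fpqc_isUnivOpenMor :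
    IsLocalOnBase (IsFpqcCover (S := S)) IsUnivOpenMor := by
  intro ι Y Yi g hY hYi hτ X f hX Xi p q hXi hsq
  constructor
  · intro hf i
    exact H5_univSp_baseChange _ (hsq i) hf
  · intro hp
    refine H5_isUnivOpenMor_of_affine f ?_
    intro Z hZ h P fst snd sqZ A hA
    obtain ⟨m, W, c, hWaff, hflat, hsurj, hQ⟩ :=
      H5_fpqc_local_data hτ hsq IsOpenMor hp Z hZ h fst snd sqZ
    refine H5_isOpen_of_fpqc_points hZ W c hWaff hflat hsurj _ fun j => ?_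
    rw [H5_preimage_image_eq_sp (IsPullback.of_hasPullback snd ((yon S).map (c j)))]
    exact hQ j _ (hA.preimage (Points.continuous_map _))

/-- Universal closedness is fpqc local on the base. -/
theorem H5_isLocalOnBase_fpqc_isUnivClosedMor :
    IsLocalOnBase (IsFpqcCover (S := S)) IsUnivClosedMor := by
  intro ι Y Yi g hY hYi hτ X f hX Xi p q hXi hsq
  constructor
  · intro hf i
    exact H5_univSp_baseChange _ (hsq i) hf
  · intro hp
    refine H5_isUnivClosedMor_of_affine f ?_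
    intro Z hZ h P fst snd sqZ A hA
    obtain ⟨m, W, c, hWaff, hflat, hsurj, hQ⟩ :=
      H5_fpqc_local_data hτ hsq IsClosedMor hp Z hZ h fst snd sqZ
    refine H5_isClosed_of_fpqc_points hZ W c hWaff hflat hsurj _ fun j => ?_
    rw [H5_preimage_image_eq_sp (IsPullback.of_hasPullback snd ((yon S).map (c j)))]
    exact hQ j _ (hA.preimage (Points.continuous_map _))

end AlgSp
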