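import Groth.Agent.Lib.helper5.AlgSpFpqcTop

/-! helper5 library: universally submersive / universal homeomorphisms are fpqc local on the base. -/

set_option autoImplicit false

universe u

open CategoryTheory CategoryTheory.Limits AlgebraicGeometry Opposite

namespace AlgSp

open Groth.Agent.Lib.helper5

variable {S : Scheme.{u}}

/-- The class of morphisms surjective on points. -/
def H5_SurjMor : MorphismProperty (Sp S) := fun _ _ f => Function.Surjective (Points.map f)

/-- Universal surjectivity can be tested on base changes to spectra of fields. -/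
theorem H5_univSurj_of_affine {F G : Sp S} (f : F ⟶ G)
    (h : ∀ (Z : Over S), IsAffine Z.left → ∀ (g : (yon S).obj Z ⟶ G) (P : Sp S)
        (fst : P ⟶ F) (snd : P ⟶ (yon S).obj Z), IsPullback fst snd f g →
        Function.Surjective (Points.map snd)) : UnivSp H5_SurjMor f := by
  intro W W' _ h₀ fst' snd' sqW w
  obtain ⟨K, _, str, b, rfl⟩ := H5_exists_ofPt w
  have sq2 := IsPullback.of_hasPullback snd' b
  have hq := h (Over.mk str) (by change IsAffine (Spec (CommRingCat.of K)); infer_instance)
    (b ≫ h₀) _ _ _ (sq2.paste_horiz sqW)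
  obtain ⟨v, hv⟩ := hq (Points.ofScheme _ (IsLocalRing.closedPoint K))
  refine ⟨Points.map (pullback.fst snd' b) v, ?_⟩
  rw [← Points.map_comp, pullback.condition, Points.map_comp, hv, ← Points.ofPt_eq_map_ofScheme]

theorem H5_isLocalOnBase_fpqc_univSurj :
    IsLocalOnBase (IsFpqcCover (S := S)) (UnivSp H5_SurjMor) := by
  intro ι Y Yi g hY hYi hτ X f hX Xi p q hXi hsq
  constructor
  · intro hf i
    exact H5_univSp_baseChange _ (hsq i) hf
  · intro hp
    refine H5_univSurj_of_affine f ?_
    intro Z hZ h P fst snd sqZ z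
    obtain ⟨m, W, c, hWaff, hflat, hsurj, hQ⟩ :=
      H5_fpqc_local_data hτ hsq H5_SurjMor hp Z hZ h fst snd sqZ
    obtain ⟨j, y, rfl⟩ := H5_points_jointly_surjective W c hsurj z
    obtain ⟨v, rfl⟩ := hQ j y
    refine ⟨Points.map (pullback.fst snd ((yon S).map (c j))) v, ?_⟩
    rw [← Points.map_comp, pullback.condition, Points.map_comp]

/-- Universal submersiveness can be tested on base changes to affine schemes. -/
theorem H5_isUnivSubmersiveMor_of_affine {F G : Sp S} (f : F ⟶ G)
    (h : ∀ (Z : Over S), IsAffine Z.left → ∀ (g : (yon S).obj Z ⟶ G) (P : Sp S)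
        (fst : P ⟶ F) (snd : P ⟶ (yon S).obj Z), IsPullback fst snd f g →
        Topology.IsQuotientMap (Points.map snd)) : IsUnivSubmersiveMor f := by
  have hs : UnivSp H5_SurjMor f :=
    H5_univSurj_of_affine f fun Z hZ g P fst snd sq => (h Z hZ g P fst snd sq).surjective
  intro W W' hW h₀ fst' snd' sqW
  change Topology.IsQuotientMap (Points.map snd')
  rw [Topology.isQuotientMap_iff]
  refine ⟨.of_isOpen_preimage_iff_isOpen fun B =>
    ⟨?_, fun hB => hB.preimage (Points.continuous_map _)⟩, hs hW h₀ fst' snd' sqW⟩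
  intro hB
  rw [H5_isOpen_iff_affine]
  intro T hT b
  have sq2 := IsPullback.of_hasPullback snd' b
  have hq := h T hT (b ≫ h₀) _ _ _ (sq2.paste_horiz sqW)
  have e : Points.ofPt b ⁻¹' B = Points.ofScheme T ⁻¹' (Points.map b ⁻¹' B) := by
    ext t
    simp only [Set.mem_preimage, Points.ofPt_eq_map_ofScheme b]
  rw [e]
  refine IsOpen.preimage (Points.continuous_ofPt _) ?_
  rw [← hq.isOpen_preimage]
  have e2 : Points.map (pullback.snd snd' b) ⁻¹' (Points.map b ⁻¹' B) =
      Points.map (pullback.fst snd' b) ⁻¹' (Points.map snd' ⁻¹' B) := by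
    ext x
    simp only [Set.mem_preimage, ← Points.map_comp, pullback.condition]
  rw [e2]
  exact hB.preimage (Points.continuous_map _)

/-- Universal submersiveness is fpqc local on the base. -/
theorem H5_isLocalOnBase_fpqc_isUnivSubmersiveMor :
    IsLocalOnBase (IsFpqcCover (S := S)) IsUnivSubmersiveMor := by
  intro ι Y Yi g hY hYi hτ X f hX Xi p q hXi hsq
  constructor
  · intro hf i
    exact H5_univSp_baseChange _ (hsq i) hf
  · intro hp
    refine H5_isUnivSubmersiveMor_of_affine f ?_
    intro Z hZ h P fst snd sqZ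
    obtain ⟨m, W, c, hWaff, hflat, hsurj, hQ⟩ :=
      H5_fpqc_local_data hτ hsq IsSubmersiveMor hp Z hZ h fst snd sqZ
    rw [Topology.isQuotientMap_iff]
    refine ⟨.of_isOpen_preimage_iff_isOpen fun B =>
      ⟨fun hB => ?_, fun hB => hB.preimage (Points.continuous_map _)⟩, ?_⟩
    swap
    · intro z
      obtain ⟨j, y, rfl⟩ := H5_points_jointly_surjective W c hsurj z
      obtain ⟨v, rfl⟩ := (hQ j).surjective y
      refine ⟨Points.map (pullback.fst snd ((yon S).map (c j))) v, ?_⟩
      rw [← Points.map_comp, pullback.condition, Points.map_comp]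
    · refine H5_isOpen_of_fpqc_points hZ W c hWaff hflat hsurj _ fun j => ?_
      have hq : Topology.IsQuotientMap (Points.map (pullback.snd snd ((yon S).map (c j)))) := hQ j
      rw [← hq.isOpen_preimage]
      have e2 : Points.map (pullback.snd snd ((yon S).map (c j))) ⁻¹'
          (Points.map ((yon S).map (c j)) ⁻¹' B) =
          Points.map (pullback.fst snd ((yon S).map (c j))) ⁻¹' (Points.map snd ⁻¹' B) := by
        ext x
        simp only [Set.mem_preimage, ← Points.map_comp, pullback.condition]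
      rw [e2]
      exact hB.preimage (Points.continuous_map _)

theorem H5_isUnivHomeoMor_iff {F G : Sp S} (f : F ⟶ G) :
    IsUnivHomeoMor f ↔ IsUnivOpenMor f ∧ IsUnivInjectiveMor f ∧ UnivSp H5_SurjMor f := by
  constructor
  · intro h
    exact ⟨fun Z Z' hZ g fst snd sq => (h hZ g fst snd sq).isOpenMap,
      fun Z Z' hZ g fst snd sq => (h hZ g fst snd sq).injective,
      fun Z Z' hZ g fst snd sq => (h hZ g fst snd sq).surjective⟩
  · rintro ⟨h1, h2, h3⟩ Z Z' hZ g fst snd sq
    exact ⟨Points.continuous_map snd, h1 hZ g fst snd sq, h2 hZ g fst snd sq, h3 hZ g fst snd sq⟩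

/-- Universal homeomorphisms are fpqc local on the base. -/
theorem H5_isLocalOnBase_fpqc_isUnivHomeoMor :
    IsLocalOnBase (IsFpqcCover (S := S)) IsUnivHomeoMor := by
  intro ι Y Yi g hY hYi hτ X f hX Xi p q hXi hsq
  rw [H5_isUnivHomeoMor_iff,
    H5_isLocalOnBase_fpqc_isUnivOpenMor Yi g hY hYi hτ f hX Xi p q hXi hsq,
    H5_isLocalOnBase_fpqc_isUnivInjectiveMor Yi g hY hYi hτ f hX Xi p q hXi hsq,
    H5_isLocalOnBase_fpqc_univSurj Yi g hY hYi hτ f hX Xi p q hXi hsq]
  simp only [H5_isUnivHomeoMor_iff]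
  exact ⟨fun h i => ⟨h.1 i, h.2.1 i, h.2.2 i⟩,
    fun h => ⟨fun i => (h i).1, fun i => (h i).2.1, fun i => (h i).2.2⟩⟩

end AlgSp
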