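import Groth.Agent.Lib.helper5.AlgSpFlatSource

/-! Composition of fpqc coverings, fpqc coverings on an atlas, fppf coverings are fpqc coverings. -/

universe u

open CategoryTheory Limits AlgebraicGeometry Opposite

namespace AlgebraicGeometry

theorem H5_exists_finite_affine_of_jointly_surjective_open {Z : Scheme.{u}} [CompactSpace Z]
    {A : Type*} (E : A → Scheme.{u}) (π : ∀ a, E a ⟶ Z) (hopen : ∀ a, IsOpenMap (π a))
    (hsurj : ∀ z : Z, ∃ a, z ∈ Set.range (π a)) :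
    ∃ (m : ℕ) (a : Fin m → A) (W : Fin m → Scheme.{u}) (ι : ∀ j, W j ⟶ E (a j)),
      (∀ j, IsAffine (W j)) ∧ (∀ j, IsOpenImmersion (ι j)) ∧
      ∀ z : Z, ∃ j, z ∈ Set.range (ι j ≫ π (a j)) := by
  let O : (Σ a, (E a).affineCover.I₀) → Set Z := fun b =>
    π b.1 '' Set.range ((E b.1).affineCover.f b.2)
  have hO : ∀ b, IsOpen (O b) := fun b =>
    hopen b.1 _ (IsOpenImmersion.isOpen_range ((E b.1).affineCover.f b.2))
  have hcov : (Set.univ : Set Z) ⊆ ⋃ b, O b := by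
    intro z _
    obtain ⟨a, e, rfl⟩ := hsurj z
    exact Set.mem_iUnion.2 ⟨⟨a, (E a).affineCover.idx e⟩, e, (E a).affineCover.covers e, rfl⟩
  obtain ⟨t, ht⟩ := isCompact_univ.elim_finite_subcover O hO hcov
  obtain ⟨m, ⟨eq⟩⟩ := Finite.exists_equiv_fin ↥t
  refine ⟨m, fun j => (eq.symm j).1.1, fun j => (E (eq.symm j).1.1).affineCover.X (eq.symm j).1.2,
    fun j => (E (eq.symm j).1.1).affineCover.f (eq.symm j).1.2, fun j => inferInstance,
    fun j => inferInstance, fun z => ?_⟩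
  have hz := ht (Set.mem_univ z)
  simp only [Set.mem_iUnion] at hz
  obtain ⟨b, hb, e, ⟨w, rfl⟩, rfl⟩ := hz
  refine ⟨eq ⟨b, hb⟩, ?_⟩
  beta_reduce
  rw [eq.symm_apply_apply]
  exact ⟨w, by rw [Scheme.Hom.comp_apply]⟩

end AlgebraicGeometry

namespace AlgSp

variable {S : Scheme.{u}}

theorem H5_left_toScheme {E Z : Over S} (k : E ⟶ Z) (z : Points ((yon S).obj E)) :
    k.left (Points.toScheme E z) = Points.toScheme Z (Points.map ((yon S).map k) z) := by
  rw [← Points.toScheme_ofPt k (Points.toScheme E z), Points.ofPt_eq_map_ofScheme,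
    Points.ofScheme_toScheme]

/-- The refinement condition of fpqc coverings at one affine scheme. -/
def H5_FpqcRefineAt {ι : Type u} {X : Sp S} (Y : ι → Sp S) (g : ∀ i, Y i ⟶ X) (Z : Over S)
    (h : (yon S).obj Z ⟶ X) : Prop :=
  ∃ (m : ℕ) (W : Fin m → Over S) (c : ∀ j, W j ⟶ Z),
    (∀ j, IsAffine (W j).left) ∧ (∀ j, Flat (c j).left) ∧
    (∀ z : ↥Z.left, ∃ j, z ∈ Set.range (c j).left) ∧
    ∀ j, ∃ (i : _) (l : (yon S).obj (W j) ⟶ Y i), l ≫ g i = (yon S).map (c j) ≫ h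

theorem H5_fpqcRefineAt_of_finite {ι : Type u} {X : Sp S} {Y : ι → Sp S} {g : ∀ i, Y i ⟶ X}
    {Z : Over S} {h : (yon S).obj Z ⟶ X} {J : Type*} [Finite J] (W : J → Over S)
    (c : ∀ j, W j ⟶ Z) (hW : ∀ j, IsAffine (W j).left) (hc : ∀ j, Flat (c j).left)
    (hs : ∀ z : ↥Z.left, ∃ j, z ∈ Set.range (c j).left)
    (hl : ∀ j, ∃ (i : _) (l : (yon S).obj (W j) ⟶ Y i), l ≫ g i = (yon S).map (c j) ≫ h) :
    H5_FpqcRefineAt Y g Z h := by
  obtain ⟨m, ⟨e⟩⟩ := Finite.exists_equiv_fin J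
  refine ⟨m, fun k => W (e.symm k), fun k => c (e.symm k), fun k => hW _, fun k => hc _,
    fun z => ?_, fun k => hl _⟩
  obtain ⟨j, hj⟩ := hs z
  refine ⟨e j, ?_⟩
  beta_reduce
  rw [e.symm_apply_apply]
  exact hj

theorem H5_fpqcRefineAt_trans {ι : Type u} {X : Sp S} {Y : ι → Sp S} {g : ∀ i, Y i ⟶ X}
    {Z : Over S} (h : (yon S).obj Z ⟶ X) {K : Type*} [Finite K] (Z' : K → Over S)
    (d : ∀ k, Z' k ⟶ Z) (hd : ∀ k, Flat (d k).left)
    (hds : ∀ z : ↥Z.left, ∃ k, z ∈ Set.range (d k).left)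
    (hk : ∀ k, H5_FpqcRefineAt Y g (Z' k) ((yon S).map (d k) ≫ h)) :
    H5_FpqcRefineAt Y g Z h := by
  choose m W c hW hc hs hl using hk
  refine H5_fpqcRefineAt_of_finite (J := Σ k, Fin (m k)) (fun p => W p.1 p.2)
    (fun p => c p.1 p.2 ≫ d p.1) (fun p => hW _ _) (fun p => ?_) (fun z => ?_) (fun p => ?_)
  · haveI := hc p.1 p.2
    haveI := hd p.1
    show Flat ((c p.1 p.2).left ≫ (d p.1).left)
    infer_instance
  · obtain ⟨k, z', rfl⟩ := hds z
    obtain ⟨j, w, rfl⟩ := hs k z'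
    exact ⟨⟨k, j⟩, w, rfl⟩
  · obtain ⟨i, l, hl'⟩ := hl p.1 p.2
    exact ⟨i, l, by rw [hl', Functor.map_comp, Category.assoc]⟩

theorem H5_isFpqcCover_comp {X : Sp S} (hX : IsAlgSpace X) {ι : Type u} (Xi : ι → Sp S)
    (hXi : ∀ i, IsAlgSpace (Xi i)) (g : ∀ i, Xi i ⟶ X) (κ : ι → Type u)
    (Xij : ∀ i, κ i → Sp S) (gij : ∀ i j, Xij i j ⟶ Xi i) (h : IsFpqcCover Xi g)
    (hij : ∀ i, IsFpqcCover (Xij i) (gij i)) :
    IsFpqcCover (fun r : Σ i, κ i => Xij r.1 r.2) (fun r => gij r.1 r.2 ≫ g r.1) := by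
  refine ⟨fun r => H5_locP_comp @Flat H5_etLocal_flat hX (hXi r.1) _ _ ((hij r.1).1 r.2)
    (h.1 r.1), ?_⟩
  intro Z hZ t
  obtain ⟨m, W, c, hW, hc, hs, hl⟩ := h.2 Z hZ t
  choose i l hl using hl
  refine H5_fpqcRefineAt_trans t W c hc hs (fun j => ?_)
  obtain ⟨m', W', c', hW', hc', hs', hl'⟩ := (hij (i j)).2 (W j) (hW j) (l j)
  refine ⟨m', W', c', hW', hc', hs', fun j' => ?_⟩
  obtain ⟨k, l', hl''⟩ := hl' j'
  exact ⟨⟨i j, k⟩, l', by rw [← Category.assoc, hl'', Category.assoc, hl j]⟩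

theorem H5_isFpqcCover_iff_atlas {X : Sp S} {ι : Type u} (Xi : ι → Sp S)
    (hXi : ∀ i, IsAlgSpace (Xi i)) (hX : IsAlgSpace X)
    (g : ∀ i, Xi i ⟶ X) {U : Over S} (p : (yon S).obj U ⟶ X) (hp : RepWith @Etale p)
    (hps : RepWith @Surjective p) (Ui : ι → Sp S) (q : ∀ i, Ui i ⟶ (yon S).obj U)
    (p' : ∀ i, Ui i ⟶ Xi i) (sq : ∀ i, IsPullback (q i) (p' i) p (g i)) :
    IsFpqcCover Xi g ↔ IsFpqcCover Ui q := by
  constructor
  · intro h
    exact ⟨fun i => H5_locP_baseChange @Flat H5_etLocal_flat (hXi i) hX (IsAlgSpace.yon_obj U)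
      (g i) p (p' i) (q i) (sq i).flip (h.1 i), H5_fpqcRefine_baseChange h.2 sq⟩
  · intro h
    refine ⟨fun i => H5_locP_descent @Flat H5_etLocal_flat.cancel_etale (g i) p hp hps (p' i) (q i)
      (sq i).flip (h.1 i), ?_⟩
    intro Z hZ t
    have hprep : Representable p := hp.1
    have sqZ := hprep.isPullback' t
    have hπet : Etale (hprep.snd t).left :=
      (repWith_yon_map_iff @Etale _).1 (MorphismProperty.of_isPullback sqZ hp)
    have hπsu : Surjective (hprep.snd t).left :=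
      (repWith_yon_map_iff @Surjective _).1 (MorphismProperty.of_isPullback sqZ hps)
    haveI : IsAffine Z.left := hZ
    obtain ⟨m, a, W, ι', hWaff, hιoi, hcov⟩ :=
      H5_exists_finite_affine_of_jointly_surjective_open (A := PUnit.{1})
        (fun _ => (hprep.pullback t).left) (fun _ => (hprep.snd t).left)
        (fun _ => (hprep.snd t).left.isOpenMap) (fun z => ⟨PUnit.unit, hπsu.surj z⟩)
    refine H5_fpqcRefineAt_trans t (fun k => Over.mk (ι' k ≫ (hprep.pullback t).hom))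
      (fun k => (Over.homMk (ι' k) rfl : Over.mk (ι' k ≫ (hprep.pullback t).hom) ⟶
        hprep.pullback t) ≫ hprep.snd t) (fun k => ?_) hcov (fun k => ?_)
    · haveI := hιoi k
      show Flat (ι' k ≫ (hprep.snd t).left)
      infer_instance
    · obtain ⟨m', W', c', hW', hc', hs', hl'⟩ :=
        h.2 (Over.mk (ι' k ≫ (hprep.pullback t).hom)) (hWaff k)
          ((yon S).map (Over.homMk (ι' k) rfl : Over.mk (ι' k ≫ (hprep.pullback t).hom) ⟶
            hprep.pullback t) ≫ (yon S).map (hprep.fst' t))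
      refine ⟨m', W', c', hW', hc', hs', fun j' => ?_⟩
      obtain ⟨i, l', hl''⟩ := hl' j'
      refine ⟨i, l' ≫ p' i, ?_⟩
      rw [Category.assoc, ← (sq i).w, ← Category.assoc, hl'']
      simp only [Functor.map_comp, Category.assoc]
      rw [sqZ.w]

theorem H5_isFpqcCover_of_isFppfCover {X : Sp S} (hX : IsAlgSpace X) {ι : Type u}
    (Xi : ι → Sp S) (hXi : ∀ i, IsAlgSpace (Xi i)) (g : ∀ i, Xi i ⟶ X)
    (h : IsFppfCover Xi g) : IsFpqcCover Xi g := by
  refine ⟨fun i => (h.1 i).1, ?_⟩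
  intro Z hZ t
  have key : ∀ i, ∃ (E : Over S) (ε : (yon S).obj E ⟶ pullback (g i) t) (k : E ⟶ Z),
      RepWith @Surjective ε ∧ (yon S).map k = ε ≫ pullback.snd (g i) t ∧ Flat k.left ∧
        IsOpenMap k.left := by
    intro i
    have hZi : IsAlgSpace (pullback (g i) t) :=
      H5_isAlgSpace_of_isPullback X hX.diag ⟨Xi i, hXi i⟩ ⟨_, IsAlgSpace.yon_obj Z⟩ (g i) t _ _ _
        (IsPullback.of_hasPullback _ _)
    obtain ⟨E, ε, hε1, hε3⟩ := hZi.atlas
    obtain ⟨k, hk⟩ := (yon S).map_surjective (ε ≫ pullback.snd (g i) t)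
    have hflatZ : LocP @Flat (pullback.snd (g i) t) :=
      H5_locP_baseChange @Flat H5_etLocal_flat (hXi i) hX (IsAlgSpace.yon_obj Z) (g i) t _ _
        (IsPullback.of_hasPullback _ _) (h.1 i).1
    have hkflat : Flat k.left :=
      hflatZ ε (𝟙 _) k hε1 (repWith_id _ Z) (by rw [Category.comp_id, hk])
    have huo : IsUnivOpenMor (g i) := H5_isUnivOpenMor_of_fppf (hXi i) hX (g i) (h.1 i).1 (h.1 i).2
    have ho1 : IsOpenMap (Points.map (pullback.snd (g i) t)) :=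
      huo (IsAlgSpace.yon_obj Z) t _ _ (IsPullback.of_hasPullback _ _)
    have ho2 : IsOpenMap (Points.map ε) :=
      H5_isOpenMap_of_repWith ε (H5_repWith_of_le H5_etale_le_universallyOpen hε1)
    have ho3 : IsOpenMap (Points.map ((yon S).map k)) := by
      rw [hk]
      have : Points.map (ε ≫ pullback.snd (g i) t) =
          Points.map (pullback.snd (g i) t) ∘ Points.map ε := funext (Points.map_comp _ _)
      rw [this]
      exact ho1.comp ho2
    exact ⟨E, ε, k, hε3, hk, hkflat, (H5_isOpenMap_left_iff k).1 ho3⟩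
  choose E ε k hε3 hk hkflat hkopen using key
  have hsurj : ∀ z : ↥Z.left, ∃ i, z ∈ Set.range (k i).left := by
    intro z
    obtain ⟨i, xi, hxi⟩ := h.2 (Points.map t (Points.ofScheme Z z))
    obtain ⟨w, -, hw2⟩ := H5_points_pullback_surj (IsPullback.of_hasPullback (g i) t) xi
      (Points.ofScheme Z z) hxi
    obtain ⟨e', he'⟩ := H5_surjective_of_repWith (ε i) (hε3 i) w
    refine ⟨i, Points.toScheme (E i) e', ?_⟩
    rw [H5_left_toScheme, hk i, Points.map_comp, he', hw2, Points.toScheme_ofScheme]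
  haveI : IsAffine Z.left := hZ
  obtain ⟨m, a, W, ι', hWaff, hιoi, hcov⟩ :=
    H5_exists_finite_affine_of_jointly_surjective_open (fun i => (E i).left)
      (fun i => (k i).left) hkopen hsurj
  refine ⟨m, fun j => Over.mk (ι' j ≫ (E (a j)).hom),
    fun j => (Over.homMk (ι' j) rfl : Over.mk (ι' j ≫ (E (a j)).hom) ⟶ E (a j)) ≫ k (a j),
    hWaff, fun j => ?_, hcov, fun j => ⟨a j,
      (yon S).map (Over.homMk (ι' j) rfl : Over.mk (ι' j ≫ (E (a j)).hom) ⟶ E (a j)) ≫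
        ε (a j) ≫ pullback.fst (g (a j)) t, ?_⟩⟩
  · haveI := hιoi j
    haveI := hkflat (a j)
    show Flat (ι' j ≫ (k (a j)).left)
    infer_instance
  · simp only [Functor.map_comp, Category.assoc, pullback.condition, hk]

end AlgSp
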