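import Groth.Agent.Lib.helper5.AlgSpGpd
import Groth.Agent.Lib.helper5.RelRep
import Groth.Agent.Lib.helper5.AlgSpDiag2

/-! helper5 library: the stabilizer of a groupoid and the diagonal of `j`. -/

set_option autoImplicit false

universe u

open CategoryTheory CategoryTheory.Limits AlgebraicGeometry Opposite

namespace AlgSp

namespace GroupoidSp

variable {S : Scheme.{u}} {B : Sp S} (G : GroupoidSp B)

theorem H5_diag_fst : G.diag ≫ pullback.fst G.pU G.pU = 𝟙 _ := pullback.lift_fst _ _ _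

theorem H5_diag_snd : G.diag ≫ pullback.snd G.pU G.pU = 𝟙 _ := pullback.lift_snd _ _ _

theorem H5_t_of_j {Q : Sp S} {α β : Q ⟶ G.R} (h : α ≫ G.j = β ≫ G.j) : α ≫ G.t = β ≫ G.t := by
  have := congrArg (· ≫ pullback.fst G.pU G.pU) h
  simpa only [Category.assoc, G.j_fst] using this

theorem H5_s_of_j {Q : Sp S} {α β : Q ⟶ G.R} (h : α ≫ G.j = β ≫ G.j) : α ≫ G.s = β ≫ G.s := by
  have := congrArg (· ≫ pullback.snd G.pU G.pU) h
  simpa only [Category.assoc, G.j_snd] using this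

theorem H5_eG_toU (eG : G.U ⟶ G.stabilizer) (heG : eG ≫ G.stabilizerι = G.e) :
    eG ≫ G.stabilizerToU = 𝟙 G.U := by
  have hc : G.stabilizerι ≫ G.j = G.stabilizerToU ≫ G.diag := pullback.condition
  have h1 : eG ≫ G.stabilizerι ≫ G.j ≫ pullback.fst G.pU G.pU =
      eG ≫ G.stabilizerToU ≫ G.diag ≫ pullback.fst G.pU G.pU := by
    rw [reassoc_of% hc]
  rw [G.j_fst, G.H5_diag_fst, Category.comp_id] at h1
  rw [← h1, reassoc_of% heG, G.e_t]

theorem H5_stab_h0 {Q : Sp S} {α β : Q ⟶ G.R} (h : α ≫ G.j = β ≫ G.j) :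
    (α ≫ G.i) ≫ G.s = β ≫ G.t := by
  rw [G.H5_inv_s, G.H5_t_of_j h]

theorem H5_stab_cond {Q : Sp S} {α β : Q ⟶ G.R} (h : α ≫ G.j = β ≫ G.j) :
    G.H5_comp (α ≫ G.i) β (G.H5_stab_h0 h) ≫ G.j = (α ≫ G.s) ≫ G.diag := by
  apply pullback.hom_ext
  · rw [Category.assoc, G.j_fst, Category.assoc, G.H5_diag_fst, Category.comp_id, G.H5_comp_t,
      G.H5_inv_t]
  · rw [Category.assoc, G.j_snd, Category.assoc, G.H5_diag_snd, Category.comp_id, G.H5_comp_s,
      G.H5_s_of_j h]

/-- `α⁻¹ ∘ β` for two arrows with the same source and target, as a point of the stabilizer. -/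
noncomputable def H5_stabMap {Q : Sp S} (α β : Q ⟶ G.R) (h : α ≫ G.j = β ≫ G.j) :
    Q ⟶ G.stabilizer :=
  pullback.lift (G.H5_comp (α ≫ G.i) β (G.H5_stab_h0 h)) (α ≫ G.s) (G.H5_stab_cond h)

theorem H5_stabMap_ι {Q : Sp S} (α β : Q ⟶ G.R) (h : α ≫ G.j = β ≫ G.j) :
    G.H5_stabMap α β h ≫ G.stabilizerι = G.H5_comp (α ≫ G.i) β (G.H5_stab_h0 h) :=
  pullback.lift_fst _ _ _

theorem H5_stabMap_toU {Q : Sp S} (α β : Q ⟶ G.R) (h : α ≫ G.j = β ≫ G.j) :
    G.H5_stabMap α β h ≫ G.stabilizerToU = α ≫ G.s :=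
  pullback.lift_snd _ _ _

/-- If `α⁻¹ ∘ β` is an identity then `β = α`. -/
theorem H5_eq_of_inv_comp_eq_id {T : Sp S} (α β : T ⟶ G.R) (h0 : (α ≫ G.i) ≫ G.s = β ≫ G.t)
    (hc : G.H5_comp (α ≫ G.i) β h0 = α ≫ G.s ≫ G.e) : β = α := by
  have h' : α ≫ G.s = G.H5_comp (α ≫ G.i) β h0 ≫ G.t := by rw [G.H5_comp_t, G.H5_inv_t]
  have k := G.H5_comp_inv_comp' α β h0 h'
  have hu : α ≫ G.s = (α ≫ G.s ≫ G.e) ≫ G.t := by
    rw [Category.assoc, Category.assoc, G.e_t, Category.comp_id]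
  have k2 : G.H5_comp α (G.H5_comp (α ≫ G.i) β h0) h' = G.H5_comp α (α ≫ G.s ≫ G.e) hu :=
    G.H5_comp_congr h' hu rfl hc
  exact k.symm.trans (k2.trans (G.H5_comp_right_unit α _ rfl hu))

/-- The diagonal of `j` is a base change of the unit section of the stabilizer. -/
theorem H5_diagonal_j_isPullback (eG : G.U ⟶ G.stabilizer) (heG : eG ≫ G.stabilizerι = G.e) :
    IsPullback G.s (pullback.diagonal G.j) eG
      (G.H5_stabMap (pullback.fst G.j G.j) (pullback.snd G.j G.j) pullback.condition) := by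
  have hsec := G.H5_eG_toU eG heG
  have hΔα : pullback.diagonal G.j ≫ pullback.fst G.j G.j = 𝟙 _ := pullback.diagonal_fst _
  have hΔβ : pullback.diagonal G.j ≫ pullback.snd G.j G.j = 𝟙 _ := pullback.diagonal_snd _
  have h0 : (pullback.fst G.j G.j ≫ G.i) ≫ G.s = pullback.snd G.j G.j ≫ G.t := by
    rw [G.H5_inv_s, G.H5_t_of_j pullback.condition]
  refine IsPullback.mk' ?_ ?_ ?_
  · apply pullback.hom_ext
    · change (G.s ≫ eG) ≫ G.stabilizerι =
        (pullback.diagonal G.j ≫ G.H5_stabMap _ _ pullback.condition) ≫ G.stabilizerι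
      have hm : (pullback.diagonal G.j ≫ (pullback.fst G.j G.j ≫ G.i)) ≫ G.s =
          (pullback.diagonal G.j ≫ pullback.snd G.j G.j) ≫ G.t := by
        rw [Category.assoc, h0, Category.assoc]
      have e1 := G.H5_map_comp (pullback.diagonal G.j) _ _ h0 hm
      have hi : G.i ≫ G.s = 𝟙 G.R ≫ G.t := by rw [G.i_s, Category.id_comp]
      have e2 : G.H5_comp (pullback.diagonal G.j ≫ (pullback.fst G.j G.j ≫ G.i))
          (pullback.diagonal G.j ≫ pullback.snd G.j G.j) hm = G.H5_comp G.i (𝟙 G.R) hi :=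
        G.H5_comp_congr hm hi (by rw [← Category.assoc, hΔα, Category.id_comp]) hΔβ
      have e3 : G.H5_comp G.i (𝟙 G.R) hi = 𝟙 G.R ≫ G.s ≫ G.e :=
        G.H5_comp_left_inv (𝟙 G.R) G.i (Category.id_comp _).symm hi
      rw [Category.assoc, heG, Category.assoc, G.H5_stabMap_ι, e1, e2, e3, Category.id_comp]
    · change (G.s ≫ eG) ≫ G.stabilizerToU =
        (pullback.diagonal G.j ≫ G.H5_stabMap _ _ pullback.condition) ≫ G.stabilizerToU
      rw [Category.assoc, hsec, Category.comp_id, Category.assoc, G.H5_stabMap_toU,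
        ← Category.assoc, hΔα, Category.id_comp]
  · intro T φ φ' _ h2
    have h3 : (φ ≫ pullback.diagonal G.j) ≫ pullback.fst G.j G.j =
        (φ' ≫ pullback.diagonal G.j) ≫ pullback.fst G.j G.j := by rw [h2]
    rw [Category.assoc, Category.assoc, hΔα, Category.comp_id, Category.comp_id] at h3
    exact h3
  · intro T a b hab
    have h1 : (a ≫ eG) ≫ G.stabilizerι =
        (b ≫ G.H5_stabMap _ _ pullback.condition) ≫ G.stabilizerι := by rw [hab]
    have h2 : (a ≫ eG) ≫ G.stabilizerToU =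
        (b ≫ G.H5_stabMap _ _ pullback.condition) ≫ G.stabilizerToU := by rw [hab]
    rw [Category.assoc, heG, Category.assoc, G.H5_stabMap_ι] at h1
    rw [Category.assoc, hsec, Category.comp_id, Category.assoc, G.H5_stabMap_toU] at h2
    have hm : (b ≫ (pullback.fst G.j G.j ≫ G.i)) ≫ G.s = (b ≫ pullback.snd G.j G.j) ≫ G.t := by
      rw [Category.assoc, h0, Category.assoc]
    have e1 := G.H5_map_comp b _ _ h0 hm
    have h0' : ((b ≫ pullback.fst G.j G.j) ≫ G.i) ≫ G.s = (b ≫ pullback.snd G.j G.j) ≫ G.t := by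
      rw [Category.assoc b]
      exact hm
    have hc : G.H5_comp ((b ≫ pullback.fst G.j G.j) ≫ G.i) (b ≫ pullback.snd G.j G.j) h0' =
        (b ≫ pullback.fst G.j G.j) ≫ G.s ≫ G.e := by
      have e2 : G.H5_comp ((b ≫ pullback.fst G.j G.j) ≫ G.i) (b ≫ pullback.snd G.j G.j) h0' =
          G.H5_comp (b ≫ (pullback.fst G.j G.j ≫ G.i)) (b ≫ pullback.snd G.j G.j) hm :=
        G.H5_comp_congr h0' hm (Category.assoc _ _ _) rfl
      rw [e2, ← e1, ← h1, h2]
      simp only [Category.assoc]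
    have hβα := G.H5_eq_of_inv_comp_eq_id _ _ h0' hc
    refine ⟨b ≫ pullback.fst G.j G.j, ?_, ?_⟩
    · rw [h2, Category.assoc]
    · apply pullback.hom_ext
      · rw [Category.assoc, hΔα, Category.comp_id]
      · rw [Category.assoc, hΔβ, Category.comp_id, hβα]

/-- The three separation conditions for a groupoid, for a class `Q` stable under base change. -/
theorem H5_stab_sep (Q : MorphismProperty (Sp S)) [Q.IsStableUnderBaseChange]
    (eG : G.U ⟶ G.stabilizer) (heG : eG ≫ G.stabilizerι = G.e) :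
    (Q (pullback.diagonal G.j) → Q (pullback.diagonal G.stabilizerToU)) ∧
    (Q (pullback.diagonal G.stabilizerToU) → Q eG) ∧ (Q eG → Q (pullback.diagonal G.j)) := by
  refine ⟨fun h => ?_, fun h => ?_, fun h => ?_⟩
  · exact MorphismProperty.of_isPullback
      (H5_isPullback_diagonal_baseChange (IsPullback.of_hasPullback G.j G.diag)) h
  · exact H5_section_of_diagonal Q G.stabilizerToU eG (G.H5_eG_toU eG heG) h
  · exact MorphismProperty.of_isPullback (G.H5_diagonal_j_isPullback eG heG) h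

end GroupoidSp

end AlgSp
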