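import Groth.Agent.Lib.helper5.AlgSpUnram

/-! The largest open subspace over which a morphism has a property local on the base. -/

universe u

open CategoryTheory Limits AlgebraicGeometry Opposite

namespace AlgSp

variable {S : Scheme.{u}}

/-- Classes of morphisms (etale, smooth, fppf) whose jointly surjective families are coverings. -/
structure H5_GoodClass (𝒢 : MorphismProperty (Sp S)) : Prop where
  of_oi : ∀ ⦃F G : Sp S⦄ (j : F ⟶ G), RepWith @IsOpenImmersion j → 𝒢 j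
  precomp_oi : ∀ ⦃F G H : Sp S⦄ (j : F ⟶ G) (g : G ⟶ H), RepWith @IsOpenImmersion j → 𝒢 g →
    𝒢 (j ≫ g)
  cancel_oi : ∀ ⦃F G H : Sp S⦄ (k : F ⟶ G) (j : G ⟶ H), RepWith @IsOpenImmersion j →
    𝒢 (k ≫ j) → 𝒢 k
  isOpen_range : ∀ ⦃X Y : Sp S⦄, IsAlgSpace X → IsAlgSpace Y → ∀ g : X ⟶ Y, 𝒢 g →
    IsOpen (Set.range (Points.map g))

theorem H5_locP_of_oi (P : MorphismProperty Scheme.{u}) [P.IsStableUnderComposition]
    (hP : (@Etale : MorphismProperty Scheme.{u}) ≤ P) {F G : Sp S} (j : F ⟶ G)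
    (hj : RepWith @IsOpenImmersion j) : LocP P j :=
  H5_locP_of_repWith P hP j
    (H5_repWith_of_le (le_trans H5_isOpenImmersion_le_etale hP) hj)

theorem H5_locP_precomp_etale (P : MorphismProperty Scheme.{u}) {F G H : Sp S} (j : F ⟶ G)
    (g : G ⟶ H) (hj : RepWith @Etale j) (hg : LocP P g) : LocP P (j ≫ g) := by
  intro U V a b h ha hb w
  exact hg (a ≫ j) b h ((RepWith @Etale).comp_mem _ _ ha hj) hb (by rw [Category.assoc]; exact w)

theorem H5_locP_cancel_etale (P : MorphismProperty Scheme.{u}) {F G H : Sp S} (k : F ⟶ G)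
    (j : G ⟶ H) (hj : RepWith @Etale j) (h : LocP P (k ≫ j)) : LocP P k := by
  intro U V a b h' ha hb w
  exact h a (b ≫ j) h' ha ((RepWith @Etale).comp_mem _ _ hb hj)
    (by rw [← Category.assoc, w, Category.assoc])

theorem H5_goodClass_isEtaleMor : H5_GoodClass (IsEtaleMor (S := S)) where
  of_oi F G j hj U φ hφ :=
    (RepWith @Etale).comp_mem _ _ hφ (H5_repWith_of_le H5_isOpenImmersion_le_etale hj)
  precomp_oi F G H j g hj hg U φ hφ := by
    rw [← Category.assoc]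
    exact hg _ ((RepWith @Etale).comp_mem _ _ hφ (H5_repWith_of_le H5_isOpenImmersion_le_etale hj))
  cancel_oi F G H k j hj h U φ hφ := by
    refine H5_repWith_etale_of_postcomp _ j (H5_repWith_of_le H5_isOpenImmersion_le_etale hj) ?_
    rw [Category.assoc]
    exact h φ hφ
  isOpen_range X Y hX hY g hg :=
    (H5_Q_of_univSp (Q := IsOpenMor) hY (H5_isUnivOpenMor_of_isEtaleMor g hX hg)).isOpen_range

theorem H5_etale_le_flat : (@Etale : MorphismProperty Scheme.{u}) ≤ @Flat := fun _ _ k hk => by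
  haveI : Etale k := hk
  exact (inferInstance : Flat k)

theorem H5_etale_le_lfp : (@Etale : MorphismProperty Scheme.{u}) ≤ @LocallyOfFinitePresentation :=
  fun _ _ k hk => by
    haveI : Etale k := hk
    exact (inferInstance : LocallyOfFinitePresentation k)

theorem H5_etale_le_smooth : (@Etale : MorphismProperty Scheme.{u}) ≤ @Smooth := fun _ _ k hk => by
  haveI : Etale k := hk
  exact (inferInstance : Smooth k)

theorem H5_goodClass_fppf :
    H5_GoodClass (fun _ _ f => LocP @Flat f ∧ LocP @LocallyOfFinitePresentation f :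
      MorphismProperty (Sp S)) where
  of_oi F G j hj := ⟨H5_locP_of_oi @Flat H5_etale_le_flat j hj,
    H5_locP_of_oi @LocallyOfFinitePresentation H5_etale_le_lfp j hj⟩
  precomp_oi F G H j g hj hg :=
    ⟨H5_locP_precomp_etale _ j g (H5_repWith_of_le H5_isOpenImmersion_le_etale hj) hg.1,
      H5_locP_precomp_etale _ j g (H5_repWith_of_le H5_isOpenImmersion_le_etale hj) hg.2⟩
  cancel_oi F G H k j hj h :=
    ⟨H5_locP_cancel_etale _ k j (H5_repWith_of_le H5_isOpenImmersion_le_etale hj) h.1,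
      H5_locP_cancel_etale _ k j (H5_repWith_of_le H5_isOpenImmersion_le_etale hj) h.2⟩
  isOpen_range X Y hX hY g hg :=
    (H5_Q_of_univSp (Q := IsOpenMor) hY (H5_isUnivOpenMor_of_fppf hX hY g hg.1 hg.2)).isOpen_range

theorem H5_locP_mono {P Q : MorphismProperty Scheme.{u}} (h : P ≤ Q) {F G : Sp S} {f : F ⟶ G}
    (hf : LocP P f) : LocP Q f := fun _ _ a b k ha hb w => h _ (hf a b k ha hb w)

theorem H5_goodClass_smooth : H5_GoodClass (LocP (S := S) @Smooth) where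
  of_oi F G j hj := H5_locP_of_oi @Smooth H5_etale_le_smooth j hj
  precomp_oi F G H j g hj hg :=
    H5_locP_precomp_etale _ j g (H5_repWith_of_le H5_isOpenImmersion_le_etale hj) hg
  cancel_oi F G H k j hj h :=
    H5_locP_cancel_etale _ k j (H5_repWith_of_le H5_isOpenImmersion_le_etale hj) h
  isOpen_range X Y hX hY g hg :=
    (H5_Q_of_univSp (Q := IsOpenMor) hY (H5_isUnivOpenMor_of_fppf hX hY g
      (H5_locP_mono (fun _ _ k hk => by
        haveI : Smooth k := hk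
        exact (inferInstance : Flat k)) hg)
      (H5_locP_mono (fun _ _ k hk => by
        haveI : Smooth k := hk
        exact (inferInstance : LocallyOfFinitePresentation k)) hg))).isOpen_range

/-- `f` has `P` over the open `V`. -/
def H5_HasPOver (P : MorphismProperty (Sp S)) {X Y : Sp S} (f : X ⟶ Y) (V : Set (Points Y)) :
    Prop :=
  ∀ (W₁ X₁ : Sp S) (j₁ : W₁ ⟶ Y) (j₁' : X₁ ⟶ X) (f₁ : X₁ ⟶ W₁), IsAlgSpace W₁ → IsAlgSpace X₁ →
    RepWith @IsOpenImmersion j₁ → Set.range (Points.map j₁) = V → IsPullback j₁' f₁ f j₁ → P f₁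

/-- The union of all opens over which `f` has `P`. -/
def H5_largestOpen (P : MorphismProperty (Sp S)) {X Y : Sp S} (f : X ⟶ Y) : Set (Points Y) :=
  ⋃₀ {V | IsOpen V ∧ H5_HasPOver P f V}

theorem H5_isOpen_largestOpen (P : MorphismProperty (Sp S)) {X Y : Sp S} (f : X ⟶ Y) :
    IsOpen (H5_largestOpen P f) := isOpen_sUnion (fun _ hV => hV.1)

def H5_optObj (A B : Sp S) : Option PUnit.{u + 1} → Sp S
  | none => A
  | some _ => B

def H5_optHom {A B C : Sp S} (a : A ⟶ C) (b : B ⟶ C) : ∀ o, H5_optObj A B o ⟶ C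
  | none => a
  | some _ => b

def H5_optHom' {A B A' B' : Sp S} (a : A ⟶ A') (b : B ⟶ B') :
    ∀ o, H5_optObj A B o ⟶ H5_optObj A' B' o
  | none => a
  | some _ => b

/-- A property local on the base is stable under base change along members of the class. -/
theorem H5_P_baseChange_of_localOnBase {𝒢 P : MorphismProperty (Sp S)} (h𝒢 : H5_GoodClass 𝒢)
    (hP : IsLocalOnBase (fun _ _ Y g => IsCover 𝒢 Y g) P)
    {X₀ W₀ W₃ X₃ : Sp S} (hX₀ : IsAlgSpace X₀) (hW₀ : IsAlgSpace W₀) (hW₃ : IsAlgSpace W₃)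
    (hX₃ : IsAlgSpace X₃) (f₀ : X₀ ⟶ W₀) (k : W₃ ⟶ W₀) (q : X₃ ⟶ X₀) (p : X₃ ⟶ W₃)
    (sq : IsPullback q p f₀ k) (hk : 𝒢 k) (hf₀ : P f₀) : P p := by
  have hcov : IsCover 𝒢 (H5_optObj W₀ W₃) (H5_optHom (𝟙 W₀) k) := by
    refine ⟨?_, fun x => ⟨none, x, Points.map_id x⟩⟩
    rintro (_ | _)
    · exact h𝒢.of_oi _ (H5_repWith_of_isIso @IsOpenImmersion (𝟙 W₀))
    · exact hk
  have hYi : ∀ o, IsAlgSpace (H5_optObj W₀ W₃ o) := by
    rintro (_ | _)
    · exact hW₀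
    · exact hW₃
  have hXi : ∀ o, IsAlgSpace (H5_optObj X₀ X₃ o) := by
    rintro (_ | _)
    · exact hX₀
    · exact hX₃
  have hsq : ∀ o, IsPullback (H5_optHom (𝟙 X₀) q o) (H5_optHom' f₀ p o) f₀
      (H5_optHom (𝟙 W₀) k o) := by
    rintro (_ | _)
    · exact IsPullback.id_horiz f₀
    · exact sq
  exact (hP _ _ hW₀ hYi hcov f₀ hX₀ _ _ _ hXi hsq).1 hf₀ (some PUnit.unit)

theorem H5_hasPOver_largestOpen {𝒢 P : MorphismProperty (Sp S)} (h𝒢 : H5_GoodClass 𝒢)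
    (hP : IsLocalOnBase (fun _ _ Y g => IsCover 𝒢 Y g) P) {X Y : Sp S}
    (f : X ⟶ Y) : H5_HasPOver P f (H5_largestOpen P f) := by
  intro W₀ X₀ j₀ j₀' f₀ hW₀ hX₀ hj₀ hr sq₀
  obtain ⟨U₀, a₀, ha1, ha3⟩ := hW₀.atlas
  have hmem : ∀ u : ↥U₀.left, ∃ V, (IsOpen V ∧ H5_HasPOver P f V) ∧
      Points.map j₀ (Points.ofPt a₀ u) ∈ V := by
    intro u
    have h0 : Points.map j₀ (Points.ofPt a₀ u) ∈ H5_largestOpen P f := by
      rw [← hr]; exact ⟨_, rfl⟩
    obtain ⟨V, hV, hu⟩ := h0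
    exact ⟨V, hV, hu⟩
  choose V hV hVu using hmem
  have hVW : ∀ u, V u ⊆ Set.range (Points.map j₀) := fun u => by
    rw [hr]; exact Set.subset_sUnion_of_mem (hV u)
  have hopen : ∀ u, IsOpen (Points.map j₀ ⁻¹' V u) := fun u =>
    (hV u).1.preimage (Points.continuous_map j₀)
  have hYi : ∀ u, IsAlgSpace (H5_openSub W₀ (Points.map j₀ ⁻¹' V u)) := fun u =>
    H5_isAlgSpace_openSub hW₀ (hopen u)
  have hoi : ∀ u, RepWith @IsOpenImmersion (H5_openSubι W₀ (Points.map j₀ ⁻¹' V u)) := fun u =>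
    H5_repWith_isOpenImmersion_openSubι W₀ (hopen u)
  have hcov : IsCover 𝒢 (fun u : ↥U₀.left => H5_openSub W₀ (Points.map j₀ ⁻¹' V u))
      (fun u => H5_openSubι W₀ (Points.map j₀ ⁻¹' V u)) := by
    refine ⟨fun u => h𝒢.of_oi _ (hoi u), fun x => ?_⟩
    obtain ⟨z, rfl⟩ := H5_surjective_of_repWith a₀ ha3 x
    refine ⟨Points.toScheme U₀ z, ?_⟩
    rw [H5_openSub_range]
    have h1 := hVu (Points.toScheme U₀ z)
    rw [Points.ofPt_eq_map_ofScheme, Points.ofScheme_toScheme] at h1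
    exact h1
  have hXi : ∀ u, IsAlgSpace (pullback f₀ (H5_openSubι W₀ (Points.map j₀ ⁻¹' V u))) := fun u =>
    H5_isAlgSpace_of_isPullback W₀ hW₀.diag ⟨X₀, hX₀⟩ ⟨_, hYi u⟩ f₀ _ _ _ _
      (IsPullback.of_hasPullback _ _)
  refine (hP _ _ hW₀ hYi hcov f₀ hX₀ (fun u => pullback f₀ (H5_openSubι W₀ _))
    (fun u => pullback.snd _ _) (fun u => pullback.fst _ _) hXi
    (fun u => IsPullback.of_hasPullback _ _)).2 ?_
  intro u
  refine (hV u).2 _ _ (H5_openSubι W₀ _ ≫ j₀) (pullback.fst _ _ ≫ j₀') (pullback.snd _ _) (hYi u)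
    (hXi u) ((RepWith @IsOpenImmersion).comp_mem _ _ (hoi u) hj₀) ?_
    ((IsPullback.of_hasPullback f₀ _).paste_horiz sq₀)
  ext y
  constructor
  · rintro ⟨z, rfl⟩
    rw [Points.map_comp]
    have h1 : Points.map (H5_openSubι W₀ (Points.map j₀ ⁻¹' V u)) z ∈
        Set.range (Points.map (H5_openSubι W₀ (Points.map j₀ ⁻¹' V u))) := ⟨z, rfl⟩
    rw [H5_openSub_range] at h1
    exact h1
  · intro hy
    obtain ⟨w, rfl⟩ := hVW u hy
    have h1 : w ∈ Set.range (Points.map (H5_openSubι W₀ (Points.map j₀ ⁻¹' V u))) := by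
      rw [H5_openSub_range]; exact hy
    obtain ⟨z, rfl⟩ := h1
    exact ⟨z, Points.map_comp _ _ _⟩

theorem H5_range_subset_largestOpen {𝒢 P : MorphismProperty (Sp S)} (h𝒢 : H5_GoodClass 𝒢)
    (hP : IsLocalOnBase (fun _ _ Y g => IsCover 𝒢 Y g) P) {X Y Y' X' : Sp S}
    (hY : IsAlgSpace Y) (hY' : IsAlgSpace Y') (hX' : IsAlgSpace X')
    (f : X ⟶ Y) (g : Y' ⟶ Y) (g' : X' ⟶ X) (f' : X' ⟶ Y') (hg : 𝒢 g)
    (sq' : IsPullback g' f' f g) (hf' : P f') :
    Set.range (Points.map g) ⊆ H5_largestOpen P f := by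
  refine Set.subset_sUnion_of_mem ⟨h𝒢.isOpen_range hY' hY g hg, ?_⟩
  intro W₁ X₁ j₁ j₁' f₁ hW₁ hX₁ hj₁ hr₁ sq₁
  obtain ⟨g₁, hg₁⟩ := H5_exists_factor_of_range_subset j₁ hj₁ g (by rw [hr₁])
  have hg₁𝒢 : 𝒢 g₁ := h𝒢.cancel_oi g₁ j₁ hj₁ (by rw [hg₁]; exact hg)
  have hinj : Function.Injective (Points.map j₁) :=
    H5_injective_of_repWith _ (H5_repWith_of_le (fun _ _ k hk => by
      haveI : IsOpenImmersion k := hk
      exact (inferInstance : UniversallyInjective k)) hj₁)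
  have hcov : IsCover 𝒢 (fun _ : PUnit.{u + 1} => Y') (fun _ => g₁) := by
    refine ⟨fun _ => hg₁𝒢, fun x => ⟨PUnit.unit, ?_⟩⟩
    have hx : Points.map j₁ x ∈ Set.range (Points.map g) := by rw [← hr₁]; exact ⟨x, rfl⟩
    obtain ⟨y', hy'⟩ := hx
    refine ⟨y', hinj ?_⟩
    rw [← Points.map_comp, hg₁, hy']
  have hcomm : g' ≫ f = (f' ≫ g₁) ≫ j₁ := by rw [Category.assoc, hg₁]; exact sq'.w
  have hq1 : sq₁.lift g' (f' ≫ g₁) hcomm ≫ j₁' = g' := sq₁.lift_fst _ _ _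
  have hq2 : sq₁.lift g' (f' ≫ g₁) hcomm ≫ f₁ = f' ≫ g₁ := sq₁.lift_snd _ _ _
  have big : IsPullback (sq₁.lift g' (f' ≫ g₁) hcomm ≫ j₁') f' f (g₁ ≫ j₁) := by
    rw [hq1, hg₁]; exact sq'
  have sqL : IsPullback (sq₁.lift g' (f' ≫ g₁) hcomm) f' f₁ g₁ := IsPullback.of_right big hq2 sq₁
  exact (hP _ _ hW₁ (fun _ => hY') hcov f₁ hX₁ (fun _ => X') (fun _ => f')
    (fun _ => sq₁.lift g' (f' ≫ g₁) hcomm) (fun _ => hX') (fun _ => sqL)).2 (fun _ => hf')

theorem H5_largestOpen_preimage {𝒢 P : MorphismProperty (Sp S)} (h𝒢 : H5_GoodClass 𝒢)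
    (hP : IsLocalOnBase (fun _ _ Y g => IsCover 𝒢 Y g) P) {X Y Y' X' : Sp S}
    (hX : IsAlgSpace X) (hY : IsAlgSpace Y) (hY' : IsAlgSpace Y') (hX' : IsAlgSpace X')
    (f : X ⟶ Y) (g : Y' ⟶ Y) (g' : X' ⟶ X) (f' : X' ⟶ Y') (hg : 𝒢 g)
    (sq' : IsPullback g' f' f g) (W' : Set (Points Y')) (hW'o : IsOpen W')
    (h1 : H5_HasPOver P f' W') (h2 : ∀ V', IsOpen V' → H5_HasPOver P f' V' → V' ⊆ W') :
    W' = Points.map g ⁻¹' H5_largestOpen P f := by
  apply Set.Subset.antisymm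
  · have hι := H5_repWith_isOpenImmersion_openSubι Y' hW'o
    have hW₂ := H5_isAlgSpace_openSub hY' hW'o
    have hX₂ : IsAlgSpace (pullback f' (H5_openSubι Y' W')) :=
      H5_isAlgSpace_of_isPullback Y' hY'.diag ⟨X', hX'⟩ ⟨_, hW₂⟩ f' _ _ _ _
        (IsPullback.of_hasPullback _ _)
    have hPf₂ : P (pullback.snd f' (H5_openSubι Y' W')) :=
      h1 _ _ (H5_openSubι Y' W') (pullback.fst _ _) (pullback.snd _ _) hW₂ hX₂ hι
        H5_openSub_range (IsPullback.of_hasPullback _ _)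
    have hsub := H5_range_subset_largestOpen h𝒢 hP hY hW₂ hX₂ f (H5_openSubι Y' W' ≫ g)
      (pullback.fst _ _ ≫ g') (pullback.snd _ _) (h𝒢.precomp_oi _ _ hι hg)
      ((IsPullback.of_hasPullback f' _).paste_horiz sq') hPf₂
    intro y' hy'
    have h3 : y' ∈ Set.range (Points.map (H5_openSubι Y' W')) := by
      rw [H5_openSub_range]; exact hy'
    obtain ⟨z, rfl⟩ := h3
    exact hsub ⟨z, Points.map_comp _ _ _⟩
  · refine h2 _ ((H5_isOpen_largestOpen P f).preimage (Points.continuous_map g)) ?_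
    intro W₃ X₃ j₃ j₃' f₃ hW₃ hX₃ hj₃ hr₃ sq₃
    have hWo := H5_isOpen_largestOpen P f
    have hW₀ := H5_isAlgSpace_openSub hY hWo
    have hj₀ := H5_repWith_isOpenImmersion_openSubι Y hWo
    obtain ⟨k, hk⟩ := H5_exists_lift_openSub (V := H5_largestOpen P f) (j₃ ≫ g) (by
      rintro _ ⟨z, rfl⟩
      rw [Points.map_comp]
      have h3 : Points.map j₃ z ∈ Set.range (Points.map j₃) := ⟨z, rfl⟩
      rw [hr₃] at h3
      exact h3)
    have hX₀ : IsAlgSpace (pullback f (H5_openSubι Y (H5_largestOpen P f))) :=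
      H5_isAlgSpace_of_isPullback Y hY.diag ⟨X, hX⟩ ⟨_, hW₀⟩ f _ _ _ _
        (IsPullback.of_hasPullback _ _)
    have hPf₀ : P (pullback.snd f (H5_openSubι Y (H5_largestOpen P f))) :=
      H5_hasPOver_largestOpen h𝒢 hP f _ _ _ _ _ hW₀ hX₀ hj₀ H5_openSub_range
        (IsPullback.of_hasPullback _ _)
    have hk𝒢 : 𝒢 k := h𝒢.cancel_oi k _ hj₀ (by rw [hk]; exact h𝒢.precomp_oi _ _ hj₃ hg)
    have big0 : IsPullback (j₃' ≫ g') f₃ f (j₃ ≫ g) := sq₃.paste_horiz sq'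
    have hcomm : (j₃' ≫ g') ≫ f = (f₃ ≫ k) ≫ H5_openSubι Y (H5_largestOpen P f) := by
      rw [Category.assoc f₃, hk]; exact big0.w
    have sq₀ := IsPullback.of_hasPullback f (H5_openSubι Y (H5_largestOpen P f))
    have hq1 : sq₀.lift _ _ hcomm ≫ pullback.fst _ _ = j₃' ≫ g' := sq₀.lift_fst _ _ _
    have hq2 : sq₀.lift _ _ hcomm ≫ pullback.snd _ _ = f₃ ≫ k := sq₀.lift_snd _ _ _
    have big : IsPullback (sq₀.lift _ _ hcomm ≫ pullback.fst _ _) f₃ f
        (k ≫ H5_openSubι Y (H5_largestOpen P f)) := by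
      rw [hq1, hk]; exact big0
    have sqL := IsPullback.of_right big hq2 sq₀
    exact H5_P_baseChange_of_localOnBase h𝒢 hP hX₀ hW₀ hW₃ hX₃ _ k _ f₃ sqL hk𝒢 hPf₀

/-- `f` has `P` over the open `V`, for morphisms of algebraic spaces. -/
def H5_HasPOverSpace (P : MorphismProperty (Sp S)) {X Y : Space S} (f : X ⟶ Y)
    (V : Set (Points Y.obj)) : Prop :=
  ∀ (W₁ X₁ : Space S) (j₁ : W₁ ⟶ Y) (j₁' : X₁ ⟶ X) (f₁ : X₁ ⟶ W₁),
    RepWith @IsOpenImmersion j₁.hom → Set.range (Points.map j₁.hom) = V →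
    IsPullback j₁'.hom f₁.hom f.hom j₁.hom → P f₁.hom

theorem H5_hasPOverSpace_iff (P : MorphismProperty (Sp S)) {X Y : Space S} (f : X ⟶ Y)
    (V : Set (Points Y.obj)) : H5_HasPOverSpace P f V ↔ H5_HasPOver P f.hom V := by
  constructor
  · intro h W₁ X₁ j₁ j₁' f₁ hW₁ hX₁ hj hr sq
    exact h ⟨W₁, hW₁⟩ ⟨X₁, hX₁⟩ (ObjectProperty.homMk j₁) (ObjectProperty.homMk j₁')
      (ObjectProperty.homMk f₁) hj hr sq
  · intro h W₁ X₁ j₁ j₁' f₁ hj hr sq
    exact h W₁.obj X₁.obj j₁.hom j₁'.hom f₁.hom W₁.property X₁.property hj hr sq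

theorem H5_largestOpen_main {𝒢 P : MorphismProperty (Sp S)} (h𝒢 : H5_GoodClass 𝒢)
    (hP : IsLocalOnBase (fun _ _ Y g => IsCover 𝒢 Y g) P) {X Y : Space S} (f : X ⟶ Y) :
    ∃ W : TopologicalSpace.Opens (Points Y.obj),
      H5_HasPOverSpace P f (W : Set (Points Y.obj)) ∧
      (∀ V : TopologicalSpace.Opens (Points Y.obj),
        H5_HasPOverSpace P f (V : Set (Points Y.obj)) → V ≤ W) ∧
      (∀ (Y' X' : Space S) (g : Y' ⟶ Y) (g' : X' ⟶ X) (f' : X' ⟶ Y'), 𝒢 g.hom →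
        IsPullback g'.hom f'.hom f.hom g.hom → P f'.hom →
        Set.range (Points.map g.hom) ⊆ (W : Set (Points Y.obj))) ∧
      (∀ (Y' X' : Space S) (g : Y' ⟶ Y) (g' : X' ⟶ X) (f' : X' ⟶ Y'), 𝒢 g.hom →
        IsPullback g'.hom f'.hom f.hom g.hom →
        ∀ W' : TopologicalSpace.Opens (Points Y'.obj),
          H5_HasPOverSpace P f' (W' : Set (Points Y'.obj)) →
          (∀ V' : TopologicalSpace.Opens (Points Y'.obj),
            H5_HasPOverSpace P f' (V' : Set (Points Y'.obj)) → V' ≤ W') →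
          (W' : Set (Points Y'.obj)) = Points.map g.hom ⁻¹' (W : Set (Points Y.obj))) := by
  refine ⟨⟨H5_largestOpen P f.hom, H5_isOpen_largestOpen P f.hom⟩, ?_, ?_, ?_, ?_⟩
  · exact (H5_hasPOverSpace_iff P f _).2 (H5_hasPOver_largestOpen h𝒢 hP f.hom)
  · intro V hV x hx
    have hmem : (V : Set (Points Y.obj)) ∈ {V | IsOpen V ∧ H5_HasPOver P f.hom V} :=
      ⟨V.isOpen, (H5_hasPOverSpace_iff P f _).1 hV⟩
    exact Set.subset_sUnion_of_mem hmem hx
  · intro Y' X' g g' f' hg sq hf'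
    exact H5_range_subset_largestOpen h𝒢 hP Y.property Y'.property X'.property f.hom g.hom
      g'.hom f'.hom hg sq hf'
  · intro Y' X' g g' f' hg sq W' h1 h2
    exact H5_largestOpen_preimage h𝒢 hP X.property Y.property Y'.property X'.property f.hom g.hom
      g'.hom f'.hom hg sq W' W'.isOpen ((H5_hasPOverSpace_iff P f' _).1 h1)
      (fun V' hV'o hV' => h2 ⟨V', hV'o⟩ ((H5_hasPOverSpace_iff P f' _).2 hV'))

end AlgSp
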