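import Groth.Agent.Lib.helper5.AlgSpLocP
import Groth.Agent.Lib.helper5.AlgSpProd

/-! helper5 library: separated / proper morphisms of algebraic spaces. -/

set_option autoImplicit false

universe u

open CategoryTheory CategoryTheory.Limits AlgebraicGeometry Opposite

namespace AlgSp

variable {S : Scheme.{u}}

/-- If the diagonal of `f ≫ q` has `Q`, so has the diagonal of `f`. -/
theorem H5_diagonal_of_comp (Q : MorphismProperty Scheme.{u}) [Q.IsStableUnderBaseChange]
    [Q.IsMultiplicative] {X Y B : Sp S} (f : X ⟶ Y) (q : Y ⟶ B)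
    (h : RepWith Q (pullback.diagonal (f ≫ q))) : RepWith Q (pullback.diagonal f) := by
  have e := pullback.diagonal_comp f q
  haveI : Mono ((pullbackDiagonalMapIdIso f f q).inv ≫
      pullback.snd (pullback.diagonal q)
        (pullback.map (f ≫ q) (f ≫ q) q q f f (𝟙 _) (Category.comp_id _) (Category.comp_id _))) :=
    inferInstance
  refine H5_of_postcomp (RepWith Q) (pullback.diagonal f) ((pullbackDiagonalMapIdIso f f q).inv ≫
      pullback.snd (pullback.diagonal q)
        (pullback.map (f ≫ q) (f ≫ q) q q f f (𝟙 _) (Category.comp_id _) (Category.comp_id _)))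
    (H5_repWith_of_isIso Q _) ?_
  rw [← e]
  exact h

theorem H5_isUnivClosedMor_of_comp_separated {X Y B : Sp S} (f : X ⟶ Y) (q : Y ⟶ B)
    (hX : IsAlgSpace X) (hY : IsAlgSpace Y) (hB : Representable (Limits.diag B))
    (hq : IsSeparatedMor q) (hp : IsUnivClosedMor (f ≫ q)) : IsUnivClosedMor f := by
  have h1 := H5_univSp_baseChange IsClosedMor (pullback_lift_diagonal_isPullback f q)
    (H5_isUnivClosedMor_of_repWith_isClosedImmersion _ hq)
  have h2 := H5_univSp_baseChange IsClosedMor (IsPullback.of_hasPullback (f ≫ q) q) hp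
  have hP : IsAlgSpace (pullback (f ≫ q) q) :=
    H5_isAlgSpace_of_isPullback B hB ⟨X, hX⟩ ⟨Y, hY⟩ (f ≫ q) q _ _ _ (IsPullback.of_hasPullback _ _)
  have h3 := H5_isUnivClosedMor_comp _ _ hP hY.diag h1 h2
  rwa [pullback.lift_snd] at h3

theorem H5_isProperMor_of_comp_separated {X Y B : Sp S} (f : X ⟶ Y) (q : Y ⟶ B)
    (hX : IsAlgSpace X) (hY : IsAlgSpace Y) (hB : IsAlgSpace B)
    (hq : IsSeparatedMor q) (hp : IsProperMor (f ≫ q)) : IsProperMor f := by
  obtain ⟨h1, ⟨h2, h3⟩, h4⟩ := hp
  refine ⟨H5_diagonal_of_comp @IsClosedImmersion f q h1, ⟨?_, ?_⟩,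
    H5_isUnivClosedMor_of_comp_separated f q hX hY hB.diag hq h4⟩
  · exact H5_locP_of_comp @LocallyOfFiniteType
      (fun _ _ _ u v huv => by
        haveI : LocallyOfFiniteType (u ≫ v) := huv
        exact locallyOfFiniteType_of_comp u v) hB f q h2
  · exact H5_isQuasiCompactMor_of_comp f q hX hB.diag h3
      (H5_repWith_of_le (fun _ _ g hg => by haveI : IsClosedImmersion g := hg; infer_instance) hq)

end AlgSp
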