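import Groth.Prelude.Def_AlgSp4
import Groth.Agent.Lib.helper5.AlgSpAffine

/-! helper5 library: quasi-compact morphisms of sheaves / algebraic spaces. -/

set_option autoImplicit false

universe u

open CategoryTheory CategoryTheory.Limits AlgebraicGeometry Groth

namespace Groth.Agent.Lib.helper5

open AlgSp

variable {S : Scheme.{u}}

/-- A representable quasi-compact morphism is quasi-compact in the sense of base change to quasi-compact
spaces. -/
theorem H5_isQuasiCompactMor_of_repWith {F G : Sp S} (f : F ⟶ G)
    (hf : RepWith @QuasiCompact f) : IsQuasiCompactMor f := by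
  intro Z Z' _ hZ g fst snd sq
  obtain ⟨U, p, hpe, hps, hU⟩ := hZ
  have hrep := hf.1
  have sqV : IsPullback (hrep.fst (p ≫ g)) ((yon S).map (hrep.snd (p ≫ g))) f (p ≫ g) :=
    hrep.isPullback (p ≫ g)
  have hv : QuasiCompact (hrep.snd (p ≫ g)).left := hf.2 _ _ _ sqV
  have hVc : CompactSpace (hrep.pullback (p ≫ g)).left := by
    haveI := hv
    haveI := hU
    exact QuasiCompact.compactSpace_of_compactSpace (hrep.snd (p ≫ g)).left
  have hw : hrep.fst (p ≫ g) ≫ f = ((yon S).map (hrep.snd (p ≫ g)) ≫ p) ≫ g := by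
    rw [sqV.w, Category.assoc]
  have sqℓ : IsPullback (sq.lift (hrep.fst (p ≫ g)) ((yon S).map (hrep.snd (p ≫ g)) ≫ p) hw)
      ((yon S).map (hrep.snd (p ≫ g))) snd p := by
    refine IsPullback.of_right ?_ (sq.lift_snd _ _ _) sq
    rw [sq.lift_fst]; exact sqV
  refine ⟨hrep.pullback (p ≫ g), sq.lift (hrep.fst (p ≫ g)) ((yon S).map (hrep.snd (p ≫ g)) ≫ p) hw,
    ?_, ?_, hVc⟩
  · exact MorphismProperty.of_isPullback sqℓ.flip hpe
  · exact MorphismProperty.of_isPullback sqℓ.flip hps

/-- A representable sheaf `h_T` is quasi-compact iff `T` is. -/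
theorem H5_isQuasiCompactSp_yon_iff (T : Over S) :
    IsQuasiCompactSp ((yon S).obj T) ↔ CompactSpace T.left := by
  constructor
  · rintro ⟨U, p, _, hps, hU⟩
    obtain ⟨φ, rfl⟩ := (yon S).map_surjective p
    have hs : Surjective φ.left := (repWith_yon_map_iff @Surjective φ).1 hps
    constructor
    have : (Set.univ : Set T.left) = Set.range φ.left := hs.surj.range_eq.symm
    rw [this, ← Set.image_univ]
    exact CompactSpace.isCompact_univ.image φ.left.continuous
  · intro h
    refine ⟨T, 𝟙 _, ?_, ?_, h⟩
    · rw [← (yon S).map_id, repWith_yon_map_iff]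
      change Etale (𝟙 T.left)
      infer_instance
    · rw [← (yon S).map_id, repWith_yon_map_iff]
      change Surjective (𝟙 T.left)
      infer_instance

/-- For a representable morphism, quasi-compactness in the base-change sense implies representable
quasi-compactness. -/
theorem H5_repWith_of_isQuasiCompactMor {F G : Sp S} (f : F ⟶ G)
    (hrep : Representable f) (hf : IsQuasiCompactMor f) : RepWith @QuasiCompact f := by
  refine ⟨hrep, ?_⟩
  intro T V g fst snd sq
  change QuasiCompact snd.left
  rw [quasiCompact_iff_forall_isAffineOpen]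
  intro W hW
  -- the affine open `W` as an object over `S`
  let W' : Over S := Over.mk (W.ι ≫ T.hom)
  let j : W' ⟶ T := Over.homMk W.ι rfl
  have sqV := hrep.isPullback ((yon S).map j ≫ g)
  have hc : IsQuasiCompactSp ((yon S).obj (hrep.pullback ((yon S).map j ≫ g))) := by
    refine hf (IsAlgSpace.yon_obj W') ?_ _ _ _ sqV
    rw [H5_isQuasiCompactSp_yon_iff]
    haveI : IsAffine W'.left := hW
    infer_instance
  rw [H5_isQuasiCompactSp_yon_iff] at hc
  have hw : hrep.fst ((yon S).map j ≫ g) ≫ f =
      ((yon S).map (hrep.snd ((yon S).map j ≫ g)) ≫ (yon S).map j) ≫ g := by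
    rw [sqV.w, Category.assoc]
  obtain ⟨k, hk⟩ := (yon S).map_surjective (sq.lift (hrep.fst ((yon S).map j ≫ g))
    ((yon S).map (hrep.snd ((yon S).map j ≫ g)) ≫ (yon S).map j) hw)
  have sqℓ : IsPullback ((yon S).map k)
      ((yon S).map (hrep.snd ((yon S).map j ≫ g))) ((yon S).map snd) ((yon S).map j) := by
    rw [hk]
    refine IsPullback.of_right ?_ (sq.lift_snd _ _ _) sq
    rw [sq.lift_fst]; exact sqV
  have sqO : IsPullback k (hrep.snd ((yon S).map j ≫ g)) snd j := by
    refine IsPullback.of_map (yon S) ?_ sqℓ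
    apply (yon S).map_injective
    rw [Functor.map_comp, Functor.map_comp]
    exact sqℓ.w
  have sqS : IsPullback k.left (hrep.snd ((yon S).map j ≫ g)).left snd.left W.ι :=
    sqO.map (Over.forget S)
  have hr : Set.range k.left = snd.left ⁻¹' (W : Set T.left) := by
    have e : k.left = sqS.isoPullback.hom ≫ pullback.fst snd.left W.ι := by
      rw [IsPullback.isoPullback_hom_fst]
    rw [e, Scheme.Hom.comp_base, TopCat.coe_comp, Set.range_comp,
      Set.range_eq_univ.2 (by
        intro x; exact ⟨sqS.isoPullback.inv x, by simp⟩), Set.image_univ,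
      Scheme.Pullback.range_fst, Scheme.Opens.range_ι]
  change IsCompact (snd.left ⁻¹' (W : Set T.left))
  rw [← hr, ← Set.image_univ]
  exact hc.isCompact_univ.image k.left.continuous

end Groth.Agent.Lib.helper5
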