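import Groth.Agent.Lib.helper5.AlgSpFpqcSingle
import Groth.Agent.Lib.helper5.AlgSpFpqcTrans
import Groth.Agent.Lib.helper5.AlgSpFlatSrc
import Groth.Agent.Lib.helper5.AlgSpQC
import Groth.Agent.Lib.helper5.AlgSpDecent

/-! Monomorphisms into spaces covered by the spectrum of a field. -/

universe u

open CategoryTheory Limits AlgebraicGeometry Opposite

namespace AlgSp

variable {S : Scheme.{u}}

theorem H5_locP_flat_to_field {X : Sp S} {k : Type u} [Field k]
    {str : Spec (CommRingCat.of k) ⟶ S} (g : X ⟶ (yon S).obj (Over.mk str)) : LocP @Flat g := by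
  intro U V a b h ha hb w
  obtain ⟨b', rfl⟩ := (yon S).map_surjective b
  haveI : Etale b'.left := (repWith_yon_map_iff @Etale b').1 hb
  have hfl : ∀ {E : Scheme.{u}} (e : E ⟶ Spec (CommRingCat.of k)), Flat e := fun e => inferInstance
  haveI : Flat (h.left ≫ b'.left) := hfl _
  exact H5_flat_of_comp_etale h.left b'.left

/-- A monomorphism from a nonempty algebraic space to the spectrum of a field is an isomorphism. -/
theorem H5_isIso_of_mono_to_field {W : Sp S} (hW : IsAlgSpace W) {k : Type u} [Field k]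
    {str : Spec (CommRingCat.of k) ⟶ S} (g : W ⟶ (yon S).obj (Over.mk str)) [Mono g]
    (hne : Nonempty (Points W)) : IsIso g := by
  obtain ⟨x⟩ := hne
  induction x using Points.ind with
  | h q =>
  obtain ⟨c0, hc0⟩ := (yon S).map_surjective (q.toHom ≫ g)
  have hT : IsAlgSpace ((yon S).obj (Over.mk str)) := IsAlgSpace.yon_obj _
  have hQ : IsAlgSpace ((yon S).obj q.pt) := IsAlgSpace.yon_obj _
  have hflat : LocP @Flat ((yon S).map c0) := H5_locP_flat_to_field _
  have hqc : IsQuasiCompactMor ((yon S).map c0) := by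
    apply Groth.Agent.Lib.helper5.H5_isQuasiCompactMor_of_repWith
    rw [repWith_yon_map_iff]
    have hfin : Finite ↥(Spec (CommRingCat.of q.K)) := by
      change Finite (PrimeSpectrum q.K)
      infer_instance
    exact @H5_quasiCompact_of_finite _ _ c0.left hfin
  have hsurj : IsSurjectiveMor ((yon S).map c0) := by
    change Function.Surjective (Points.map ((yon S).map c0))
    rw [H5_surjective_left_iff]
    intro y
    have hss : Subsingleton ↥(Spec (CommRingCat.of k)) := by
      change Subsingleton (PrimeSpectrum k)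
      infer_instance
    exact ⟨IsLocalRing.closedPoint q.K, hss.elim _ _⟩
  have hcov := H5_isFpqcCover_of_flat_qc_surjective hQ hT ((yon S).map c0) hqc hflat hsurj
  have sq := IsPullback.of_hasPullback g ((yon S).map c0)
  have hP : IsAlgSpace (pullback g ((yon S).map c0)) :=
    H5_isAlgSpace_of_isPullback _ hT.diag ⟨W, hW⟩ ⟨_, hQ⟩ g ((yon S).map c0) _ _ _ sq
  have hsec : pullback.lift q.toHom (𝟙 _) (by rw [Category.id_comp, hc0]) ≫
      pullback.snd g ((yon S).map c0) = 𝟙 _ := pullback.lift_snd _ _ _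
  haveI : IsSplitEpi (pullback.snd g ((yon S).map c0)) := IsSplitEpi.mk' ⟨_, hsec⟩
  haveI : IsIso (pullback.snd g ((yon S).map c0)) := isIso_of_mono_of_isSplitEpi _
  exact ((H5_isLocalOnBase_fpqc_isomorphisms (fun _ : PUnit.{u + 1} => (yon S).obj q.pt)
    (fun _ => (yon S).map c0) hT (fun _ => hQ) hcov g hW
    (fun _ => pullback g ((yon S).map c0)) (fun _ => pullback.snd _ _) (fun _ => pullback.fst _ _)
    (fun _ => hP) (fun _ => sq)).2 (fun _ => MorphismProperty.isomorphisms.infer_property _))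

theorem H5_isEmpty_or_isIso_of_mono {Z' Z : Sp S} (hZ' : IsAlgSpace Z') (hZ : IsAlgSpace Z)
    (f : Z' ⟶ Z) [Mono f] {k : Type u} [Field k] (str : Spec (CommRingCat.of k) ⟶ S)
    (p : (yon S).obj (Over.mk str) ⟶ Z) (hlfp : LocP @LocallyOfFinitePresentation p)
    (hfl : LocP @Flat p) (hs : IsSurjectiveMor p) : IsEmpty (Points Z') ∨ IsIso f := by
  by_cases hne : Nonempty (Points Z')
  · right
    obtain ⟨z'⟩ := hne
    obtain ⟨t, ht⟩ := hs (Points.map f z')
    have hT : IsAlgSpace ((yon S).obj (Over.mk str)) := IsAlgSpace.yon_obj _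
    have sq := IsPullback.of_hasPullback f p
    have hW : IsAlgSpace (pullback f p) :=
      H5_isAlgSpace_of_isPullback Z hZ.diag ⟨Z', hZ'⟩ ⟨_, hT⟩ f p _ _ _ sq
    obtain ⟨w, -, -⟩ := H5_points_pullback_surj sq z' t ht.symm
    haveI : IsIso (pullback.snd f p) := H5_isIso_of_mono_to_field hW _ ⟨w⟩
    have hcov : IsFpqcCover (fun _ : PUnit.{u + 1} => (yon S).obj (Over.mk str)) (fun _ => p) :=
      H5_isFpqcCover_of_isFppfCover hZ _ (fun _ => hT) _
        ⟨fun _ => ⟨hfl, hlfp⟩, fun x => ⟨PUnit.unit, hs x⟩⟩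
    exact ((H5_isLocalOnBase_fpqc_isomorphisms _ _ hZ (fun _ => hT) hcov f hZ'
      (fun _ => pullback f p) (fun _ => pullback.snd f p) (fun _ => pullback.fst f p)
      (fun _ => hW) (fun _ => sq)).2 (fun _ => MorphismProperty.isomorphisms.infer_property _))
  · left
    exact not_nonempty_iff.1 hne

end AlgSp
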