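import Groth.Agent.Lib.helper5.AlgSpResidual
import Groth.Agent.Lib.helper5.AlgSpFlatSource

/-! Spaces covered by the spectrum of a field: all field points are flat and surjective. -/

universe u

open CategoryTheory Limits AlgebraicGeometry Opposite

namespace AlgSp

variable {S : Scheme.{u}}

theorem H5_isFpqcCover_field_ext {K k : Type u} [Field K] [Field k]
    {strK : Spec (CommRingCat.of K) ⟶ S} {str : Spec (CommRingCat.of k) ⟶ S}
    (c0 : Over.mk strK ⟶ Over.mk str) :
    IsFpqcCover (fun _ : PUnit.{u + 1} => (yon S).obj (Over.mk strK))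
      (fun _ => (yon S).map c0) := by
  have hT : IsAlgSpace ((yon S).obj (Over.mk str)) := IsAlgSpace.yon_obj _
  have hQ : IsAlgSpace ((yon S).obj (Over.mk strK)) := IsAlgSpace.yon_obj _
  have hflat : LocP @Flat ((yon S).map c0) := H5_locP_flat_to_field _
  have hqc : IsQuasiCompactMor ((yon S).map c0) := by
    apply Groth.Agent.Lib.helper5.H5_isQuasiCompactMor_of_repWith
    rw [repWith_yon_map_iff]
    have hfin : Finite ↥(Spec (CommRingCat.of K)) := by
      change Finite (PrimeSpectrum K)
      infer_instance
    exact @H5_quasiCompact_of_finite _ _ c0.left hfin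
  have hsurj : IsSurjectiveMor ((yon S).map c0) := by
    change Function.Surjective (Points.map ((yon S).map c0))
    rw [H5_surjective_left_iff]
    intro y
    have hss : Subsingleton ↥(Spec (CommRingCat.of k)) := by
      change Subsingleton (PrimeSpectrum k)
      infer_instance
    exact ⟨IsLocalRing.closedPoint K, hss.elim _ _⟩
  exact H5_isFpqcCover_of_flat_qc_surjective hQ hT ((yon S).map c0) hqc hflat hsurj

theorem H5_subsingleton_points_field {k : Type u} [Field k] (str : Spec (CommRingCat.of k) ⟶ S) :
    Subsingleton (Points ((yon S).obj (Over.mk str))) := by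
  have hss : Subsingleton ↥(Over.mk str).left := by
    change Subsingleton (PrimeSpectrum k)
    infer_instance
  exact @Equiv.subsingleton _ _ (Points.schemeEquiv (Over.mk str)).symm hss

theorem H5_flat_surjective_fieldPt {Z : Sp S} (hZ : IsAlgSpace Z) {k : Type u} [Field k]
    (str : Spec (CommRingCat.of k) ⟶ S) (p : (yon S).obj (Over.mk str) ⟶ Z)
    (hpf : LocP @Flat p) (hps : IsSurjectiveMor p) {k' : Type u} [Field k']
    (str' : Spec (CommRingCat.of k') ⟶ S) (q : (yon S).obj (Over.mk str') ⟶ Z) :
    LocP @Flat q ∧ IsSurjectiveMor q := by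
  have hT : IsAlgSpace ((yon S).obj (Over.mk str)) := IsAlgSpace.yon_obj _
  have hT' : IsAlgSpace ((yon S).obj (Over.mk str')) := IsAlgSpace.yon_obj _
  haveI := H5_subsingleton_points_field str
  obtain ⟨t', ht'⟩ : ∃ t' : Points ((yon S).obj (Over.mk str')), t' =
      Points.ofScheme (Over.mk str') (IsLocalRing.closedPoint k') := ⟨_, rfl⟩
  obtain ⟨t, ht⟩ := hps (Points.map q t')
  constructor
  · have sq := IsPullback.of_hasPullback q p
    obtain ⟨w, -, -⟩ := H5_points_pullback_surj sq t' t ht.symm
    induction w using Points.ind with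
    | h r =>
    have hR : IsAlgSpace ((yon S).obj r.pt) := IsAlgSpace.yon_obj _
    obtain ⟨a0, ha0⟩ := (yon S).map_surjective (r.toHom ≫ pullback.fst q p)
    have hcov := H5_isFpqcCover_field_ext a0
    refine (H5_isLocalOnSource_fpqc_locP_flat _ _ hT' (fun _ => hR) hcov q hZ).2 (fun _ => ?_)
    have hab : (yon S).map a0 ≫ q = (r.toHom ≫ pullback.snd q p) ≫ p := by
      rw [ha0, Category.assoc, pullback.condition, Category.assoc]
    rw [hab]
    exact H5_locP_comp @Flat H5_etLocal_flat hZ hT _ p (H5_locP_flat_to_field _) hpf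
  · intro z
    obtain ⟨t0, ht0⟩ := hps z
    exact ⟨t', by rw [← ht0, ← ht, Subsingleton.elim t0 t]⟩

end AlgSp
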