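import Groth.Agent.Lib.helper5.AlgSpCover
import Groth.Agent.Lib.helper5.AlgSpCompact
import Groth.Agent.Lib.helper5.AlgSpQCMor
import Groth.Agent.Lib.helper5.AlgSpFib

/-! helper5 library: flat quasi-compact surjective morphisms of algebraic spaces are submersive. -/

set_option autoImplicit false

universe u

open CategoryTheory CategoryTheory.Limits AlgebraicGeometry Opposite Topology

namespace AlgSp

variable {S : Scheme.{u}}

theorem H5_isOpen_preimage_of_flat_qc_surj_affine {X Y : Sp S} (hX : IsAlgSpace X)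
    (hY : IsAlgSpace Y) (f : X ⟶ Y) (hfl : LocP @Flat f) (hqc : IsQuasiCompactMor f)
    (hs : Function.Surjective (Points.map f)) (W : Set (Points Y))
    (hW : IsOpen (Points.map f ⁻¹' W)) (T : Over S) (hT : IsAffine T.left)
    (g : (yon S).obj T ⟶ Y) : IsOpen (Points.ofPt g ⁻¹' W) := by
  have sq : IsPullback (pullback.fst f g) (pullback.snd f g) f g := IsPullback.of_hasPullback f g
  have hTalg : IsAlgSpace ((yon S).obj T) := IsAlgSpace.yon_obj T
  have hZ'q : IsQuasiCompactSp (pullback f g) :=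
    hqc hTalg (H5_isQuasiCompactSp_yon_of_isAffine T hT) g _ _ sq
  obtain ⟨V', c, hcet, hcsurj, hV'⟩ := hZ'q
  have hlocsnd : LocP @Flat (pullback.snd f g) :=
    H5_locP_baseChange @Flat H5_etLocal_flat hX hY hTalg f g _ _ sq hfl
  have hrep : RepWith @Flat (c ≫ pullback.snd f g) :=
    H5_repWith_comp_chart_of_locP @Flat hTalg _ hlocsnd c hcet
  obtain ⟨k, hk⟩ := (yon S).map_surjective (c ≫ pullback.snd f g)
  rw [← hk] at hrep
  haveI : Flat k.left := (repWith_yon_map_iff @Flat k).1 hrep
  haveI : CompactSpace V'.left := hV'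
  haveI : IsAffine T.left := hT
  haveI : QuasiCompact k.left := inferInstance
  have hksurj : Function.Surjective k.left := by
    rw [← H5_surjective_left_iff, hk]
    have : Points.map (c ≫ pullback.snd f g) = Points.map (pullback.snd f g) ∘ Points.map c :=
      funext (Points.map_comp _ _)
    rw [this]
    exact (H5_surjective_baseChange sq hs).comp (H5_surjective_of_repWith c hcsurj)
  haveI : Surjective k.left := ⟨hksurj⟩
  have hquot : IsQuotientMap k.left := Flat.isQuotientMap_of_surjective k.left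
  rw [← hquot.isOpen_preimage]
  have hset : k.left ⁻¹' (Points.ofPt g ⁻¹' W)
      = Points.ofPt (c ≫ pullback.fst f g) ⁻¹' (Points.map f ⁻¹' W) := by
    ext v
    simp only [Set.mem_preimage]
    rw [← H5_ofPt_comp k g v, hk, Points.map_ofPt]
    simp only [Category.assoc]
    rw [sq.w]
  rw [hset]
  exact Points.isOpen_iff.1 hW V' (c ≫ pullback.fst f g)

/-- A flat, quasi-compact, surjective morphism of algebraic spaces is submersive. -/
theorem H5_isQuotientMap_of_flat_qc_surj {X Y : Sp S} (hX : IsAlgSpace X) (hY : IsAlgSpace Y)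
    (f : X ⟶ Y) (hfl : LocP @Flat f) (hqc : IsQuasiCompactMor f)
    (hs : Function.Surjective (Points.map f)) : IsQuotientMap (Points.map f) := by
  refine ⟨IsCoinducing.of_isOpen_preimage_iff_isOpen fun W =>
    ⟨fun hW => ?_, fun hW => hW.preimage (Points.continuous_map f)⟩, hs⟩
  rw [Points.isOpen_iff]
  intro T g
  rw [isOpen_iff_forall_mem_open]
  intro t ht
  obtain ⟨Uo, hUaff, htU, -⟩ := exists_isAffineOpen_mem_and_subset (x := t) (U := ⊤) trivial
  have hopen' := H5_isOpen_preimage_of_flat_qc_surj_affine hX hY f hfl hqc hs W hW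
    (H5_overOpen T Uo) hUaff ((yon S).map (H5_overOpenι T Uo) ≫ g)
  refine ⟨Uo.ι '' (Points.ofPt ((yon S).map (H5_overOpenι T Uo) ≫ g) ⁻¹' W), ?_,
    Uo.ι.isOpenEmbedding.isOpenMap _ hopen', ⟨(⟨t, htU⟩ : Uo), ?_, rfl⟩⟩
  · rintro _ ⟨y, hy, rfl⟩
    rw [Set.mem_preimage, H5_ofPt_comp] at hy
    exact hy
  · rw [Set.mem_preimage, H5_ofPt_overOpenι g Uo t htU]
    exact ht

end AlgSp
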