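import Groth.Agent.Lib.helper5.AlgSpFEt7

/-! Lifting étale neighbourhoods along square-zero thickenings (via standard étale algebras). -/

universe u

open CategoryTheory CategoryTheory.Limits AlgebraicGeometry Opposite

namespace AlgSp

variable {S : Scheme.{u}}

/-- `Spec (B/IB)` is the fibre product of `Spec B` and `Spec (A/I)` over `Spec A`. -/
theorem H5_thk_isPullback {A B : Type u} [CommRing A] [CommRing B] (I : Ideal A) (φ : A →+* B) :
    IsPullback (Spec.map (CommRingCat.ofHom (Ideal.quotientMap (I.map φ) φ Ideal.le_comap_map)))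
      (Spec.map (CommRingCat.ofHom (Ideal.Quotient.mk (I.map φ))))
      (Spec.map (CommRingCat.ofHom (Ideal.Quotient.mk I))) (Spec.map (CommRingCat.ofHom φ)) := by
  have hw : CommRingCat.ofHom (Ideal.Quotient.mk I) ≫
      CommRingCat.ofHom (Ideal.quotientMap (I.map φ) φ Ideal.le_comap_map) =
      CommRingCat.ofHom φ ≫ CommRingCat.ofHom (Ideal.Quotient.mk (I.map φ)) :=
    CommRingCat.hom_ext (RingHom.ext fun a => rfl)
  have hker : ∀ s : PushoutCocone (CommRingCat.ofHom (Ideal.Quotient.mk I)) (CommRingCat.ofHom φ),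
      ∀ x ∈ I.map φ, s.inr.hom x = 0 := by
    intro s
    have hle : I.map φ ≤ RingHom.ker s.inr.hom := by
      rw [Ideal.map_le_iff_le_comap]
      intro a ha
      rw [Ideal.mem_comap, RingHom.mem_ker]
      have h1 : s.inl.hom (Ideal.Quotient.mk I a) = s.inr.hom (φ a) := congr($(s.condition) a)
      rw [← h1, Ideal.Quotient.eq_zero_iff_mem.2 ha, map_zero]
    exact fun x hx => hle hx
  refine isPullback_SpecMap_of_isPushout _ _ _ _ ⟨⟨hw⟩, ⟨PushoutCocone.IsColimit.mk hw
    (fun s => CommRingCat.ofHom (Ideal.Quotient.lift (I.map φ) s.inr.hom (hker s)))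
    (fun s => ?_) (fun s => ?_) (fun s m h1 h2 => ?_)⟩⟩
  · apply CommRingCat.hom_ext
    apply Ideal.Quotient.ringHom_ext
    apply RingHom.ext
    intro a
    exact (congr($(s.condition) a)).symm
  · apply CommRingCat.hom_ext
    apply RingHom.ext
    intro b
    rfl
  · apply CommRingCat.hom_ext
    apply Ideal.Quotient.ringHom_ext
    apply RingHom.ext
    intro b
    exact congr($h2 b)

open Polynomial in
/-- A standard étale pair over `A/I` lifts to a standard étale pair over `A`. -/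
theorem H5_exists_lift_standardEtalePair {A : Type u} [CommRing A] (I : Ideal A)
    (Pb : StandardEtalePair (A ⧸ I)) :
    ∃ (P : StandardEtalePair A) (χ : Pb.Ring ≃+* (P.Ring ⧸ I.map (algebraMap A P.Ring))),
      ∀ a : A, χ (algebraMap (A ⧸ I) Pb.Ring (Ideal.Quotient.mk I a)) =
        Ideal.Quotient.mk _ (algebraMap A P.Ring a) := by
  classical
  obtain ⟨f, hf1, -, hfm⟩ := Polynomial.lifts_and_natDegree_eq_and_monic
    (Polynomial.mem_lifts_of_surjective Ideal.Quotient.mk_surjective Pb.f) Pb.monic_f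
  obtain ⟨p₁, p₂, n, e⟩ := Pb.cond
  obtain ⟨q₁, hq₁⟩ := Polynomial.map_surjective (Ideal.Quotient.mk I)
    Ideal.Quotient.mk_surjective (p₁ * Pb.g)
  obtain ⟨q₂, hq₂⟩ := Polynomial.map_surjective (Ideal.Quotient.mk I)
    Ideal.Quotient.mk_surjective (p₂ * Pb.g)
  obtain ⟨P, hPf, hPg'⟩ : ∃ P : StandardEtalePair A, P.f = f ∧
      P.g = derivative f * q₁ + f * q₂ :=
    ⟨{ f := f, monic_f := hfm, g := derivative f * q₁ + f * q₂,
       cond := ⟨q₁, q₂, 1, (pow_one _).symm⟩ }, rfl, rfl⟩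
  have hPf1 : P.f.map (Ideal.Quotient.mk I) = Pb.f := by rw [hPf, hf1]
  have hPg : P.g.map (Ideal.Quotient.mk I) = Pb.g ^ (n + 1) := by
    rw [hPg', Polynomial.map_add, Polynomial.map_mul, Polynomial.map_mul,
      ← Polynomial.derivative_map, hf1, hq₁, hq₂, pow_succ, ← e]
    ring
  letI algA : Algebra A Pb.Ring :=
    ((algebraMap (A ⧸ I) Pb.Ring).comp (Ideal.Quotient.mk I)).toAlgebra
  haveI towA : IsScalarTower A (A ⧸ I) Pb.Ring := IsScalarTower.of_algebraMap_eq' rfl
  have hmap : P.HasMap Pb.X := by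
    refine ⟨?_, ?_⟩
    · have h2 : aeval Pb.X (P.f.map (algebraMap A (A ⧸ I))) = 0 := by
        rw [show algebraMap A (A ⧸ I) = Ideal.Quotient.mk I from rfl, hPf1]
        exact Pb.hasMap_X.1
      rwa [Polynomial.aeval_map_algebraMap] at h2
    · have h3 : aeval Pb.X (P.g.map (algebraMap A (A ⧸ I))) = (aeval Pb.X Pb.g) ^ (n + 1) := by
        rw [show algebraMap A (A ⧸ I) = Ideal.Quotient.mk I from rfl, hPg, map_pow]
      rw [Polynomial.aeval_map_algebraMap] at h3
      rw [h3]
      exact Pb.hasMap_X.2.pow _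
  obtain ⟨α, hαX⟩ : ∃ α : P.Ring →ₐ[A] Pb.Ring, α P.X = Pb.X := ⟨P.lift Pb.X hmap, P.lift_X _ _⟩
  obtain ⟨J, hJ⟩ : ∃ J : Ideal P.Ring, J = I.map (algebraMap A P.Ring) := ⟨_, rfl⟩
  letI algQ : Algebra (A ⧸ I) (P.Ring ⧸ I.map (algebraMap A P.Ring)) :=
    (Ideal.quotientMap (I.map (algebraMap A P.Ring)) (algebraMap A P.Ring)
      Ideal.le_comap_map).toAlgebra
  haveI towQ : IsScalarTower A (A ⧸ I) (P.Ring ⧸ I.map (algebraMap A P.Ring)) :=
    IsScalarTower.of_algebraMap_eq' (RingHom.ext fun a => rfl)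
  have hmk : ∀ p : A[X], aeval (Ideal.Quotient.mk (I.map (algebraMap A P.Ring)) P.X) p =
      Ideal.Quotient.mk (I.map (algebraMap A P.Ring)) (aeval P.X p) := fun p =>
    Polynomial.aeval_algHom_apply (Ideal.Quotient.mkₐ A (I.map (algebraMap A P.Ring))) P.X p
  have hmap' : Pb.HasMap (Ideal.Quotient.mk (I.map (algebraMap A P.Ring)) P.X) := by
    refine ⟨?_, ?_⟩
    · rw [← hPf1]
      change aeval _ (P.f.map (algebraMap A (A ⧸ I))) = 0
      rw [Polynomial.aeval_map_algebraMap, hmk, P.hasMap_X.1, map_zero]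
    · have h4 : (aeval (Ideal.Quotient.mk (I.map (algebraMap A P.Ring)) P.X) Pb.g) ^ (n + 1) =
          Ideal.Quotient.mk (I.map (algebraMap A P.Ring)) (aeval P.X P.g) := by
        rw [← map_pow, ← hPg]
        change aeval _ (P.g.map (algebraMap A (A ⧸ I))) = _
        rw [Polynomial.aeval_map_algebraMap, hmk]
      have h5 : IsUnit ((aeval (Ideal.Quotient.mk (I.map (algebraMap A P.Ring)) P.X) Pb.g) ^
          (n + 1)) := by
        rw [h4]
        exact P.hasMap_X.2.map _
      exact (isUnit_pow_iff (Nat.succ_ne_zero n)).1 h5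
  obtain ⟨β, hβX⟩ : ∃ β : Pb.Ring →ₐ[A ⧸ I] (P.Ring ⧸ I.map (algebraMap A P.Ring)),
      β Pb.X = Ideal.Quotient.mk _ P.X := ⟨Pb.lift _ hmap', Pb.lift_X _ _⟩
  have hαker : ∀ x ∈ I.map (algebraMap A P.Ring), α.toRingHom x = 0 := by
    have hle : I.map (algebraMap A P.Ring) ≤ RingHom.ker α.toRingHom := by
      rw [Ideal.map_le_iff_le_comap]
      intro a ha
      rw [Ideal.mem_comap, RingHom.mem_ker]
      show α (algebraMap A P.Ring a) = 0
      rw [α.commutes]
      show algebraMap (A ⧸ I) Pb.Ring (Ideal.Quotient.mk I a) = 0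
      rw [Ideal.Quotient.eq_zero_iff_mem.2 ha, map_zero]
    exact fun x hx => hle hx
  obtain ⟨αb, hαb⟩ : ∃ αb : (P.Ring ⧸ I.map (algebraMap A P.Ring)) →+* Pb.Ring,
      ∀ x, αb (Ideal.Quotient.mk _ x) = α x :=
    ⟨Ideal.Quotient.lift _ α.toRingHom hαker, fun x => rfl⟩
  have h1 : ∀ x, αb (β x) = x := by
    let γ : Pb.Ring →ₐ[A ⧸ I] Pb.Ring :=
      { toRingHom := αb.comp β.toRingHom
        commutes' := by
          intro r
          obtain ⟨a, rfl⟩ := Ideal.Quotient.mk_surjective r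
          show αb (β (algebraMap (A ⧸ I) Pb.Ring (Ideal.Quotient.mk I a))) = _
          rw [β.commutes]
          show αb (Ideal.Quotient.mk _ (algebraMap A P.Ring a)) = _
          rw [hαb, α.commutes]
          rfl }
    have hγ : γ = AlgHom.id _ _ := StandardEtalePair.hom_ext (by
      show αb (β Pb.X) = Pb.X
      rw [hβX, hαb, hαX])
    intro x
    exact congr($hγ x)
  have h2 : ∀ y, β (αb y) = y := by
    intro y
    obtain ⟨x, rfl⟩ := Ideal.Quotient.mk_surjective y
    rw [hαb]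
    have hδ : (β.restrictScalars A).comp α =
        Ideal.Quotient.mkₐ A (I.map (algebraMap A P.Ring)) := StandardEtalePair.hom_ext (by
      show β (α P.X) = Ideal.Quotient.mk _ P.X
      rw [hαX, hβX])
    exact congr($hδ x)
  refine ⟨P, { toFun := β, invFun := αb, left_inv := h1, right_inv := h2,
               map_mul' := map_mul β, map_add' := map_add β }, ?_⟩
  intro a
  show β (algebraMap (A ⧸ I) Pb.Ring (Ideal.Quotient.mk I a)) = _
  rw [β.commutes]
  rfl

end AlgSp
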