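import Groth.Agent.Lib.helper5.AlgSpTI

/-! Lifting étale neighbourhoods along square-zero thickenings, scheme level, and descent of
formal smoothness along an étale covering of the source. -/

universe u

open CategoryTheory CategoryTheory.Limits AlgebraicGeometry Opposite

namespace AlgSp

variable {S : Scheme.{u}}

/-- Affine local form: an étale `A/I`-algebra is, near a given prime, the reduction of an étale
`A`-algebra. -/
theorem H5_exists_etale_lift_affine {A : Type u} [CommRing A] (I : Ideal A) {B₀ : Type u}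
    [CommRing B₀] (ψ : (A ⧸ I) →+* B₀) (hψ : ψ.Etale) (q : PrimeSpectrum B₀) :
    ∃ (B : Type u) (_ : CommRing B) (φ : A →+* B) (θ : B₀ →+* B ⧸ I.map φ), φ.Etale ∧
      θ.comp ψ = Ideal.quotientMap (I.map φ) φ Ideal.le_comap_map ∧
      q ∈ Set.range (PrimeSpectrum.comap θ) := by
  algebraize [ψ]
  have hloc : Algebra.etaleLocus (A ⧸ I) B₀ = Set.univ :=
    Algebra.etaleLocus_eq_univ_iff_etale.2 inferInstance
  haveI : q.asIdeal.IsPrime := q.2
  haveI hq : Algebra.IsEtaleAt (A ⧸ I) q.asIdeal := by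
    have hmem : q ∈ Algebra.etaleLocus (A ⧸ I) B₀ := hloc ▸ Set.mem_univ q
    exact hmem
  obtain ⟨f, hfq, hstd⟩ := Algebra.IsEtaleAt.exists_isStandardEtale (R := A ⧸ I) q.asIdeal
  obtain ⟨Pb⟩ := hstd.nonempty_standardEtalePresentation
  obtain ⟨P, χ, hχ⟩ := H5_exists_lift_standardEtalePair I Pb.P
  obtain ⟨ρ, hρ⟩ : ∃ ρ : Localization.Away f ≃+* (P.Ring ⧸ I.map (algebraMap A P.Ring)),
      ∀ x, ρ x = χ (Pb.equivRing x) := ⟨Pb.equivRing.toRingEquiv.trans χ, fun x => rfl⟩
  refine ⟨P.Ring, inferInstance, algebraMap A P.Ring,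
    ρ.toRingHom.comp (algebraMap B₀ (Localization.Away f)), ?_, ?_, ?_⟩
  · exact RingHom.etale_algebraMap.2 inferInstance
  · apply Ideal.Quotient.ringHom_ext
    apply RingHom.ext
    intro a
    show ρ (algebraMap B₀ (Localization.Away f) (algebraMap (A ⧸ I) B₀ (Ideal.Quotient.mk I a))) =
      Ideal.Quotient.mk _ (algebraMap A P.Ring a)
    rw [hρ, ← hχ a, ← IsScalarTower.algebraMap_apply, AlgEquiv.commutes]
  · have h1 : q ∈ Set.range (PrimeSpectrum.comap (algebraMap B₀ (Localization.Away f))) := by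
      rw [PrimeSpectrum.localization_away_comap_range (Localization.Away f) f]
      exact hfq
    obtain ⟨q₁, rfl⟩ := h1
    refine ⟨PrimeSpectrum.comap ρ.symm.toRingHom q₁, ?_⟩
    have e : PrimeSpectrum.comap ρ.toRingHom (PrimeSpectrum.comap ρ.symm.toRingHom q₁) = q₁ := by
      rw [← PrimeSpectrum.comap_comp_apply]
      have e' : ρ.symm.toRingHom.comp ρ.toRingHom = RingHom.id _ :=
        RingHom.ext fun x => ρ.symm_apply_apply x
      rw [e']
      exact PrimeSpectrum.ext (Ideal.comap_id _)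
    rw [PrimeSpectrum.comap_comp_apply, e]

/-- Scheme level local form: étale neighbourhoods lift along `Spec (A/I) → Spec A`. -/
theorem H5_exists_etale_lift_local {A : Type u} [CommRing A] (I : Ideal A) {U : Scheme.{u}}
    (u : U ⟶ Spec (CommRingCat.of (A ⧸ I))) [Etale u] (x : U) :
    ∃ (B : Type u) (_ : CommRing B) (φ : A →+* B)
      (v : Spec (CommRingCat.of (B ⧸ I.map φ)) ⟶ U),
      Etale (Spec.map (CommRingCat.ofHom φ)) ∧
      v ≫ u = Spec.map (CommRingCat.ofHom (Ideal.quotientMap (I.map φ) φ Ideal.le_comap_map)) ∧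
      x ∈ Set.range v := by
  obtain ⟨W, hW, hxW, -⟩ := (TopologicalSpace.Opens.isBasis_iff_nbhd.1 U.isBasis_affineOpens)
    (show x ∈ (⊤ : U.Opens) from trivial)
  have hW' : IsAffineOpen W := hW
  obtain ⟨ψc, hψc⟩ : ∃ ψc : CommRingCat.of (A ⧸ I) ⟶ Γ(U, W), Spec.map ψc = hW'.fromSpec ≫ u :=
    ⟨Spec.preimage (hW'.fromSpec ≫ u), Spec.map_preimage _⟩
  have het : Etale (Spec.map ψc) := by
    rw [hψc]
    infer_instance
  have hψe : ψc.hom.Etale := (HasRingHomProperty.Spec_iff (P := @Etale)).1 het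
  obtain ⟨B, instB, φ, θ, hφ, hθ, hq⟩ :=
    H5_exists_etale_lift_affine I ψc.hom hψe (hW'.primeIdealOf ⟨x, hxW⟩)
  refine ⟨B, instB, φ, Spec.map (CommRingCat.ofHom θ) ≫ hW'.fromSpec,
    (HasRingHomProperty.Spec_iff (P := @Etale)).2 hφ, ?_, ?_⟩
  · rw [Category.assoc, ← hψc, ← Spec.map_comp, ← hθ]
    rfl
  · obtain ⟨z, hz⟩ := hq
    refine ⟨z, ?_⟩
    have e1 : (Spec.map (CommRingCat.ofHom θ)) z = hW'.primeIdealOf ⟨x, hxW⟩ := hz
    have e2 : (Spec.map (CommRingCat.ofHom θ) ≫ hW'.fromSpec) z =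
        hW'.fromSpec ((Spec.map (CommRingCat.ofHom θ)) z) := rfl
    rw [e2, e1]
    exact hW'.fromSpec_primeIdealOf ⟨x, hxW⟩

/-- A sieve containing a jointly surjective family of étale morphisms is covering. -/
theorem H5_mem_J_of_etale_cover {T : Over S} (R : Sieve T)
    (h : ∀ y : T.left, ∃ (W : Over S) (u : W ⟶ T), R u ∧ Etale u.left ∧ y ∈ Set.range u.left) :
    R ∈ J S T := by
  choose W u hu using h
  refine (GrothendieckTopology.mem_over_iff _ _).2 ?_
  have hcov : Presieve.ofArrows (fun y => (W y).left) (fun y => (u y).left) ∈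
      Scheme.fppfPrecoverage T.left := by
    show _ ∈ Scheme.precoverage (@Flat ⊓ @LocallyOfFinitePresentation) T.left
    rw [Scheme.ofArrows_mem_precoverage_iff]
    refine ⟨fun y => ⟨y, (hu y).2.2⟩, fun y => ?_⟩
    haveI := (hu y).2.1
    exact ⟨inferInstance, inferInstance⟩
  refine GrothendieckTopology.superset_covering _ ?_
    (Precoverage.generate_mem_toGrothendieck hcov)
  rw [Sieve.generate_le_iff]
  rintro Z f ⟨y⟩
  rw [Sieve.overEquiv_iff]
  have e : (Over.homMk (u y).left : Over.mk ((u y).left ≫ T.hom) ⟶ T) =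
      (Over.homMk (𝟙 _) (by simp) : Over.mk ((u y).left ≫ T.hom) ⟶ W y) ≫ u y :=
    Over.OverMorphism.ext (by simp)
  rw [e]
  exact R.downward_closed (hu y).1 _

/-- Formal smoothness descends along a representable étale covering of the source, for a
formally unramified morphism. -/
theorem H5_formallySmooth_of_etale_cover {F G H : Sp S} (a : F ⟶ G) (b : G ⟶ H)
    (ha : RepWith @Etale a) (ha' : RepWith @Surjective a)
    (hc : IsFormallySmoothMor (a ≫ b)) (hbu : IsFormallyUnramifiedMor b) :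
    IsFormallySmoothMor b := by
  intro sq
  obtain ⟨U, uU, tF, pbU⟩ := ha.1 sq.top
  haveI het : Etale uU.left := ha.2 sq.top tF uU pbU
  haveI hsurj : Surjective uU.left := ha'.2 sq.top tF uU pbU
  let R : Sieve sq.ptT' :=
    { arrows := fun W u => ∃ l : (yon S).obj W ⟶ G, H5_IsLiftOn b sq.j sq.top sq.bot u l
      downward_closed := by
        rintro W W' u ⟨l, hl⟩ g
        exact ⟨_, hl.res g⟩ }
  have hR : R ∈ J S sq.ptT' := by
    refine H5_mem_J_of_etale_cover R ?_
    intro y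
    obtain ⟨y₀, rfl⟩ := Groth.Agent.H1.H1_thk_surjective sq.A sq.I sq.sq_zero y
    obtain ⟨x, rfl⟩ := hsurj.surj y₀
    obtain ⟨B, instB, φ, v₀, hφ, hv₀, hx⟩ := H5_exists_etale_lift_local sq.I uU.left x
    have hvw : v₀ ≫ U.hom = (H5_resT sq φ).hom := by
      rw [← Over.w uU, ← Category.assoc, hv₀]
      exact Over.w (H5_resq sq φ)
    obtain ⟨v, hv⟩ : ∃ v : H5_resT sq φ ⟶ U, v.left = v₀ := ⟨Over.homMk v₀ hvw, rfl⟩
    have hvu : v ≫ uU = H5_resq sq φ := Over.OverMorphism.ext (by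
      show v.left ≫ uU.left = _
      rw [hv]
      exact hv₀)
    have hcomm : ((yon S).map v ≫ tF) ≫ a ≫ b =
        (yon S).map (H5_resj sq φ) ≫ (yon S).map (H5_resr sq φ) ≫ sq.bot := by
      calc ((yon S).map v ≫ tF) ≫ a ≫ b = (yon S).map v ≫ (tF ≫ a) ≫ b := by
            simp only [Category.assoc]
        _ = (yon S).map v ≫ ((yon S).map uU ≫ sq.top) ≫ b := by rw [pbU.w]
        _ = (yon S).map (v ≫ uU) ≫ sq.top ≫ b := by
            rw [CategoryTheory.Functor.map_comp]
            simp only [Category.assoc]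
        _ = (yon S).map (H5_resq sq φ) ≫ (yon S).map sq.j ≫ sq.bot := by rw [hvu, sq.comm]
        _ = (yon S).map (H5_resq sq φ ≫ sq.j) ≫ sq.bot := by
            rw [CategoryTheory.Functor.map_comp, Category.assoc]
        _ = (yon S).map (H5_resj sq φ ≫ H5_resr sq φ) ≫ sq.bot := by rw [H5_res_w]
        _ = (yon S).map (H5_resj sq φ) ≫ (yon S).map (H5_resr sq φ) ≫ sq.bot := by
            rw [CategoryTheory.Functor.map_comp, Category.assoc]
    obtain ⟨L, hL1, hL2⟩ := hc (H5_InfSq_change (H5_InfSq_res sq φ) (a ≫ b)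
      ((yon S).map v ≫ tF) ((yon S).map (H5_resr sq φ) ≫ sq.bot) hcomm)
    have hL1' : (yon S).map (H5_resj sq φ) ≫ L = (yon S).map v ≫ tF := hL1
    have hL2' : L ≫ a ≫ b = (yon S).map (H5_resr sq φ) ≫ sq.bot := hL2
    refine ⟨H5_resT' sq φ, H5_resr sq φ, ⟨L ≫ a, ?_, ?_⟩, hφ, ?_⟩
    · rw [Category.assoc]
      exact hL2'
    · intro W₀ c₀ d hcd
      have hcd' : d.left ≫ Spec.map (CommRingCat.ofHom (Ideal.Quotient.mk sq.I)) =
          c₀.left ≫ Spec.map (CommRingCat.ofHom φ) := (congrArg CommaMorphism.left hcd).symm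
      have pbS := H5_thk_isPullback sq.I φ
      obtain ⟨m₀, hm1, hm2⟩ : ∃ m₀ : W₀.left ⟶ Spec (CommRingCat.of (B ⧸ sq.I.map φ)),
          m₀ ≫ Spec.map (CommRingCat.ofHom
            (Ideal.quotientMap (sq.I.map φ) φ Ideal.le_comap_map)) = d.left ∧
          m₀ ≫ Spec.map (CommRingCat.ofHom (Ideal.Quotient.mk (sq.I.map φ))) = c₀.left :=
        ⟨pbS.lift d.left c₀.left hcd', pbS.lift_fst _ _ _, pbS.lift_snd _ _ _⟩
      have hmw : m₀ ≫ (H5_resT sq φ).hom = W₀.hom := by
        show m₀ ≫ Spec.map _ ≫ Spec.map _ ≫ sq.str = W₀.hom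
        rw [← Category.assoc, hm2]
        exact Over.w c₀
      obtain ⟨m, hm⟩ : ∃ m : W₀ ⟶ H5_resT sq φ, m.left = m₀ := ⟨Over.homMk m₀ hmw, rfl⟩
      have hmj : m ≫ H5_resj sq φ = c₀ := Over.OverMorphism.ext (by
        show m.left ≫ _ = _
        rw [hm]
        exact hm2)
      have hmq : m ≫ H5_resq sq φ = d := Over.OverMorphism.ext (by
        show m.left ≫ _ = _
        rw [hm]
        exact hm1)
      calc (yon S).map c₀ ≫ L ≫ a
          = (yon S).map m ≫ ((yon S).map (H5_resj sq φ) ≫ L) ≫ a := by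
            rw [← hmj, CategoryTheory.Functor.map_comp]
            simp only [Category.assoc]
        _ = (yon S).map m ≫ (yon S).map v ≫ tF ≫ a := by
            rw [hL1']
            simp only [Category.assoc]
        _ = (yon S).map m ≫ (yon S).map v ≫ (yon S).map uU ≫ sq.top := by rw [pbU.w]
        _ = (yon S).map (m ≫ v ≫ uU) ≫ sq.top := by
            simp only [CategoryTheory.Functor.map_comp, Category.assoc]
        _ = (yon S).map d ≫ sq.top := by rw [hvu, hmq]
    · obtain ⟨z, hz⟩ := hx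
      refine ⟨(Spec.map (CommRingCat.ofHom (Ideal.Quotient.mk (sq.I.map φ)))) z, ?_⟩
      have e1 := congrArg (fun m : Spec (CommRingCat.of (B ⧸ sq.I.map φ)) ⟶
        Spec (CommRingCat.of sq.A) => m z) (H5_thk_square sq.I φ)
      have e2 := congrArg (fun m : Spec (CommRingCat.of (B ⧸ sq.I.map φ)) ⟶
        Spec (CommRingCat.of (sq.A ⧸ sq.I)) => m z) hv₀
      have e3 : (Spec.map (CommRingCat.ofHom
          (Ideal.quotientMap (sq.I.map φ) φ Ideal.le_comap_map))) z = uU.left x := by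
        rw [← hz]
        exact e2.symm
      show (Spec.map (CommRingCat.ofHom φ))
        ((Spec.map (CommRingCat.ofHom (Ideal.Quotient.mk (sq.I.map φ)))) z) = _
      rw [← e3]
      exact e1
  obtain ⟨l, hl⟩ : ∃ l : (yon S).obj sq.ptT' ⟶ G, ∀ ⦃W : Over S⦄ (u : W ⟶ sq.ptT'), R u →
      H5_IsLiftOn b sq.j sq.top sq.bot u ((yon S).map u ≫ l) := by
    refine H5_glue_of_pred (X := G) hR (fun W u l => H5_IsLiftOn b sq.j sq.top sq.bot u l)
      (fun W u hu => hu) ?_ ?_
    · intro W u l l' h h'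
      exact H5_unram_hom_ext hbu sq u l l' h.1 h'.1 h.2 h'.2
    · intro W W' u g l h
      exact h.res g
  exact ⟨l, H5_IsLiftOn.of_sieve hR l hl⟩

end AlgSp
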