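import Groth.Agent.Lib.helper5.AlgSpTI2

/-! Formally étale morphisms: descent along étale coverings of the source and scheme-level
bridging. -/

universe u

open CategoryTheory CategoryTheory.Limits AlgebraicGeometry Opposite

namespace AlgSp

variable {S : Scheme.{u}}

theorem H5_formallyEtale_comp {F G H : Sp S} (a : F ⟶ G) (b : G ⟶ H)
    (ha : IsFormallyEtaleMor a) (hb : IsFormallyEtaleMor b) : IsFormallyEtaleMor (a ≫ b) := by
  have ha' := (H5_isFormallyEtaleMor_iff a).1 ha
  have hb' := (H5_isFormallyEtaleMor_iff b).1 hb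
  exact (H5_isFormallyEtaleMor_iff _).2
    ⟨H5_formallySmooth_comp a b ha'.1 hb'.1, H5_formallyUnramified_comp a b ha'.2 hb'.2⟩

/-- Formal étaleness descends along a representable étale covering of the source. -/
theorem H5_formallyEtale_of_etale_cover {F G H : Sp S} (a : F ⟶ G) (b : G ⟶ H)
    (ha : RepWith @Etale a) (ha' : RepWith @Surjective a)
    (hab : IsFormallyEtaleMor (a ≫ b)) : IsFormallyEtaleMor b := by
  have hae' := (H5_isFormallyEtaleMor_iff a).1 (H5_isFormallyEtaleMor_of_repWith_etale a ha)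
  haveI : Sheaf.IsLocallySurjective a := H5_isLocallySurjective_of_etale a ha ha'
  have hab' := (H5_isFormallyEtaleMor_iff _).1 hab
  have hbu : IsFormallyUnramifiedMor b :=
    H5_formallyUnramified_of_locSurj_smooth a b hae'.1 hab'.2
  exact (H5_isFormallyEtaleMor_iff b).2
    ⟨H5_formallySmooth_of_etale_cover a b ha ha' hab'.1 hbu, hbu⟩

/-- A formally étale (lifting sense) morphism of schemes gives a formally étale map of
sheaves. -/
theorem H5_isFormallyEtaleMor_yon_map_of_hom {U V : Over S} (g : U ⟶ V)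
    (hg : MoreMor.IsFormallyEtaleHom g.left) : IsFormallyEtaleMor ((yon S).map g) := by
  have hs : MoreMor.IsFormallySmoothHom g.left := fun A _ I hI a b w => (hg A I hI a b w).exists
  refine (H5_isFormallyEtaleMor_iff _).2 ⟨(H5_isFormallySmoothMor_yon_map_iff g).2 hs, ?_⟩
  intro sq l l' h1 h2 h3 h4
  obtain ⟨t₀, ht₀⟩ := (yon S).map_surjective sq.top
  obtain ⟨b₀, hb₀⟩ := (yon S).map_surjective sq.bot
  obtain ⟨l₀, rfl⟩ := (yon S).map_surjective l
  obtain ⟨l₀', rfl⟩ := (yon S).map_surjective l'
  have hc : t₀ ≫ g = sq.j ≫ b₀ := by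
    apply (yon S).map_injective
    rw [CategoryTheory.Functor.map_comp, CategoryTheory.Functor.map_comp, ht₀, hb₀]
    exact sq.comm
  have w : Spec.map (CommRingCat.ofHom (Ideal.Quotient.mk sq.I)) ≫ b₀.left =
      t₀.left ≫ g.left := (congrArg CommaMorphism.left hc).symm
  obtain ⟨m, -, hm⟩ := hg sq.A sq.I sq.sq_zero t₀.left b₀.left w
  have e1 : sq.j ≫ l₀ = t₀ := (yon S).map_injective (by
    rw [CategoryTheory.Functor.map_comp, ht₀]
    exact h1)
  have e2 : l₀ ≫ g = b₀ := (yon S).map_injective (by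
    rw [CategoryTheory.Functor.map_comp, hb₀]
    exact h2)
  have e3 : sq.j ≫ l₀' = t₀ := (yon S).map_injective (by
    rw [CategoryTheory.Functor.map_comp, ht₀]
    exact h3)
  have e4 : l₀' ≫ g = b₀ := (yon S).map_injective (by
    rw [CategoryTheory.Functor.map_comp, hb₀]
    exact h4)
  have k1 : l₀.left = m :=
    hm _ ⟨congrArg CommaMorphism.left e1, congrArg CommaMorphism.left e2⟩
  have k2 : l₀'.left = m :=
    hm _ ⟨congrArg CommaMorphism.left e3, congrArg CommaMorphism.left e4⟩
  exact congrArg (yon S).map (Over.OverMorphism.ext (k1.trans k2.symm))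

/-- One pair of surjective étale charts with formally étale chart morphism suffices. -/
theorem H5_formallyEtale_of_one_chart {X Y : Sp S} (f : X ⟶ Y) {U V : Over S}
    (a : (yon S).obj U ⟶ X) (b : (yon S).obj V ⟶ Y) (h : U ⟶ V)
    (ha : RepWith @Etale a) (has : RepWith @Surjective a) (hb : RepWith @Etale b)
    (w : a ≫ f = (yon S).map h ≫ b) (hh : MoreMor.IsFormallyEtaleHom h.left) :
    IsFormallyEtaleMor f := by
  have h1 : IsFormallyEtaleMor ((yon S).map h) := H5_isFormallyEtaleMor_yon_map_of_hom h hh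
  have h2 : IsFormallyEtaleMor b := H5_isFormallyEtaleMor_of_repWith_etale b hb
  have h3 : IsFormallyEtaleMor (a ≫ f) := by
    rw [w]
    exact H5_formallyEtale_comp _ _ h1 h2
  exact H5_formallyEtale_of_etale_cover a f ha has h3

/-- Formally étale morphisms have formally étale chart morphisms. -/
theorem H5_locP_formallyEtaleHom_of_formallyEtale {X Y : Sp S} (f : X ⟶ Y)
    (hf : IsFormallyEtaleMor f) : LocP @MoreMor.IsFormallyEtaleHom f := by
  intro U V a b h ha hb w
  have hf' := (H5_isFormallyEtaleMor_iff f).1 hf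
  have ha' := (H5_isFormallyEtaleMor_iff a).1 (H5_isFormallyEtaleMor_of_repWith_etale a ha)
  have hb' := (H5_isFormallyEtaleMor_iff b).1 (H5_isFormallyEtaleMor_of_repWith_etale b hb)
  refine H5_isFormallyEtaleHom_of_yon_map h ((H5_isFormallyEtaleMor_iff _).2 ⟨?_, ?_⟩)
  · exact H5_formallySmooth_of_charts a b ((yon S).map h) f w
      (H5_isFormallyEtaleMor_of_repWith_etale a ha) hb'.2 hf'.1
  · exact H5_formallyUnramified_of_charts a b ((yon S).map h) f w ha'.2 hf'.2

end AlgSp
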