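import Groth.Agent.Lib.helper5.AlgSpTI3

/-! Étale local existence of lifts when the composite with an étale covering is formally
smooth. -/

universe u

open CategoryTheory CategoryTheory.Limits AlgebraicGeometry Opposite

namespace AlgSp

variable {S : Scheme.{u}}

theorem H5_exists_etale_local_lift {F G H : Sp S} (a : F ⟶ G) (b : G ⟶ H)
    (ha : RepWith @Etale a) (ha' : RepWith @Surjective a)
    (hc : IsFormallySmoothMor (a ≫ b)) (sq : InfSq b) (y : sq.ptT'.left) :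
    ∃ (B : Type u) (_ : CommRing B) (φ : sq.A →+* B) (l : (yon S).obj (H5_resT' sq φ) ⟶ G),
      Etale (Spec.map (CommRingCat.ofHom φ)) ∧
      l ≫ b = (yon S).map (H5_resr sq φ) ≫ sq.bot ∧
      (∀ (W₀ : Over S) (c₀ : W₀ ⟶ H5_resT' sq φ) (d : W₀ ⟶ sq.ptT),
        c₀ ≫ H5_resr sq φ = d ≫ sq.j → (yon S).map c₀ ≫ l = (yon S).map d ≫ sq.top) ∧
      y ∈ Set.range (Spec.map (CommRingCat.ofHom φ)) := by
  obtain ⟨U, uU, tF, pbU⟩ := ha.1 sq.top
  haveI het : Etale uU.left := ha.2 sq.top tF uU pbU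
  haveI hsurj : Surjective uU.left := ha'.2 sq.top tF uU pbU
  obtain ⟨y₀, rfl⟩ := Groth.Agent.H1.H1_thk_surjective sq.A sq.I sq.sq_zero y
  obtain ⟨x, rfl⟩ := hsurj.surj y₀
  obtain ⟨B, instB, φ, v₀, hφ, hv₀, hx⟩ := H5_exists_etale_lift_local sq.I uU.left x
  have hvw : v₀ ≫ U.hom = (H5_resT sq φ).hom := by
    rw [← Over.w uU, ← Category.assoc, hv₀]
    exact Over.w (H5_resq sq φ)
  obtain ⟨v, hv⟩ : ∃ v : H5_resT sq φ ⟶ U, v.left = v₀ := ⟨Over.homMk v₀ hvw, rfl⟩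
  have hvu : v ≫ uU = H5_resq sq φ := Over.OverMorphism.ext (by
    show v.left ≫ uU.left = _
    rw [hv]
    exact hv₀)
  have hcomm : ((yon S).map v ≫ tF) ≫ a ≫ b =
      (yon S).map (H5_resj sq φ) ≫ (yon S).map (H5_resr sq φ) ≫ sq.bot := by
    calc ((yon S).map v ≫ tF) ≫ a ≫ b = (yon S).map v ≫ (tF ≫ a) ≫ b := by
          simp only [Category.assoc]
      _ = (yon S).map v ≫ ((yon S).map uU ≫ sq.top) ≫ b := by rw [pbU.w]
      _ = (yon S).map (v ≫ uU) ≫ sq.top ≫ b := by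
          rw [CategoryTheory.Functor.map_comp]
          simp only [Category.assoc]
      _ = (yon S).map (H5_resq sq φ) ≫ (yon S).map sq.j ≫ sq.bot := by rw [hvu, sq.comm]
      _ = (yon S).map (H5_resq sq φ ≫ sq.j) ≫ sq.bot := by
          rw [CategoryTheory.Functor.map_comp, Category.assoc]
      _ = (yon S).map (H5_resj sq φ ≫ H5_resr sq φ) ≫ sq.bot := by rw [H5_res_w]
      _ = (yon S).map (H5_resj sq φ) ≫ (yon S).map (H5_resr sq φ) ≫ sq.bot := by
          rw [CategoryTheory.Functor.map_comp, Category.assoc]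
  obtain ⟨L, hL1, hL2⟩ := hc (H5_InfSq_change (H5_InfSq_res sq φ) (a ≫ b)
    ((yon S).map v ≫ tF) ((yon S).map (H5_resr sq φ) ≫ sq.bot) hcomm)
  have hL1' : (yon S).map (H5_resj sq φ) ≫ L = (yon S).map v ≫ tF := hL1
  have hL2' : L ≫ a ≫ b = (yon S).map (H5_resr sq φ) ≫ sq.bot := hL2
  refine ⟨B, instB, φ, L ≫ a, hφ, ?_, ?_, ?_⟩
  · rw [Category.assoc]
    exact hL2'
  · intro W₀ c₀ d hcd
    have hcd' : d.left ≫ Spec.map (CommRingCat.ofHom (Ideal.Quotient.mk sq.I)) =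
        c₀.left ≫ Spec.map (CommRingCat.ofHom φ) := (congrArg CommaMorphism.left hcd).symm
    have pbS := H5_thk_isPullback sq.I φ
    obtain ⟨m₀, hm1, hm2⟩ : ∃ m₀ : W₀.left ⟶ Spec (CommRingCat.of (B ⧸ sq.I.map φ)),
        m₀ ≫ Spec.map (CommRingCat.ofHom
          (Ideal.quotientMap (sq.I.map φ) φ Ideal.le_comap_map)) = d.left ∧
        m₀ ≫ Spec.map (CommRingCat.ofHom (Ideal.Quotient.mk (sq.I.map φ))) = c₀.left :=
      ⟨pbS.lift d.left c₀.left hcd', pbS.lift_fst _ _ _, pbS.lift_snd _ _ _⟩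
    have hmw : m₀ ≫ (H5_resT sq φ).hom = W₀.hom := by
      show m₀ ≫ Spec.map _ ≫ Spec.map _ ≫ sq.str = W₀.hom
      rw [← Category.assoc, hm2]
      exact Over.w c₀
    obtain ⟨m, hm⟩ : ∃ m : W₀ ⟶ H5_resT sq φ, m.left = m₀ := ⟨Over.homMk m₀ hmw, rfl⟩
    have hmj : m ≫ H5_resj sq φ = c₀ := Over.OverMorphism.ext (by
      show m.left ≫ _ = _
      rw [hm]
      exact hm2)
    have hmq : m ≫ H5_resq sq φ = d := Over.OverMorphism.ext (by
      show m.left ≫ _ = _
      rw [hm]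
      exact hm1)
    calc (yon S).map c₀ ≫ L ≫ a
        = (yon S).map m ≫ ((yon S).map (H5_resj sq φ) ≫ L) ≫ a := by
          rw [← hmj, CategoryTheory.Functor.map_comp]
          simp only [Category.assoc]
      _ = (yon S).map m ≫ (yon S).map v ≫ tF ≫ a := by
          rw [hL1']
          simp only [Category.assoc]
      _ = (yon S).map m ≫ (yon S).map v ≫ (yon S).map uU ≫ sq.top := by rw [pbU.w]
      _ = (yon S).map (m ≫ v ≫ uU) ≫ sq.top := by
          simp only [CategoryTheory.Functor.map_comp, Category.assoc]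
      _ = (yon S).map d ≫ sq.top := by rw [hvu, hmq]
  · obtain ⟨z, hz⟩ := hx
    refine ⟨(Spec.map (CommRingCat.ofHom (Ideal.Quotient.mk (sq.I.map φ)))) z, ?_⟩
    have e1 := congrArg (fun m : Spec (CommRingCat.of (B ⧸ sq.I.map φ)) ⟶
      Spec (CommRingCat.of sq.A) => m z) (H5_thk_square sq.I φ)
    have e2 := congrArg (fun m : Spec (CommRingCat.of (B ⧸ sq.I.map φ)) ⟶
      Spec (CommRingCat.of (sq.A ⧸ sq.I)) => m z) hv₀
    have e3 : (Spec.map (CommRingCat.ofHom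
        (Ideal.quotientMap (sq.I.map φ) φ Ideal.le_comap_map))) z = uU.left x := by
      rw [← hz]
      exact e2.symm
    show (Spec.map (CommRingCat.ofHom φ))
      ((Spec.map (CommRingCat.ofHom (Ideal.Quotient.mk (sq.I.map φ)))) z) = _
    rw [← e3]
    exact e1

end AlgSp
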