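import Groth.Agent.Lib.helper5.AlgSpTI4
import Groth.Agent.Lib.helper5.AlgSpFEt7
import Groth.Agent.Lib.helper5.AlgSpPoints

/-! Étale-local lifting of étale maps along affine first order thickenings (scheme and `Over S`
forms), étale-local chart lifts, and gluing of étale-local relative lifts. -/

universe u

open CategoryTheory CategoryTheory.Limits AlgebraicGeometry Opposite

namespace AlgSp

variable {S : Scheme.{u}}

/-- Scheme-level: étale-local lifting of étale maps along an affine first order thickening. -/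
theorem H5_exists_etale_lift_scheme {Z₀ Z : Scheme.{u}} (i : Z₀ ⟶ Z) [IsAffine Z]
    [IsClosedImmersion i] (hker : i.ker * i.ker = ⊥) {V : Scheme.{u}} (u : V ⟶ Z₀) [Etale u]
    (x : V) :
    ∃ (W W₀ : Scheme.{u}) (w : W ⟶ Z) (iW : W₀ ⟶ W) (v : W₀ ⟶ V),
      Etale w ∧ IsAffine W ∧ IsPullback iW (v ≫ u) w i ∧ x ∈ Set.range v := by
  obtain ⟨A, _, I, hI, e, τ₀, hτiso, hτ₀⟩ := H5_exists_spec_presentation' i hker
  haveI := hτiso
  haveI : Etale (u ≫ inv τ₀) := inferInstance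
  obtain ⟨B, _, φ, v, hφ, hv, hx⟩ := H5_exists_etale_lift_local I (u ≫ inv τ₀) x
  haveI := hφ
  refine ⟨Spec (CommRingCat.of B), Spec (CommRingCat.of (B ⧸ I.map φ)),
    Spec.map (CommRingCat.ofHom φ) ≫ e.hom,
    Spec.map (CommRingCat.ofHom (Ideal.Quotient.mk (I.map φ))), v, inferInstance, inferInstance,
    ?_, hx⟩
  have hv' : v ≫ u = Spec.map (CommRingCat.ofHom
      (Ideal.quotientMap (I.map φ) φ Ideal.le_comap_map)) ≫ τ₀ := by
    rw [← hv, Category.assoc, Category.assoc, IsIso.inv_hom_id, Category.comp_id]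
  rw [hv']
  refine (H5_thk_isPullback I φ).flip.of_iso (Iso.refl _) (Iso.refl _) (asIso τ₀) e ?_ ?_ ?_ ?_
  · simp
  · simp
  · simp
  · simpa using hτ₀.symm

/-- `Over S` form of `H5_exists_etale_lift_scheme`. -/
theorem H5_exists_etale_lift_over {T₀ T₁ : Over S} (i : T₀ ⟶ T₁) (hT : IsAffine T₁.left)
    (hi : IsFOThickMor ((yon S).map i)) {V : Over S} (u : V ⟶ T₀) (hu : Etale u.left)
    (x : V.left) :
    ∃ (W W₀ : Over S) (w : W ⟶ T₁) (iW : W₀ ⟶ W) (v : W₀ ⟶ V),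
      Etale w.left ∧ IsPullback iW (v ≫ u) w i ∧ x ∈ Set.range v.left := by
  haveI := hT
  haveI := hu
  obtain ⟨⟨hci, hsurj⟩, hker⟩ := isFirstOrderThickening_of_isFOThickMor_yon_map hT hi
  haveI := hci
  obtain ⟨W, W₀, w, iW, v, hw, -, pb, hx⟩ := H5_exists_etale_lift_scheme i.left hker u.left x
  have hvw : v ≫ V.hom = iW ≫ w ≫ T₁.hom := by
    have h1 : u.left ≫ T₀.hom = V.hom := Over.w u
    have h2 : i.left ≫ T₁.hom = T₀.hom := Over.w i
    calc v ≫ V.hom = v ≫ u.left ≫ i.left ≫ T₁.hom := by rw [h2, h1]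
      _ = ((v ≫ u.left) ≫ i.left) ≫ T₁.hom := by simp only [Category.assoc]
      _ = (iW ≫ w) ≫ T₁.hom := by rw [pb.w]
      _ = iW ≫ w ≫ T₁.hom := Category.assoc _ _ _
  refine ⟨Over.mk (w ≫ T₁.hom), Over.mk (iW ≫ w ≫ T₁.hom), Over.homMk w rfl, Over.homMk iW rfl,
    Over.homMk v hvw, hw, ?_, hx⟩
  exact H5_over_isPullback_of_left pb

/-- Étale-local lifting of a map from the thin part of an affine first order thickening to an
étale surjective chart of the target, extended over the thickening. -/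
theorem H5_exists_local_chart_lift {Y : Sp S} {U : Over S} (ψ : (yon S).obj U ⟶ Y)
    (hψ : RepWith @Etale ψ) (hψs : RepWith @Surjective ψ) {T₀ T₁ : Over S} (i : T₀ ⟶ T₁)
    (hT : IsAffine T₁.left) (hi : IsFOThickMor ((yon S).map i)) (a : (yon S).obj T₀ ⟶ Y)
    (y : T₁.left) :
    ∃ (W W₀ : Over S) (w : W ⟶ T₁) (iW : W₀ ⟶ W) (d₀ : W₀ ⟶ T₀)
      (aU : (yon S).obj W₀ ⟶ (yon S).obj U),
      Etale w.left ∧ y ∈ Set.range w.left ∧ IsPullback iW d₀ w i ∧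
        aU ≫ ψ = (yon S).map d₀ ≫ a := by
  obtain ⟨V, uV, tV, pbV⟩ := hψ.1 a
  have het : Etale uV.left := hψ.2 a tV uV pbV
  have hsu : Surjective uV.left := hψs.2 a tV uV pbV
  have hth : thick i.left := (isThickMor_yon_map_iff i).1 hi.1
  obtain ⟨y₀, rfl⟩ := hth.2.surj y
  obtain ⟨x, rfl⟩ := hsu.surj y₀
  obtain ⟨W, W₀, w, iW, v, hw, pb, z, hz⟩ := H5_exists_etale_lift_over i hT hi uV het x
  refine ⟨W, W₀, w, iW, v ≫ uV, (yon S).map v ≫ tV, hw, ⟨iW.left z, ?_⟩, pb, ?_⟩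
  · have e : (iW ≫ w).left z = ((v ≫ uV) ≫ i).left z := by rw [pb.w]
    show w.left (iW.left z) = i.left (uV.left x)
    rw [← hz]
    exact e
  · rw [Category.assoc, pbV.w, CategoryTheory.Functor.map_comp, Category.assoc]

/-- Gluing étale-local relative lifts along a first order thickening of schemes. -/
theorem H5_rel_lift_of_local {X Y : Sp S} (f : X ⟶ Y)
    (Adm : ∀ (T : Sp S), (T ⟶ X) → Prop) (hc : H5_AdmComp Adm) (hU : H5_AffUniq f Adm)
    {V₀ V : Over S} (i : V₀ ⟶ V) (hi : IsFOThickMor ((yon S).map i))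
    (a₀ : (yon S).obj V₀ ⟶ X) (ha₀ : Adm _ a₀) (b₀ : (yon S).obj V ⟶ Y)
    (hloc : ∀ y : V.left, ∃ (Z : Over S) (b : Z ⟶ V) (lZ : (yon S).obj Z ⟶ X),
      Etale b.left ∧ y ∈ Set.range b.left ∧ H5_IsLiftOn f i a₀ b₀ b lZ) :
    ∃ l : (yon S).obj V ⟶ X, (yon S).map i ≫ l = a₀ ∧ l ≫ f = b₀ := by
  let R : Sieve V :=
    { arrows := fun W u => ∃ l, H5_IsLiftVia f i a₀ b₀ W u l
      downward_closed := by
        rintro W W' u ⟨l, Z, a, b, lZ, hb, hab, hlZ, rfl⟩ g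
        exact ⟨(yon S).map g ≫ (yon S).map a ≫ lZ, Z, g ≫ a, b, lZ, hb,
          by rw [Category.assoc, hab], hlZ,
          by rw [CategoryTheory.Functor.map_comp, Category.assoc]⟩ }
  have hR : R ∈ J S V := by
    refine H5_mem_J_of_etale_cover R ?_
    intro y
    obtain ⟨Z, b, lZ, hb, hy, hl⟩ := hloc y
    exact ⟨Z, b, ⟨lZ, Z, 𝟙 _, b, lZ, hb, Category.id_comp _, hl,
      by rw [CategoryTheory.Functor.map_id, Category.id_comp]⟩, hb, hy⟩
  obtain ⟨l, hl⟩ : ∃ l : (yon S).obj V ⟶ X, ∀ ⦃W : Over S⦄ (u : W ⟶ V),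
      R u → H5_IsLiftVia f i a₀ b₀ W u ((yon S).map u ≫ l) := by
    refine H5_glue_of_pred (X := X) hR (H5_IsLiftVia f i a₀ b₀) ?_ ?_ ?_
    · rintro W u ⟨l, hl⟩
      exact ⟨l, hl⟩
    · rintro W u l l' ⟨Z, a, b, lZ, hb, hab, hlZ, rfl⟩ ⟨Z', a', b', lZ', hb', hab', hlZ', rfl⟩
      exact H5_IsLiftOn.rel_compat Adm hc hU hi ha₀ hb hb' hlZ hlZ' a a' (hab.trans hab'.symm)
    · rintro W W' u g l ⟨Z, a, b, lZ, hb, hab, hlZ, rfl⟩
      exact ⟨Z, g ≫ a, b, lZ, hb, by rw [Category.assoc, hab], hlZ,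
        by rw [CategoryTheory.Functor.map_comp, Category.assoc]⟩
  refine H5_IsLiftOn.of_sieve hR l ?_ |>.imp_left id |> fun h => ⟨l, h⟩
  intro W u hu
  obtain ⟨Z, a, b, lZ, hb, hab, hlZ, hl2⟩ := hl u hu
  rw [hl2, ← hab]
  exact hlZ.res a

end AlgSp
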