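import Groth.Agent.Lib.helper5.AlgSpPoints
import Groth.Agent.Lib.helper5.AlgSpUniv
import Groth.Agent.Lib.helper5.AlgSpCompact
import Groth.Agent.Lib.helper5.AlgSpFib
import Groth.Agent.Lib.helper5.AlgSpProd
import Groth.Agent.Lib.helper5.AlgSpLocal
import Groth.Agent.Lib.helper5.AlgSpOpenSub
import Groth.Agent.Lib.helper5.AlgSpQC
import Groth.Agent.Lib.helper5.AlgSpDiag2
import Groth.Prelude.Def_AlgSpInf

/-! Thickenings of algebraic spaces: topological invariance. -/

universe u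

open CategoryTheory Limits AlgebraicGeometry Opposite

namespace CategoryTheory

theorem H5_isPullback_comp_mono {C : Type*} [Category C] {P X Y Z W : C} {fst : P ⟶ X}
    {snd : P ⟶ Y} {f : X ⟶ Z} {g : Y ⟶ Z} (sq : IsPullback fst snd f g) (j : Z ⟶ W) [Mono j] :
    IsPullback fst snd (f ≫ j) (g ≫ j) := by
  refine IsPullback.mk' ?_ ?_ ?_
  · rw [← Category.assoc, sq.w, Category.assoc]
  · intro T φ φ' h1 h2
    exact sq.hom_ext h1 h2
  · intro T a b hab
    have : a ≫ f = b ≫ g := by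
      rw [← cancel_mono j, Category.assoc, Category.assoc]
      exact hab
    exact ⟨sq.lift a b this, sq.lift_fst _ _ _, sq.lift_snd _ _ _⟩

end CategoryTheory

theorem H5_top_transfer {A B C D : Type*} [TopologicalSpace A] [TopologicalSpace B]
    [TopologicalSpace C] [TopologicalSpace D] (e1 : A ≃ₜ B) (e2 : C ≃ₜ D) (q : A → C) (q' : B → D)
    (h : ∀ a, q' (e1 a) = e2 (q a)) :
    (IsClosedMap q ↔ IsClosedMap q') ∧ (IsOpenMap q ↔ IsOpenMap q') ∧
      (Function.Injective q ↔ Function.Injective q') ∧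
      (Function.Surjective q ↔ Function.Surjective q') := by
  have hq' : q' = e2 ∘ q ∘ e1.symm := by
    funext b
    have := h (e1.symm b)
    rw [e1.apply_symm_apply] at this
    exact this
  have hq : q = e2.symm ∘ q' ∘ e1 := by
    funext a
    simp only [Function.comp_apply, h a, e2.symm_apply_apply]
  refine ⟨⟨fun H => ?_, fun H => ?_⟩, ⟨fun H => ?_, fun H => ?_⟩, ⟨fun H => ?_, fun H => ?_⟩,
    ⟨fun H => ?_, fun H => ?_⟩⟩
  · rw [hq']; exact e2.isClosedMap.comp (H.comp e1.symm.isClosedMap)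
  · rw [hq]; exact e2.symm.isClosedMap.comp (H.comp e1.isClosedMap)
  · rw [hq']; exact e2.isOpenMap.comp (H.comp e1.symm.isOpenMap)
  · rw [hq]; exact e2.symm.isOpenMap.comp (H.comp e1.isOpenMap)
  · rw [hq']; exact e2.injective.comp (H.comp e1.symm.injective)
  · rw [hq]; exact e2.symm.injective.comp (H.comp e1.injective)
  · rw [hq']; exact e2.surjective.comp (H.comp e1.symm.surjective)
  · rw [hq]; exact e2.symm.surjective.comp (H.comp e1.surjective)

namespace AlgSp

variable {S : Scheme.{u}}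

theorem H5_thick_le_surjective : (thick : MorphismProperty Scheme.{u}) ≤ @Surjective :=
  fun _ _ _ h => h.2

theorem H5_thick_le_universallyClosed :
    (thick : MorphismProperty Scheme.{u}) ≤ @UniversallyClosed := by
  intro X Y f h
  haveI : IsClosedImmersion f := h.1
  infer_instance

theorem H5_thick_le_universallyInjective :
    (thick : MorphismProperty Scheme.{u}) ≤ @UniversallyInjective := by
  intro X Y f h
  haveI : IsClosedImmersion f := h.1
  infer_instance

theorem H5_thick_le_mono :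
    (thick : MorphismProperty Scheme.{u}) ≤ MorphismProperty.monomorphisms _ := by
  intro X Y f h
  haveI : IsClosedImmersion f := h.1
  exact MorphismProperty.monomorphisms.infer_property f

theorem H5_oi_le_mono :
    (@IsOpenImmersion : MorphismProperty Scheme.{u}) ≤ MorphismProperty.monomorphisms _ := by
  intro X Y f h
  haveI : IsOpenImmersion f := h
  exact MorphismProperty.monomorphisms.infer_property f

instance H5_thick_containsIdentities : (thick.{u}).ContainsIdentities where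
  id_mem X := ⟨inferInstance, inferInstance⟩

instance H5_thick_isStableUnderComposition : (thick.{u}).IsStableUnderComposition where
  comp_mem f g hf hg := by
    haveI := hf.1
    haveI := hf.2
    haveI := hg.1
    haveI := hg.2
    exact ⟨inferInstance, inferInstance⟩

theorem H5_mono_of_thick {A B : Sp S} (h : A ⟶ B) (t : IsThickMor h) : Mono h :=
  H5_mono_of_repWith H5_thick_le_mono h t

theorem H5_thick_isHomeomorph {A B : Sp S} (h : A ⟶ B) (t : IsThickMor h) :
    IsHomeomorph (Points.map h) := by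
  rw [isHomeomorph_iff_continuous_isClosedMap_bijective]
  exact ⟨Points.continuous_map h,
    H5_isClosedMap_of_repWith h (H5_repWith_of_le H5_thick_le_universallyClosed t),
    H5_injective_of_repWith h (H5_repWith_of_le H5_thick_le_universallyInjective t),
    H5_surjective_of_repWith h (H5_repWith_of_le H5_thick_le_surjective t)⟩

theorem H5_thick_of_isPullback {A B A' B' : Sp S} {f' : A' ⟶ A} {g' : A' ⟶ B'} {g : A ⟶ B}
    {f : B' ⟶ B} (sq : IsPullback f' g' g f) (hg : IsThickMor g) : IsThickMor g' :=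
  MorphismProperty.of_isPullback (P := RepWith thick) sq hg

theorem H5_thick_transfer {A B C D : Sp S} (h1 : A ⟶ B) (h2 : C ⟶ D) (q : A ⟶ C) (q' : B ⟶ D)
    (t1 : IsThickMor h1) (t2 : IsThickMor h2) (w : h1 ≫ q' = q ≫ h2) :
    (IsClosedMap (Points.map q) ↔ IsClosedMap (Points.map q')) ∧
    (IsOpenMap (Points.map q) ↔ IsOpenMap (Points.map q')) ∧
    (Function.Injective (Points.map q) ↔ Function.Injective (Points.map q')) ∧
    (Function.Surjective (Points.map q) ↔ Function.Surjective (Points.map q')) := by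
  refine H5_top_transfer (H5_thick_isHomeomorph h1 t1).homeomorph
    (H5_thick_isHomeomorph h2 t2).homeomorph (Points.map q) (Points.map q') ?_
  intro a
  simp only [IsHomeomorph.homeomorph_apply]
  rw [← Points.map_comp, ← Points.map_comp, w]

theorem H5_thick_D1 {X X' Y Y' : Sp S} (i : X ⟶ X') (j : Y ⟶ Y') (f : X ⟶ Y) (f' : X' ⟶ Y')
    (hi : IsThickMor i) [Mono j] (w : i ≫ f' = f ≫ j) {T T' : Sp S} (g : T ⟶ Y) (fst : T' ⟶ X)
    (snd : T' ⟶ T) (sq : IsPullback fst snd f g) :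
    ∃ k : T' ⟶ pullback f' (g ≫ j), IsThickMor k ∧ k ≫ pullback.snd f' (g ≫ j) = snd := by
  have hc : (fst ≫ i) ≫ f' = snd ≫ g ≫ j := by
    rw [Category.assoc, w, ← Category.assoc, sq.w, Category.assoc]
  refine ⟨pullback.lift (fst ≫ i) snd hc, ?_, pullback.lift_snd _ _ _⟩
  have outer : IsPullback (pullback.lift (fst ≫ i) snd hc ≫ pullback.snd f' (g ≫ j)) fst
      (g ≫ j) (i ≫ f') := by
    rw [pullback.lift_snd, w]
    exact H5_isPullback_comp_mono sq.flip j
  have left := IsPullback.of_right outer (pullback.lift_fst _ _ _)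
    (IsPullback.of_hasPullback f' (g ≫ j)).flip
  exact H5_thick_of_isPullback left.flip hi

theorem H5_thick_D2 {X X' Y Y' : Sp S} (i : X ⟶ X') (j : Y ⟶ Y') (f : X ⟶ Y) (f' : X' ⟶ Y')
    (hi : IsThickMor i) (hj : IsThickMor j) (w : i ≫ f' = f ≫ j) {Z Z' : Sp S} (g : Z ⟶ Y')
    (fst : Z' ⟶ X') (snd : Z' ⟶ Z) (sq : IsPullback fst snd f' g) :
    IsThickMor (pullback.snd j g) ∧
    ∃ m : pullback f (pullback.fst j g) ⟶ Z', IsThickMor m ∧
      m ≫ snd = pullback.snd f (pullback.fst j g) ≫ pullback.snd j g := by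
  refine ⟨H5_thick_of_isPullback (IsPullback.of_hasPullback j g) hj, ?_⟩
  have hc : (pullback.fst f (pullback.fst j g) ≫ i) ≫ f' =
      (pullback.snd f (pullback.fst j g) ≫ pullback.snd j g) ≫ g := by
    rw [Category.assoc, w, ← Category.assoc, pullback.condition, Category.assoc,
      pullback.condition, Category.assoc]
  refine ⟨sq.lift _ _ hc, ?_, sq.lift_snd _ _ _⟩
  have outer : IsPullback (sq.lift _ _ hc ≫ snd) (pullback.fst f (pullback.fst j g)) g
      (i ≫ f') := by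
    rw [sq.lift_snd, w]
    exact (IsPullback.of_hasPullback f (pullback.fst j g)).flip.paste_horiz
      (IsPullback.of_hasPullback j g).flip
  have left := IsPullback.of_right outer (sq.lift_fst _ _ _) sq.flip
  exact H5_thick_of_isPullback left.flip hi

theorem H5_univSp_thick_iff (Q : MorphismProperty (Sp S))
    (hQ : ∀ {A B C D : Sp S} (h1 : A ⟶ B) (h2 : C ⟶ D) (q : A ⟶ C) (q' : B ⟶ D),
      IsThickMor h1 → IsThickMor h2 → h1 ≫ q' = q ≫ h2 → (Q q ↔ Q q'))
    {X X' Y Y' : Sp S} (hY : IsAlgSpace Y) (hY' : IsAlgSpace Y') (i : X ⟶ X') (j : Y ⟶ Y')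
    (f : X ⟶ Y) (f' : X' ⟶ Y') (hi : IsThickMor i) (hj : IsThickMor j)
    (w : i ≫ f' = f ≫ j) : UnivSp Q f ↔ UnivSp Q f' := by
  haveI : Mono j := H5_mono_of_thick j hj
  constructor
  · intro H Z Z' hZ g fst snd sq
    obtain ⟨hz2, m, hm, hmw⟩ := H5_thick_D2 i j f f' hi hj w g fst snd sq
    have hZ0 : IsAlgSpace (pullback j g) :=
      H5_isAlgSpace_of_isPullback Y' hY'.diag ⟨Y, hY⟩ ⟨Z, hZ⟩ j g _ _ _
        (IsPullback.of_hasPullback j g)
    have hQ0 : Q (pullback.snd f (pullback.fst j g)) :=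
      H hZ0 (pullback.fst j g) _ _ (IsPullback.of_hasPullback f (pullback.fst j g))
    exact (hQ m (pullback.snd j g) _ snd hm hz2 hmw).1 hQ0
  · intro H T T' hT g fst snd sq
    obtain ⟨k, hk, hkw⟩ := H5_thick_D1 i j f f' hi w g fst snd sq
    have hQ0 : Q (pullback.snd f' (g ≫ j)) :=
      H hT (g ≫ j) _ _ (IsPullback.of_hasPullback f' (g ≫ j))
    have hid : IsThickMor (𝟙 T) := H5_repWith_of_isIso thick (𝟙 T)
    exact (hQ k (𝟙 T) snd (pullback.snd f' (g ≫ j)) hk hid
      (by rw [hkw, Category.comp_id])).2 hQ0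

section Iff

variable {X X' Y Y' : Sp S} (hY : IsAlgSpace Y) (hY' : IsAlgSpace Y') (i : X ⟶ X') (j : Y ⟶ Y')
    (f : X ⟶ Y) (f' : X' ⟶ Y') (hi : IsThickMor i) (hj : IsThickMor j)
    (w : i ≫ f' = f ≫ j)

include hY hY' hi hj w

theorem H5_univClosed_thick_iff : IsUnivClosedMor f ↔ IsUnivClosedMor f' :=
  H5_univSp_thick_iff IsClosedMor
    (fun h1 h2 q q' t1 t2 ww => (H5_thick_transfer h1 h2 q q' t1 t2 ww).1) hY hY' i j f f' hi hj w

theorem H5_univOpen_thick_iff : IsUnivOpenMor f ↔ IsUnivOpenMor f' :=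
  H5_univSp_thick_iff IsOpenMor
    (fun h1 h2 q q' t1 t2 ww => (H5_thick_transfer h1 h2 q q' t1 t2 ww).2.1) hY hY' i j f f' hi hj w

theorem H5_univInj_thick_iff : IsUnivInjectiveMor f ↔ IsUnivInjectiveMor f' :=
  H5_univSp_thick_iff (fun _ _ f => Function.Injective (Points.map f))
    (fun h1 h2 q q' t1 t2 ww => (H5_thick_transfer h1 h2 q q' t1 t2 ww).2.2.1) hY hY' i j f f' hi hj w

end Iff

theorem H5_qcSp_thick_iff {A B : Sp S} (hA : IsAlgSpace A) (hB : IsAlgSpace B) (h : A ⟶ B)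
    (t : IsThickMor h) : IsQuasiCompactSp A ↔ IsQuasiCompactSp B := by
  rw [H5_isQuasiCompactSp_iff_compactSpace hA, H5_isQuasiCompactSp_iff_compactSpace hB]
  exact ⟨fun _ => (H5_thick_isHomeomorph h t).homeomorph.compactSpace,
    fun _ => (H5_thick_isHomeomorph h t).homeomorph.symm.compactSpace⟩

theorem H5_qcMor_thick_iff {X X' Y Y' : Sp S} (hX : IsAlgSpace X) (hX' : IsAlgSpace X')
    (hY : IsAlgSpace Y) (hY' : IsAlgSpace Y') (i : X ⟶ X') (j : Y ⟶ Y') (f : X ⟶ Y)
    (f' : X' ⟶ Y') (hi : IsThickMor i) (hj : IsThickMor j) (w : i ≫ f' = f ≫ j) :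
    IsQuasiCompactMor f ↔ IsQuasiCompactMor f' := by
  haveI : Mono j := H5_mono_of_thick j hj
  constructor
  · intro H Z Z' hZ hZqc g fst snd sq
    obtain ⟨hz2, m, hm, hmw⟩ := H5_thick_D2 i j f f' hi hj w g fst snd sq
    have hZ0 : IsAlgSpace (pullback j g) :=
      H5_isAlgSpace_of_isPullback Y' hY'.diag ⟨Y, hY⟩ ⟨Z, hZ⟩ j g _ _ _
        (IsPullback.of_hasPullback j g)
    have hZ0qc : IsQuasiCompactSp (pullback j g) := (H5_qcSp_thick_iff hZ0 hZ _ hz2).2 hZqc
    have hW : IsAlgSpace (pullback f (pullback.fst j g)) :=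
      H5_isAlgSpace_of_isPullback Y hY.diag ⟨X, hX⟩ ⟨_, hZ0⟩ f (pullback.fst j g) _ _ _
        (IsPullback.of_hasPullback _ _)
    have hWqc : IsQuasiCompactSp (pullback f (pullback.fst j g)) :=
      H hZ0 hZ0qc (pullback.fst j g) _ _ (IsPullback.of_hasPullback _ _)
    have hZ' : IsAlgSpace Z' :=
      H5_isAlgSpace_of_isPullback Y' hY'.diag ⟨X', hX'⟩ ⟨Z, hZ⟩ f' g Z' fst snd sq
    exact (H5_qcSp_thick_iff hW hZ' m hm).1 hWqc
  · intro H T T' hT hTqc g fst snd sq
    obtain ⟨k, hk, hkw⟩ := H5_thick_D1 i j f f' hi w g fst snd sq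
    have hP : IsAlgSpace (pullback f' (g ≫ j)) :=
      H5_isAlgSpace_of_isPullback Y' hY'.diag ⟨X', hX'⟩ ⟨T, hT⟩ f' (g ≫ j) _ _ _
        (IsPullback.of_hasPullback _ _)
    have hPqc : IsQuasiCompactSp (pullback f' (g ≫ j)) :=
      H hT hTqc (g ≫ j) _ _ (IsPullback.of_hasPullback _ _)
    have hT' : IsAlgSpace T' :=
      H5_isAlgSpace_of_isPullback Y hY.diag ⟨X, hX⟩ ⟨T, hT⟩ f g T' fst snd sq
    exact (H5_qcSp_thick_iff hT' hP k hk).2 hPqc

/-! ### Products of thickenings -/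

theorem H5_thick_of_map {X1 X2 Y X1' X2' Y' P P' : Sp S} {f1 : X1 ⟶ Y} {f2 : X2 ⟶ Y}
    {f1' : X1' ⟶ Y'} {f2' : X2' ⟶ Y'} {p1 : P ⟶ X1} {p2 : P ⟶ X2} {p1' : P' ⟶ X1'}
    {p2' : P' ⟶ X2'} (sqP : IsPullback p1 p2 f1 f2) (sqP' : IsPullback p1' p2' f1' f2')
    (i1 : X1 ⟶ X1') (i2 : X2 ⟶ X2') (j : Y ⟶ Y') [Mono j] (h1 : IsThickMor i1)
    (h2 : IsThickMor i2) (e1 : f1 ≫ j = i1 ≫ f1') (e2 : f2 ≫ j = i2 ≫ f2')
    (ι : P ⟶ P') (ι1 : ι ≫ p1' = p1 ≫ i1) (ι2 : ι ≫ p2' = p2 ≫ i2) : IsThickMor ι := by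
  obtain ⟨Q, q1, q2, sqQ⟩ : ∃ (Q : Sp S) (q1 : Q ⟶ X1) (q2 : Q ⟶ P'), IsPullback q1 q2 i1 p1' :=
    ⟨_, _, _, IsPullback.of_hasPullback i1 p1'⟩
  have hq2 : IsThickMor q2 := H5_thick_of_isPullback sqQ h1
  obtain ⟨a, a1, a2⟩ : ∃ a : P ⟶ Q, a ≫ q1 = p1 ∧ a ≫ q2 = ι :=
    ⟨sqQ.lift p1 ι ι1.symm, sqQ.lift_fst _ _ _, sqQ.lift_snd _ _ _⟩
  have sqa : IsPullback p2 a i2 (q2 ≫ p2') := by
    refine IsPullback.mk' ?_ ?_ ?_
    · rw [← Category.assoc, a2, ι2]
    · intro T φ φ' e e'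
      apply sqP.hom_ext
      · have := congrArg (· ≫ q1) e'
        simpa only [Category.assoc, a1] using this
      · exact e
    · intro T x2 b hb
      have hx : (b ≫ q1) ≫ f1 = x2 ≫ f2 := by
        rw [← cancel_mono j]
        calc ((b ≫ q1) ≫ f1) ≫ j = b ≫ (q1 ≫ i1) ≫ f1' := by simp only [Category.assoc, e1]
          _ = b ≫ q2 ≫ p1' ≫ f1' := by rw [sqQ.w]; simp only [Category.assoc]
          _ = (b ≫ q2 ≫ p2') ≫ f2' := by rw [sqP'.w]; simp only [Category.assoc]
          _ = (x2 ≫ f2) ≫ j := by rw [← hb]; simp only [Category.assoc, e2]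
      refine ⟨sqP.lift (b ≫ q1) x2 hx, sqP.lift_snd _ _ _, ?_⟩
      apply sqQ.hom_ext
      · rw [Category.assoc, a1, sqP.lift_fst]
      · rw [Category.assoc, a2]
        apply sqP'.hom_ext
        · rw [Category.assoc, ι1, ← Category.assoc, sqP.lift_fst, Category.assoc, sqQ.w,
            Category.assoc]
        · rw [Category.assoc, ι2, ← Category.assoc, sqP.lift_snd, hb, Category.assoc]
  have ha : IsThickMor a := H5_thick_of_isPullback sqa h2
  rw [← a2]
  exact (RepWith thick).comp_mem a q2 ha hq2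

/-! ### Open subspaces of thickenings -/

theorem H5_range_fst_of_isPullback {F G Z Z' : Sp S} {fst : Z' ⟶ F} {snd : Z' ⟶ Z} {f : F ⟶ G}
    {g : Z ⟶ G} (sq : IsPullback fst snd f g) :
    Set.range (Points.map fst) = Points.map f ⁻¹' Set.range (Points.map g) := by
  ext x
  constructor
  · rintro ⟨w, rfl⟩
    exact ⟨Points.map snd w, by rw [← Points.map_comp, ← Points.map_comp, sq.w]⟩
  · rintro ⟨z, hz⟩
    obtain ⟨w, hw, -⟩ := H5_points_pullback_surj sq x z hz.symm
    exact ⟨w, hw⟩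

theorem H5_isOpen_range_of_oi {U X : Sp S} (u : U ⟶ X) (hu : RepWith @IsOpenImmersion u) :
    IsOpen (Set.range (Points.map u)) := by
  have : IsOpenMap (Points.map u) := H5_isOpenMap_of_repWith u
    (H5_repWith_of_le (fun _ _ g hg => by haveI : IsOpenImmersion g := hg; infer_instance) hu)
  exact this.isOpen_range

theorem H5_thick_open_exists {X X' U : Sp S} (hX' : IsAlgSpace X') (i : X ⟶ X')
    (hi : IsThickMor i) (u : U ⟶ X) (hu : RepWith @IsOpenImmersion u) :
    ∃ (U' : Sp S) (_ : IsAlgSpace U') (u' : U' ⟶ X') (k : U ⟶ U'),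
      RepWith @IsOpenImmersion u' ∧ IsPullback u k i u' := by
  have hhomeo := H5_thick_isHomeomorph i hi
  obtain ⟨V', hV'⟩ : ∃ V' : Set (Points X'), V' = Points.map i '' Set.range (Points.map u) :=
    ⟨_, rfl⟩
  have hVopen : IsOpen V' := by
    rw [hV']
    exact hhomeo.isOpenMap _ (H5_isOpen_range_of_oi u hu)
  obtain ⟨k, hk⟩ := H5_exists_lift_openSub (V := V') (u ≫ i) (by
    rintro _ ⟨x, rfl⟩
    rw [Points.map_comp, hV']
    exact ⟨_, ⟨x, rfl⟩, rfl⟩)
  refine ⟨H5_openSub X' V', H5_isAlgSpace_openSub hX' hVopen, H5_openSubι X' V', k,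
    H5_repWith_isOpenImmersion_openSubι X' hVopen, ?_⟩
  have sqP := IsPullback.of_hasPullback i (H5_openSubι X' V')
  have hp1 : RepWith @IsOpenImmersion (pullback.fst i (H5_openSubι X' V')) :=
    MorphismProperty.of_isPullback sqP.flip (H5_repWith_isOpenImmersion_openSubι X' hVopen)
  have hrange : Set.range (Points.map (pullback.fst i (H5_openSubι X' V'))) =
      Set.range (Points.map u) := by
    rw [H5_range_fst_of_isPullback sqP, H5_openSub_range, hV',
      Set.preimage_image_eq _ hhomeo.injective]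
  haveI : Mono u := H5_mono_of_repWith H5_oi_le_mono u hu
  haveI : Mono (pullback.fst i (H5_openSubι X' V')) := H5_mono_of_repWith H5_oi_le_mono _ hp1
  obtain ⟨d, hd⟩ := H5_exists_factor_of_range_subset u hu
    (pullback.fst i (H5_openSubι X' V')) hrange.subset
  obtain ⟨c, hc1, hc2⟩ : ∃ c : U ⟶ pullback i (H5_openSubι X' V'),
      c ≫ pullback.fst _ _ = u ∧ c ≫ pullback.snd _ _ = k :=
    ⟨pullback.lift u k hk.symm, pullback.lift_fst _ _ _, pullback.lift_snd _ _ _⟩
  have hcd : c ≫ d = 𝟙 U := by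
    rw [← cancel_mono u, Category.assoc, hd, hc1, Category.id_comp]
  have hdc : d ≫ c = 𝟙 _ := by
    rw [← cancel_mono (pullback.fst i (H5_openSubι X' V')), Category.assoc, hc1, hd,
      Category.id_comp]
  exact IsPullback.of_iso_pullback ⟨hk.symm⟩ ⟨c, d, hcd, hdc⟩ hc1 hc2

theorem H5_thick_open_unique {X X' U U₁ U₂ : Sp S} (i : X ⟶ X') (hi : IsThickMor i) (u : U ⟶ X)
    (u₁ : U₁ ⟶ X') (u₂ : U₂ ⟶ X') (k₁ : U ⟶ U₁) (k₂ : U ⟶ U₂)
    (h₁ : RepWith @IsOpenImmersion u₁) (sq₁ : IsPullback u k₁ i u₁)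
    (h₂ : RepWith @IsOpenImmersion u₂) (sq₂ : IsPullback u k₂ i u₂) :
    ∃ e : U₁ ≅ U₂, e.hom ≫ u₂ = u₁ := by
  have hhomeo := H5_thick_isHomeomorph i hi
  have r₁ : Set.range (Points.map u₁) = Points.map i '' Set.range (Points.map u) := by
    rw [H5_range_fst_of_isPullback sq₁, Set.image_preimage_eq _ hhomeo.surjective]
  have r₂ : Set.range (Points.map u₂) = Points.map i '' Set.range (Points.map u) := by
    rw [H5_range_fst_of_isPullback sq₂, Set.image_preimage_eq _ hhomeo.surjective]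
  haveI : Mono u₁ := H5_mono_of_repWith H5_oi_le_mono u₁ h₁
  haveI : Mono u₂ := H5_mono_of_repWith H5_oi_le_mono u₂ h₂
  obtain ⟨a, ha⟩ := H5_exists_factor_of_range_subset u₂ h₂ u₁ (r₁.trans r₂.symm).subset
  obtain ⟨b, hb⟩ := H5_exists_factor_of_range_subset u₁ h₁ u₂ (r₂.trans r₁.symm).subset
  refine ⟨⟨a, b, ?_, ?_⟩, ha⟩
  · rw [← cancel_mono u₁, Category.assoc, hb, ha, Category.id_comp]
  · rw [← cancel_mono u₂, Category.assoc, ha, hb, Category.id_comp]

end AlgSp
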