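import Groth.Prelude.Def_AlgSpMor5
import Mathlib.AlgebraicGeometry.Morphisms.ClosedImmersion

/-! Diagram chases with valuative squares. -/

universe u

open CategoryTheory Limits AlgebraicGeometry Opposite

namespace AlgSp

variable {S : Scheme.{u}}

/-- Change the arrows of a valuative square, keeping the valuation ring. -/
noncomputable abbrev H5_ValSq_change {F G F' G' : Sp S} {f : F ⟶ G} (sq : ValSq f) (f' : F' ⟶ G')
    (top : (yon S).obj sq.ptK ⟶ F') (bot : (yon S).obj sq.ptA ⟶ G')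
    (comm : top ≫ f' = (yon S).map sq.j ≫ bot) : ValSq f' where
  A := sq.A
  K := sq.K
  str := sq.str
  top := top
  bot := bot
  comm := comm

theorem H5_uniqVC_comp {F G H : Sp S} (a : F ⟶ G) (b : G ⟶ H)
    (ha : UniqVC a) (hb : UniqVC b) : UniqVC (a ≫ b) := by
  intro sq l l' h1 h2 h3 h4
  have e : l ≫ a = l' ≫ a := by
    refine hb (H5_ValSq_change sq b (sq.top ≫ a) sq.bot (by rw [Category.assoc]; exact sq.comm))
      (l ≫ a) (l' ≫ a) ?_ ?_ ?_ ?_
    · change (yon S).map sq.j ≫ l ≫ a = sq.top ≫ a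
      rw [← Category.assoc, h1]
    · change (l ≫ a) ≫ b = sq.bot
      rw [Category.assoc]; exact h2
    · change (yon S).map sq.j ≫ l' ≫ a = sq.top ≫ a
      rw [← Category.assoc, h3]
    · change (l' ≫ a) ≫ b = sq.bot
      rw [Category.assoc]; exact h4
  refine ha (H5_ValSq_change sq a sq.top (l ≫ a) (by rw [← Category.assoc, h1])) l l' h1 rfl h3 e.symm

theorem H5_uniqVC_baseChange {F G H P : Sp S} (a : F ⟶ G) (b : H ⟶ G)
    (b' : P ⟶ F) (a' : P ⟶ H) (hP : IsPullback b' a' a b)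
    (ha : UniqVC a) : UniqVC a' := by
  intro sq l l' h1 h2 h3 h4
  apply hP.hom_ext
  · refine ha (H5_ValSq_change sq a (sq.top ≫ b') (sq.bot ≫ b)
      (by rw [Category.assoc, hP.w, ← Category.assoc, sq.comm, Category.assoc]))
      (l ≫ b') (l' ≫ b') ?_ ?_ ?_ ?_
    · change (yon S).map sq.j ≫ l ≫ b' = sq.top ≫ b'
      rw [← Category.assoc, h1]
    · change (l ≫ b') ≫ a = sq.bot ≫ b
      rw [Category.assoc, hP.w, ← Category.assoc, h2]
    · change (yon S).map sq.j ≫ l' ≫ b' = sq.top ≫ b'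
      rw [← Category.assoc, h3]
    · change (l' ≫ b') ≫ a = sq.bot ≫ b
      rw [Category.assoc, hP.w, ← Category.assoc, h4]
  · rw [h2, h4]

section DomExt

variable {F G : Sp S} {f : F ⟶ G} {sq : ValSq f}

noncomputable abbrev H5_jA' (e : sq.DomExt) : e.ptK' ⟶ e.ptA' :=
  Over.homMk (Spec.map (CommRingCat.ofHom (algebraMap e.A' e.K'))) rfl

noncomputable abbrev H5_pA (e : sq.DomExt) : e.ptA' ⟶ sq.ptA :=
  Over.homMk (Spec.map (CommRingCat.ofHom e.φ)) rfl

theorem H5_pK_w (e : sq.DomExt) :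
    Spec.map (CommRingCat.ofHom e.ψ) ≫ sq.ptK.hom = e.ptK'.hom := by
  change Spec.map _ ≫ Spec.map _ ≫ _ = Spec.map _ ≫ Spec.map _ ≫ _
  rw [← Spec.map_comp_assoc, ← Spec.map_comp_assoc, ← CommRingCat.ofHom_comp,
    ← CommRingCat.ofHom_comp, e.comm]

noncomputable abbrev H5_pK (e : sq.DomExt) : e.ptK' ⟶ sq.ptK :=
  Over.homMk (Spec.map (CommRingCat.ofHom e.ψ)) (H5_pK_w e)

theorem H5_hasLift_iff (e : sq.DomExt) : e.HasLift ↔ ∃ l : (yon S).obj e.ptA' ⟶ F,
    (yon S).map (H5_jA' e) ≫ l = (yon S).map (H5_pK e) ≫ sq.top ∧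
      l ≫ f = (yon S).map (H5_pA e) ≫ sq.bot := Iff.rfl

theorem H5_domExt_w (e : sq.DomExt) : H5_jA' e ≫ H5_pA e = H5_pK e ≫ sq.j := by
  apply Over.OverMorphism.ext
  change Spec.map _ ≫ Spec.map _ = Spec.map _ ≫ Spec.map _
  rw [← Spec.map_comp, ← Spec.map_comp, ← CommRingCat.ofHom_comp, ← CommRingCat.ofHom_comp, e.comm]

end DomExt

noncomputable abbrev H5_DomExt_change {F G F' G' : Sp S} {f : F ⟶ G} {sq : ValSq f} {f' : F' ⟶ G'}
    {top : (yon S).obj sq.ptK ⟶ F'} {bot : (yon S).obj sq.ptA ⟶ G'}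
    {comm : top ≫ f' = (yon S).map sq.j ≫ bot}
    (e : (H5_ValSq_change sq f' top bot comm).DomExt) : sq.DomExt where
  A' := e.A'
  K' := e.K'
  φ := e.φ
  ψ := e.ψ
  comm := e.comm
  isLocalHom := e.isLocalHom

theorem H5_existVC_baseChange {F G H P : Sp S} (a : F ⟶ G) (b : H ⟶ G)
    (b' : P ⟶ F) (a' : P ⟶ H) (hP : IsPullback b' a' a b)
    (ha : ExistVC a) : ExistVC a' := by
  intro sq
  have comm : (sq.top ≫ b') ≫ a = (yon S).map sq.j ≫ sq.bot ≫ b := by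
    rw [Category.assoc, hP.w, ← Category.assoc, sq.comm, Category.assoc]
  obtain ⟨e, he⟩ := ha (H5_ValSq_change sq a (sq.top ≫ b') (sq.bot ≫ b) comm)
  obtain ⟨l, h1, h2⟩ : ∃ l : (yon S).obj (H5_DomExt_change e).ptA' ⟶ F,
      (yon S).map (H5_jA' (H5_DomExt_change e)) ≫ l =
        (yon S).map (H5_pK (H5_DomExt_change e)) ≫ sq.top ≫ b' ∧
      l ≫ a = (yon S).map (H5_pA (H5_DomExt_change e)) ≫ sq.bot ≫ b := (H5_hasLift_iff e).1 he
  have h2' : l ≫ a = ((yon S).map (H5_pA (H5_DomExt_change e)) ≫ sq.bot) ≫ b := by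
    rw [Category.assoc]; exact h2
  refine ⟨H5_DomExt_change e, (H5_hasLift_iff (H5_DomExt_change e)).2
    ⟨hP.lift l ((yon S).map (H5_pA (H5_DomExt_change e)) ≫ sq.bot) h2', ?_, hP.lift_snd _ _ _⟩⟩
  apply hP.hom_ext
  · rw [Category.assoc, hP.lift_fst, h1, Category.assoc]
  · rw [Category.assoc, hP.lift_snd, Category.assoc, sq.comm, ← Functor.map_comp_assoc,
      ← Functor.map_comp_assoc, H5_domExt_w]

/-- The valuative square obtained from a dominating extension. -/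
noncomputable abbrev H5_ValSq_ext {F G F' G' : Sp S} {f : F ⟶ G} {sq : ValSq f} (e : sq.DomExt)
    (f' : F' ⟶ G') (top : (yon S).obj e.ptK' ⟶ F') (bot : (yon S).obj e.ptA' ⟶ G')
    (comm : top ≫ f' = (yon S).map (H5_jA' e) ≫ bot) : ValSq f' where
  A := e.A'
  K := e.K'
  str := Spec.map (CommRingCat.ofHom e.φ) ≫ sq.str
  top := top
  bot := bot
  comm := comm

/-- Composition of dominating extensions. -/
noncomputable abbrev H5_DomExt_comp {F G F' G' : Sp S} {f : F ⟶ G} {sq : ValSq f} (e : sq.DomExt)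
    {f' : F' ⟶ G'} {top : (yon S).obj e.ptK' ⟶ F'} {bot : (yon S).obj e.ptA' ⟶ G'}
    {comm : top ≫ f' = (yon S).map (H5_jA' e) ≫ bot}
    (e2 : (H5_ValSq_ext e f' top bot comm).DomExt) : sq.DomExt where
  A' := e2.A'
  K' := e2.K'
  φ := e2.φ.comp e.φ
  ψ := e2.ψ.comp e.ψ
  comm := by
    ext x
    have h1 : algebraMap e.A' e.K' (e.φ x) = e.ψ (algebraMap sq.A sq.K x) :=
      DFunLike.congr_fun e.comm x
    have h2 : algebraMap e2.A' e2.K' (e2.φ (e.φ x)) = e2.ψ (algebraMap e.A' e.K' (e.φ x)) :=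
      DFunLike.congr_fun e2.comm (e.φ x)
    change algebraMap e2.A' e2.K' (e2.φ (e.φ x)) = e2.ψ (e.ψ (algebraMap sq.A sq.K x))
    rw [h2, h1]
  isLocalHom := by
    haveI := e.isLocalHom
    haveI := e2.isLocalHom
    exact RingHom.isLocalHom_comp _ _

section Comp

variable {F G F' G' : Sp S} {f : F ⟶ G} {sq : ValSq f} (e : sq.DomExt)
    {f' : F' ⟶ G'} {top : (yon S).obj e.ptK' ⟶ F'} {bot : (yon S).obj e.ptA' ⟶ G'}
    {comm : top ≫ f' = (yon S).map (H5_jA' e) ≫ bot}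
    (e2 : (H5_ValSq_ext e f' top bot comm).DomExt)

theorem H5_θA_w : 𝟙 (Spec (.of e2.A')) ≫ e2.ptA'.hom = (H5_DomExt_comp e e2).ptA'.hom := by
  change 𝟙 _ ≫ Spec.map _ ≫ Spec.map _ ≫ _ = Spec.map _ ≫ _
  rw [Category.id_comp, ← Spec.map_comp_assoc, ← CommRingCat.ofHom_comp]

theorem H5_θK_w : 𝟙 (Spec (.of e2.K')) ≫ e2.ptK'.hom = (H5_DomExt_comp e e2).ptK'.hom := by
  change 𝟙 _ ≫ Spec.map _ ≫ Spec.map _ ≫ Spec.map _ ≫ _ = Spec.map _ ≫ Spec.map _ ≫ _
  rw [Category.id_comp, ← Spec.map_comp_assoc (CommRingCat.ofHom e.φ), ← CommRingCat.ofHom_comp]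

noncomputable abbrev H5_θA : (H5_DomExt_comp e e2).ptA' ⟶ e2.ptA' :=
  Over.homMk (𝟙 (Spec (.of e2.A'))) (H5_θA_w e e2)

noncomputable abbrev H5_θK : (H5_DomExt_comp e e2).ptK' ⟶ e2.ptK' :=
  Over.homMk (𝟙 (Spec (.of e2.K'))) (H5_θK_w e e2)

theorem H5_θ_A : H5_θA e e2 ≫ H5_pA e2 ≫ H5_pA e = H5_pA (H5_DomExt_comp e e2) := by
  apply Over.OverMorphism.ext
  change 𝟙 _ ≫ Spec.map _ ≫ Spec.map _ = Spec.map _
  rw [Category.id_comp, ← Spec.map_comp, ← CommRingCat.ofHom_comp]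

theorem H5_θ_K : H5_θK e e2 ≫ H5_pK e2 ≫ H5_pK e = H5_pK (H5_DomExt_comp e e2) := by
  apply Over.OverMorphism.ext
  change 𝟙 _ ≫ Spec.map _ ≫ Spec.map _ = Spec.map _
  rw [Category.id_comp, ← Spec.map_comp, ← CommRingCat.ofHom_comp]

theorem H5_θ_J : H5_jA' (H5_DomExt_comp e e2) ≫ H5_θA e e2 = H5_θK e e2 ≫ H5_jA' e2 := by
  apply Over.OverMorphism.ext
  change Spec.map _ ≫ 𝟙 _ = 𝟙 _ ≫ Spec.map _
  rw [Category.id_comp, Category.comp_id]

end Comp

theorem H5_hasLiftExt_comp {F G H : Sp S} (a : F ⟶ G) (b : G ⟶ H) (ha : ExistVC a)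
    (sq : ValSq (a ≫ b)) (e1 : sq.DomExt) (l1 : (yon S).obj e1.ptA' ⟶ G)
    (h1 : (yon S).map (H5_jA' e1) ≫ l1 = (yon S).map (H5_pK e1) ≫ sq.top ≫ a)
    (h2 : l1 ≫ b = (yon S).map (H5_pA e1) ≫ sq.bot) : sq.HasLiftExt := by
  have comm : ((yon S).map (H5_pK e1) ≫ sq.top) ≫ a = (yon S).map (H5_jA' e1) ≫ l1 := by
    rw [Category.assoc]; exact h1.symm
  obtain ⟨e2, he2⟩ := ha (H5_ValSq_ext e1 a ((yon S).map (H5_pK e1) ≫ sq.top) l1 comm)
  obtain ⟨l2, h3, h4⟩ : ∃ l2 : (yon S).obj e2.ptA' ⟶ F,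
      (yon S).map (H5_jA' e2) ≫ l2 = (yon S).map (H5_pK e2) ≫ (yon S).map (H5_pK e1) ≫ sq.top ∧
      l2 ≫ a = (yon S).map (H5_pA e2) ≫ l1 := (H5_hasLift_iff e2).1 he2
  refine ⟨H5_DomExt_comp e1 e2, (H5_hasLift_iff (H5_DomExt_comp e1 e2)).2
    ⟨(yon S).map (H5_θA e1 e2) ≫ l2, ?_, ?_⟩⟩
  · calc (yon S).map (H5_jA' (H5_DomExt_comp e1 e2)) ≫ (yon S).map (H5_θA e1 e2) ≫ l2
        = (yon S).map (H5_θK e1 e2) ≫ (yon S).map (H5_jA' e2) ≫ l2 := by
          rw [← Functor.map_comp_assoc, H5_θ_J, Functor.map_comp_assoc]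
      _ = (yon S).map (H5_θK e1 e2) ≫ (yon S).map (H5_pK e2) ≫ (yon S).map (H5_pK e1) ≫ sq.top := by
          rw [h3]
      _ = (yon S).map (H5_θK e1 e2 ≫ H5_pK e2 ≫ H5_pK e1) ≫ sq.top := by
          simp only [Functor.map_comp, Category.assoc]
      _ = (yon S).map (H5_pK (H5_DomExt_comp e1 e2)) ≫ sq.top := by rw [H5_θ_K]
  · calc ((yon S).map (H5_θA e1 e2) ≫ l2) ≫ a ≫ b
        = (yon S).map (H5_θA e1 e2) ≫ (l2 ≫ a) ≫ b := by simp only [Category.assoc]
      _ = (yon S).map (H5_θA e1 e2) ≫ ((yon S).map (H5_pA e2) ≫ l1) ≫ b := by rw [h4]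
      _ = (yon S).map (H5_θA e1 e2) ≫ (yon S).map (H5_pA e2) ≫ (yon S).map (H5_pA e1) ≫ sq.bot := by
          rw [Category.assoc, h2]
      _ = (yon S).map (H5_θA e1 e2 ≫ H5_pA e2 ≫ H5_pA e1) ≫ sq.bot := by
          simp only [Functor.map_comp, Category.assoc]
      _ = (yon S).map (H5_pA (H5_DomExt_comp e1 e2)) ≫ sq.bot := by rw [H5_θ_A]

theorem H5_existVC_comp {F G H : Sp S} (a : F ⟶ G) (b : G ⟶ H)
    (ha : ExistVC a) (hb : ExistVC b) : ExistVC (a ≫ b) := by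
  intro sq
  have comm1 : (sq.top ≫ a) ≫ b = (yon S).map sq.j ≫ sq.bot := by
    rw [Category.assoc]; exact sq.comm
  obtain ⟨e1, he1⟩ := hb (H5_ValSq_change sq b (sq.top ≫ a) sq.bot comm1)
  obtain ⟨l1, h1, h2⟩ := (H5_hasLift_iff e1).1 he1
  exact H5_hasLiftExt_comp a b ha sq (H5_DomExt_change e1) l1 h1 h2

theorem H5_appTop_injective {R T : CommRingCat.{u}} (f : R ⟶ T) (hf : Function.Injective f) :
    Function.Injective (Spec.map f).appTop := by
  intro x y hxy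
  have hx : (Scheme.ΓSpecIso T).hom ((Spec.map f).appTop x) =
      (Scheme.ΓSpecIso T).hom ((Spec.map f).appTop y) := by rw [hxy]
  rw [← CommRingCat.comp_apply, ← CommRingCat.comp_apply, Scheme.ΓSpecIso_naturality,
    CommRingCat.comp_apply, CommRingCat.comp_apply] at hx
  exact (ConcreteCategory.bijective_of_isIso (Scheme.ΓSpecIso R).hom).injective (hf hx)

theorem H5_uniqVC_of_separated {F G : Sp S} (f : F ⟶ G) (hf : IsSeparatedMor f) : UniqVC f := by
  intro sq l l' h1 h2 h3 h4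
  have hrep : Representable (pullback.diagonal f) := hf.1
  obtain ⟨c, hc1, hc2⟩ : ∃ c : (yon S).obj sq.ptA ⟶ pullback f f,
      c ≫ pullback.fst f f = l ∧ c ≫ pullback.snd f f = l' :=
    ⟨pullback.lift l l' (h2.trans h4.symm), pullback.lift_fst _ _ _, pullback.lift_snd _ _ _⟩
  have pb := hrep.isPullback c
  have hcl : IsClosedImmersion (hrep.snd c).left := hf.2 c (hrep.fst c) (hrep.snd c) pb
  have hc : (yon S).map sq.j ≫ c = sq.top ≫ pullback.diagonal f := by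
    apply pullback.hom_ext
    · rw [Category.assoc, hc1, Category.assoc, pullback.diagonal_fst, Category.comp_id, h1]
    · rw [Category.assoc, hc2, Category.assoc, pullback.diagonal_snd, Category.comp_id, h3]
  obtain ⟨k, hk⟩ := (yon S).map_surjective (pb.lift sq.top ((yon S).map sq.j) hc.symm)
  have hk2 : k ≫ hrep.snd c = sq.j := by
    apply (yon S).map_injective
    rw [Functor.map_comp, hk, pb.lift_snd]
  have hj : Function.Injective (sq.j.left).appTop :=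
    H5_appTop_injective (CommRingCat.ofHom (algebraMap sq.A sq.K)) (IsFractionRing.injective sq.A sq.K)
  have hcomp : (sq.j.left).appTop = (hrep.snd c).left.appTop ≫ k.left.appTop := by
    rw [← Scheme.Hom.comp_appTop, ← Over.comp_left, hk2]
  have hinj : Function.Injective (hrep.snd c).left.appTop := by
    intro x y hxy
    apply hj
    rw [hcomp, CommRingCat.comp_apply, CommRingCat.comp_apply, hxy]
  haveI : IsAffine sq.ptA.left := by
    change IsAffine (Spec _)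
    infer_instance
  haveI : IsIso (hrep.snd c).left := IsClosedImmersion.isIso_of_injective_of_isAffine hinj
  haveI : IsIso ((Over.forget S).map (hrep.snd c)) := by
    change IsIso (hrep.snd c).left
    infer_instance
  haveI : IsIso (hrep.snd c) := isIso_of_reflects_iso _ (Over.forget S)
  have e1 : (yon S).map (hrep.snd c) ≫ l = hrep.fst c := by
    calc (yon S).map (hrep.snd c) ≫ l = ((yon S).map (hrep.snd c) ≫ c) ≫ pullback.fst f f := by
          rw [Category.assoc, hc1]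
      _ = hrep.fst c := by rw [← pb.w, Category.assoc, pullback.diagonal_fst, Category.comp_id]
  have e2 : (yon S).map (hrep.snd c) ≫ l' = hrep.fst c := by
    calc (yon S).map (hrep.snd c) ≫ l' = ((yon S).map (hrep.snd c) ≫ c) ≫ pullback.snd f f := by
          rw [Category.assoc, hc2]
      _ = hrep.fst c := by rw [← pb.w, Category.assoc, pullback.diagonal_snd, Category.comp_id]
  rw [← cancel_epi ((yon S).map (hrep.snd c)), e1, e2]

end AlgSp
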