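import Groth.Agent.Lib.helper5.AlgSpVC
import Groth.Agent.Lib.helper5.AlgSpDiag2
import Mathlib.AlgebraicGeometry.ValuativeCriterion
import Mathlib.AlgebraicGeometry.ZariskisMainTheorem

/-! Quasi-separated + uniqueness part of the valuative criterion ⇒ separated. -/

universe u

open CategoryTheory Limits AlgebraicGeometry Opposite

namespace AlgSp

variable {S : Scheme.{u}}

noncomputable abbrev H5_jj (A K : Type u) [CommRing A] [Field K] [Algebra A K]
    (str : Spec (.of A) ⟶ S) :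
    Over.mk (Spec.map (CommRingCat.ofHom (algebraMap A K)) ≫ str) ⟶ Over.mk str :=
  Over.homMk (Spec.map (CommRingCat.ofHom (algebraMap A K))) rfl

noncomputable abbrev H5_ValSq_mk {F G : Sp S} (f : F ⟶ G) (A K : Type u) [CommRing A] [IsDomain A]
    [ValuationRing A] [Field K] [Algebra A K] [IsFractionRing A K] (str : Spec (.of A) ⟶ S)
    (top : (yon S).obj (Over.mk (Spec.map (CommRingCat.ofHom (algebraMap A K)) ≫ str)) ⟶ F)
    (bot : (yon S).obj (Over.mk str) ⟶ G)
    (comm : top ≫ f = (yon S).map (H5_jj A K str) ≫ bot) : ValSq f :=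
  { A := A, K := K, str := str, top := top, bot := bot, comm := comm }

theorem H5_lift_of_uniqVC {X Y : Sp S} (f : X ⟶ Y) (hu : UniqVC f) {U V : Over S}
    (c : (yon S).obj U ⟶ pullback f f) (t : (yon S).obj V ⟶ X) (s : V ⟶ U)
    (pb : IsPullback t ((yon S).map s) (pullback.diagonal f) c)
    (A K : Type u) [CommRing A] [IsDomain A] [ValuationRing A] [Field K] [Algebra A K]
    [IsFractionRing A K] (str : Spec (.of A) ⟶ S)
    (i₂ : Over.mk str ⟶ U)
    (i₁ : Over.mk (Spec.map (CommRingCat.ofHom (algebraMap A K)) ≫ str) ⟶ V)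
    (hsq : i₁ ≫ s = H5_jj A K str ≫ i₂) :
    ∃ m : Over.mk str ⟶ V, m ≫ s = i₂ := by
  have ht : t = (yon S).map s ≫ c ≫ pullback.fst f f := by
    rw [← Category.assoc, ← pb.w, Category.assoc, pullback.diagonal_fst, Category.comp_id]
  have ht' : t = (yon S).map s ≫ c ≫ pullback.snd f f := by
    rw [← Category.assoc, ← pb.w, Category.assoc, pullback.diagonal_snd, Category.comp_id]
  have ha : (yon S).map (H5_jj A K str) ≫ (yon S).map i₂ ≫ c ≫ pullback.fst f f =
      (yon S).map i₁ ≫ t := by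
    rw [← Functor.map_comp_assoc, ← hsq, Functor.map_comp_assoc, ← ht]
  have hb : (yon S).map (H5_jj A K str) ≫ (yon S).map i₂ ≫ c ≫ pullback.snd f f =
      (yon S).map i₁ ≫ t := by
    rw [← Functor.map_comp_assoc, ← hsq, Functor.map_comp_assoc, ← ht']
  have hcond : ((yon S).map i₂ ≫ c ≫ pullback.snd f f) ≫ f =
      ((yon S).map i₂ ≫ c ≫ pullback.fst f f) ≫ f := by
    simp only [Category.assoc, pullback.condition]
  have hcomm : ((yon S).map i₁ ≫ t) ≫ f =
      (yon S).map (H5_jj A K str) ≫ ((yon S).map i₂ ≫ c ≫ pullback.fst f f) ≫ f := by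
    rw [← ha]; simp only [Category.assoc]
  have hl : (yon S).map i₂ ≫ c ≫ pullback.fst f f = (yon S).map i₂ ≫ c ≫ pullback.snd f f :=
    hu (H5_ValSq_mk f A K str ((yon S).map i₁ ≫ t)
      (((yon S).map i₂ ≫ c ≫ pullback.fst f f) ≫ f) hcomm) _ _ ha rfl hb hcond
  have hlift : ((yon S).map i₂ ≫ c ≫ pullback.fst f f) ≫ pullback.diagonal f =
      (yon S).map i₂ ≫ c := by
    apply pullback.hom_ext
    · simp only [Category.assoc, pullback.diagonal_fst, Category.comp_id]
    · rw [Category.assoc, pullback.diagonal_snd, Category.comp_id, hl]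
      simp only [Category.assoc]
  obtain ⟨m, hm⟩ := (yon S).map_surjective (pb.lift _ _ hlift)
  refine ⟨m, (yon S).map_injective ?_⟩
  rw [Functor.map_comp, hm, pb.lift_snd]

theorem H5_existence_of_uniqVC {X Y : Sp S} (f : X ⟶ Y) (hu : UniqVC f) {U V : Over S}
    (c : (yon S).obj U ⟶ pullback f f) (t : (yon S).obj V ⟶ X) (s : V ⟶ U)
    (pb : IsPullback t ((yon S).map s) (pullback.diagonal f) c) [Mono s.left] :
    ValuativeCriterion.Existence s.left := by
  intro Sq
  have hw : Sq.i₁ ≫ V.hom =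
      Spec.map (CommRingCat.ofHom (algebraMap Sq.R Sq.K)) ≫ Sq.i₂ ≫ U.hom := by
    calc Sq.i₁ ≫ V.hom = (Sq.i₁ ≫ s.left) ≫ U.hom := by rw [Category.assoc, Over.w s]
      _ = _ := by rw [Sq.commSq.w, Category.assoc]
  obtain ⟨m, hm⟩ := H5_lift_of_uniqVC f hu c t s pb Sq.R Sq.K (Sq.i₂ ≫ U.hom)
    (Over.homMk Sq.i₂ rfl) (Over.homMk Sq.i₁ hw) (Over.OverMorphism.ext Sq.commSq.w)
  have h2 : m.left ≫ s.left = Sq.i₂ := congrArg CommaMorphism.left hm
  refine ⟨⟨⟨m.left, ?_, h2⟩⟩⟩
  rw [← cancel_mono s.left, Category.assoc, h2]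
  exact Sq.commSq.w.symm

theorem H5_isSeparatedMor_of_qs_uniqVC {X Y : Sp S} (hX : IsAlgSpace X) (f : X ⟶ Y)
    (hqs : IsQuasiSeparatedMor f) (hu : UniqVC f) : IsSeparatedMor f := by
  obtain ⟨hrep, hlft, hmono, hsep, _⟩ := H5_diagonal_properties hX f
  refine ⟨hrep, fun U V c t s pb => ?_⟩
  haveI h1 : LocallyOfFiniteType s.left := hlft.2 c t s pb
  haveI h2 : Mono s.left := hmono.2 c t s pb
  haveI h3 : QuasiCompact s.left := hqs.2 c t s pb
  haveI h4 : UniversallyClosed s.left :=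
    UniversallyClosed.of_valuativeCriterion s.left (H5_existence_of_uniqVC f hu c t s pb)
  haveI : IsProper s.left := {}
  exact (IsClosedImmersion.iff_isProper_and_mono (f := s.left)).2 ⟨inferInstance, h2⟩

end AlgSp
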