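import Mathlib

/-! helper5: finiteness over a base for modules of finite length over a local ring. -/

set_option autoImplicit false

theorem H5_finite_of_isFiniteLength {R S : Type*} [CommRing R] [CommRing S] [Algebra R S]
    [IsLocalRing S] (hfin : Module.Finite R (S ⧸ IsLocalRing.maximalIdeal S))
    (M : Type*) [AddCommGroup M] [Module S M] (h : IsFiniteLength S M) :
    ∀ [Module R M] [IsScalarTower R S M], Module.Finite R M := by
  induction h with
  | of_subsingleton => intro _ _; infer_instance
  | @of_simple_quotient M' _ _ N hsimple hN ih =>
    intro _ _
    haveI : Module.Finite R N := ih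
    obtain ⟨I, hI, ⟨e⟩⟩ := isSimpleModule_iff_quot_maximal.mp hsimple
    have hIm : I = IsLocalRing.maximalIdeal S := IsLocalRing.eq_maximalIdeal hI
    subst hIm
    have h2 : Module.Finite R (M' ⧸ N) := Module.Finite.equiv (e.restrictScalars R).symm
    have h1 : Module.Finite R N := ih
    haveI : Module.Finite R ↥(N.restrictScalars R) := h1
    haveI : Module.Finite R (M' ⧸ N.restrictScalars R) := h2
    exact Module.Finite.of_submodule_quotient (N.restrictScalars R)
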