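import Mathlib

namespace H5AS

open Polynomial IntermediateField

theorem main (F K : Type*) [Field F] [Field K] [Algebra F K] [CharP F 2]
    (hdeg : Module.finrank F K = 2) [Algebra.IsSeparable F K] :
    ∃ (y : K) (f : F), y ^ 2 + y = algebraMap F K f ∧
      IntermediateField.adjoin F ({y} : Set K) = ⊤ := by
  haveI : Module.Finite F K := Module.finite_of_finrank_pos (by rw [hdeg]; norm_num)
  obtain ⟨α, hα⟩ := Field.exists_primitive_element F K
  have hint : IsIntegral F α := IsIntegral.of_finite F α
  have hmonic : (minpoly F α).Monic := minpoly.monic hint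
  have hnd : (minpoly F α).natDegree = 2 := by
    rw [← IntermediateField.adjoin.finrank hint, hα, IntermediateField.finrank_top', hdeg]
  have h2c : (minpoly F α).coeff 2 = 1 := by
    have := hmonic.coeff_natDegree
    rwa [hnd] at this
  have hrel : α ^ 2 + algebraMap F K ((minpoly F α).coeff 1) * α
      + algebraMap F K ((minpoly F α).coeff 0) = 0 := by
    have h0 := minpoly.aeval F α
    rw [Polynomial.aeval_eq_sum_range, hnd] at h0
    simp only [Finset.sum_range_succ, Finset.sum_range_zero, zero_add] at h0
    rw [h2c] at h0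
    simp only [pow_zero, pow_one, Algebra.smul_def, mul_one, map_one, one_mul] at h0
    linear_combination h0
  have hchar2 : (2 : F) = 0 := by
    have := CharP.cast_eq_zero F 2
    exact_mod_cast this
  have hb : (minpoly F α).coeff 1 ≠ 0 := by
    intro hb0
    have hsep : (minpoly F α).Separable := Algebra.IsSeparable.isSeparable F α
    have hder : Polynomial.derivative (minpoly F α) = 0 := by
      ext n
      rw [Polynomial.coeff_derivative, Polynomial.coeff_zero]
      by_cases h0 : n = 0
      · subst h0; simp [hb0]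
      by_cases h1 : n = 1
      · subst h1
        have h11 : ((1 : ℕ) : F) + 1 = 0 := by
          rw [Nat.cast_one, one_add_one_eq_two]; exact hchar2
        rw [h11, mul_zero]
      · rw [Polynomial.coeff_eq_zero_of_natDegree_lt (by rw [hnd]; omega), zero_mul]
    rw [Polynomial.separable_def, hder, isCoprime_zero_right] at hsep
    have := Polynomial.natDegree_eq_zero_of_isUnit hsep
    omega
  obtain ⟨b, hbdef⟩ : ∃ b, b = (minpoly F α).coeff 1 := ⟨_, rfl⟩
  obtain ⟨c, hcdef⟩ : ∃ c, c = (minpoly F α).coeff 0 := ⟨_, rfl⟩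
  rw [← hbdef, ← hcdef] at hrel
  rw [← hbdef] at hb
  have hbK : algebraMap F K b ≠ 0 := by
    intro h
    exact hb ((map_eq_zero (algebraMap F K)).mp h)
  have hBinv : algebraMap F K b * (algebraMap F K b)⁻¹ = 1 := mul_inv_cancel₀ hbK
  obtain ⟨y, hy⟩ : ∃ y, y = (algebraMap F K b)⁻¹ * α := ⟨_, rfl⟩
  have hαy : α = algebraMap F K b * y := by
    rw [hy, ← mul_assoc, hBinv, one_mul]
  refine ⟨y, -c * (b⁻¹) ^ 2, ?_, ?_⟩
  · rw [map_mul, map_neg, map_pow, map_inv₀, hy]
    linear_combination ((algebraMap F K b)⁻¹) ^ 2 * hrel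
      - ((algebraMap F K b)⁻¹ * α) * hBinv
  · rw [eq_top_iff, ← hα, IntermediateField.adjoin_simple_le_iff, hαy]
    exact mul_mem (IntermediateField.algebraMap_mem _ b)
      (IntermediateField.mem_adjoin_simple_self F y)

end H5AS
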