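import Mathlib

/-! `(x+y)^(p^a)` lies in a subring containing `x^(p^n)`, `p^n x`, `y^(p^m)`, `p^m y`. -/

namespace H5BA

theorem H5_pow_dvd_choose (p : ℕ) (hp : p.Prime) (a n k : ℕ) (hna : n ≤ a) (hk : k ≤ p ^ a)
    (hnk : ¬ p ^ n ∣ k) : p ^ (a - n + 1) ∣ (p ^ a).choose k := by
  have hk0 : k ≠ 0 := fun h => hnk (h ▸ dvd_zero _)
  have hv : k.factorization p < n := by
    by_contra hv
    push_neg at hv
    exact hnk ((pow_dvd_pow p hv).trans (Nat.ordProj_dvd k p))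
  have hC0 : (p ^ a).choose k ≠ 0 := (Nat.choose_pos hk).ne'
  rw [hp.pow_dvd_iff_le_factorization hC0, Nat.factorization_choose_prime_pow hp hk hk0]
  omega

theorem H5_binom_mem {R : Type*} [CommRing R] (S : Subalgebra ℤ R) (p : ℕ) (hp : p.Prime)
    (n m : ℕ) (x y : R) (hx1 : x ^ (p ^ n) ∈ S) (hx2 : (p : R) ^ n * x ∈ S)
    (hy1 : y ^ (p ^ m) ∈ S) (hy2 : (p : R) ^ m * y ∈ S) :
    (x + y) ^ (p ^ (n + m + n * p ^ n + m * p ^ m)) ∈ S := by
  set a := n + m + n * p ^ n + m * p ^ m with ha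
  rw [add_pow]
  refine Subalgebra.sum_mem S fun k hk => ?_
  have hk' : k ≤ p ^ a := Nat.lt_succ_iff.mp (Finset.mem_range.mp hk)
  have hpn : 0 < p ^ n := pow_pos hp.pos n
  have hpm : 0 < p ^ m := pow_pos hp.pos m
  set l := p ^ a - k with hl
  have hdiv : p ^ (n * (k % p ^ n) + m * (l % p ^ m)) ∣ (p ^ a).choose k := by
    have hr : k % p ^ n < p ^ n := Nat.mod_lt _ hpn
    have hr' : l % p ^ m < p ^ m := Nat.mod_lt _ hpm
    have hb1 : n * (k % p ^ n) ≤ n * p ^ n := Nat.mul_le_mul_left n hr.le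
    have hb2 : m * (l % p ^ m) ≤ m * p ^ m := Nat.mul_le_mul_left m hr'.le
    by_cases h1 : k % p ^ n = 0
    · by_cases h2 : l % p ^ m = 0
      · rw [h1, h2]
        simp
      · have hnd : ¬ p ^ m ∣ l := fun h => h2 (Nat.mod_eq_zero_of_dvd h)
        have hD := H5_pow_dvd_choose p hp a m l (by omega) (Nat.sub_le _ _) hnd
        rw [hl, Nat.choose_symm hk'] at hD
        refine (pow_dvd_pow p ?_).trans hD
        rw [h1]
        omega
    · have hnd : ¬ p ^ n ∣ k := fun h => h1 (Nat.mod_eq_zero_of_dvd h)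
      have hD := H5_pow_dvd_choose p hp a n k (by omega) hk' hnd
      refine (pow_dvd_pow p ?_).trans hD
      omega
  obtain ⟨c, hc⟩ := hdiv
  have hident : ∀ (N q r M q' r' c : ℕ),
      x ^ (N * q + r) * y ^ (M * q' + r') * (((p ^ (n * r + m * r') * c : ℕ)) : R) =
      ((x ^ N) ^ q * (y ^ M) ^ q') * (((p : R) ^ n * x) ^ r * ((p : R) ^ m * y) ^ r') *
        (c : R) := by
    intro N q r M q' r' c
    push_cast
    ring
  have e1 : x ^ k * y ^ l * (((p ^ a).choose k : ℕ) : R) =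
      x ^ (p ^ n * (k / p ^ n) + k % p ^ n) * y ^ (p ^ m * (l / p ^ m) + l % p ^ m) *
        (((p ^ (n * (k % p ^ n) + m * (l % p ^ m)) * c : ℕ)) : R) := by
    rw [Nat.div_add_mod, Nat.div_add_mod, hc]
  rw [e1, hident]
  exact S.mul_mem (S.mul_mem (S.mul_mem (S.pow_mem hx1 _) (S.pow_mem hy1 _))
    (S.mul_mem (S.pow_mem hx2 _) (S.pow_mem hy2 _))) (natCast_mem S c)

end H5BA
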