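import Mathlib
import Groth.Prelude.Def_BlowUp2

universe u

namespace H5BU

open BlowUp

variable (A : Type u) [CommRing A] (I : Ideal A) (π a : A)

local notation "Aa" => Localization.Away a
local notation "φ" => algebraMap A (Localization.Away a)
local notation "B" => Localization.Away π
local notation "B'" => Localization.Away (algebraMap A (Localization.Away a) π)
local notation "μ" => Localization.awayMap (algebraMap A (Localization.Away a)) π

theorem mu_algebraMap (r : A) : μ (algebraMap A B r) = algebraMap Aa B' (φ r) := by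
  simp [Localization.awayMap, IsLocalization.Away.map]

theorem ker_mu (b : B) (hb : μ b = 0) : ∃ n : ℕ, (algebraMap A B a) ^ n * b = 0 := by
  obtain ⟨k, p, hp⟩ := IsLocalization.Away.surj π b
  have h1 : algebraMap Aa B' (φ p) = 0 := by
    rw [← mu_algebraMap, ← hp, map_mul, hb, zero_mul]
  obtain ⟨⟨m, hm⟩, hm0⟩ :=
    (IsLocalization.map_eq_zero_iff (Submonoid.powers (φ π)) B' (φ p)).mp h1
  obtain ⟨j, rfl⟩ := (Submonoid.mem_powers_iff _ _).mp hm
  have h2 : φ (π ^ j * p) = 0 := by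
    rw [map_mul, map_pow]; exact hm0
  obtain ⟨⟨c, hc⟩, hc0⟩ :=
    (IsLocalization.map_eq_zero_iff (Submonoid.powers a) Aa (π ^ j * p)).mp h2
  obtain ⟨n, rfl⟩ := (Submonoid.mem_powers_iff _ _).mp hc
  refine ⟨n, ?_⟩
  have hu : IsUnit (algebraMap A B π) := IsLocalization.Away.algebraMap_isUnit π
  have h3 : (algebraMap A B a ^ n * b) * (algebraMap A B π ^ k * algebraMap A B π ^ j) = 0 := by
    have e : (algebraMap A B a ^ n * b) * (algebraMap A B π ^ k * algebraMap A B π ^ j)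
        = algebraMap A B (a ^ n * (π ^ j * p)) := by
      rw [map_mul, map_mul, map_pow, map_pow, ← hp]; ring
    have hc0' : a ^ n * (π ^ j * p) = 0 := hc0
    rw [e, hc0', map_zero]
  exact (IsUnit.mul_left_eq_zero ((hu.pow k).mul (hu.pow j))).mp h3

theorem surj_aux (w : B') (hw : w ∈ BlowUp.affineAlgebra Aa (I.map φ) (φ π)) :
    ∃ (x : BlowUp.affineAlgebra A I π) (n : ℕ),
      w * (algebraMap Aa B' (φ a)) ^ n = μ (x : B) := by
  unfold BlowUp.affineAlgebra at hw
  induction hw using Algebra.adjoin_induction with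
  | mem w hw =>
    obtain ⟨y, hy, rfl⟩ := hw
    obtain ⟨⟨⟨i, hi⟩, ⟨c, hc⟩⟩, hyi⟩ :=
      (IsLocalization.mem_map_algebraMap_iff (Submonoid.powers a) Aa).mp hy
    obtain ⟨n, rfl⟩ := (Submonoid.mem_powers_iff _ _).mp hc
    refine ⟨⟨IsLocalization.mk' B i (⟨π, Submonoid.mem_powers π⟩ : Submonoid.powers π),
      Algebra.subset_adjoin ⟨i, hi, rfl⟩⟩, n, ?_⟩
    have hu : IsUnit (algebraMap Aa B' (φ π)) := IsLocalization.Away.algebraMap_isUnit (φ π)
    have e1 : IsLocalization.mk' B' y (⟨φ π, Submonoid.mem_powers _⟩ : Submonoid.powers (φ π))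
        * algebraMap Aa B' (φ π) = algebraMap Aa B' y := IsLocalization.mk'_spec B' y _
    have e2 : IsLocalization.mk' B i (⟨π, Submonoid.mem_powers π⟩ : Submonoid.powers π)
        * algebraMap A B π = algebraMap A B i := IsLocalization.mk'_spec B i _
    have e3 : y * (φ a) ^ n = φ i := by
      rw [← map_pow]; exact hyi
    refine (hu.mul_left_inj).mp ?_
    calc (IsLocalization.mk' B' y (⟨φ π, Submonoid.mem_powers _⟩ : Submonoid.powers (φ π))
            * (algebraMap Aa B' (φ a)) ^ n) * algebraMap Aa B' (φ π)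
        = (IsLocalization.mk' B' y (⟨φ π, Submonoid.mem_powers _⟩ : Submonoid.powers (φ π))
            * algebraMap Aa B' (φ π)) * (algebraMap Aa B' (φ a)) ^ n := by ring
      _ = algebraMap Aa B' (φ i) := by rw [e1, ← map_pow, ← map_mul, e3]
      _ = μ (algebraMap A B i) := (mu_algebraMap A π a i).symm
      _ = μ (IsLocalization.mk' B i (⟨π, Submonoid.mem_powers π⟩ : Submonoid.powers π))
            * algebraMap Aa B' (φ π) := by
        rw [← e2, map_mul, mu_algebraMap]
  | algebraMap r =>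
    obtain ⟨n, b, hb⟩ := IsLocalization.Away.surj a r
    refine ⟨algebraMap A _ b, n, ?_⟩
    show algebraMap Aa B' r * (algebraMap Aa B' (φ a)) ^ n = μ (algebraMap A B b)
    rw [mu_algebraMap, ← hb, map_mul, map_pow]
  | add w1 w2 h1 h2 ih1 ih2 =>
    obtain ⟨x1, n1, e1⟩ := ih1
    obtain ⟨x2, n2, e2⟩ := ih2
    refine ⟨x1 * (algebraMap A _ a) ^ n2 + x2 * (algebraMap A _ a) ^ n1, n1 + n2, ?_⟩
    show (w1 + w2) * _ ^ (n1 + n2)
      = μ ((x1 : B) * (algebraMap A B a) ^ n2 + (x2 : B) * (algebraMap A B a) ^ n1)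
    rw [map_add, map_mul, map_mul, map_pow, map_pow, mu_algebraMap, ← e1, ← e2]
    ring
  | mul w1 w2 h1 h2 ih1 ih2 =>
    obtain ⟨x1, n1, e1⟩ := ih1
    obtain ⟨x2, n2, e2⟩ := ih2
    refine ⟨x1 * x2, n1 + n2, ?_⟩
    show (w1 * w2) * _ ^ (n1 + n2) = μ ((x1 : B) * (x2 : B))
    rw [map_mul, ← e1, ← e2]
    ring

theorem main
    (ψ : BlowUp.affineAlgebra A I π →+* BlowUp.affineAlgebra Aa (I.map φ) (φ π))
    (hψ : ∀ x : BlowUp.affineAlgebra A I π,
      ((ψ x : BlowUp.affineAlgebra Aa (I.map φ) (φ π)) : B') = μ (x : B)) :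
    letI := ψ.toAlgebra
    IsLocalization.Away (algebraMap A (BlowUp.affineAlgebra A I π) a)
      (BlowUp.affineAlgebra Aa (I.map φ) (φ π)) := by
  letI := ψ.toAlgebra
  have hψa : ∀ n : ℕ, ((ψ ((algebraMap A (BlowUp.affineAlgebra A I π) a) ^ n) :
      BlowUp.affineAlgebra Aa (I.map φ) (φ π)) : B') = (algebraMap Aa B' (φ a)) ^ n := by
    intro n
    rw [hψ]
    show μ ((algebraMap A B a) ^ n) = _
    rw [map_pow, mu_algebraMap]
  refine (isLocalization_iff _ _).mpr ⟨?_, ?_, ?_⟩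
  · rintro ⟨y, hy⟩
    obtain ⟨n, rfl⟩ := (Submonoid.mem_powers_iff _ _).mp hy
    show IsUnit (ψ ((algebraMap A (BlowUp.affineAlgebra A I π) a) ^ n))
    have hu : IsUnit (algebraMap Aa (BlowUp.affineAlgebra Aa (I.map φ) (φ π)) (φ a)) :=
      (IsLocalization.Away.algebraMap_isUnit a : IsUnit (algebraMap A (Localization.Away a) a)).map
        (algebraMap (Localization.Away a) _)
    have e : ψ ((algebraMap A (BlowUp.affineAlgebra A I π) a) ^ n)
        = (algebraMap Aa (BlowUp.affineAlgebra Aa (I.map φ) (φ π)) (φ a)) ^ n := by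
      apply Subtype.ext
      rw [hψa]
      rfl
    rw [e]
    exact hu.pow n
  · intro z
    obtain ⟨x, n, e⟩ := surj_aux A I π a (z : B') z.2
    refine ⟨(x, ⟨(algebraMap A (BlowUp.affineAlgebra A I π) a) ^ n, ⟨n, rfl⟩⟩), ?_⟩
    show z * ψ ((algebraMap A (BlowUp.affineAlgebra A I π) a) ^ n) = ψ x
    apply Subtype.ext
    show (z : B') * ((ψ ((algebraMap A (BlowUp.affineAlgebra A I π) a) ^ n) :
      BlowUp.affineAlgebra Aa (I.map φ) (φ π)) : B') = ((ψ x :
      BlowUp.affineAlgebra Aa (I.map φ) (φ π)) : B')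
    rw [hψa, hψ, e]
  · intro x y hxy
    have hxy' : ψ x = ψ y := hxy
    have h0 : μ ((x : B) - (y : B)) = 0 := by
      rw [map_sub, ← hψ, ← hψ, hxy', sub_self]
    obtain ⟨n, hn⟩ := ker_mu A π a _ h0
    refine ⟨⟨(algebraMap A (BlowUp.affineAlgebra A I π) a) ^ n, ⟨n, rfl⟩⟩, ?_⟩
    apply Subtype.ext
    show (algebraMap A B a) ^ n * (x : B) = (algebraMap A B a) ^ n * (y : B)
    have h5 : (algebraMap A B a) ^ n * (x : B) - (algebraMap A B a) ^ n * (y : B) = 0 := by
      rw [← mul_sub]; exact hn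
    exact sub_eq_zero.mp h5

end H5BU
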