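import Mathlib
import Groth.Prelude.Def_BlowUp2

universe u

namespace H5BU2

open BlowUp

variable (B A : Type u) [CommRing B] [CommRing A] [Algebra B A] (I : Ideal B) (π : B)

local notation "q" => algebraMap B A
local notation "Bp" => Localization.Away π
local notation "Ap" => Localization.Away (algebraMap B A π)
local notation "μ" => Localization.awayMap (algebraMap B A) π

theorem mu_algebraMap (r : B) : μ (algebraMap B Bp r) = algebraMap A Ap (q r) := by
  simp [Localization.awayMap, IsLocalization.Away.map]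

theorem surj_aux (hq : Function.Surjective q) (w : Ap)
    (hw : w ∈ BlowUp.affineAlgebra A (I.map q) (q π)) :
    ∃ x : BlowUp.affineAlgebra B I π, w = μ (x : Bp) := by
  unfold BlowUp.affineAlgebra at hw
  induction hw using Algebra.adjoin_induction with
  | mem w hw =>
    obtain ⟨y, hy, rfl⟩ := hw
    obtain ⟨i, hi, rfl⟩ := (Ideal.mem_map_iff_of_surjective q hq).mp hy
    refine ⟨⟨IsLocalization.mk' Bp i (⟨π, Submonoid.mem_powers π⟩ : Submonoid.powers π),
      Algebra.subset_adjoin ⟨i, hi, rfl⟩⟩, ?_⟩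
    have hu : IsUnit (algebraMap A Ap (q π)) := IsLocalization.Away.algebraMap_isUnit (q π)
    have e1 : IsLocalization.mk' Ap (q i) (⟨q π, Submonoid.mem_powers _⟩ : Submonoid.powers (q π))
        * algebraMap A Ap (q π) = algebraMap A Ap (q i) := IsLocalization.mk'_spec Ap (q i) _
    have e2 : IsLocalization.mk' Bp i (⟨π, Submonoid.mem_powers π⟩ : Submonoid.powers π)
        * algebraMap B Bp π = algebraMap B Bp i := IsLocalization.mk'_spec Bp i _
    refine (hu.mul_left_inj).mp ?_
    show IsLocalization.mk' Ap (q i) (⟨q π, Submonoid.mem_powers _⟩ : Submonoid.powers (q π))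
        * algebraMap A Ap (q π)
      = μ (IsLocalization.mk' Bp i (⟨π, Submonoid.mem_powers π⟩ : Submonoid.powers π))
        * algebraMap A Ap (q π)
    rw [e1, ← mu_algebraMap, ← mu_algebraMap, ← map_mul, e2]
  | algebraMap r =>
    obtain ⟨b, rfl⟩ := hq r
    exact ⟨algebraMap B _ b, (mu_algebraMap B A π b).symm⟩
  | add w1 w2 h1 h2 ih1 ih2 =>
    obtain ⟨x1, e1⟩ := ih1
    obtain ⟨x2, e2⟩ := ih2
    exact ⟨x1 + x2, by rw [e1, e2]; exact (map_add _ _ _).symm⟩
  | mul w1 w2 h1 h2 ih1 ih2 =>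
    obtain ⟨x1, e1⟩ := ih1
    obtain ⟨x2, e2⟩ := ih2
    exact ⟨x1 * x2, by rw [e1, e2]; exact (map_mul _ _ _).symm⟩

theorem main (hq : Function.Surjective q)
    (ψ : BlowUp.affineAlgebra B I π →+* BlowUp.affineAlgebra A (I.map q) (q π))
    (hψ : ∀ x : BlowUp.affineAlgebra B I π,
      ((ψ x : BlowUp.affineAlgebra A (I.map q) (q π)) : Ap) = μ (x : Bp)) :
    Function.Surjective ψ ∧
      ∀ x : BlowUp.affineAlgebra B I π, x ∈ RingHom.ker ψ ↔
        ∃ n : ℕ, algebraMap B (BlowUp.affineAlgebra B I π) π ^ n * x ∈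
          (RingHom.ker q).map (algebraMap B (BlowUp.affineAlgebra B I π)) := by
  have hψ0 : ∀ x : BlowUp.affineAlgebra B I π, ψ x = 0 ↔ μ (x : Bp) = 0 := by
    intro x
    rw [← hψ]
    constructor
    · intro h; rw [h]; rfl
    · intro h; exact Subtype.ext h
  have hJ : (RingHom.ker q).map (algebraMap B (BlowUp.affineAlgebra B I π)) ≤ RingHom.ker ψ := by
    rw [Ideal.map_le_iff_le_comap]
    intro j hj
    have hj0 : q j = 0 := RingHom.mem_ker.mp hj
    rw [Ideal.mem_comap, RingHom.mem_ker, hψ0]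
    show μ (algebraMap B Bp j) = 0
    rw [mu_algebraMap, hj0, map_zero]
  refine ⟨?_, ?_⟩
  · intro z
    obtain ⟨x, hx⟩ := surj_aux B A I π hq (z : Ap) z.2
    exact ⟨x, Subtype.ext (by rw [hψ]; exact hx.symm)⟩
  · intro x
    constructor
    · intro hx
      have hx0 : μ (x : Bp) = 0 := (hψ0 x).mp (RingHom.mem_ker.mp hx)
      obtain ⟨d, c, hc⟩ := IsLocalization.Away.surj π (x : Bp)
      have h1 : algebraMap A Ap (q c) = 0 := by
        rw [← mu_algebraMap, ← hc, map_mul, hx0, zero_mul]
      obtain ⟨⟨m, hm⟩, hm0⟩ :=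
        (IsLocalization.map_eq_zero_iff (Submonoid.powers (q π)) Ap (q c)).mp h1
      obtain ⟨j, rfl⟩ := (Submonoid.mem_powers_iff _ _).mp hm
      have h2 : q (π ^ j * c) = 0 := by
        rw [map_mul, map_pow]; exact hm0
      refine ⟨j + d, ?_⟩
      have e : algebraMap B (BlowUp.affineAlgebra B I π) π ^ (j + d) * x
          = algebraMap B (BlowUp.affineAlgebra B I π) (π ^ j * c) := by
        apply Subtype.ext
        show (algebraMap B Bp π) ^ (j + d) * (x : Bp) = algebraMap B Bp (π ^ j * c)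
        rw [map_mul, map_pow, ← hc]; ring
      rw [e]
      exact Ideal.mem_map_of_mem _ (RingHom.mem_ker.mpr h2)
    · rintro ⟨n, hn⟩
      have h1 : ψ (algebraMap B (BlowUp.affineAlgebra B I π) π ^ n * x) = 0 :=
        RingHom.mem_ker.mp (hJ hn)
      rw [hψ0] at h1
      have h2 : (algebraMap A Ap (q π)) ^ n * μ (x : Bp) = 0 := by
        have h4 : μ ((algebraMap B Bp π) ^ n * (x : Bp)) = 0 := h1
        rw [map_mul, map_pow, mu_algebraMap] at h4
        exact h4
      have hu : IsUnit (algebraMap A Ap (q π)) := IsLocalization.Away.algebraMap_isUnit (q π)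
      have h3 := (IsUnit.mul_right_eq_zero (hu.pow n)).mp h2
      exact RingHom.mem_ker.mpr ((hψ0 x).mpr h3)

end H5BU2
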