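import Mathlib

universe u

namespace H5CD

theorem noeth_quot {S : Type*} [CommRing S] (c : Ideal S) [IsNoetherianRing (S ⧸ c)] :
    IsNoetherian S (S ⧸ c) := by
  rw [← monotone_stabilizes_iff_noetherian]
  intro f
  let g : ℕ →o Ideal (S ⧸ c) :=
    { toFun := fun k =>
        { carrier := (f k : Set (S ⧸ c))
          add_mem' := fun ha hb => (f k).add_mem ha hb
          zero_mem' := (f k).zero_mem
          smul_mem' := by
            intro x y hy
            obtain ⟨x', rfl⟩ := Ideal.Quotient.mk_surjective x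
            have e : (Ideal.Quotient.mk c x') • y = x' • y := by
              rw [smul_eq_mul, Algebra.smul_def]; rfl
            rw [e]
            exact (f k).smul_mem x' hy }
      monotone' := fun i j hij x hx => f.monotone hij hx }
  obtain ⟨n, hn⟩ := monotone_stabilizes_iff_noetherian.2
    (inferInstance : IsNoetherian (S ⧸ c) (S ⧸ c)) g
  refine ⟨n, fun m hm => ?_⟩
  have := hn m hm
  ext x
  have h1 : x ∈ g n ↔ x ∈ g m := by rw [this]
  exact h1

theorem noeth_of_killed {S : Type*} [CommRing S] (c : Ideal S) [IsNoetherianRing (S ⧸ c)]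
    (Q : Type*) [AddCommGroup Q] [Module S Q] [Module.Finite S Q]
    (hc : ∀ s ∈ c, ∀ q : Q, s • q = 0) : IsNoetherian S Q := by
  classical
  haveI : IsNoetherian S (S ⧸ c) := noeth_quot c
  obtain ⟨m, q, hq⟩ := Module.Finite.exists_fin (R := S) (M := Q)
  let lift_i : Fin m → (S ⧸ c) →ₗ[S] Q := fun i =>
    Submodule.liftQ c (LinearMap.toSpanSingleton S Q (q i)) (by
      intro s hs
      rw [LinearMap.mem_ker, LinearMap.toSpanSingleton_apply]
      exact hc s hs (q i))
  let ψ : (Fin m → S ⧸ c) →ₗ[S] Q := ∑ i, (lift_i i).comp (LinearMap.proj i)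
  refine isNoetherian_of_surjective ψ ?_
  rw [LinearMap.range_eq_top]
  intro y
  have hy : y ∈ Submodule.span S (Set.range q) := by rw [hq]; exact Submodule.mem_top
  obtain ⟨s, hs⟩ := (Submodule.mem_span_range_iff_exists_fun S).1 hy
  refine ⟨fun i => Ideal.Quotient.mk c (s i), ?_⟩
  rw [← hs]
  simp only [ψ, LinearMap.sum_apply, LinearMap.comp_apply, LinearMap.proj_apply]
  refine Finset.sum_congr rfl (fun i _ => ?_)
  show Submodule.liftQ c (LinearMap.toSpanSingleton S Q (q i)) _
    (Submodule.Quotient.mk (s i)) = s i • q i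
  rw [Submodule.liftQ_apply, LinearMap.toSpanSingleton_apply]

theorem conductor_chain (S R : Type*) [CommRing S] [CommRing R] [Algebra S R]
    [FaithfulSMul S R] [IsNoetherianRing R] [Module.Finite S R] (c : Ideal S)
    (hc : ∀ s : S, s ∈ c ↔ ∀ r : R, ∃ s' : S, algebraMap S R s' = algebraMap S R s * r)
    [IsNoetherianRing (S ⧸ c)] (a : ℕ →o Ideal S) :
    ∃ N : ℕ, ∀ n, N ≤ n → a n = a N := by
  have hinj : Function.Injective (algebraMap S R) := FaithfulSMul.algebraMap_injective S R
  obtain ⟨B, hB⟩ : ∃ B : ℕ →o Ideal R, ∀ n, B n = Ideal.map (algebraMap S R) (a n) :=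
    ⟨⟨fun n => Ideal.map (algebraMap S R) (a n),
      fun i j hij => Ideal.map_mono (a.monotone hij)⟩, fun n => rfl⟩
  obtain ⟨N, hN⟩ := monotone_stabilizes_iff_noetherian.2 (inferInstance : IsNoetherian R R) B
  obtain ⟨b, hb⟩ : ∃ b : Ideal R, b = Ideal.map (algebraMap S R) (a N) := ⟨_, rfl⟩
  have hBn : ∀ n, N ≤ n → Ideal.map (algebraMap S R) (a n) = b := by
    intro n hn; rw [hb, ← hB, ← hB]; exact (hN n hn).symm
  obtain ⟨b', hb'mem, hb'fg⟩ : ∃ b' : Submodule S R, (∀ y, y ∈ b' ↔ y ∈ b) ∧ b'.FG :=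
    ⟨b.restrictScalars S, fun y => Iff.rfl, (IsNoetherian.noetherian b).restrictScalars⟩
  haveI : Module.Finite S ↥b' := Module.Finite.iff_fg.2 hb'fg
  obtain ⟨A, hA⟩ : ∃ A : ℕ → Submodule S R,
      ∀ n, A n = Submodule.map (Algebra.linearMap S R) (a n) := ⟨_, fun n => rfl⟩
  have hAmem : ∀ n y, y ∈ A n ↔ ∃ x ∈ a n, algebraMap S R x = y := by
    intro n y
    rw [hA, Submodule.mem_map]
    simp only [Algebra.linearMap_apply]
  have hAmono : ∀ i j, i ≤ j → A i ≤ A j := by
    intro i j hij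
    rw [hA, hA]
    exact Submodule.map_mono (a.monotone hij)
  have F1 : ∀ n, N ≤ n → A n ≤ b' := by
    intro n hn y hy
    obtain ⟨x, hx, rfl⟩ := (hAmem n y).1 hy
    rw [hb'mem, ← hBn n hn]
    exact Ideal.mem_map_of_mem _ hx
  have F2 : ∀ n, N ≤ n → c • b' ≤ A n := by
    intro n hn
    have key : ∀ y ∈ Ideal.map (algebraMap S R) (a n), ∀ s ∈ c, s • y ∈ A n := by
      intro y hy
      have hy' : y ∈ Submodule.span R ((algebraMap S R) '' (a n : Set S)) := hy
      refine Submodule.span_induction ?_ ?_ ?_ ?_ hy'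
      · rintro _ ⟨x, hx, rfl⟩ s hs
        rw [hAmem]
        exact ⟨s * x, (a n).mul_mem_left s hx, by rw [map_mul, Algebra.smul_def]⟩
      · intro s hs; rw [smul_zero]; exact (A n).zero_mem
      · intro y z _ _ hy hz s hs
        rw [smul_add]; exact (A n).add_mem (hy s hs) (hz s hs)
      · intro r y _ hy s hs
        obtain ⟨s', hs'⟩ := (hc s).1 hs r
        have hs'c : s' ∈ c := by
          refine (hc s').2 (fun r' => ?_)
          obtain ⟨s'', hs''⟩ := (hc s).1 hs (r * r')
          exact ⟨s'', by rw [hs'', hs', mul_assoc]⟩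
        have e : s • (r • y) = s' • y := by
          have h1 : s • (r • y) = algebraMap S R s * (r * y) := by
            rw [Algebra.smul_def s (r • y), smul_eq_mul]
          have h2 : s' • y = algebraMap S R s' * y := Algebra.smul_def s' y
          rw [h1, h2, hs', mul_assoc]
        rw [e]; exact hy s' hs'c
    rw [Submodule.smul_le]
    intro s hs y hy
    have hyb : y ∈ Ideal.map (algebraMap S R) (a n) := by
      rw [hBn n hn]; exact (hb'mem y).1 hy
    exact key y hyb s hs
  obtain ⟨K, hK⟩ : ∃ K : Submodule S ↥b', K = (c • b').comap b'.subtype := ⟨_, rfl⟩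
  have hKmem : ∀ z : ↥b', z ∈ K ↔ (z : R) ∈ c • b' := by
    intro z; rw [hK]; exact Submodule.mem_comap
  have hkill : ∀ s ∈ c, ∀ q : ↥b' ⧸ K, s • q = 0 := by
    intro s hs q
    obtain ⟨y, rfl⟩ := Submodule.Quotient.mk_surjective K q
    rw [← Submodule.Quotient.mk_smul, Submodule.Quotient.mk_eq_zero, hKmem]
    show s • (y : R) ∈ c • b'
    exact Submodule.smul_mem_smul hs y.2
  haveI : IsNoetherian S (↥b' ⧸ K) := noeth_of_killed c _ hkill
  obtain ⟨C, hC⟩ : ∃ C : ℕ →o Submodule S (↥b' ⧸ K),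
      ∀ k, C k = ((A k).comap b'.subtype).map K.mkQ :=
    ⟨⟨fun k => ((A k).comap b'.subtype).map K.mkQ, fun i j hij =>
      Submodule.map_mono (Submodule.comap_mono (hAmono i j hij))⟩, fun k => rfl⟩
  obtain ⟨N', hN'⟩ := monotone_stabilizes_iff_noetherian.2
    (inferInstance : IsNoetherian S (↥b' ⧸ K)) C
  refine ⟨max N N', fun n hn => ?_⟩
  have hnN : N ≤ n := le_trans (le_max_left _ _) hn
  have hnN' : N' ≤ n := le_trans (le_max_right _ _) hn
  apply le_antisymm
  · intro x hx
    have h1 : algebraMap S R x ∈ A n := (hAmem n _).2 ⟨x, hx, rfl⟩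
    have h2 : algebraMap S R x ∈ b' := F1 n hnN h1
    have h3 : K.mkQ ⟨_, h2⟩ ∈ C n := by
      rw [hC]
      exact Submodule.mem_map.2 ⟨⟨_, h2⟩, Submodule.mem_comap.2 h1, rfl⟩
    have h4 : C n = C (max N N') := by
      rw [← hN' n hnN', ← hN' (max N N') (le_max_right _ _)]
    rw [h4, hC] at h3
    obtain ⟨y, hy, hyx⟩ := Submodule.mem_map.1 h3
    have hy' : (y : R) ∈ A (max N N') := Submodule.mem_comap.1 hy
    have h5 : (⟨_, h2⟩ : ↥b') - y ∈ K := (Submodule.Quotient.eq K).1 hyx.symm
    have h6 : algebraMap S R x - (y : R) ∈ c • b' := by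
      have := (hKmem _).1 h5
      simpa using this
    have h7 : algebraMap S R x - (y : R) ∈ A (max N N') := F2 (max N N') (le_max_left _ _) h6
    have h8 : algebraMap S R x ∈ A (max N N') := by
      have := (A (max N N')).add_mem h7 hy'
      rwa [sub_add_cancel] at this
    obtain ⟨x', hx', hxx'⟩ := (hAmem _ _).1 h8
    rw [← hinj hxx']; exact hx'
  · exact a.monotone hn

end H5CD
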