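import Mathlib

namespace H5DV

theorem mem_range_of_units {R : Type*} [CommRing R] (M : Submonoid R)
    (hM : ∀ a ∈ M, IsUnit a) (u : (Localization M)ˣ) :
    u ∈ (Units.map (algebraMap R (Localization M)).toMonoidHom).range := by
  have hle : M ≤ IsUnit.submonoid R := fun a ha => hM a ha
  obtain ⟨e, he⟩ : ∃ e : R ≃ₐ[R] Localization M, e = IsLocalization.atUnits R M hle := ⟨_, rfl⟩
  have he' : ∀ x : R, e x = algebraMap R (Localization M) x := fun x => by
    have := e.commutes x
    simpa using this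
  refine ⟨⟨e.symm u, e.symm ((u⁻¹ : (Localization M)ˣ) : Localization M), ?_, ?_⟩, ?_⟩
  · rw [← map_mul, Units.mul_inv, map_one]
  · rw [← map_mul, Units.inv_mul, map_one]
  · apply Units.ext
    show algebraMap R (Localization M) (e.symm u) = u
    rw [← he', e.apply_symm_apply]

theorem one_le_dim {R : Type*} [CommRing R] [IsLocalRing R] (M : Submonoid R)
    (hM : M ≤ nonZeroDivisors R) (u : (Localization M)ˣ)
    (hu : u ∉ (Units.map (algebraMap R (Localization M)).toMonoidHom).range) :
    (1 : WithBot ℕ∞) ≤ ringKrullDim R := by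
  by_contra hdim
  apply hu
  apply mem_range_of_units M _ u
  intro a ha
  by_contra hna
  apply hdim
  have ham : a ∈ IsLocalRing.maximalIdeal R := (IsLocalRing.mem_maximalIdeal a).mpr hna
  obtain ⟨p, hp, hple⟩ :=
    Ideal.exists_minimalPrimes_le (bot_le : (⊥ : Ideal R) ≤ IsLocalRing.maximalIdeal R)
  have hap : a ∉ p := fun hap =>
    Set.disjoint_left.mp (Ideal.disjoint_nonZeroDivisors_of_mem_minimalPrimes hp) hap (hM ha)
  have hlt : p < IsLocalRing.maximalIdeal R := lt_of_le_of_ne hple (fun h => hap (h ▸ ham))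
  haveI : p.IsPrime := hp.1.1
  rw [ringKrullDim, Order.one_le_krullDim_iff]
  exact ⟨⟨p, hp.1.1⟩, ⟨IsLocalRing.maximalIdeal R, inferInstance⟩, hlt⟩

end H5DV
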