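import Mathlib
import Groth.Prelude.Def_BlowUp2

universe u
open CategoryTheory AlgebraicGeometry

namespace H5ECM

theorem alg_key {R : Type u} [CommRing R] (I J : Ideal R) (f : R) (hf : f ∈ nonZeroDivisors R)
    (hIJ : I * J = Ideal.span {f}) :
    Ideal.span {c : R | ∃ a ∈ I, ∃ b ∈ J, a * b = f * c} = ⊤ := by
  have key : ∀ z ∈ I * J, ∃ c ∈ Ideal.span {c : R | ∃ a ∈ I, ∃ b ∈ J, a * b = f * c},
      z = f * c := by
    intro z hz
    refine Submodule.mul_induction_on hz ?_ ?_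
    · intro a ha b hb
      have hab : a * b ∈ Ideal.span {f} := hIJ ▸ Ideal.mul_mem_mul ha hb
      obtain ⟨c, hc⟩ := Ideal.mem_span_singleton'.mp hab
      exact ⟨c, Ideal.subset_span ⟨a, ha, b, hb, by rw [← hc, mul_comm]⟩, by rw [← hc, mul_comm]⟩
    · rintro x y ⟨c1, h1, rfl⟩ ⟨c2, h2, rfl⟩
      exact ⟨c1 + c2, Ideal.add_mem _ h1 h2, by ring⟩
  have hfm : f ∈ I * J := by
    rw [hIJ]; exact Ideal.mem_span_singleton_self f
  obtain ⟨c, hc, hfc⟩ := key f hfm
  have hc1 : (1 : R) = c :=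
    (mul_cancel_left_mem_nonZeroDivisors hf).mp (by rw [mul_one]; exact hfc)
  rw [Ideal.eq_top_iff_one, hc1]
  exact hc

theorem alg_loc {R S : Type u} [CommRing R] [CommRing S] [Algebra R S] (c : R)
    [IsLocalization.Away c S]
    (I J : Ideal R) (f : R) (hf : f ∈ nonZeroDivisors R) (hIJ : I * J = Ideal.span {f})
    (a b : R) (ha : a ∈ I) (hb : b ∈ J) (hab : a * b = f * c) :
    algebraMap R S a ∈ nonZeroDivisors S ∧
      I.map (algebraMap R S) = Ideal.span {algebraMap R S a} := by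
  have hcu : IsUnit (algebraMap R S c) := IsLocalization.Away.algebraMap_isUnit c
  have hfS : algebraMap R S f ∈ nonZeroDivisors S :=
    IsLocalization.map_nonZeroDivisors_le (Submonoid.powers c) S
      (Submonoid.mem_map_of_mem _ hf)
  constructor
  · have h1 : algebraMap R S a * algebraMap R S b ∈ nonZeroDivisors S := by
      rw [← map_mul, hab, map_mul]
      exact mul_mem hfS hcu.mem_nonZeroDivisors
    exact (mul_mem_nonZeroDivisors.mp h1).1
  · apply le_antisymm
    · rw [Ideal.map_le_iff_le_comap]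
      intro a' ha'
      rw [Ideal.mem_comap, Ideal.mem_span_singleton']
      have h2 : a' * b ∈ Ideal.span {f} := hIJ ▸ Ideal.mul_mem_mul ha' hb
      obtain ⟨d, hd⟩ := Ideal.mem_span_singleton'.mp h2
      have h3 : a' * c = a * d := by
        apply (mul_cancel_left_mem_nonZeroDivisors hf).mp
        calc f * (a' * c) = a' * (f * c) := by ring
          _ = a' * (a * b) := by rw [hab]
          _ = a * (a' * b) := by ring
          _ = a * (d * f) := by rw [hd]
          _ = f * (a * d) := by ring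
      obtain ⟨u, hu⟩ := hcu
      refine ⟨algebraMap R S d * ↑u⁻¹, ?_⟩
      have h4 : algebraMap R S a' * algebraMap R S c = algebraMap R S a * algebraMap R S d := by
        rw [← map_mul, ← map_mul, h3]
      rw [← hu] at h4
      calc algebraMap R S d * ↑u⁻¹ * algebraMap R S a
          = (algebraMap R S a * algebraMap R S d) * ↑u⁻¹ := by ring
        _ = (algebraMap R S a' * ↑u) * ↑u⁻¹ := by rw [h4]
        _ = algebraMap R S a' := by rw [mul_assoc, Units.mul_inv, mul_one]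
    · rw [Ideal.span_le, Set.singleton_subset_iff]
      exact Ideal.mem_map_of_mem _ ha

theorem main {X : Scheme.{u}} (𝓘 𝓙 : X.IdealSheafData)
    (h : BlowUp.IsEffCartierIdeal (𝓘 * 𝓙)) : BlowUp.IsEffCartierIdeal 𝓘 := by
  intro x
  obtain ⟨U, hxU, f, hf, hIJ⟩ := h x
  have hIJ' : 𝓘.ideal U * 𝓙.ideal U = Ideal.span {f} := hIJ
  have htop := alg_key (𝓘.ideal U) (𝓙.ideal U) f hf hIJ'
  have hcov := iSup_basicOpen_of_span_eq_top U.1 _ htop
  have hx' : x ∈ ⨆ i ∈ {c : Γ(X, U.1) | ∃ a ∈ 𝓘.ideal U, ∃ b ∈ 𝓙.ideal U, a * b = f * c},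
      X.basicOpen i := by
    rw [hcov]; exact hxU
  simp only [TopologicalSpace.Opens.mem_iSup] at hx'
  obtain ⟨c, ⟨a, ha, b, hb, hab⟩, hxc⟩ := hx'
  haveI : IsLocalization.Away c Γ(X, X.basicOpen c) := U.2.isLocalization_basicOpen c
  obtain ⟨h1, h2⟩ := alg_loc (S := Γ(X, X.basicOpen c)) c (𝓘.ideal U) (𝓙.ideal U) f hf hIJ'
    a b ha hb hab
  refine ⟨X.affineBasicOpen c, hxc, algebraMap Γ(X, U.1) Γ(X, X.basicOpen c) a, h1, ?_⟩
  rw [← 𝓘.map_ideal_basicOpen U c]
  exact h2

end H5ECM
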