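import Mathlib

namespace H5FT

/-- A ring hom is of finite type iff the target is generated as a ring by the image and
finitely many elements. -/
theorem H5_finiteType_iff_closure {P Q : Type*} [CommRing P] [CommRing Q] (g : P →+* Q) :
    g.FiniteType ↔ ∃ S : Finset Q, Subring.closure (Set.range g ∪ (S : Set Q)) = ⊤ := by
  letI : Algebra P Q := g.toAlgebra
  have key : ∀ S : Finset Q, Subring.closure (Set.range g ∪ (S : Set Q)) =
      (Algebra.adjoin P (S : Set Q)).toSubring :=
    fun S => (Algebra.adjoin_eq_ring_closure (R := P) (S : Set Q)).symm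
  constructor
  · intro h
    obtain ⟨S, hS⟩ := (show Algebra.FiniteType P Q from h).out
    exact ⟨S, by rw [key, hS]; rfl⟩
  · rintro ⟨S, hS⟩
    show Algebra.FiniteType P Q
    refine ⟨⟨S, ?_⟩⟩
    apply Subalgebra.toSubring_injective
    rw [← key, hS]; rfl

end H5FT
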