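import Mathlib

universe u

namespace H5FD

variable {k K : Type*} [Field k] [Field K] [Algebra k K] {ι : Type*}
  (F : ι → IntermediateField k K) {n : ℕ} (V : Submodule K (Fin n → K))

/-- there is a nonzero `F α`-rational vector of `V` supported in `T` -/
def Good (α : ι) (T : Finset (Fin n)) : Prop :=
  ∃ v ∈ V, v ≠ 0 ∧ (∀ i, v i ∈ F α) ∧ ∀ i, v i ≠ 0 → i ∈ T

open Classical in
/-- the family of good supports -/
noncomputable def G (α : ι) : Finset (Finset (Fin n)) :=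
  Finset.univ.filter (fun T => Good F V α T)

theorem mem_G (α : ι) (T : Finset (Fin n)) : T ∈ G F V α ↔ Good F V α T := by
  classical
  unfold G
  rw [Finset.mem_filter]
  exact ⟨fun h => h.2, fun h => ⟨Finset.mem_univ _, h⟩⟩

theorem G_mono {α β : ι} (h : F β ≤ F α) : G F V β ⊆ G F V α := by
  intro T hT
  rw [mem_G] at hT ⊢
  obtain ⟨v, hvV, hv0, hvr, hvs⟩ := hT
  exact ⟨v, hvV, hv0, fun i => h (hvr i), hvs⟩

theorem descent [Nonempty ι] (hdir : ∀ a b : ι, ∃ c, F c ≤ F a ⊓ F b) (hinf : ⨅ a, F a = ⊥)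
    (H : ∀ a, ∃ v ∈ V, v ≠ 0 ∧ ∀ i, v i ∈ F a) :
    ∃ v ∈ V, v ≠ 0 ∧ ∀ i, v i ∈ Set.range (algebraMap k K) := by
  classical
  obtain ⟨α₀, hα₀⟩ : ∃ α₀, ∀ α, (G F V α₀).card ≤ (G F V α).card := by
    have hne : (Set.range fun α => (G F V α).card).Nonempty := Set.range_nonempty _
    obtain ⟨m, ⟨α₀, rfl⟩, hmin⟩ := (wellFounded_lt (α := ℕ)).has_min _ hne
    exact ⟨α₀, fun α => not_lt.1 (hmin _ ⟨α, rfl⟩)⟩
  have hB : ∀ α, G F V α₀ ⊆ G F V α := by
    intro α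
    obtain ⟨γ, hγ⟩ := hdir α α₀
    have h1 : G F V γ ⊆ G F V α₀ := G_mono F V (hγ.trans inf_le_right)
    have h2 : G F V γ ⊆ G F V α := G_mono F V (hγ.trans inf_le_left)
    have h3 : G F V γ = G F V α₀ := Finset.eq_of_subset_of_card_le h1 (hα₀ γ)
    rw [← h3]; exact h2
  have huniv : Finset.univ ∈ G F V α₀ := by
    rw [mem_G]
    obtain ⟨v, hvV, hv0, hvr⟩ := H α₀
    exact ⟨v, hvV, hv0, hvr, fun i _ => Finset.mem_univ i⟩
  obtain ⟨T, hT, hTmin⟩ := Finset.exists_min_image (G F V α₀) Finset.card ⟨_, huniv⟩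
  obtain ⟨v₀, hv₀V, hv₀0, hv₀r, hv₀s⟩ := (mem_G F V α₀ T).1 hT
  obtain ⟨i₀, hi₀⟩ : ∃ i₀, v₀ i₀ ≠ 0 := by
    by_contra hcon
    push_neg at hcon
    exact hv₀0 (funext hcon)
  have hi₀T : i₀ ∈ T := hv₀s i₀ hi₀
  have hC : ∀ w ∈ V, (∀ i, w i ∈ F α₀) → (∀ i, w i ≠ 0 → i ∈ T) → w i₀ = 0 → w = 0 := by
    intro w hwV hwr hws hwi
    by_contra hw0
    have hgood : T.erase i₀ ∈ G F V α₀ := by
      rw [mem_G]
      refine ⟨w, hwV, hw0, hwr, fun i hi => ?_⟩
      rw [Finset.mem_erase]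
      refine ⟨?_, hws i hi⟩
      rintro rfl
      exact hi hwi
    have h1 := hTmin _ hgood
    have h2 : (T.erase i₀).card < T.card := Finset.card_erase_lt_of_mem hi₀T
    omega
  refine ⟨(v₀ i₀)⁻¹ • v₀, V.smul_mem _ hv₀V, ?_, ?_⟩
  · intro h0
    have h1 := congrFun h0 i₀
    simp only [Pi.smul_apply, smul_eq_mul, Pi.zero_apply] at h1
    rw [inv_mul_cancel₀ hi₀] at h1
    exact one_ne_zero h1
  · intro i
    have hall : ∀ α, ((v₀ i₀)⁻¹ • v₀) i ∈ F α := by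
      intro α
      obtain ⟨γ, hγ⟩ := hdir α α₀
      have hγα : F γ ≤ F α := hγ.trans inf_le_left
      have hγ0 : F γ ≤ F α₀ := hγ.trans inf_le_right
      obtain ⟨vγ, hvV, hv0, hvr, hvs⟩ := (mem_G F V γ T).1 (hB γ hT)
      have hvγi : vγ i₀ ≠ 0 := by
        intro h
        exact hv0 (hC vγ hvV (fun i => hγ0 (hvr i)) hvs h)
      have hd : (vγ i₀)⁻¹ • vγ - (v₀ i₀)⁻¹ • v₀ = 0 := by
        apply hC
        · exact V.sub_mem (V.smul_mem _ hvV) (V.smul_mem _ hv₀V)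
        · intro j
          simp only [Pi.sub_apply, Pi.smul_apply, smul_eq_mul]
          exact (F α₀).sub_mem
            ((F α₀).mul_mem ((F α₀).inv_mem (hγ0 (hvr i₀))) (hγ0 (hvr j)))
            ((F α₀).mul_mem ((F α₀).inv_mem (hv₀r i₀)) (hv₀r j))
        · intro j hj
          by_contra hjT
          apply hj
          have h1 : vγ j = 0 := by
            by_contra h; exact hjT (hvs j h)
          have h2 : v₀ j = 0 := by
            by_contra h; exact hjT (hv₀s j h)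
          simp only [Pi.sub_apply, Pi.smul_apply, smul_eq_mul, h1, h2, mul_zero, sub_self]
        · simp only [Pi.sub_apply, Pi.smul_apply, smul_eq_mul]
          rw [inv_mul_cancel₀ hvγi, inv_mul_cancel₀ hi₀, sub_self]
      have heq : (v₀ i₀)⁻¹ • v₀ = (vγ i₀)⁻¹ • vγ := (sub_eq_zero.1 hd).symm
      rw [heq]
      simp only [Pi.smul_apply, smul_eq_mul]
      exact hγα ((F γ).mul_mem ((F γ).inv_mem (hvr i₀)) (hvr i))
    have hmem : ((v₀ i₀)⁻¹ • v₀) i ∈ ((⨅ a, F a : IntermediateField k K) : Set K) := by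
      rw [IntermediateField.coe_iInf]
      exact Set.mem_iInter.2 hall
    have hmem' : ((v₀ i₀)⁻¹ • v₀) i ∈ (⨅ a, F a : IntermediateField k K) := hmem
    rw [hinf, IntermediateField.mem_bot] at hmem'
    exact hmem'

end H5FD
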