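import Mathlib

universe u

namespace H5FE

open scoped IntermediateField.algebraAdjoinAdjoin

theorem main {k : Type u} [Field k]
    (C : ∀ (K : Type u) [Field K] [Algebra k K], Prop)
    (h₂ : ∀ (K : Type u) [Field K] [Algebra k K], C K →
      ∃ K' : IntermediateField k K, K'.FG ∧ C K')
    (h₃ : ∀ (A K : Type u) [CommRing A] [IsDomain A] [Algebra k A] [Algebra.FiniteType k A]
      [Field K] [Algebra k K] [Algebra A K] [IsScalarTower k A K] [IsFractionRing A K], C K →
      ∃ f : A, f ≠ 0 ∧ ∀ (K' : Type u) [Field K'] [Algebra k K'] (φ : Localization.Away f →ₐ[k] K'),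
        Function.Surjective φ → C K')
    (hC : ∃ (K : Type u) (_ : Field K) (_ : Algebra k K), C K) :
    ∃ (K' : Type u) (_ : Field K') (_ : Algebra k K'), Module.Finite k K' ∧ C K' := by
  classical
  obtain ⟨K, instF, instA, hCK⟩ := hC
  obtain ⟨K', hfg, hCK'⟩ := h₂ K hCK
  obtain ⟨t, ht⟩ := hfg
  subst ht
  haveI : Algebra.FiniteType k (Algebra.adjoin k (↑t : Set K)) :=
    (Subalgebra.fg_iff_finiteType _).mp (Subalgebra.fg_adjoin_finset t)
  obtain ⟨f, hf0, hf⟩ :=
    h₃ (Algebra.adjoin k (↑t : Set K)) (IntermediateField.adjoin k (↑t : Set K)) hCK'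
  haveI : IsDomain (Localization.Away f) :=
    IsLocalization.isDomain_localization (powers_le_nonZeroDivisors_of_noZeroDivisors hf0)
  obtain ⟨m, hm⟩ := Ideal.exists_maximal (Localization.Away f)
  haveI := hm
  letI : Field (Localization.Away f ⧸ m) := Ideal.Quotient.field m
  haveI : Algebra.FiniteType k (Localization.Away f ⧸ m) :=
    Algebra.FiniteType.of_surjective (Ideal.Quotient.mkₐ k m) (Ideal.Quotient.mkₐ_surjective k m)
  refine ⟨Localization.Away f ⧸ m, inferInstance, inferInstance, ?_, ?_⟩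
  · exact finite_of_finite_type_of_isJacobsonRing k (Localization.Away f ⧸ m)
  · exact hf (Localization.Away f ⧸ m) (Ideal.Quotient.mkₐ k m) (Ideal.Quotient.mkₐ_surjective k m)

end H5FE
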