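import Mathlib

namespace H5GLU

open LaurentPolynomial

theorem zpow_unitT {A : Type*} [CommRing A] (uT : (LaurentPolynomial A)ˣ)
    (h1 : (uT : LaurentPolynomial A) = T 1) (e : ℤ) :
    ((uT ^ e : (LaurentPolynomial A)ˣ) : LaurentPolynomial A) = T e := by
  have hinv : ((uT⁻¹ : (LaurentPolynomial A)ˣ) : LaurentPolynomial A) = T (-1) := by
    apply Units.inv_eq_of_mul_eq_one_right
    rw [h1, ← T_add]
    simp
  induction e using Int.induction_on with
  | zero => simp
  | succ n ih => rw [zpow_add_one, Units.val_mul, ih, h1, ← T_add]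
  | pred n ih => rw [zpow_sub_one, Units.val_mul, ih, hinv, ← T_add, sub_eq_add_neg]

theorem inj_of_hom {A P : Type*} [CommRing A] [Nontrivial A] [CommRing P] [Algebra A P] (Δ : P)
    (φ : P →+* LaurentPolynomial A) (hφΔ : φ Δ = T 1)
    (hφC : ∀ a, φ (algebraMap A P a) = C a) :
    Function.Injective (fun p : Aˣ × ℤ =>
        Units.map (algebraMap A (Localization.Away Δ)).toMonoidHom p.1 *
          (IsLocalization.Away.algebraMap_isUnit (S := Localization.Away Δ) Δ).unit ^ p.2) := by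
  have hunit : IsUnit (φ Δ) := by rw [hφΔ]; exact isUnit_T 1
  obtain ⟨ψ, hψ⟩ : ∃ ψ : Localization.Away Δ →+* LaurentPolynomial A,
      ∀ x : P, ψ (algebraMap P (Localization.Away Δ) x) = φ x :=
    ⟨IsLocalization.Away.lift Δ hunit, fun x => IsLocalization.Away.lift_eq Δ hunit x⟩
  have hψA : ∀ a : A, ψ (algebraMap A (Localization.Away Δ) a) = C a := by
    intro a
    rw [IsScalarTower.algebraMap_apply A P (Localization.Away Δ), hψ, hφC]
  obtain ⟨uΔ, huΔ, huval⟩ : ∃ uΔ : (Localization.Away Δ)ˣ,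
      uΔ = (IsLocalization.Away.algebraMap_isUnit (S := Localization.Away Δ) Δ).unit ∧
      (uΔ : Localization.Away Δ) = algebraMap P (Localization.Away Δ) Δ :=
    ⟨_, rfl, IsUnit.unit_spec _⟩
  rw [← huΔ]
  obtain ⟨ψ', hψ'⟩ : ∃ ψ' : Localization.Away Δ →* LaurentPolynomial A, ∀ x, ψ' x = ψ x :=
    ⟨ψ.toMonoidHom, fun x => rfl⟩
  have hmapu : ((Units.map ψ' uΔ : (LaurentPolynomial A)ˣ) : LaurentPolynomial A) = T 1 := by
    rw [Units.coe_map, hψ', huval, hψ, hφΔ]
  have hpow : ∀ e : ℤ, ψ ((uΔ ^ e : (Localization.Away Δ)ˣ) : Localization.Away Δ) = T e := by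
    intro e
    have h5 : ψ' ((uΔ ^ e : (Localization.Away Δ)ˣ) : Localization.Away Δ) =
        ((Units.map ψ' uΔ ^ e : (LaurentPolynomial A)ˣ) : LaurentPolynomial A) := by
      rw [← map_zpow, Units.coe_map]
    rw [← hψ', h5, zpow_unitT _ hmapu]
  have key : ∀ (a : Aˣ) (e : ℤ),
      ψ ((Units.map (algebraMap A (Localization.Away Δ)).toMonoidHom a * uΔ ^ e :
        (Localization.Away Δ)ˣ) : Localization.Away Δ) = AddMonoidAlgebra.single e (a : A) := by
    intro a e
    rw [Units.val_mul, map_mul, single_eq_C_mul_T, hpow]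
    congr 1
    rw [Units.coe_map]
    exact hψA a
  rintro ⟨a, e⟩ ⟨b, f⟩ h
  dsimp only at h
  have h2 : ψ ((Units.map (algebraMap A (Localization.Away Δ)).toMonoidHom a * uΔ ^ e :
        (Localization.Away Δ)ˣ) : Localization.Away Δ) =
      ψ ((Units.map (algebraMap A (Localization.Away Δ)).toMonoidHom b * uΔ ^ f :
        (Localization.Away Δ)ˣ) : Localization.Away Δ) := by rw [h]
  rw [key, key, AddMonoidAlgebra.single_inj] at h2
  rcases h2 with ⟨h3, h4⟩ | ⟨h3, _⟩
  · exact Prod.ext (Units.ext h4) h3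
  · exact absurd h3 a.ne_zero

theorem gl_inj (A : Type*) [CommRing A] [Nontrivial A] (n : ℕ) (hn : 0 < n) :
    Function.Injective (fun p : Aˣ × ℤ =>
        Units.map (algebraMap A (Localization.Away
          (Matrix.mvPolynomialX (Fin n) (Fin n) A).det)).toMonoidHom p.1 *
          (IsLocalization.Away.algebraMap_isUnit
            (S := Localization.Away (Matrix.mvPolynomialX (Fin n) (Fin n) A).det)
            (Matrix.mvPolynomialX (Fin n) (Fin n) A).det).unit ^ p.2) := by
  classical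
  obtain ⟨φ, hφX, hφC⟩ : ∃ φ : MvPolynomial (Fin n × Fin n) A →+* LaurentPolynomial A,
      (∀ i j, φ (MvPolynomial.X (i, j)) = Matrix.diagonal
        (fun i : Fin n => if i = (⟨0, hn⟩ : Fin n) then (T 1 : LaurentPolynomial A) else 1) i j) ∧
      (∀ a, φ (MvPolynomial.C a) = C a) :=
    ⟨MvPolynomial.eval₂Hom (C : A →+* LaurentPolynomial A)
      (fun ij : Fin n × Fin n => Matrix.diagonal
        (fun i : Fin n => if i = (⟨0, hn⟩ : Fin n) then (T 1 : LaurentPolynomial A) else 1)
        ij.1 ij.2),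
      fun i j => MvPolynomial.eval₂Hom_X' _ _ _, fun a => MvPolynomial.eval₂Hom_C _ _ _⟩
  apply inj_of_hom _ φ
  · rw [RingHom.map_det]
    have hmat : φ.mapMatrix (Matrix.mvPolynomialX (Fin n) (Fin n) A) = Matrix.diagonal
        (fun i : Fin n => if i = (⟨0, hn⟩ : Fin n) then (T 1 : LaurentPolynomial A) else 1) := by
      apply Matrix.ext
      intro i j
      simp only [RingHom.mapMatrix_apply, Matrix.map_apply, Matrix.mvPolynomialX_apply]
      exact hφX i j
    rw [hmat, Matrix.det_diagonal, Finset.prod_ite_eq', if_pos (Finset.mem_univ _)]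
  · intro a
    rw [MvPolynomial.algebraMap_eq]
    exact hφC a

end H5GLU
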