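import Mathlib

universe u

namespace H5GL

theorem smul_inj_of_isUnit {R M : Type*} [CommRing R] [AddCommGroup M] [Module R M] {r : R}
    (h : IsUnit (algebraMap R (Module.End R M) r)) {a b : M} (hab : r • a = r • b) : a = b := by
  have hb := (Module.End.isUnit_iff _).1 h
  apply hb.1
  rw [Module.algebraMap_end_apply, Module.algebraMap_end_apply]
  exact hab

theorem isUnit_pow_end {R M : Type*} [CommRing R] [AddCommGroup M] [Module R M] {r : R}
    (h : IsUnit (algebraMap R (Module.End R M) r)) (n : ℕ) :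
    IsUnit (algebraMap R (Module.End R M) (r ^ n)) := by
  rw [map_pow]; exact h.pow n

theorem pow_smul_inj {R M : Type*} [CommRing R] [AddCommGroup M] [Module R M] {r : R}
    (h : IsUnit (algebraMap R (Module.End R M) r)) (n : ℕ) {a b : M}
    (hab : r ^ n • a = r ^ n • b) : a = b :=
  smul_inj_of_isUnit (isUnit_pow_end h n) hab

theorem loc_lemma {R : Type*} [CommRing R] (a b : R) {M M₁ M₂ : Type*}
    [AddCommGroup M] [Module R M] [AddCommGroup M₁] [Module R M₁] [AddCommGroup M₂] [Module R M₂]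
    (g : M →ₗ[R] M₁) [IsLocalizedModule (Submonoid.powers b) g]
    (t : M →ₗ[R] M₂) [IsLocalizedModule (Submonoid.powers (a * b)) t]
    (v : M₁ →ₗ[R] M₂) (hv : v ∘ₗ g = t) (x y : M₁) (hxy : v x = v y) :
    ∃ n : ℕ, a ^ n • x = a ^ n • y := by
  obtain ⟨⟨x0, s⟩, hs⟩ := IsLocalizedModule.surj (Submonoid.powers b) g x
  obtain ⟨⟨y0, s'⟩, hs'⟩ := IsLocalizedModule.surj (Submonoid.powers b) g y
  obtain ⟨p, hp⟩ := (Submonoid.mem_powers_iff _ _).1 s.2
  obtain ⟨q, hq⟩ := (Submonoid.mem_powers_iff _ _).1 s'.2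
  change s • x = g x0 at hs
  change s' • y = g y0 at hs'
  rw [Submonoid.smul_def, ← hp] at hs
  rw [Submonoid.smul_def, ← hq] at hs'
  have hvg : ∀ z, v (g z) = t z := fun z => LinearMap.congr_fun hv z
  have h1 : t (b ^ q • x0) = t (b ^ p • y0) := by
    rw [← hvg, ← hvg]
    simp only [map_smul]
    rw [← hs, ← hs']
    simp only [map_smul]
    rw [hxy, smul_comm]
  obtain ⟨c, hc⟩ := IsLocalizedModule.exists_of_eq (S := Submonoid.powers (a * b)) (f := t) h1
  obtain ⟨n, hn⟩ := (Submonoid.mem_powers_iff _ _).1 c.2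
  rw [Submonoid.smul_def, Submonoid.smul_def, ← hn] at hc
  have h2 := congrArg g hc
  simp only [map_smul] at h2
  rw [← hs, ← hs'] at h2
  refine ⟨n, ?_⟩
  have hunit : IsUnit (algebraMap R (Module.End R M₁) b) :=
    IsLocalizedModule.map_units (S := Submonoid.powers b) g ⟨b, Submonoid.mem_powers b⟩
  apply pow_smul_inj hunit (n + p + q)
  rw [smul_smul, smul_smul]
  convert h2 using 1
  · rw [smul_smul, smul_smul]; congr 1; ring
  · rw [smul_smul, smul_smul]; congr 1; ring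

theorem main {R : Type u} [CommRing R] {ι : Type u} [Finite ι] (f : ι → R)
    (Mi : ι → Type u) [∀ i, AddCommGroup (Mi i)] [∀ i, Module R (Mi i)]
    (hMi : ∀ i, IsUnit (algebraMap R (Module.End R (Mi i)) (f i)))
    (Mij : ι → ι → Type u) [∀ i j, AddCommGroup (Mij i j)] [∀ i j, Module R (Mij i j)]
    (g : ∀ i j, Mi i →ₗ[R] Mij i j) [∀ i j, IsLocalizedModule (Submonoid.powers (f j)) (g i j)]
    (ψ : ∀ i j, Mij i j ≃ₗ[R] Mij j i)
    (T : ι → ι → ι → Type u) [∀ i j k, AddCommGroup (T i j k)] [∀ i j k, Module R (T i j k)]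
    (t : ∀ i j k, Mi i →ₗ[R] T i j k)
    [∀ i j k, IsLocalizedModule (Submonoid.powers (f j * f k)) (t i j k)]
    (u : ∀ i j k, Mij i j →ₗ[R] T i j k) (hu : ∀ i j k, u i j k ∘ₗ g i j = t i j k)
    (v : ∀ i j k, Mij i k →ₗ[R] T i j k) (hv : ∀ i j k, v i j k ∘ₗ g i k = t i j k)
    (Ψ₁ : ∀ i j k, T i j k →ₗ[R] T j i k)
    (hΨ₁ : ∀ i j k, Ψ₁ i j k ∘ₗ u i j k = u j i k ∘ₗ (ψ i j).toLinearMap)
    (Ψ₂ : ∀ i j k, T j i k →ₗ[R] T k i j)
    (hΨ₂ : ∀ i j k, Ψ₂ i j k ∘ₗ v j i k = v k i j ∘ₗ (ψ j k).toLinearMap)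
    (Ψ₃ : ∀ i j k, T i j k →ₗ[R] T k i j)
    (hΨ₃ : ∀ i j k, Ψ₃ i j k ∘ₗ v i j k = u k i j ∘ₗ (ψ i k).toLinearMap)
    (hcoc : ∀ i j k, Ψ₂ i j k ∘ₗ Ψ₁ i j k = Ψ₃ i j k)
    (M : Submodule R (∀ i, Mi i))
    (hM : ∀ m : ∀ i, Mi i, m ∈ M ↔ ∀ i j, g i j (m i) = ψ j i (g j i (m j))) (i : ι) :
    IsLocalizedModule (Submonoid.powers (f i))
      ((LinearMap.proj i).comp M.subtype : ↥M →ₗ[R] Mi i) := by
  classical
  haveI : Fintype ι := Fintype.ofFinite ι
  have hugt : ∀ a b c z, u a b c (g a b z) = t a b c z := fun a b c z =>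
    LinearMap.congr_fun (hu a b c) z
  have hvgt : ∀ a b c z, v a b c (g a c z) = t a b c z := fun a b c z =>
    LinearMap.congr_fun (hv a b c) z
  have h1 : ∀ a b c z, Ψ₁ a b c (u a b c z) = u b a c (ψ a b z) := fun a b c z =>
    LinearMap.congr_fun (hΨ₁ a b c) z
  have h2 : ∀ a b c z, Ψ₂ a b c (v b a c z) = v c a b (ψ b c z) := fun a b c z =>
    LinearMap.congr_fun (hΨ₂ a b c) z
  have h3 : ∀ a b c z, Ψ₃ a b c (v a b c z) = u c a b (ψ a c z) := fun a b c z =>
    LinearMap.congr_fun (hΨ₃ a b c) z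
  have hc : ∀ a b c z, Ψ₂ a b c (Ψ₁ a b c z) = Ψ₃ a b c z := fun a b c z =>
    LinearMap.congr_fun (hcoc a b c) z
  have hfi : ∀ (n : ℕ) {a b : Mi i}, f i ^ n • a = f i ^ n • b → a = b :=
    fun n a b h => pow_smul_inj (hMi i) n h
  have hfij : ∀ (j : ι) (n : ℕ) {a b : Mij j i}, f i ^ n • a = f i ^ n • b → a = b :=
    fun j n a b h => pow_smul_inj
      (IsLocalizedModule.map_units (S := Submonoid.powers (f i)) (g j i)
        ⟨f i, Submonoid.mem_powers (f i)⟩) n h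
  have hL : ∀ (j k : ι) (x y : Mij j k), v j i k x = v j i k y →
      ∃ n : ℕ, f i ^ n • x = f i ^ n • y :=
    fun j k x y h => loc_lemma (f i) (f k) (g j k) (t j i k) (v j i k) (hv j i k) x y h
  have hmapT : ∀ x : Submonoid.powers (f i),
      IsUnit (algebraMap R (Module.End R (T i i i)) x) := by
    intro x
    obtain ⟨n, hn⟩ := (Submonoid.mem_powers_iff _ _).1 x.2
    have hsq : IsUnit (algebraMap R (Module.End R (T i i i)) (f i * f i)) :=
      IsLocalizedModule.map_units (S := Submonoid.powers (f i * f i)) (t i i i)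
        ⟨f i * f i, Submonoid.mem_powers (f i * f i)⟩
    rw [map_mul] at hsq
    have hone : IsUnit (algebraMap R (Module.End R (T i i i)) (f i)) :=
      ((Commute.refl _).isUnit_mul_iff.1 hsq).1
    rw [← hn]
    exact isUnit_pow_end hone n
  have huv : u i i i = v i i i :=
    IsLocalizedModule.ext (S := Submonoid.powers (f i)) (f := g i i) hmapT (by rw [hu, hv])
  have hid : ∀ z : Mi i, ψ i i (g i i z) = g i i z := by
    intro z
    have e3 : u i i i (ψ i i (ψ i i (g i i z))) = u i i i (ψ i i (g i i z)) := by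
      have a1 : Ψ₃ i i i (t i i i z) = u i i i (ψ i i (g i i z)) := by
        rw [← hvgt i i i, h3]
      have a2 : Ψ₂ i i i (Ψ₁ i i i (t i i i z)) = u i i i (ψ i i (ψ i i (g i i z))) := by
        rw [← hugt i i i, h1, huv, h2]
      rw [← a1, ← a2, hc]
    rw [huv] at e3
    obtain ⟨n, hn⟩ := hL i i _ _ e3
    have h5 := hfij i n hn
    exact (ψ i i).injective h5
  refine ⟨?_, ?_, ?_⟩
  · intro x
    obtain ⟨n, hn⟩ := (Submonoid.mem_powers_iff _ _).1 x.2
    rw [← hn]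
    exact isUnit_pow_end (hMi i) n
  · intro y
    have hs : ∀ j, ∃ (xj : Mi j) (n : ℕ), g j i xj = f i ^ n • ψ i j (g i j y) := by
      intro j
      obtain ⟨⟨x0, s⟩, hs⟩ :=
        IsLocalizedModule.surj (Submonoid.powers (f i)) (g j i) (ψ i j (g i j y))
      obtain ⟨p, hp⟩ := (Submonoid.mem_powers_iff _ _).1 s.2
      change s • ψ i j (g i j y) = g j i x0 at hs
      rw [Submonoid.smul_def, ← hp] at hs
      exact ⟨x0, p, hs.symm⟩
    choose x0 n0 hx0 using hs
    obtain ⟨N, hN⟩ : ∃ N, ∀ j, n0 j ≤ N :=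
      ⟨Finset.univ.sup n0, fun j => Finset.le_sup (Finset.mem_univ j)⟩
    obtain ⟨x, hx⟩ : ∃ x : ∀ j, Mi j, ∀ j, g j i (x j) = f i ^ N • ψ i j (g i j y) := by
      refine ⟨fun j => f i ^ (N - n0 j) • x0 j, fun j => ?_⟩
      show g j i (f i ^ (N - n0 j) • x0 j) = _
      rw [map_smul, hx0, smul_smul, ← pow_add, Nat.sub_add_cancel (hN j)]
    have claim : ∀ j k, v j i k (g j k (x j)) = v j i k (ψ k j (g k j (x k))) := by
      intro j k
      have e1 : v j i k (g j k (x j)) = f i ^ N • Ψ₁ i j k (t i j k y) := by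
        rw [hvgt, ← hugt j i k, hx j, map_smul, ← h1, hugt]
      have e2 : v j i k (ψ k j (g k j (x k))) = f i ^ N • Ψ₁ i j k (t i j k y) := by
        rw [← h2 i k j, hvgt k i j, ← hugt k i j, hx k, map_smul, map_smul, ← h1 i k j,
          hugt i k j, hc i k j, ← hvgt i k j, h3 i k j, ← h1 i j k, hugt]
      rw [e1, e2]
    have hpair : ∀ j k, ∃ n : ℕ,
        f i ^ n • g j k (x j) = f i ^ n • ψ k j (g k j (x k)) :=
      fun j k => hL j k _ _ (claim j k)
    choose n1 hn1 using hpair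
    obtain ⟨N1, hN1⟩ : ∃ N1, ∀ j k, n1 j k ≤ N1 :=
      ⟨Finset.univ.sup fun j => Finset.univ.sup (n1 j), fun j k =>
        le_trans (Finset.le_sup (f := n1 j) (Finset.mem_univ k))
          (Finset.le_sup (f := fun j => Finset.univ.sup (n1 j)) (Finset.mem_univ j))⟩
    have hmem : (fun j => f i ^ N1 • x j) ∈ M := by
      rw [hM]
      intro j k
      show g j k (f i ^ N1 • x j) = ψ k j (g k j (f i ^ N1 • x k))
      have e := hn1 j k
      rw [map_smul, map_smul, map_smul, ← Nat.sub_add_cancel (hN1 j k), pow_add, mul_smul,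
        mul_smul, e]
    have hxi : x i = f i ^ N • y := by
      have e : g i i (x i) = g i i (f i ^ N • y) := by
        rw [hx i, hid, map_smul]
      obtain ⟨c, hc'⟩ :=
        IsLocalizedModule.exists_of_eq (S := Submonoid.powers (f i)) (f := g i i) e
      obtain ⟨n, hn⟩ := (Submonoid.mem_powers_iff _ _).1 c.2
      rw [Submonoid.smul_def, Submonoid.smul_def, ← hn] at hc'
      exact hfi n hc'
    refine ⟨(⟨fun j => f i ^ N1 • x j, hmem⟩,
      ⟨f i ^ (N1 + N), pow_mem (Submonoid.mem_powers (f i)) _⟩), ?_⟩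
    show f i ^ (N1 + N) • y = f i ^ N1 • x i
    rw [hxi, smul_smul, pow_add]
  · intro m₁ m₂ h
    have h0 : (m₁ : ∀ j, Mi j) i = (m₂ : ∀ j, Mi j) i := h
    have hm1 := (hM _).1 m₁.2
    have hm2 := (hM _).1 m₂.2
    have hz : ∀ j, ∃ n : ℕ,
        f i ^ n • (m₁ : ∀ j, Mi j) j = f i ^ n • (m₂ : ∀ j, Mi j) j := by
      intro j
      have e : g j i ((m₁ : ∀ j, Mi j) j) = g j i ((m₂ : ∀ j, Mi j) j) := by
        rw [hm1 j i, hm2 j i, h0]
      obtain ⟨c, hc'⟩ :=
        IsLocalizedModule.exists_of_eq (S := Submonoid.powers (f i)) (f := g j i) e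
      obtain ⟨n, hn⟩ := (Submonoid.mem_powers_iff _ _).1 c.2
      rw [Submonoid.smul_def, Submonoid.smul_def, ← hn] at hc'
      exact ⟨n, hc'⟩
    choose n hn using hz
    obtain ⟨N, hN⟩ : ∃ N, ∀ j, n j ≤ N :=
      ⟨Finset.univ.sup n, fun j => Finset.le_sup (Finset.mem_univ j)⟩
    refine ⟨⟨f i ^ N, pow_mem (Submonoid.mem_powers (f i)) _⟩, ?_⟩
    apply Subtype.ext
    funext j
    show f i ^ N • (m₁ : ∀ j, Mi j) j = f i ^ N • (m₂ : ∀ j, Mi j) j
    rw [← Nat.sub_add_cancel (hN j), pow_add, mul_smul, mul_smul, hn j]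

end H5GL
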