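import Mathlib

/-! helper5: homogeneous prime avoidance. -/

set_option autoImplicit false

open DirectSum

section
variable {R S : Type*} [CommRing R] [CommRing S] [Algebra R S] (𝒜 : ℕ → Submodule R S)
  [GradedAlgebra 𝒜]

theorem H5_graded_prime_avoidance (I : HomogeneousIdeal 𝒜)
    (hI : I ≤ HomogeneousIdeal.irrelevant 𝒜) :
    ∀ (n : ℕ) (s : Finset (HomogeneousIdeal 𝒜)), s.card = n →
      (∀ p ∈ s, p.toIdeal.IsPrime) → (∀ p ∈ s, ¬ I ≤ p) →
      ∃ x : S, ∃ d : ℕ, 0 < d ∧ x ∈ 𝒜 d ∧ x ∈ I ∧ ∀ p ∈ s, x ∉ p := by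
  classical
  intro n
  induction n with
  | zero =>
    intro s hs _ _
    rw [Finset.card_eq_zero] at hs
    subst hs
    exact ⟨0, 1, one_pos, zero_mem _, zero_mem _, by simp⟩
  | succ n ih =>
    intro s hs hprime hnot
    have hne : s.Nonempty := by rw [← Finset.card_pos]; omega
    obtain ⟨q, hq, hqmin⟩ := s.exists_minimal hne
    have hcard : (s.erase q).card = n := by rw [Finset.card_erase_of_mem hq]; omega
    obtain ⟨x, d, hd, hxd, hxI, hxp⟩ := ih (s.erase q) hcard
      (fun p hp => hprime p (Finset.mem_of_mem_erase hp))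
      (fun p hp => hnot p (Finset.mem_of_mem_erase hp))
    by_cases hxq : x ∈ q
    swap
    · refine ⟨x, d, hd, hxd, hxI, fun p hp => ?_⟩
      by_cases hpq : p = q
      · subst hpq; exact hxq
      · exact hxp p (Finset.mem_erase.mpr ⟨hpq, hp⟩)
    have hqprime := hprime q hq
    let J : Ideal S := I.toIdeal ⊓ (s.erase q).inf (fun p => p.toIdeal)
    have hJhom : J.IsHomogeneous 𝒜 := by
      refine Ideal.IsHomogeneous.inf I.isHomogeneous ?_
      rw [Finset.inf_eq_iInf]
      exact Ideal.IsHomogeneous.iInf₂ fun p _ => p.isHomogeneous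
    have hJq : ¬ J ≤ q.toIdeal := by
      intro hle
      rcases (Ideal.IsPrime.inf_le hqprime).mp hle with h1 | h1
      · exact hnot q hq h1
      · obtain ⟨p, hp, hpq⟩ := (Ideal.IsPrime.inf_le' hqprime).mp h1
        have hpne : p ≠ q := (Finset.mem_erase.mp hp).1
        have hps : p ∈ s := Finset.mem_of_mem_erase hp
        have hpq' : p ≤ q := hpq
        exact hpne (le_antisymm hpq' (hqmin hps hpq'))
    obtain ⟨z, hzJ, hzq⟩ := SetLike.not_le_iff_exists.mp hJq
    have hex : ∃ e, (DirectSum.decompose 𝒜 z e : S) ∉ q.toIdeal := by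
      by_contra hall
      push Not at hall
      apply hzq
      rw [← DirectSum.sum_support_decompose 𝒜 z]
      exact Ideal.sum_mem _ fun e _ => hall e
    obtain ⟨e, hye⟩ := hex
    have hyJ : (DirectSum.decompose 𝒜 z e : S) ∈ J := hJhom e hzJ
    have hyI : (DirectSum.decompose 𝒜 z e : S) ∈ I.toIdeal := hyJ.1
    have hyp : ∀ p ∈ s.erase q, (DirectSum.decompose 𝒜 z e : S) ∈ p.toIdeal := fun p hp =>
      (Finset.inf_le hp : (s.erase q).inf (fun p => p.toIdeal) ≤ p.toIdeal) hyJ.2
    have hye_mem : (DirectSum.decompose 𝒜 z e : S) ∈ 𝒜 e := (DirectSum.decompose 𝒜 z e).2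
    have hepos : 0 < e := by
      rcases Nat.eq_zero_or_pos e with rfl | h
      · exfalso
        apply hye
        have h0 : (DirectSum.decompose 𝒜 z 0 : S) ∈ HomogeneousIdeal.irrelevant 𝒜 := hI hyI
        rw [HomogeneousIdeal.mem_irrelevant_iff, GradedRing.proj_apply,
          DirectSum.decompose_of_mem_same 𝒜 hye_mem] at h0
        rw [h0]; exact zero_mem _
      · exact h
    refine ⟨x ^ e + (DirectSum.decompose 𝒜 z e : S) ^ d, d * e, Nat.mul_pos hd hepos, ?_, ?_, ?_⟩
    · refine Submodule.add_mem _ ?_ ?_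
      · have := SetLike.pow_mem_graded e hxd
        simpa [mul_comm] using this
      · have := SetLike.pow_mem_graded d hye_mem
        simpa using this
    · exact I.toIdeal.add_mem (Ideal.pow_mem_of_mem _ hxI e hepos)
        (Ideal.pow_mem_of_mem _ hyI d hd)
    · intro p hp
      by_cases hpq : p = q
      · subst hpq
        intro hsum
        have hx' : x ^ e ∈ p.toIdeal := Ideal.pow_mem_of_mem _ hxq e hepos
        have : (DirectSum.decompose 𝒜 z e : S) ^ d ∈ p.toIdeal :=
          (Ideal.add_mem_iff_right _ hx').mp hsum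
        exact hye (hqprime.mem_of_pow_mem d this)
      · have hp' : p ∈ s.erase q := Finset.mem_erase.mpr ⟨hpq, hp⟩
        intro hsum
        have hy' : (DirectSum.decompose 𝒜 z e : S) ^ d ∈ p.toIdeal :=
          Ideal.pow_mem_of_mem _ (hyp p hp') d hd
        have : x ^ e ∈ p.toIdeal := (Ideal.add_mem_iff_left _ hy').mp hsum
        exact hxp p hp' ((hprime p hp).mem_of_pow_mem e this)

end
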