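import Mathlib

/-! helper5: graded Nakayama for ℕ-graded modules. -/

set_option autoImplicit false

open DirectSum

section
variable {R S : Type*} [CommRing R] [CommRing S] [Algebra R S] (𝒜 : ℕ → Submodule R S)
  [GradedAlgebra 𝒜]
  {M : Type*} [AddCommGroup M] [Module R M] [Module S M] [IsScalarTower R S M]
  (ℳ : ℕ → Submodule R M) [DirectSum.Decomposition ℳ] [SetLike.GradedSMul 𝒜 ℳ]

/-- `d`-th homogeneous component as an additive hom -/
noncomputable def H5_comp (d : ℕ) : M →+ M :=
  ((ℳ d).subtype.toAddMonoidHom).comp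
    ((DFinsupp.evalAddMonoidHom d).comp (DirectSum.decomposeAddEquiv ℳ).toAddMonoidHom)

theorem H5_comp_apply (d : ℕ) (m : M) :
    H5_comp ℳ d m = (DirectSum.decompose ℳ m d : M) := rfl

theorem H5_comp_of_mem {i : ℕ} {m : M} (hm : m ∈ ℳ i) (d : ℕ) :
    H5_comp ℳ d m = if i = d then m else 0 := by
  rw [H5_comp_apply]
  split_ifs with h
  · subst h; exact DirectSum.decompose_of_mem_same ℳ hm
  · exact DirectSum.decompose_of_mem_ne ℳ hm h

theorem H5_comp_smul_mem (N' : Submodule S M) (a : S) (m : M) (d : ℕ)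
    (h : ∀ e j, e + j = d →
      (DirectSum.decompose 𝒜 a e : S) • (DirectSum.decompose ℳ m j : M) ∈ N') :
    H5_comp ℳ d (a • m) ∈ N' := by
  classical
  have ha : a = ∑ e ∈ (DirectSum.decompose 𝒜 a).support, (DirectSum.decompose 𝒜 a e : S) :=
    (DirectSum.sum_support_decompose 𝒜 a).symm
  have hm : m = ∑ j ∈ (DirectSum.decompose ℳ m).support, (DirectSum.decompose ℳ m j : M) :=
    (DirectSum.sum_support_decompose ℳ m).symm
  have key : H5_comp ℳ d (a • m) =
      ∑ e ∈ (DirectSum.decompose 𝒜 a).support, ∑ j ∈ (DirectSum.decompose ℳ m).support,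
        H5_comp ℳ d ((DirectSum.decompose 𝒜 a e : S) • (DirectSum.decompose ℳ m j : M)) := by
    conv_lhs => rw [ha, hm]
    rw [Finset.sum_smul, map_sum]
    refine Finset.sum_congr rfl fun e _ => ?_
    rw [Finset.smul_sum, map_sum]
  rw [key]
  refine Submodule.sum_mem _ fun e _ => Submodule.sum_mem _ fun j _ => ?_
  have hmem : (DirectSum.decompose 𝒜 a e : S) • (DirectSum.decompose ℳ m j : M) ∈ ℳ (e + j) :=
    SetLike.GradedSMul.smul_mem (DirectSum.decompose 𝒜 a e).2 (DirectSum.decompose ℳ m j).2
  rw [H5_comp_of_mem ℳ hmem d]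
  split_ifs with hej
  · exact h e j hej
  · exact N'.zero_mem

theorem H5_graded_nakayama {ι : Type*} (x : ι → M)
    (hx : ∀ i, SetLike.IsHomogeneousElem ℳ (x i))
    (h : Submodule.span S (Set.range x) ⊔
      (HomogeneousIdeal.irrelevant 𝒜).toIdeal • (⊤ : Submodule S M) = ⊤) :
    Submodule.span S (Set.range x) = ⊤ := by
  classical
  have hA : ∀ n' ∈ Submodule.span S (Set.range x), ∀ d,
      H5_comp ℳ d n' ∈ Submodule.span S (Set.range x) := by
    intro n' hn'
    induction hn' using Submodule.span_induction with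
    | mem y hy =>
      obtain ⟨i, rfl⟩ := hy
      obtain ⟨k, hk⟩ := hx i
      intro d
      rw [H5_comp_of_mem ℳ hk d]
      split_ifs
      · exact Submodule.subset_span ⟨i, rfl⟩
      · exact Submodule.zero_mem _
    | zero => intro d; rw [map_zero]; exact Submodule.zero_mem _
    | add y z _ _ hy hz => intro d; rw [map_add]; exact Submodule.add_mem _ (hy d) (hz d)
    | smul a y _ hy =>
      intro d
      apply H5_comp_smul_mem 𝒜 ℳ _ a y d
      intro e j _
      exact Submodule.smul_mem _ _ (hy j)
  have hC : ∀ d, ∀ m ∈ ℳ d, m ∈ Submodule.span S (Set.range x) := by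
    intro d
    induction d using Nat.strong_induction_on with
    | _ d ih =>
      intro m hm
      have hmtop : m ∈ Submodule.span S (Set.range x) ⊔
          (HomogeneousIdeal.irrelevant 𝒜).toIdeal • (⊤ : Submodule S M) := by rw [h]; trivial
      obtain ⟨n', hn', t, ht, rfl⟩ := Submodule.mem_sup.mp hmtop
      have h1 : H5_comp ℳ d (n' + t) = n' + t := by rw [H5_comp_of_mem ℳ hm d, if_pos rfl]
      rw [← h1, map_add]
      refine Submodule.add_mem _ (hA n' hn' d) ?_
      refine Submodule.smul_induction_on ht ?_ ?_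
      · intro b hb m' _
        apply H5_comp_smul_mem 𝒜 ℳ _ b m' d
        intro e j hej
        rcases Nat.eq_zero_or_pos e with rfl | he
        · have : (DirectSum.decompose 𝒜 b 0 : S) = 0 :=
            (HomogeneousIdeal.mem_irrelevant_iff 𝒜 b).mp hb
          rw [this, zero_smul]; exact Submodule.zero_mem _
        · exact Submodule.smul_mem _ _ (ih j (by omega) _ (DirectSum.decompose ℳ m' j).2)
      · intro y z hy hz
        rw [map_add]; exact Submodule.add_mem _ hy hz
  rw [eq_top_iff]
  intro m _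
  rw [← DirectSum.sum_support_decompose ℳ m]
  exact Submodule.sum_mem _ fun d _ => hC d _ (DirectSum.decompose ℳ m d).2

end
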