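import Mathlib

namespace H5HL

theorem isUnit_of_mk {R : Type*} [CommRing R] {I : Ideal R} (hI : I ≤ Ideal.jacobson ⊥) {x : R}
    (hx : IsUnit (Ideal.Quotient.mk I x)) : IsUnit x := by
  obtain ⟨y, hy⟩ := hx.exists_right_inv
  obtain ⟨y', rfl⟩ := Ideal.Quotient.mk_surjective y
  have h1 : x * y' - 1 ∈ I := by
    rw [← Ideal.Quotient.eq, map_mul, hy, map_one]
  have h2 : IsUnit ((x * y' - 1) * 1 + 1) := (Ideal.mem_jacobson_bot.1 (hI h1)) 1
  have h3 : (x * y' - 1) * 1 + 1 = x * y' := by ring
  rw [h3] at h2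
  exact isUnit_of_mul_isUnit_left h2

theorem mk_eval_congr {R : Type*} [CommRing R] (I : Ideal R) (p : Polynomial R) {a b : R}
    (hab : a - b ∈ I) :
    Ideal.Quotient.mk I (p.eval a) = Ideal.Quotient.mk I (p.eval b) := by
  rw [← Polynomial.eval_map_apply, ← Polynomial.eval_map_apply, Ideal.Quotient.eq.2 hab]

theorem root_unique {R : Type*} [CommRing R] {I : Ideal R} (hI : I ≤ Ideal.jacobson ⊥)
    (f : Polynomial R) {a b : R} (ha : f.IsRoot a) (hb : f.IsRoot b) (hab : b - a ∈ I)
    (hu : IsUnit (Ideal.Quotient.mk I (f.derivative.eval a))) : b = a := by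
  obtain ⟨k, hk⟩ := Polynomial.binomExpansion f a (b - a)
  have e1 : a + (b - a) = b := by ring
  have ha' : f.eval a = 0 := ha
  have hb' : f.eval b = 0 := hb
  rw [e1, hb', ha'] at hk
  have hunit : IsUnit (f.derivative.eval a + k * (b - a)) := by
    apply isUnit_of_mk hI
    have : Ideal.Quotient.mk I (f.derivative.eval a + k * (b - a))
        = Ideal.Quotient.mk I (f.derivative.eval a) := by
      rw [map_add, map_mul, Ideal.Quotient.eq_zero_iff_mem.2 hab, mul_zero, add_zero]
    rw [this]; exact hu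
  have hz : (f.derivative.eval a + k * (b - a)) * (b - a) = 0 := by
    have : (f.derivative.eval a + k * (b - a)) * (b - a)
        = 0 + f.derivative.eval a * (b - a) + k * (b - a) ^ 2 := by ring
    rw [this, ← hk]
  have := (hunit.mul_right_eq_zero).1 hz
  exact sub_eq_zero.1 this

end H5HL
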