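import Mathlib
import Groth.Agent.Lib.helper5.HenselLim

namespace H5HG

open Polynomial

theorem map_eq_zero_of_coeff_mem {A : Type*} [CommRing A] (I : Ideal A) (p : A[X])
    (hc : ∀ i, p.coeff i ∈ I) : p.map (Ideal.Quotient.mk I) = 0 := by
  ext i
  rw [Polynomial.coeff_map, Polynomial.coeff_zero]
  exact Ideal.Quotient.eq_zero_iff_mem.2 (hc i)

theorem gabber_fwd {A : Type*} [CommRing A] (I : Ideal A) [h : HenselianRing A I] (n : ℕ)
    (hn : 0 < n) (p : A[X]) (hp : p.natDegree ≤ n) (hc : ∀ i, p.coeff i ∈ I) :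
    ∃! α : A, α - 1 ∈ I ∧ IsRoot (X ^ n * (X - 1) + p) α := by
  obtain ⟨f, hf⟩ : ∃ f : A[X], f = X ^ n * (X - 1) + p := ⟨_, rfl⟩
  rw [← hf]
  have hmap : f.map (Ideal.Quotient.mk I) = X ^ n * (X - 1) := by
    rw [hf, Polynomial.map_add, map_eq_zero_of_coeff_mem I p hc, add_zero]
    simp
  have hmonic : f.Monic := by
    have hdeg : (p - X ^ n : A[X]).degree < ((n + 1 : ℕ) : WithBot ℕ) := by
      refine lt_of_le_of_lt (Polynomial.degree_sub_le _ _) ?_
      rw [max_lt_iff]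
      constructor
      · exact lt_of_le_of_lt Polynomial.degree_le_natDegree
          (by exact_mod_cast Nat.lt_succ_of_le hp)
      · exact lt_of_le_of_lt (Polynomial.degree_X_pow_le n)
          (by exact_mod_cast Nat.lt_succ_self n)
    have := Polynomial.monic_X_pow_add hdeg
    have e : f = X ^ (n + 1) + (p - X ^ n) := by rw [hf]; ring
    rw [e]; exact this
  have hev : Ideal.Quotient.mk I (f.eval 1) = 0 := by
    rw [← Polynomial.eval_map_apply, hmap, map_one]
    simp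
  have hder : Ideal.Quotient.mk I (f.derivative.eval 1) = 1 := by
    rw [← Polynomial.eval_map_apply, ← Polynomial.derivative_map, hmap, map_one]
    simp
  obtain ⟨α, hα, hα1⟩ := h.is_henselian f hmonic 1 (Ideal.Quotient.eq_zero_iff_mem.1 hev)
    (by rw [hder]; exact isUnit_one)
  refine ⟨α, ⟨hα1, hα⟩, ?_⟩
  rintro β ⟨hβ1, hβ⟩
  apply H5HL.root_unique h.jac f hα hβ
  · have : β - α = (β - 1) - (α - 1) := by ring
    rw [this]; exact I.sub_mem hβ1 hα1
  · rw [H5HL.mk_eval_congr I _ hα1, hder]; exact isUnit_one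

theorem gabber_bwd {A : Type*} [CommRing A] (I : Ideal A) (hI : I ≤ Ideal.jacobson ⊥)
    (H5 : ∀ (n : ℕ), 0 < n → ∀ p : A[X], p.natDegree ≤ n → (∀ i, p.coeff i ∈ I) →
        ∃ α : A, α - 1 ∈ I ∧ IsRoot (X ^ n * (X - 1) + p) α) : HenselianRing A I := by
  refine ⟨hI, ?_⟩
  intro f hf a₀ h₁ h₂
  have hu1 : IsUnit (f.derivative.eval a₀) := H5HL.isUnit_of_mk hI h₂
  obtain ⟨u, hu⟩ := hu1.exists_right_inv
  rcases Nat.eq_zero_or_pos f.natDegree with hd0 | hdpos
  · have hf1 : f = 1 := hf.natDegree_eq_zero.1 hd0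
    rw [hf1, Polynomial.eval_one] at h₁
    have h1j : (1 : A) ∈ Ideal.jacobson ⊥ := hI h₁
    have h0 := Ideal.mem_jacobson_bot.1 h1j (-1)
    have e0 : (1 : A) * -1 + 1 = 0 := by ring
    rw [e0, isUnit_zero_iff] at h0
    have : Subsingleton A := subsingleton_of_zero_eq_one h0
    exact ⟨a₀, Subsingleton.elim _ _, by rw [sub_self]; exact I.zero_mem⟩
  obtain ⟨m, hm⟩ : ∃ m, f.natDegree = m + 1 := ⟨f.natDegree - 1, by omega⟩
  obtain ⟨c, hc⟩ : ∃ c : ℕ → A, c = fun j => (Polynomial.taylor a₀ f).coeff j := ⟨_, rfl⟩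
  have hc0 : c 0 = f.eval a₀ := by rw [hc]; exact Polynomial.taylor_coeff_zero _ _
  have hc1 : c 1 = f.derivative.eval a₀ := by rw [hc]; exact Polynomial.taylor_coeff_one _ _
  have hc0I : c 0 ∈ I := by rw [hc0]; exact h₁
  have hgev : ∀ β : A, f.eval (β + a₀) = ∑ j ∈ Finset.range (m + 2), c j * β ^ j := by
    intro β
    rw [← Polynomial.taylor_eval, Polynomial.eval_eq_sum_range' (n := m + 2)
      (by rw [Polynomial.natDegree_taylor, hm]; omega), hc]
  obtain ⟨e, he⟩ : ∃ e : ℕ → A,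
      e = fun j => (-1) ^ j * c (j + 2) * c 0 ^ (j + 1) * u ^ (j + 2) := ⟨_, rfl⟩
  have heI : ∀ j, e j ∈ I := by
    intro j
    rw [he]
    show (-1 : A) ^ j * c (j + 2) * c 0 ^ (j + 1) * u ^ (j + 2) ∈ I
    have : (-1 : A) ^ j * c (j + 2) * c 0 ^ (j + 1) * u ^ (j + 2)
        = ((-1) ^ j * c (j + 2) * c 0 ^ j * u ^ (j + 2)) * c 0 := by ring
    rw [this]
    exact I.mul_mem_left _ hc0I
  obtain ⟨p, hp⟩ : ∃ p : A[X], p = ∑ j ∈ Finset.range m, C (e j) * X ^ (m - j) := ⟨_, rfl⟩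
  have hpdeg : p.natDegree ≤ m + 1 := by
    rw [hp]
    apply Polynomial.natDegree_sum_le_of_forall_le
    intro j hj
    exact (Polynomial.natDegree_C_mul_X_pow_le _ _).trans (by omega)
  have hpc : ∀ i, p.coeff i ∈ I := by
    intro i
    rw [hp, Polynomial.finset_sum_coeff]
    apply I.sum_mem
    intro j hj
    rw [Polynomial.coeff_C_mul_X_pow]
    split_ifs
    · exact heI j
    · exact I.zero_mem
  have hpev : ∀ W : A, p.eval W = ∑ j ∈ Finset.range m, e j * W ^ (m - j) := by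
    intro W
    rw [hp, Polynomial.eval_finset_sum]
    apply Finset.sum_congr rfl
    intro j hj
    rw [Polynomial.eval_mul, Polynomial.eval_C, Polynomial.eval_pow, Polynomial.eval_X]
  obtain ⟨W, hW1, hWroot⟩ := H5 (m + 1) (Nat.succ_pos m) p hpdeg hpc
  have hWeq : W ^ (m + 1) * (W - 1) + ∑ j ∈ Finset.range m, e j * W ^ (m - j) = 0 := by
    have h9 : (X ^ (m + 1) * (X - 1) + p : A[X]).eval W = 0 := hWroot
    rw [Polynomial.eval_add, Polynomial.eval_mul, Polynomial.eval_pow, Polynomial.eval_X,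
      Polynomial.eval_sub, Polynomial.eval_X, Polynomial.eval_one, hpev] at h9
    exact h9
  have hWu : IsUnit W := by
    apply H5HL.isUnit_of_mk hI
    have : Ideal.Quotient.mk I W = 1 := by
      rw [← map_one (Ideal.Quotient.mk I), Ideal.Quotient.eq]; exact hW1
    rw [this]; exact isUnit_one
  obtain ⟨w, hw⟩ := hWu.exists_right_inv
  have hkey : (1 - w) + ∑ j ∈ Finset.range m, e j * w ^ (j + 2) = 0 := by
    have h1 : (W ^ (m + 1) * (W - 1) + ∑ j ∈ Finset.range m, e j * W ^ (m - j)) * w ^ (m + 2)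
        = 0 := by rw [hWeq, zero_mul]
    rw [add_mul, Finset.sum_mul] at h1
    have h2 : W ^ (m + 1) * (W - 1) * w ^ (m + 2) = 1 - w := by
      have : W ^ (m + 1) * (W - 1) * w ^ (m + 2) = (W * w) ^ (m + 1) * ((W * w) - w) := by ring
      rw [this, hw, one_pow, one_mul]
    have h3 : ∀ j ∈ Finset.range m, e j * W ^ (m - j) * w ^ (m + 2) = e j * w ^ (j + 2) := by
      intro j hj
      have hjm : j < m := Finset.mem_range.1 hj
      have e2 : w ^ (m + 2) = w ^ (m - j) * w ^ (j + 2) := by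
        rw [← pow_add]; congr 1; omega
      rw [e2]
      have : e j * W ^ (m - j) * (w ^ (m - j) * w ^ (j + 2))
          = e j * (W * w) ^ (m - j) * w ^ (j + 2) := by ring
      rw [this, hw, one_pow, mul_one]
    rw [h2, Finset.sum_congr rfl h3] at h1
    exact h1
  refine ⟨-(c 0 * u * w) + a₀, ?_, ?_⟩
  · show f.eval (-(c 0 * u * w) + a₀) = 0
    rw [hgev, Finset.sum_range_succ', Finset.sum_range_succ']
    have h4 : ∀ j ∈ Finset.range m, c (j + 1 + 1) * (-(c 0 * u * w)) ^ (j + 1 + 1)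
        = c 0 * (e j * w ^ (j + 2)) := by
      intro j hj
      rw [he]
      show c (j + 2) * (-(c 0 * u * w)) ^ (j + 2)
        = c 0 * ((-1) ^ j * c (j + 2) * c 0 ^ (j + 1) * u ^ (j + 2) * w ^ (j + 2))
      have e3 : (-(c 0 * u * w)) ^ (j + 2)
          = (-1) ^ j * (c 0 ^ (j + 2) * u ^ (j + 2) * w ^ (j + 2)) := by
        rw [neg_pow, mul_pow, mul_pow]
        have : (-1 : A) ^ (j + 2) = (-1) ^ j := by rw [pow_add]; norm_num
        rw [this]
      rw [e3]; ring
    rw [Finset.sum_congr rfl h4, ← Finset.mul_sum]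
    have h5 : c (0 + 1) * (-(c 0 * u * w)) ^ (0 + 1) = - (c 0 * w) := by
      rw [zero_add, pow_one, hc1]
      have : f.derivative.eval a₀ * -(c 0 * u * w)
          = -(c 0 * (f.derivative.eval a₀ * u) * w) := by ring
      rw [this, hu, mul_one]
    rw [h5, pow_zero, mul_one]
    have e4 : c 0 * ∑ j ∈ Finset.range m, e j * w ^ (j + 2) + -(c 0 * w) + c 0
        = c 0 * ((1 - w) + ∑ j ∈ Finset.range m, e j * w ^ (j + 2)) := by ring
    rw [e4, hkey, mul_zero]
  · have : -(c 0 * u * w) + a₀ - a₀ = -(u * w) * c 0 := by ring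
    rw [this]
    exact I.mul_mem_left _ hc0I

end H5HG
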