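import Mathlib

namespace H5HN

open Polynomial

theorem isUnit_eval_of_nil {R : Type*} [CommRing R] (g : R[X]) {c r : R} (hu : IsUnit (g.eval c))
    (h : IsNilpotent (r - c)) : IsUnit (g.eval r) := by
  obtain ⟨z, hz⟩ := Polynomial.evalSubFactor g r c
  have e : g.eval r = g.eval c + z * (r - c) := by rw [← hz]; ring
  rw [e]
  apply IsNilpotent.isUnit_add_left_of_commute _ hu (Commute.all _ _)
  exact mem_nilradical.1 ((nilradical R).mul_mem_left _ (mem_nilradical.2 h))

theorem root_unique_nil {R : Type*} [CommRing R] (f : R[X]) {a b : R} (ha : f.eval a = 0)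
    (hb : f.eval b = 0) (hab : IsNilpotent (b - a)) (hu : IsUnit (f.derivative.eval a)) :
    b = a := by
  obtain ⟨k, hk⟩ := Polynomial.binomExpansion f a (b - a)
  have e1 : a + (b - a) = b := by ring
  rw [e1, hb, ha] at hk
  have hunit : IsUnit (f.derivative.eval a + k * (b - a)) := by
    apply IsNilpotent.isUnit_add_left_of_commute _ hu (Commute.all _ _)
    exact mem_nilradical.1 ((nilradical R).mul_mem_left _ (mem_nilradical.2 hab))
  have hz : (f.derivative.eval a + k * (b - a)) * (b - a) = 0 := by
    have : (f.derivative.eval a + k * (b - a)) * (b - a)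
        = 0 + f.derivative.eval a * (b - a) + k * (b - a) ^ 2 := by ring
    rw [this, ← hk]
  have := (hunit.mul_right_eq_zero).1 hz
  exact sub_eq_zero.1 this

theorem newton {R : Type*} [CommRing R] (f : R[X]) :
    ∀ (N : ℕ) (b : R), (f.eval b) ^ N = 0 → IsUnit (f.derivative.eval b) →
      ∃ r, f.eval r = 0 ∧ ∃ c, r - b = c * f.eval b := by
  intro N
  induction N using Nat.strong_induction_on with
  | _ N ih =>
    intro b hN hu
    by_cases h0 : f.eval b = 0
    · exact ⟨b, h0, 0, by rw [sub_self, zero_mul]⟩
    have hge : 2 ≤ N := by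
      by_contra hlt
      apply h0
      have h01 : N = 0 ∨ N = 1 := by omega
      rcases h01 with h01 | h01
      · rw [h01, pow_zero] at hN
        have : Subsingleton R := subsingleton_of_zero_eq_one hN.symm
        exact Subsingleton.elim _ _
      · rw [h01, pow_one] at hN
        exact hN
    obtain ⟨u, hu1⟩ := hu.exists_right_inv
    obtain ⟨k, hk⟩ := Polynomial.binomExpansion f b (-(f.eval b * u))
    have hb1 : f.eval (b + -(f.eval b * u)) = (k * u ^ 2) * (f.eval b) ^ 2 := by
      rw [hk]
      have : f.eval b + f.derivative.eval b * -(f.eval b * u) + k * (-(f.eval b * u)) ^ 2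
          = f.eval b * (1 - f.derivative.eval b * u) + (k * u ^ 2) * (f.eval b) ^ 2 := by ring
      rw [this, hu1, sub_self, mul_zero, zero_add]
    have hnil : IsNilpotent (f.eval b) := ⟨N, hN⟩
    have hN' : (f.eval (b + -(f.eval b * u))) ^ ((N + 1) / 2) = 0 := by
      rw [hb1, mul_pow, ← pow_mul]
      have h2 : N ≤ 2 * ((N + 1) / 2) := by omega
      rw [pow_eq_zero_of_le h2 hN, mul_zero]
    have hu' : IsUnit (f.derivative.eval (b + -(f.eval b * u))) := by
      apply isUnit_eval_of_nil _ hu
      have : b + -(f.eval b * u) - b = (-u) * f.eval b := by ring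
      rw [this]
      exact mem_nilradical.1 ((nilradical R).mul_mem_left _ (mem_nilradical.2 hnil))
    obtain ⟨r, hr, c, hc⟩ := ih ((N + 1) / 2) (by omega) (b + -(f.eval b * u)) hN' hu'
    refine ⟨r, hr, c * (k * u ^ 2) * f.eval b - u, ?_⟩
    have : r - b = (r - (b + -(f.eval b * u))) + -(f.eval b * u) := by ring
    rw [this, hc, hb1]; ring

end H5HN
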