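import Mathlib
import Groth.Agent.Lib.helper5.HenselGabber

namespace H5HG

open Polynomial

theorem henselian_of_surjective {A B : Type*} [CommRing A] [CommRing B] (I : Ideal A)
    [h : HenselianRing A I] (φ : A →+* B) (hφ : Function.Surjective φ) :
    HenselianRing B (I.map φ) := by
  have hmemmap : ∀ x, x ∈ I.map φ → ∃ a ∈ I, φ a = x :=
    fun x hx => (Ideal.mem_map_iff_of_surjective φ hφ).1 hx
  refine gabber_bwd (I.map φ) ?_ ?_
  · intro x hx
    obtain ⟨a, ha, rfl⟩ := hmemmap x hx
    rw [Ideal.mem_jacobson_bot]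
    intro y
    obtain ⟨b, rfl⟩ := hφ y
    have := (Ideal.mem_jacobson_bot.1 (h.jac ha) b).map φ
    rw [map_add, map_mul, map_one] at this
    exact this
  · intro n hn q hq hc
    choose g hgI hg using fun i => hmemmap _ (hc i)
    obtain ⟨p, hp⟩ : ∃ p : A[X], p = ∑ i ∈ Finset.range (n + 1), C (g i) * X ^ i := ⟨_, rfl⟩
    have hpdeg : p.natDegree ≤ n := by
      rw [hp]
      apply Polynomial.natDegree_sum_le_of_forall_le
      intro i hi
      exact (Polynomial.natDegree_C_mul_X_pow_le _ _).trans
        (Nat.lt_succ_iff.1 (Finset.mem_range.1 hi))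
    have hpc : ∀ i, p.coeff i ∈ I := by
      intro i
      rw [hp, Polynomial.finset_sum_coeff]
      apply I.sum_mem
      intro j hj
      rw [Polynomial.coeff_C_mul_X_pow]
      split_ifs
      · exact hgI j
      · exact I.zero_mem
    have hpmap : p.map φ = q := by
      rw [hp, Polynomial.map_sum]
      conv_rhs => rw [Polynomial.as_sum_range' q (n + 1) (Nat.lt_succ_of_le hq)]
      apply Finset.sum_congr rfl
      intro i hi
      rw [Polynomial.map_mul, Polynomial.map_C, Polynomial.map_pow, Polynomial.map_X, hg i,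
        Polynomial.C_mul_X_pow_eq_monomial]
    obtain ⟨α, ⟨hα1, hαroot⟩, -⟩ := gabber_fwd I n hn p hpdeg hpc
    refine ⟨φ α, ?_, ?_⟩
    · have : φ α - 1 = φ (α - 1) := by rw [map_sub, map_one]
      rw [this]; exact Ideal.mem_map_of_mem φ hα1
    · show (X ^ n * (X - 1) + q : B[X]).eval (φ α) = 0
      have hm : (X ^ n * (X - 1) + p : A[X]).map φ = X ^ n * (X - 1) + q := by
        rw [Polynomial.map_add, Polynomial.map_mul, Polynomial.map_pow, Polynomial.map_X,
          Polynomial.map_sub, Polynomial.map_X, Polynomial.map_one, hpmap]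
      rw [← hm, Polynomial.eval_map_apply]
      have : (X ^ n * (X - 1) + p : A[X]).eval α = 0 := hαroot
      rw [this, map_zero]

/-- In a Henselian pair, idempotents of the quotient by `I.map` of a domain quotient are trivial:
packaged as: an element `b` of a domain `B` with `(B, J)` Henselian and `b*b - b ∈ J` satisfies
`b ∈ J` or `1 - b ∈ J`. -/
theorem mem_or_one_sub_mem {B : Type*} [CommRing B] [IsDomain B] (J : Ideal B)
    [hB : HenselianRing B J] (b : B) (hbb : b * b - b ∈ J) : b ∈ J ∨ 1 - b ∈ J := by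
  have hmonic : (X ^ 2 - X : B[X]).Monic :=
    Polynomial.monic_X_pow_sub (lt_of_le_of_lt Polynomial.degree_X_le
      (by exact_mod_cast Nat.one_lt_two))
  have hev : (X ^ 2 - X : B[X]).eval b = b * b - b := by
    simp [pow_two]
  have hder : (X ^ 2 - X : B[X]).derivative.eval b = 2 * b - 1 := by
    rw [Polynomial.derivative_sub, Polynomial.derivative_X_sq, Polynomial.derivative_X,
      Polynomial.eval_sub, Polynomial.eval_mul, Polynomial.eval_C, Polynomial.eval_X,
      Polynomial.eval_one]
  obtain ⟨b', hb'root, hb'b⟩ := hB.is_henselian _ hmonic b (by rw [hev]; exact hbb) (by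
    rw [hder]
    refine isUnit_iff_exists_inv.2 ⟨Ideal.Quotient.mk _ (2 * b - 1), ?_⟩
    rw [← map_mul, ← map_one (Ideal.Quotient.mk J), Ideal.Quotient.eq]
    have : (2 * b - 1) * (2 * b - 1) - 1 = 4 * (b * b - b) := by ring
    rw [this]
    exact Ideal.mul_mem_left _ _ hbb)
  have hb'2 : b' * (b' - 1) = 0 := by
    have : (X ^ 2 - X : B[X]).eval b' = 0 := hb'root
    rw [Polynomial.eval_sub, Polynomial.eval_pow, Polynomial.eval_X] at this
    rw [← this]; ring
  rcases mul_eq_zero.1 hb'2 with h0 | h1
  · left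
    rw [h0, zero_sub] at hb'b
    have := J.neg_mem hb'b
    rwa [neg_neg] at this
  · right
    have hb'1 : b' = 1 := sub_eq_zero.1 h1
    rw [hb'1] at hb'b
    exact hb'b

end H5HG
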