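import Mathlib
import Groth.Prelude.Def_CAlg

/-! Depth (≤ 2) of `Hom(M, N)` from that of `N`. -/

namespace H5HD

open RingTheory.Sequence Pointwise

universe u v w

variable {R : Type u} [CommRing R] {M : Type v} {N : Type w}
  [AddCommGroup M] [Module R M] [AddCommGroup N] [Module R N]

theorem H5_hom_reg {x : R} (hx : IsSMulRegular N x) : IsSMulRegular (M →ₗ[R] N) x := by
  intro φ ψ h
  have h' : x • φ = x • ψ := h
  ext m
  apply hx
  have := LinearMap.congr_fun h' m
  simpa only [LinearMap.smul_apply] using this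

theorem H5_hom_reg2 {x y : R} (hx : IsSMulRegular N x)
    (hy : IsSMulRegular (QuotSMulTop x N) y) :
    IsSMulRegular (QuotSMulTop x (M →ₗ[R] N)) y := by
  rw [isSMulRegular_quotient_iff_mem_of_smul_mem]
  intro φ hφ
  obtain ⟨ψ, -, hψ⟩ := (Submodule.mem_smul_pointwise_iff_exists _ _ _).mp hφ
  have hy' := (isSMulRegular_quotient_iff_mem_of_smul_mem (x • (⊤ : Submodule R N)) y).mp hy
  have key : ∀ m, ∃ n, x • n = φ m := by
    intro m
    have h1 : y • φ m ∈ x • (⊤ : Submodule R N) := by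
      rw [Submodule.mem_smul_pointwise_iff_exists]
      exact ⟨ψ m, trivial, by rw [← LinearMap.smul_apply, hψ, LinearMap.smul_apply]⟩
    obtain ⟨n, -, hn⟩ := (Submodule.mem_smul_pointwise_iff_exists _ _ _).mp (hy' _ h1)
    exact ⟨n, hn⟩
  choose g hg using key
  have hlin : IsLinearMap R g := by
    refine ⟨fun a b => hx ?_, fun c a => hx ?_⟩
    · show x • g (a + b) = x • (g a + g b)
      rw [smul_add, hg, hg, hg, map_add]
    · show x • g (c • a) = x • (c • g a)
      rw [smul_comm x c, hg, hg, map_smul]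
  refine (Submodule.mem_smul_pointwise_iff_exists _ _ _).mpr ⟨hlin.mk' g, trivial, ?_⟩
  ext m
  rw [LinearMap.smul_apply, IsLinearMap.mk'_apply, hg]

theorem H5_hom_wr_one {x : R} (h : IsWeaklyRegular N [x]) :
    IsWeaklyRegular (M →ₗ[R] N) [x] := by
  rw [isWeaklyRegular_singleton_iff] at h ⊢
  exact H5_hom_reg h

theorem H5_hom_wr_two {x y : R} (h : IsWeaklyRegular N [x, y]) :
    IsWeaklyRegular (M →ₗ[R] N) [x, y] := by
  rw [isWeaklyRegular_cons_iff, isWeaklyRegular_singleton_iff] at h ⊢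
  exact ⟨H5_hom_reg h.1, H5_hom_reg2 h.1 h.2⟩

theorem H5_exists_seq_of_le_idealDepth (I : Ideal R) (N : Type w) [AddCommGroup N] [Module R N]
    (k : ℕ) (hk : (k : ℕ∞) ≤ LocCoh.idealDepth I N) (hIN : I • (⊤ : Submodule R N) ≠ ⊤) :
    ∃ rs : List R, rs.length = k ∧ IsWeaklyRegular N rs ∧ ∀ r ∈ rs, r ∈ I := by
  unfold LocCoh.idealDepth at hk
  rw [if_neg hIN] at hk
  by_contra hcon
  push_neg at hcon
  have hk0 : 0 < k := by
    by_contra h0
    have : k = 0 := by omega
    subst this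
    obtain ⟨r, hr, -⟩ := hcon [] rfl (IsWeaklyRegular.nil R N)
    simp at hr
  have hle : (⨆ (rs : List R) (_ : IsWeaklyRegular N rs ∧ ∀ r ∈ rs, r ∈ I),
      (rs.length : ℕ∞)) ≤ ((k - 1 : ℕ) : ℕ∞) := by
    refine iSup₂_le fun rs hrs => ?_
    by_contra hlt
    push_neg at hlt
    have hlen : k ≤ rs.length := by
      have : k - 1 < rs.length := by exact_mod_cast hlt
      omega
    have hw0 : IsWeaklyRegular N (rs.take k ++ rs.drop k) := by
      rw [List.take_append_drop]; exact hrs.1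
    have hw : IsWeaklyRegular N (rs.take k) := ((isWeaklyRegular_append_iff N _ _).mp hw0).1
    obtain ⟨r, hr, hrI⟩ := hcon (rs.take k) (by rw [List.length_take]; omega) hw
    exact hrI (hrs.2 r (List.mem_of_mem_take hr))
  have h2 := hk.trans hle
  have : k ≤ k - 1 := by exact_mod_cast h2
  omega

theorem H5_le_idealDepth_hom (I : Ideal R) (M : Type v) (N : Type w)
    [AddCommGroup M] [Module R M] [AddCommGroup N] [Module R N] (k : ℕ) (hk2 : k ≤ 2)
    (hdeg : I • (⊤ : Submodule R N) = ⊤ → I • (⊤ : Submodule R (M →ₗ[R] N)) = ⊤)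
    (h : (k : ℕ∞) ≤ LocCoh.idealDepth I N) :
    (k : ℕ∞) ≤ LocCoh.idealDepth I (M →ₗ[R] N) := by
  by_cases hH : I • (⊤ : Submodule R (M →ₗ[R] N)) = ⊤
  · unfold LocCoh.idealDepth
    rw [if_pos hH]
    exact le_top
  · have hIN : I • (⊤ : Submodule R N) ≠ ⊤ := fun h' => hH (hdeg h')
    obtain ⟨rs, hlen, hw, hI⟩ := H5_exists_seq_of_le_idealDepth I N k h hIN
    have hw' : IsWeaklyRegular (M →ₗ[R] N) rs := by
      rcases rs with _ | ⟨x, _ | ⟨y, _ | ⟨z, t⟩⟩⟩
      · exact IsWeaklyRegular.nil R _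
      · exact H5_hom_wr_one hw
      · exact H5_hom_wr_two hw
      · simp at hlen; omega
    unfold LocCoh.idealDepth
    rw [if_neg hH]
    exact le_iSup₂_of_le rs ⟨hw', hI⟩ (by rw [hlen])

end H5HD
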