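import Mathlib

universe u

namespace H5HT

variable {R A : Type u} [CommRing R] [CommRing A] [Algebra R A] (𝒜 : ℕ → Submodule R A)
  [GradedAlgebra 𝒜]

theorem exists_hom_not_mem (𝔭 : HomogeneousIdeal 𝒜) (h : ¬ HomogeneousIdeal.irrelevant 𝒜 ≤ 𝔭) :
    ∃ (d : ℕ) (f : A), 0 < d ∧ f ∈ 𝒜 d ∧ f ∉ 𝔭.toIdeal := by
  by_contra hno
  push Not at hno
  apply h
  rw [← toIdeal_le_toIdeal_iff, HomogeneousIdeal.irrelevant_eq_span, Ideal.span_le]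
  intro s hs
  simp only [Set.mem_iUnion] at hs
  obtain ⟨i, hi, hsi⟩ := hs
  exact hno i s hi hsi

theorem unique_aux (n₀ : ℕ) (p : ℕ → AddSubgroup A) (𝔭 𝔮 : HomogeneousIdeal 𝒜)
    (hq : 𝔮.toIdeal.IsPrime) (hqi : ¬ HomogeneousIdeal.irrelevant 𝒜 ≤ 𝔮)
    (h𝔭 : ∀ n, n₀ ≤ n → (𝔭.toIdeal : Set A) ∩ 𝒜 n = p n)
    (h𝔮 : ∀ n, n₀ ≤ n → (𝔮.toIdeal : Set A) ∩ 𝒜 n = p n) :
    𝔭.toIdeal ≤ 𝔮.toIdeal := by
  intro x hx
  rw [𝔮.isHomogeneous.mem_iff]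
  intro m
  have hxm : (DirectSum.decompose 𝒜 x m : A) ∈ 𝔭.toIdeal := 𝔭.isHomogeneous m hx
  obtain ⟨d, f, hd, hfd, hfq⟩ := exists_hom_not_mem 𝒜 𝔮 hqi
  obtain ⟨a, ha⟩ : ∃ a : A, a = (DirectSum.decompose 𝒜 x m : A) := ⟨_, rfl⟩
  rw [← ha] at hxm ⊢
  have ham : a ∈ 𝒜 m := by rw [ha]; exact SetLike.coe_mem _
  have hdeg : a * f ^ n₀ ∈ 𝒜 (m + n₀ • d) :=
    SetLike.mul_mem_graded ham (SetLike.pow_mem_graded n₀ hfd)
  have hle : n₀ ≤ m + n₀ • d := by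
    rw [smul_eq_mul]
    calc n₀ ≤ n₀ * d := Nat.le_mul_of_pos_right n₀ hd
      _ ≤ m + n₀ * d := Nat.le_add_left _ _
  have h1 : a * f ^ n₀ ∈ (𝔭.toIdeal : Set A) ∩ 𝒜 (m + n₀ • d) :=
    ⟨Ideal.mul_mem_right _ _ hxm, hdeg⟩
  rw [h𝔭 _ hle, ← h𝔮 _ hle] at h1
  have h2 : a * f ^ n₀ ∈ 𝔮.toIdeal := h1.1
  rcases hq.mem_or_mem h2 with h | h
  · exact h
  · exact absurd (hq.mem_of_pow_mem n₀ h) hfq

theorem forward (n₀ : ℕ) (p : ℕ → AddSubgroup A) (𝔭 : HomogeneousIdeal 𝒜)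
    (hpr : 𝔭.toIdeal.IsPrime) (hirr : ¬ HomogeneousIdeal.irrelevant 𝒜 ≤ 𝔭)
    (h𝔭 : ∀ n, n₀ ≤ n → (𝔭.toIdeal : Set A) ∩ 𝒜 n = p n) :
    (∀ m n : ℕ, n₀ ≤ n → ∀ a ∈ 𝒜 m, ∀ b ∈ p n, a * b ∈ p (m + n)) ∧
    (∀ m n : ℕ, n₀ ≤ m → n₀ ≤ n → ∀ f ∈ 𝒜 m, ∀ g ∈ 𝒜 n, f * g ∈ p (m + n) →
      f ∈ p m ∨ g ∈ p n) ∧
    ∃ n : ℕ, n₀ ≤ n ∧ (p n : Set A) ≠ 𝒜 n := by
  have hmem : ∀ n, n₀ ≤ n → ∀ x : A, x ∈ p n ↔ (x ∈ 𝔭.toIdeal ∧ x ∈ 𝒜 n) := by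
    intro n hn x
    have h := h𝔭 n hn
    constructor
    · intro hx
      have hx' : x ∈ (p n : Set A) := hx
      rw [← h] at hx'
      exact hx'
    · intro hx
      have hx' : x ∈ (𝔭.toIdeal : Set A) ∩ 𝒜 n := hx
      rw [h] at hx'
      exact hx'
  refine ⟨?_, ?_, ?_⟩
  · intro m n hn a ha b hb
    obtain ⟨hb1, hb2⟩ := (hmem n hn b).mp hb
    exact (hmem (m + n) (le_trans hn (Nat.le_add_left _ _)) _).mpr
      ⟨Ideal.mul_mem_left _ _ hb1, SetLike.mul_mem_graded ha hb2⟩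
  · intro m n hm hn f hf g hg hfg
    obtain ⟨h1, _⟩ := (hmem (m + n) (le_trans hm (Nat.le_add_right _ _)) _).mp hfg
    rcases hpr.mem_or_mem h1 with h | h
    · exact Or.inl ((hmem m hm f).mpr ⟨h, hf⟩)
    · exact Or.inr ((hmem n hn g).mpr ⟨h, hg⟩)
  · obtain ⟨d, f, hd, hfd, hfp⟩ := exists_hom_not_mem 𝒜 𝔭 hirr
    have hle : n₀ ≤ n₀ • d := by
      rw [smul_eq_mul]; exact Nat.le_mul_of_pos_right n₀ hd
    refine ⟨n₀ • d, hle, ?_⟩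
    intro heq
    have h1 : f ^ n₀ ∈ (𝒜 (n₀ • d) : Set A) := SetLike.pow_mem_graded n₀ hfd
    rw [← heq] at h1
    have h2 := ((hmem (n₀ • d) hle _).mp h1).1
    exact hfp (hpr.mem_of_pow_mem n₀ h2)

section

variable (f : A) (n₁ : ℕ) (p : ℕ → AddSubgroup A)

def P (x : A) : Prop := ∀ m, f * (DirectSum.decompose 𝒜 x m : A) ∈ p (n₁ + m)

theorem P_zero : P 𝒜 f n₁ p 0 := by
  intro m
  rw [DirectSum.decompose_zero, DirectSum.zero_apply, ZeroMemClass.coe_zero, mul_zero]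
  exact (p _).zero_mem

theorem P_add {x y : A} (hx : P 𝒜 f n₁ p x) (hy : P 𝒜 f n₁ p y) : P 𝒜 f n₁ p (x + y) := by
  intro m
  rw [DirectSum.decompose_add, DirectSum.add_apply, AddMemClass.coe_add, mul_add]
  exact (p _).add_mem (hx m) (hy m)

theorem P_sum {ι : Type} (s : Finset ι) (g : ι → A) (h : ∀ i ∈ s, P 𝒜 f n₁ p (g i)) :
    P 𝒜 f n₁ p (∑ i ∈ s, g i) := by
  classical
  induction s using Finset.induction_on with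
  | empty => simpa using P_zero 𝒜 f n₁ p
  | insert a s ha ih =>
    rw [Finset.sum_insert ha]
    exact P_add 𝒜 f n₁ p (h a (Finset.mem_insert_self a s))
      (ih (fun i hi => h i (Finset.mem_insert_of_mem hi)))

theorem P_hom_iff {i : ℕ} {x : A} (hx : x ∈ 𝒜 i) :
    P 𝒜 f n₁ p x ↔ f * x ∈ p (n₁ + i) := by
  classical
  constructor
  · intro h
    have h' := h i
    rw [DirectSum.decompose_of_mem_same 𝒜 hx] at h'
    exact h'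
  · intro h m
    by_cases hm : m = i
    · subst hm
      rw [DirectSum.decompose_of_mem_same 𝒜 hx]
      exact h
    · rw [DirectSum.decompose_of_mem_ne 𝒜 hx (Ne.symm hm), mul_zero]
      exact (p _).zero_mem

theorem P_hom_mul (n₀ : ℕ) (hn₁ : n₀ ≤ n₁)
    (h1 : ∀ m n : ℕ, n₀ ≤ n → ∀ a ∈ 𝒜 m, ∀ b ∈ p n, a * b ∈ p (m + n))
    {i : ℕ} {c x : A} (hc : c ∈ 𝒜 i) (hx : P 𝒜 f n₁ p x) : P 𝒜 f n₁ p (c * x) := by
  classical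
  intro m
  rw [DirectSum.coe_decompose_mul_of_left_mem 𝒜 m hc]
  split_ifs with him
  · have hb := hx (m - i)
    have h := h1 i (n₁ + (m - i)) (le_trans hn₁ (Nat.le_add_right _ _)) c hc _ hb
    have e : i + (n₁ + (m - i)) = n₁ + m := by omega
    rw [e] at h
    have e2 : f * (c * (DirectSum.decompose 𝒜 x (m - i) : A)) =
        c * (f * (DirectSum.decompose 𝒜 x (m - i) : A)) := by ring
    rw [e2]
    exact h
  · rw [mul_zero]; exact (p _).zero_mem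

theorem P_mul (n₀ : ℕ) (hn₁ : n₀ ≤ n₁)
    (h1 : ∀ m n : ℕ, n₀ ≤ n → ∀ a ∈ 𝒜 m, ∀ b ∈ p n, a * b ∈ p (m + n))
    (c : A) {x : A} (hx : P 𝒜 f n₁ p x) : P 𝒜 f n₁ p (c * x) := by
  classical
  have e : c * x = ∑ i ∈ (DirectSum.decompose 𝒜 c).support,
      (DirectSum.decompose 𝒜 c i : A) * x := by
    rw [← Finset.sum_mul, DirectSum.sum_support_decompose 𝒜 c]
  rw [e]
  exact P_sum 𝒜 f n₁ p _ _
    (fun i _ => P_hom_mul 𝒜 f n₁ p n₀ hn₁ h1 (SetLike.coe_mem _) hx)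

end

theorem backward (n₀ : ℕ) (p : ℕ → AddSubgroup A)
    (hp : ∀ n, n₀ ≤ n → (p n : Set A) ⊆ 𝒜 n)
    (h1 : ∀ m n : ℕ, n₀ ≤ n → ∀ a ∈ 𝒜 m, ∀ b ∈ p n, a * b ∈ p (m + n))
    (h2 : ∀ m n : ℕ, n₀ ≤ m → n₀ ≤ n → ∀ f ∈ 𝒜 m, ∀ g ∈ 𝒜 n, f * g ∈ p (m + n) →
      f ∈ p m ∨ g ∈ p n)
    (h3 : ∃ n : ℕ, n₀ ≤ n ∧ (p n : Set A) ≠ 𝒜 n) (hn₀ : 0 < n₀) :
    ∃ 𝔭 : HomogeneousIdeal 𝒜, 𝔭.toIdeal.IsPrime ∧ ¬ HomogeneousIdeal.irrelevant 𝒜 ≤ 𝔭 ∧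
        ∀ n : ℕ, n₀ ≤ n → (𝔭.toIdeal : Set A) ∩ 𝒜 n = p n := by
  classical
  obtain ⟨n₁, hn₁, hne⟩ := h3
  obtain ⟨f, hf, hfp⟩ : ∃ f, f ∈ 𝒜 n₁ ∧ f ∉ p n₁ := by
    by_contra hno
    push Not at hno
    apply hne
    exact Set.Subset.antisymm (hp n₁ hn₁) (fun x hx => hno x hx)
  obtain ⟨I, hImem⟩ : ∃ I : Ideal A, ∀ x, x ∈ I ↔ P 𝒜 f n₁ p x :=
    ⟨{ carrier := {x | P 𝒜 f n₁ p x}
       zero_mem' := P_zero 𝒜 f n₁ p
       add_mem' := fun hx hy => P_add 𝒜 f n₁ p hx hy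
       smul_mem' := fun c x hx => by
        show P 𝒜 f n₁ p (c • x)
        rw [smul_eq_mul]
        exact P_mul 𝒜 f n₁ p n₀ hn₁ h1 c hx }, fun x => Iff.rfl⟩
  have hIhom : I.IsHomogeneous 𝒜 := by
    intro i r hr
    rw [hImem] at hr ⊢
    rw [P_hom_iff 𝒜 f n₁ p (SetLike.coe_mem _)]
    exact hr i
  have hfI : f ∉ I := by
    intro h
    rw [hImem, P_hom_iff 𝒜 f n₁ p hf] at h
    rcases h2 n₁ n₁ hn₁ hn₁ f hf f hf h with h' | h' <;> exact hfp h'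
  have hprime : I.IsPrime := by
    apply hIhom.isPrime_of_homogeneous_mem_or_mem
    · intro htop
      apply hfI
      rw [htop]
      trivial
    · rintro x y ⟨i, hxi⟩ ⟨j, hyj⟩ hxy
      rw [hImem, P_hom_iff 𝒜 f n₁ p (SetLike.mul_mem_graded hxi hyj)] at hxy
      have h := h1 n₁ (n₁ + (i + j)) (le_trans hn₁ (Nat.le_add_right _ _)) f hf _ hxy
      have e : n₁ + (n₁ + (i + j)) = (n₁ + i) + (n₁ + j) := by omega
      rw [e] at h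
      have e2 : f * (f * (x * y)) = (f * x) * (f * y) := by ring
      rw [e2] at h
      rcases h2 (n₁ + i) (n₁ + j) (le_trans hn₁ (Nat.le_add_right _ _))
        (le_trans hn₁ (Nat.le_add_right _ _)) (f * x) (SetLike.mul_mem_graded hf hxi)
        (f * y) (SetLike.mul_mem_graded hf hyj) h with h' | h'
      · left; rw [hImem, P_hom_iff 𝒜 f n₁ p hxi]; exact h'
      · right; rw [hImem, P_hom_iff 𝒜 f n₁ p hyj]; exact h'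
  refine ⟨⟨I, hIhom⟩, hprime, ?_, ?_⟩
  · intro hle
    apply hfI
    have hfirr : f ∈ (HomogeneousIdeal.irrelevant 𝒜).toIdeal :=
      HomogeneousIdeal.mem_irrelevant_of_mem 𝒜 (lt_of_lt_of_le hn₀ hn₁) hf
    exact hle hfirr
  · intro n hn
    ext x
    constructor
    · rintro ⟨hxI, hxn⟩
      have hxI' : x ∈ I := hxI
      rw [hImem, P_hom_iff 𝒜 f n₁ p hxn] at hxI'
      rcases h2 n₁ n hn₁ hn f hf x hxn hxI' with h' | h'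
      · exact absurd h' hfp
      · exact h'
    · intro hx
      have hxn : x ∈ 𝒜 n := hp n hn hx
      refine ⟨?_, hxn⟩
      show x ∈ I
      rw [hImem, P_hom_iff 𝒜 f n₁ p hxn]
      exact h1 n₁ n hn f hf x hx

end H5HT
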