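import Mathlib
import Groth.Prelude.Def_W4stk3formalspacesTaut

/-! helper5: small toolkit for linearly topologized rings (ideal closures, taut maps). -/

set_option autoImplicit false
set_option linter.unusedSectionVars false


section
variable {A : Type*} [CommRing A] [TopologicalSpace A] [IsTopologicalRing A]

theorem H5_mem_closure_iff (I : Ideal A) (x : A) : x ∈ I.closure ↔ x ∈ closure (I : Set A) := by
  rw [← Ideal.coe_closure]; rfl

theorem H5_le_closure (I : Ideal A) : I ≤ I.closure := by
  intro x hx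
  rw [H5_mem_closure_iff]
  exact subset_closure hx

theorem H5_closure_mono {I J : Ideal A} (h : I ≤ J) : I.closure ≤ J.closure := by
  intro x hx
  rw [H5_mem_closure_iff] at hx ⊢
  exact closure_mono h hx

theorem H5_isClosed_of_isOpen (I : Ideal A) (h : IsOpen (I : Set A)) : IsClosed (I : Set A) :=
  AddSubgroup.isClosed_of_isOpen I.toAddSubgroup h

theorem H5_closure_eq_of_isOpen (I : Ideal A) (h : IsOpen (I : Set A)) : I.closure = I := by
  apply le_antisymm
  · intro x hx
    rw [H5_mem_closure_iff, (H5_isClosed_of_isOpen I h).closure_eq] at hx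
    exact hx
  · exact H5_le_closure I

theorem H5_closure_le_of_isClosed {I J : Ideal A} (h : I ≤ J) (hJ : IsClosed (J : Set A)) :
    I.closure ≤ J := by
  intro x hx
  rw [H5_mem_closure_iff] at hx
  exact closure_minimal h hJ hx

theorem H5_closure_le_of_isOpen {I J : Ideal A} (h : I ≤ J) (hJ : IsOpen (J : Set A)) :
    I.closure ≤ J := H5_closure_le_of_isClosed h (H5_isClosed_of_isOpen J hJ)

theorem H5_closure_closure (I : Ideal A) : I.closure.closure = I.closure := by
  apply le_antisymm
  · apply H5_closure_le_of_isClosed le_rfl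
    rw [Ideal.coe_closure]; exact isClosed_closure
  · exact H5_le_closure _

theorem H5_isOpen_closure_coe_iff (I : Ideal A) :
    IsOpen (closure (I : Set A)) ↔ IsOpen ((I.closure : Ideal A) : Set A) := by
  rw [Ideal.coe_closure]

theorem H5_closure_mul_le (I J : Ideal A) : I.closure * J.closure ≤ (I * J).closure := by
  rw [Ideal.mul_le]
  intro x hx y hy
  rw [H5_mem_closure_iff] at hx hy ⊢
  exact map_mem_closure₂ continuous_mul hx hy (fun a ha b hb => Ideal.mul_mem_mul ha hb)

theorem H5_closure_pow_le (I : Ideal A) (n : ℕ) : I.closure ^ n ≤ (I ^ n).closure := by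
  induction n with
  | zero => simpa using H5_le_closure (⊤ : Ideal A)
  | succ n ih =>
    rw [pow_succ, pow_succ]
    exact (Ideal.mul_mono_left ih).trans (H5_closure_mul_le _ _)

theorem H5_isOpen_comap {B : Type*} [CommRing B] [TopologicalSpace B] (φ : A →+* B)
    (hφ : Continuous φ) (J : Ideal B) (hJ : IsOpen (J : Set B)) :
    IsOpen ((J.comap φ : Ideal A) : Set A) := by
  have : ((J.comap φ : Ideal A) : Set A) = φ ⁻¹' (J : Set B) := rfl
  rw [this]; exact hJ.preimage hφ

theorem H5_isOpen_inf (I J : Ideal A) (hI : IsOpen (I : Set A)) (hJ : IsOpen (J : Set A)) :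
    IsOpen ((I ⊓ J : Ideal A) : Set A) := by
  have : ((I ⊓ J : Ideal A) : Set A) = (I : Set A) ∩ J := rfl
  rw [this]; exact hI.inter hJ

theorem H5_mem_nhds_of_isOpen (I : Ideal A) (hI : IsOpen (I : Set A)) : (I : Set A) ∈ nhds (0 : A) :=
  hI.mem_nhds I.zero_mem

/-- in a linearly topologized ring every neighbourhood of zero contains an open ideal -/
theorem H5_exists_open_ideal [IsLinearTopology A A] {U : Set A} (hU : U ∈ nhds (0 : A)) :
    ∃ I : Ideal A, IsOpen (I : Set A) ∧ (I : Set A) ⊆ U :=
  (IsLinearTopology.hasBasis_open_ideal (R := A)).mem_iff.mp hU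

end

section
variable {A : Type*} [CommRing A] [TopologicalSpace A] [IsTopologicalRing A]
variable {B : Type*} [CommRing B] [TopologicalSpace B] [IsTopologicalRing B]

theorem H5_map_closure_le (φ : A →+* B) (hφ : Continuous φ) (I : Ideal A) :
    I.closure.map φ ≤ (I.map φ).closure := by
  rw [Ideal.map_le_iff_le_comap]
  intro x hx
  rw [Ideal.mem_comap, H5_mem_closure_iff]
  rw [H5_mem_closure_iff] at hx
  exact map_mem_closure hφ hx (fun a ha => Ideal.mem_map_of_mem φ ha)

theorem H5_closure_map_closure (φ : A →+* B) (hφ : Continuous φ) (I : Ideal A) :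
    (I.closure.map φ).closure = (I.map φ).closure := by
  apply le_antisymm
  · have := H5_closure_mono (H5_map_closure_le φ hφ I)
    rwa [H5_closure_closure] at this
  · exact H5_closure_mono (Ideal.map_mono (H5_le_closure I))

/-- third taut condition is automatic for continuous maps into linearly topologized rings -/
theorem H5_taut_third [IsLinearTopology B B] (φ : A →+* B) (hφ : Continuous φ) :
    ∀ U ∈ nhds (0 : B), ∃ I : Ideal A, IsOpen (I : Set A) ∧
        closure ((I.map φ : Ideal B) : Set B) ⊆ U := by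
  intro U hU
  obtain ⟨K, hK, hKU⟩ := H5_exists_open_ideal hU
  refine ⟨K.comap φ, H5_isOpen_comap φ hφ K hK, ?_⟩
  have hle : (K.comap φ).map φ ≤ K := Ideal.map_comap_le
  exact (closure_minimal hle (H5_isClosed_of_isOpen K hK)).trans hKU

theorem H5_taut_open (φ : A →+* B) (h : LinTop.IsTaut φ) (I : Ideal A) (hI : IsOpen (I : Set A)) :
    IsOpen (((I.map φ).closure : Ideal B) : Set B) := by
  rw [Ideal.coe_closure]; exact h.2.1 I hI

theorem H5_taut_nhds (φ : A →+* B) (h : LinTop.IsTaut φ) {U : Set B} (hU : U ∈ nhds (0 : B)) :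
    ∃ I : Ideal A, IsOpen (I : Set A) ∧ (((I.map φ).closure : Ideal B) : Set B) ⊆ U := by
  obtain ⟨I, hI, hIU⟩ := h.2.2 U hU
  exact ⟨I, hI, by rwa [Ideal.coe_closure]⟩

end


section
variable {A : Type*} [CommRing A] [TopologicalSpace A] [IsTopologicalRing A]
variable {B : Type*} [CommRing B] [TopologicalSpace B] [IsTopologicalRing B]

/-- in the taut faithfully flat situation, the preimage of the closure of `φ(I)B` is `I` -/
theorem H5_tautFFlat_comap_le (φ : A →+* B) (h : LinTop.IsTautFFlat φ) (I : Ideal A)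
    (hI : IsOpen (I : Set A)) {a : A} (ha : φ a ∈ (I.map φ).closure) : a ∈ I := by
  have hinj := (h.2 I hI).injective
  have h0 : LinTop.descentMap φ I (Ideal.Quotient.mk I a) = 0 := by
    unfold LinTop.descentMap
    rw [Ideal.quotientMap_mk]
    exact Ideal.Quotient.eq_zero_iff_mem.mpr ha
  have := hinj (h0.trans (map_zero _).symm)
  exact Ideal.Quotient.eq_zero_iff_mem.mp this

end

theorem H5_ringHom_ff_comap_map {R S : Type*} [CommRing R] [CommRing S] (f : R →+* S)
    (hf : f.FaithfullyFlat) (I : Ideal R) : (I.map f).comap f = I := by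
  let _ := f.toAlgebra
  have : Module.FaithfullyFlat R S := hf
  exact Ideal.comap_map_eq_self_of_faithfullyFlat (A := R) (B := S) I

section
variable {A : Type*} [CommRing A] [TopologicalSpace A] [IsTopologicalRing A]
variable {B : Type*} [CommRing B] [TopologicalSpace B] [IsTopologicalRing B]

/-- descent of ideal membership in the taut faithfully flat situation -/
theorem H5_tautFFlat_mem_of_map_mem (φ : A →+* B) (h : LinTop.IsTautFFlat φ) (I' : Ideal A)
    (hI' : IsOpen (I' : Set A)) (𝔞 : Ideal A) (hle : I' ≤ 𝔞) {a : A}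
    (ha : φ a ∈ 𝔞.map φ ⊔ (I'.map φ).closure) : a ∈ 𝔞 := by
  have hff := h.2 I' hI'
  have hcomm : ∀ x : A, LinTop.descentMap φ I' (Ideal.Quotient.mk I' x) =
      Ideal.Quotient.mk (I'.map φ).closure (φ x) := fun x => by
    unfold LinTop.descentMap
    rw [Ideal.quotientMap_mk]
  have key : Ideal.Quotient.mk I' a ∈
      ((𝔞.map (Ideal.Quotient.mk I')).map (LinTop.descentMap φ I')).comap (LinTop.descentMap φ I') := by
    rw [Ideal.mem_comap, hcomm]
    have hmm : (𝔞.map (Ideal.Quotient.mk I')).map (LinTop.descentMap φ I') =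
        (𝔞.map φ).map (Ideal.Quotient.mk (I'.map φ).closure) := by
      rw [Ideal.map_map, Ideal.map_map]
      rfl
    rw [hmm]
    obtain ⟨u, hu, v, hv, huv⟩ := Submodule.mem_sup.mp ha
    rw [← huv, map_add, Ideal.Quotient.eq_zero_iff_mem.mpr hv, add_zero]
    exact Ideal.mem_map_of_mem _ hu
  rw [H5_ringHom_ff_comap_map _ hff] at key
  exact (Ideal.mem_quotient_iff_mem hle).mp key

end

section
variable {A : Type*} [CommRing A] [TopologicalSpace A] [IsTopologicalRing A]

theorem H5_mem_closure_of_forall_open [IsLinearTopology A A] (K : Ideal A) (x : A)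
    (h : ∀ I' : Ideal A, IsOpen (I' : Set A) → x ∈ K ⊔ I') : x ∈ K.closure := by
  rw [H5_mem_closure_iff, mem_closure_iff_nhds]
  intro t ht
  have h0 : (fun y => x + y) ⁻¹' t ∈ nhds (0 : A) := by
    apply (continuous_const_add x).continuousAt
    simpa using ht
  obtain ⟨I', hI', hI't⟩ := H5_exists_open_ideal h0
  obtain ⟨k, hk, z, hz, hkz⟩ := Submodule.mem_sup.mp (h I' hI')
  refine ⟨k, ?_, hk⟩
  have : k = x + (-z) := by rw [← hkz]; ring
  rw [this]
  exact hI't (I'.neg_mem hz)

end
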