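import Mathlib
import Groth.Agent.Lib.helper5.LinTop

/-! helper5: completions of linearly topologized rings. -/

set_option autoImplicit false
set_option linter.unusedSectionVars false

open UniformSpace

section
variable {A : Type*} [CommRing A] [UniformSpace A] [IsUniformAddGroup A] [IsTopologicalRing A]

/-- closure of the image of an ideal in the completion, as an ideal of the completion -/
noncomputable def H5_complIdeal (I : Ideal A) : Ideal (Completion A) where
  carrier := closure ((Completion.coeRingHom : A →+* Completion A) '' (I : Set A))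
  add_mem' := by
    intro a b ha hb
    refine map_mem_closure₂ continuous_add ha hb ?_
    rintro _ ⟨x, hx, rfl⟩ _ ⟨y, hy, rfl⟩
    exact ⟨x + y, I.add_mem hx hy, map_add _ _ _⟩
  zero_mem' := subset_closure ⟨0, I.zero_mem, map_zero _⟩
  smul_mem' := by
    intro c x hx
    have hc : c ∈ closure (Set.range (Completion.coeRingHom : A →+* Completion A)) := by
      have : DenseRange (Completion.coeRingHom : A →+* Completion A) := Completion.denseRange_coe
      rw [this.closure_range]; trivial
    refine map_mem_closure₂ continuous_mul hc hx ?_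
    rintro _ ⟨a, rfl⟩ _ ⟨y, hy, rfl⟩
    exact ⟨a * y, I.mul_mem_left a hy, map_mul _ _ _⟩

theorem H5_coe_complIdeal (I : Ideal A) : ((H5_complIdeal I : Ideal (Completion A)) : Set (Completion A)) =
    closure ((Completion.coeRingHom : A →+* Completion A) '' (I : Set A)) := rfl

theorem H5_isClosed_complIdeal (I : Ideal A) :
    IsClosed ((H5_complIdeal I : Ideal (Completion A)) : Set (Completion A)) := by
  rw [H5_coe_complIdeal]; exact isClosed_closure

theorem H5_map_le_complIdeal (I : Ideal A) :
    I.map (Completion.coeRingHom : A →+* Completion A) ≤ H5_complIdeal I := by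
  rw [Ideal.map_le_iff_le_comap]
  intro x hx
  exact subset_closure ⟨x, hx, rfl⟩

theorem H5_closure_map_eq_complIdeal (I : Ideal A) :
    (I.map (Completion.coeRingHom : A →+* Completion A)).closure = H5_complIdeal I := by
  apply le_antisymm
  · exact H5_closure_le_of_isClosed (H5_map_le_complIdeal I) (H5_isClosed_complIdeal I)
  · intro x hx
    rw [H5_mem_closure_iff]
    refine closure_mono ?_ hx
    rintro _ ⟨a, ha, rfl⟩
    exact Ideal.mem_map_of_mem _ ha

theorem H5_complIdeal_mem_nhds (I : Ideal A) (hI : IsOpen (I : Set A)) :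
    ((H5_complIdeal I : Ideal (Completion A)) : Set (Completion A)) ∈ nhds (0 : Completion A) := by
  have h := (Completion.isDenseInducing_coe (α := A)).closure_image_mem_nhds
    (H5_mem_nhds_of_isOpen I hI)
  exact h

theorem H5_isOpen_complIdeal (I : Ideal A) (hI : IsOpen (I : Set A)) :
    IsOpen ((H5_complIdeal I : Ideal (Completion A)) : Set (Completion A)) :=
  AddSubgroup.isOpen_of_mem_nhds (H5_complIdeal I).toAddSubgroup (H5_complIdeal_mem_nhds I hI)

theorem H5_exists_complIdeal_subset [IsLinearTopology A A] {U : Set (Completion A)}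
    (hU : U ∈ nhds (0 : Completion A)) :
    ∃ I : Ideal A, IsOpen (I : Set A) ∧
      ((H5_complIdeal I : Ideal (Completion A)) : Set (Completion A)) ⊆ U := by
  obtain ⟨V, hV, hVc, hVU⟩ := exists_mem_nhds_isClosed_subset hU
  have hpre : (Completion.coeRingHom : A →+* Completion A) ⁻¹' V ∈ nhds (0 : A) := by
    apply Completion.continuous_coeRingHom.continuousAt
    rw [map_zero]; exact hV
  obtain ⟨I, hI, hIV⟩ := H5_exists_open_ideal hpre
  refine ⟨I, hI, ?_⟩
  rw [H5_coe_complIdeal]
  refine (closure_minimal ?_ hVc).trans hVU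
  rintro _ ⟨a, ha, rfl⟩
  exact hIV ha

theorem H5_isLinearTopology_completion [IsLinearTopology A A] :
    IsLinearTopology (Completion A) (Completion A) := by
  rw [isLinearTopology_iff_hasBasis_ideal]
  refine ⟨fun U => ⟨fun hU => ?_, ?_⟩⟩
  · obtain ⟨I, hI, hIU⟩ := H5_exists_complIdeal_subset hU
    exact ⟨H5_complIdeal I, H5_complIdeal_mem_nhds I hI, hIU⟩
  · rintro ⟨K, hK, hKU⟩
    exact Filter.mem_of_superset hK hKU

theorem H5_isTaut_coeRingHom [IsLinearTopology A A] :
    LinTop.IsTaut (Completion.coeRingHom : A →+* Completion A) := by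
  refine ⟨Completion.continuous_coeRingHom, ?_, ?_⟩
  · intro I hI
    rw [← Ideal.coe_closure, H5_closure_map_eq_complIdeal]
    exact H5_isOpen_complIdeal I hI
  · intro U hU
    obtain ⟨I, hI, hIU⟩ := H5_exists_complIdeal_subset hU
    refine ⟨I, hI, ?_⟩
    rw [← Ideal.coe_closure, H5_closure_map_eq_complIdeal]
    exact hIU

end
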