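import Mathlib
import Groth.Agent.Lib.helper5.LinTop

/-! helper5: successive approximation in complete linearly topologized rings. -/

set_option autoImplicit false
set_option linter.unusedSectionVars false

open Filter

section
variable {A : Type*} [CommRing A] [UniformSpace A] [IsUniformAddGroup A] [IsTopologicalRing A]
  [IsLinearTopology A A] [T2Space A] [CompleteSpace A]

theorem H5_nonarchimedeanAddGroup {A : Type*} [CommRing A] [TopologicalSpace A]
    [IsTopologicalRing A] [IsLinearTopology A A] : NonarchimedeanAddGroup A :=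
  { is_nonarchimedean := fun U hU => by
      obtain ⟨I, hI, hIU⟩ := H5_exists_open_ideal hU
      exact ⟨⟨I.toAddSubgroup, hI⟩, hIU⟩ }

theorem H5_le_of_complete_approx {s : ℕ} (g : Fin s → A) (V W : ℕ → Ideal A)
    (hV : ∀ U ∈ nhds (0 : A), ∃ k₀, ∀ k, k₀ ≤ k → (V k : Set A) ⊆ U)
    (hW : ∀ U ∈ nhds (0 : A), ∃ k₀, ∀ k, k₀ ≤ k → (W k : Set A) ⊆ U)
    (hstep : ∀ k, V k ≤ W k * Ideal.span (Set.range g) ⊔ V (k + 1)) :
    V 0 ≤ Ideal.span (Set.range g) := by
  intro x hx
  have step : ∀ (k : ℕ) (y : V k), ∃ c : Fin s → A, (∀ j, c j ∈ W k) ∧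
      (y : A) - ∑ j, c j * g j ∈ V (k + 1) := by
    intro k y
    obtain ⟨u, hu, v, hv, huv⟩ := Submodule.mem_sup.mp (hstep k y.2)
    rw [← smul_eq_mul] at hu
    obtain ⟨a, ha, hau⟩ := (Submodule.mem_ideal_smul_span_iff_exists_sum (W k) g u).mp hu
    refine ⟨fun j => a j, ha, ?_⟩
    have : ∑ j, a j * g j = u := by
      rw [← hau, Finsupp.sum_fintype _ _ (fun i => by simp)]
      simp [smul_eq_mul]
    rw [this, ← huv]
    simpa using hv
  choose c hc hy using step
  let y : ∀ k, V k := fun k => Nat.rec ⟨x, hx⟩ (fun k yk => ⟨(yk : A) - ∑ j, c k yk j * g j, hy k yk⟩) k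
  let C : ℕ → Fin s → A := fun k j => c k (y k) j
  have hC : ∀ k j, C k j ∈ W k := fun k j => hc k (y k) j
  have hysucc : ∀ k, (y (k + 1)).1 = (y k).1 - ∑ j, C k j * g j := fun k => rfl
  have hsum : ∀ K : ℕ, x - ∑ j, (∑ k ∈ Finset.range K, C k j) * g j = (y K).1 := by
    intro K
    induction K with
    | zero => simp [y]
    | succ K ih =>
      rw [hysucc, ← ih]
      simp only [Finset.sum_range_succ, add_mul, Finset.sum_add_distrib]
      ring
  have htend0 : ∀ j, Tendsto (fun k => C k j) atTop (nhds 0) := by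
    intro j U hU
    obtain ⟨k₀, hk₀⟩ := hW U hU
    rw [Filter.mem_map]
    exact Filter.mem_atTop_sets.mpr ⟨k₀, fun k hk => hk₀ k hk (hC k j)⟩
  have hsummable : ∀ j, Summable (fun k => C k j) := by
    intro j
    have : NonarchimedeanAddGroup A := H5_nonarchimedeanAddGroup
    apply NonarchimedeanAddGroup.summable_of_tendsto_cofinite_zero
    rw [Nat.cofinite_eq_atTop]
    exact htend0 j
  have hlim1 : Tendsto (fun K => x - ∑ j, (∑ k ∈ Finset.range K, C k j) * g j) atTop
      (nhds (x - ∑ j, (∑' k, C k j) * g j)) := by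
    apply tendsto_const_nhds.sub
    apply tendsto_finsetSum
    intro j _
    exact ((hsummable j).hasSum.tendsto_sum_nat).mul_const (g j)
  have hlim2 : Tendsto (fun K => x - ∑ j, (∑ k ∈ Finset.range K, C k j) * g j) atTop (nhds 0) := by
    simp_rw [hsum]
    intro U hU
    obtain ⟨k₀, hk₀⟩ := hV U hU
    rw [Filter.mem_map]
    exact Filter.mem_atTop_sets.mpr ⟨k₀, fun k hk => hk₀ k hk (y k).2⟩
  have h0 := tendsto_nhds_unique hlim1 hlim2
  have hx' : x = ∑ j, (∑' k, C k j) * g j := sub_eq_zero.mp h0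
  rw [hx']
  exact Ideal.sum_mem _ fun j _ => Ideal.mul_mem_left _ _ (Ideal.subset_span ⟨j, rfl⟩)

/-- S10163-style: closures of powers of a f.g. ideal open and a basis ⇒ the ideal powers are closed -/
theorem H5_closure_pow_le_pow (I : Ideal A) (hfg : I.FG)
    (hopen : ∀ n : ℕ, IsOpen (closure ((I ^ n : Ideal A) : Set A)))
    (hbasis : ∀ U ∈ nhds (0 : A), ∃ n : ℕ, closure ((I ^ n : Ideal A) : Set A) ⊆ U) (n : ℕ) :
    (I ^ n).closure ≤ I ^ n := by
  obtain ⟨s, g, hg⟩ := Submodule.fg_iff_exists_fin_generating_family.mp (hfg.pow (n := n))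
  have hg' : Ideal.span (Set.range g) = I ^ n := hg
  have hmono : ∀ {a b : ℕ}, a ≤ b → (I ^ b).closure ≤ (I ^ a).closure := fun h =>
    H5_closure_mono (Ideal.pow_le_pow_right h)
  have key := H5_le_of_complete_approx g (fun k => (I ^ (n + k)).closure) (fun k => I ^ k) ?_ ?_ ?_
  · rw [hg'] at key
    simpa using key
  · intro U hU
    obtain ⟨m, hm⟩ := hbasis U hU
    refine ⟨m, fun k hk => ?_⟩
    have := SetLike.coe_subset_coe.mpr (hmono (a := m) (b := n + k) (by omega))
    rw [Ideal.coe_closure, Ideal.coe_closure] at this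
    exact this.trans hm
  · intro U hU
    obtain ⟨m, hm⟩ := hbasis U hU
    refine ⟨m, fun k hk => ?_⟩
    have h1 : ((I ^ k : Ideal A) : Set A) ⊆ ((I ^ m : Ideal A) : Set A) :=
      SetLike.coe_subset_coe.mpr (Ideal.pow_le_pow_right hk)
    exact (h1.trans subset_closure).trans hm
  · intro k
    rw [hg']
    apply H5_closure_le_of_isOpen
    · rw [← pow_add, add_comm k n]
      exact le_sup_left
    · apply Ideal.isOpen_of_isOpen_subideal (le_sup_right)
      rw [Ideal.coe_closure]
      exact hopen (n + k + 1)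

theorem H5_isAdic_of_closure_pow (I : Ideal A) (hfg : I.FG)
    (hopen : ∀ n : ℕ, IsOpen (closure ((I ^ n : Ideal A) : Set A)))
    (hbasis : ∀ U ∈ nhds (0 : A), ∃ n : ℕ, closure ((I ^ n : Ideal A) : Set A) ⊆ U) :
    IsAdic I := by
  rw [isAdic_iff]
  refine ⟨fun n => ?_, fun U hU => ?_⟩
  · have h1 : (I ^ n).closure = I ^ n :=
      le_antisymm (H5_closure_pow_le_pow I hfg hopen hbasis n) (H5_le_closure _)
    have := hopen n
    rwa [← Ideal.coe_closure, h1] at this
  · obtain ⟨n, hn⟩ := hbasis U hU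
    exact ⟨n, subset_closure.trans hn⟩

end
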