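import Mathlib
import Groth.Agent.Lib.helper5.LinTop
import Groth.Agent.Lib.helper5.LinTopComplete

/-! helper5: lifting along a continuous ring hom by successive approximation. -/

set_option autoImplicit false
set_option linter.unusedSectionVars false

open Filter

theorem H5_lift_of_approx {A B : Type*} [CommRing A] [UniformSpace A] [IsUniformAddGroup A]
    [IsTopologicalRing A] [IsLinearTopology A A] [T2Space A] [CompleteSpace A]
    [CommRing B] [TopologicalSpace B] [T2Space B] [IsTopologicalRing B]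
    (φ : A →+* B) (hφ : Continuous φ)
    (I : ℕ → Ideal A) (J : ℕ → Ideal B) (hanti : Antitone I)
    (hopen : ∀ n, IsOpen (I n : Set A))
    (hI : ∀ U ∈ nhds (0 : A), ∃ k, (I k : Set A) ⊆ U)
    (hJ : ∀ U ∈ nhds (0 : B), ∃ k₀, ∀ k, k₀ ≤ k → (J k : Set B) ⊆ U)
    (hstep : ∀ k, ∀ b ∈ J k, ∃ a ∈ I k, b - φ a ∈ J (k + 1))
    (n : ℕ) (b : B) (hb : b ∈ J n) : ∃ a ∈ I n, φ a = b := by
  have step : ∀ (k : ℕ) (y : J k), ∃ a : A, a ∈ I k ∧ (y : B) - φ a ∈ J (k + 1) :=
    fun k y => hstep k y y.2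
  choose f hf hfy using step
  let y : ∀ k, J (n + k) := fun k =>
    Nat.rec ⟨b, hb⟩ (fun k yk => ⟨(yk : B) - φ (f (n + k) yk), hfy (n + k) yk⟩) k
  let c : ℕ → A := fun k => f (n + k) (y k)
  have hc : ∀ k, c k ∈ I (n + k) := fun k => hf (n + k) (y k)
  have hysucc : ∀ k, ((y (k + 1)).1 : B) = (y k).1 - φ (c k) := by
    intro k; rfl
  have hsum : ∀ K : ℕ, b - φ (∑ k ∈ Finset.range K, c k) = (y K).1 := by
    intro K
    induction K with
    | zero => simp [y]
    | succ K ih =>
      rw [hysucc, ← ih, Finset.sum_range_succ, map_add]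
      ring
  have htend0 : Tendsto c atTop (nhds 0) := by
    intro U hU
    obtain ⟨k₀, hk₀⟩ := hI U hU
    rw [Filter.mem_map]
    refine Filter.mem_atTop_sets.mpr ⟨k₀, fun k hk => hk₀ ?_⟩
    exact hanti (by omega : k₀ ≤ n + k) (hc k)
  have hsummable : Summable c := by
    have : NonarchimedeanAddGroup A := H5_nonarchimedeanAddGroup
    apply NonarchimedeanAddGroup.summable_of_tendsto_cofinite_zero
    rw [Nat.cofinite_eq_atTop]
    exact htend0
  have hlimA : Tendsto (fun K => ∑ k ∈ Finset.range K, c k) atTop (nhds (∑' k, c k)) :=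
    hsummable.hasSum.tendsto_sum_nat
  refine ⟨∑' k, c k, ?_, ?_⟩
  · have hclosed : IsClosed (I n : Set A) := H5_isClosed_of_isOpen (I n) (hopen n)
    refine hclosed.mem_of_tendsto hlimA (Filter.Eventually.of_forall fun K => ?_)
    exact (I n).sum_mem fun k _ => hanti (by omega : n ≤ n + k) (hc k)
  · have hlim1 : Tendsto (fun K => b - φ (∑ k ∈ Finset.range K, c k)) atTop
        (nhds (b - φ (∑' k, c k))) :=
      tendsto_const_nhds.sub ((hφ.tendsto _).comp hlimA)
    have hlim2 : Tendsto (fun K => b - φ (∑ k ∈ Finset.range K, c k)) atTop (nhds 0) := by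
      simp_rw [hsum]
      intro U hU
      obtain ⟨k₀, hk₀⟩ := hJ U hU
      rw [Filter.mem_map]
      exact Filter.mem_atTop_sets.mpr ⟨k₀, fun k hk => hk₀ (n + k) (by omega) (y k).2⟩
    have h0 := tendsto_nhds_unique hlim1 hlim2
    exact (sub_eq_zero.mp h0).symm
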