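import Mathlib
import Groth.Prelude.Def_Found
import Groth.Prelude.Def_CAlgX

namespace H5ML

universe u

open TensorProduct

theorem square {R : Type u} [CommRing R] {M₁ M₂ : Type u} [AddCommGroup M₁] [Module R M₁]
    [AddCommGroup M₂] [Module R M₂]
    (f : M₁ →ₗ[R] M₂) {ι : Type u} (Q : ι → Type u) [∀ i, AddCommGroup (Q i)]
    [∀ i, Module R (Q i)] (x : M₁ ⊗[R] (∀ i, Q i)) (i : ι) :
    (f.rTensor (Q i)) (piRightHom R R M₁ Q x i) =
      piRightHom R R M₂ Q (f.rTensor (∀ i, Q i) x) i := by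
  induction x using TensorProduct.induction_on with
  | zero => simp
  | tmul m q => simp
  | add x y hx hy => simp only [map_add, Pi.add_apply, hx, hy]

theorem ml_of_univInj (R : Type u) [CommRing R] {M₁ M₂ : Type u}
    [AddCommGroup M₁] [Module R M₁] [AddCommGroup M₂] [Module R M₂] (f : M₁ →ₗ[R] M₂)
    (hf : CAlgX.UniversallyInjective R f) (h₂ : CAlg.IsMittagLeffler R M₂) :
    CAlg.IsMittagLeffler R M₁ := by
  intro ι Q _ _ x y hxy
  apply hf (∀ i, Q i)
  apply h₂ ι Q
  funext i
  rw [← square f Q x i, ← square f Q y i, hxy]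

theorem ml_of_ext (R : Type u) [CommRing R] {M₁ M₂ M₃ : Type u}
    [AddCommGroup M₁] [Module R M₁] [AddCommGroup M₂] [Module R M₂] [AddCommGroup M₃] [Module R M₃]
    (f : M₁ →ₗ[R] M₂) (g : M₂ →ₗ[R] M₃) (hf : CAlgX.UniversallyInjective R f)
    (hg : Function.Surjective g) (hfg : LinearMap.range f = LinearMap.ker g)
    (h₁ : CAlg.IsMittagLeffler R M₁) (h₃ : CAlg.IsMittagLeffler R M₃) :
    CAlg.IsMittagLeffler R M₂ := by
  intro ι Q _ _
  rw [injective_iff_map_eq_zero]
  intro x hx
  have hexact : Function.Exact f g := by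
    rw [LinearMap.exact_iff]; exact hfg.symm
  have hex2 : Function.Exact (f.rTensor (∀ i, Q i)) (g.rTensor (∀ i, Q i)) :=
    rTensor_exact _ hexact hg
  have hgx : g.rTensor (∀ i, Q i) x = 0 := by
    apply h₃ ι Q
    rw [map_zero]
    funext i
    rw [← square g Q x i, hx]
    simp
  obtain ⟨y, rfl⟩ := (hex2 x).1 hgx
  have hy : y = 0 := by
    apply h₁ ι Q
    rw [map_zero]
    funext i
    apply hf (Q i)
    rw [square f Q y i, hx]
    simp
  rw [hy, map_zero]

theorem exists_sum_tmul {R : Type u} [CommRing R] {N Q : Type u} [AddCommGroup N] [Module R N]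
    [AddCommGroup Q] [Module R Q]
    {k : ℕ} (n : Fin k → N) (hn : Submodule.span R (Set.range n) = ⊤) (z : N ⊗[R] Q) :
    ∃ q : Fin k → Q, z = ∑ a, n a ⊗ₜ[R] q a := by
  induction z using TensorProduct.induction_on with
  | zero => exact ⟨0, by simp⟩
  | tmul m q =>
    have hm : m ∈ Submodule.span R (Set.range n) := by rw [hn]; exact Submodule.mem_top
    obtain ⟨c, rfl⟩ := (Submodule.mem_span_range_iff_exists_fun R).1 hm
    refine ⟨fun a => c a • q, ?_⟩
    rw [TensorProduct.sum_tmul]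
    apply Finset.sum_congr rfl
    intro a _
    rw [TensorProduct.smul_tmul]
  | add z w hz hw =>
    obtain ⟨q1, rfl⟩ := hz
    obtain ⟨q2, rfl⟩ := hw
    refine ⟨q1 + q2, ?_⟩
    rw [← Finset.sum_add_distrib]
    apply Finset.sum_congr rfl
    intro a _
    rw [Pi.add_apply, TensorProduct.tmul_add]

theorem piRightHom_surjective_of_finite {R : Type u} [CommRing R] (N : Type u) [AddCommGroup N]
    [Module R N] [Module.Finite R N]
    {ι : Type u} (Q : ι → Type u) [∀ i, AddCommGroup (Q i)] [∀ i, Module R (Q i)] :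
    Function.Surjective (piRightHom R R N Q) := by
  obtain ⟨k, n, hn⟩ := Module.Finite.exists_fin (R := R) (M := N)
  intro y
  choose q hq using fun j => exists_sum_tmul n hn (y j)
  refine ⟨∑ a, n a ⊗ₜ[R] (fun j => q j a), ?_⟩
  funext j
  rw [map_sum, Finset.sum_apply, hq j]
  apply Finset.sum_congr rfl
  intro a _
  rw [piRightHom_tmul]

theorem ml_quotient_fg (R : Type u) [CommRing R] {M : Type u} [AddCommGroup M] [Module R M]
    (N : Submodule R M) (hN : N.FG) (hM : CAlg.IsMittagLeffler R M) :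
    CAlg.IsMittagLeffler R (M ⧸ N) := by
  haveI : Module.Finite R ↥N := Module.Finite.iff_fg.2 hN
  intro ι Q _ _
  rw [injective_iff_map_eq_zero]
  intro x hx
  have hexact : Function.Exact N.subtype N.mkQ := LinearMap.exact_subtype_mkQ N
  have hex2 : ∀ (P : Type u) [AddCommGroup P] [Module R P],
      Function.Exact (N.subtype.rTensor P) (N.mkQ.rTensor P) :=
    fun P _ _ => rTensor_exact P hexact (Submodule.mkQ_surjective N)
  obtain ⟨x', rfl⟩ := LinearMap.rTensor_surjective (∀ i, Q i) (Submodule.mkQ_surjective N) x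
  have h1 : ∀ j, ∃ yj : ↥N ⊗[R] Q j,
      N.subtype.rTensor (Q j) yj = piRightHom R R M Q x' j := by
    intro j
    apply (hex2 (Q j) (piRightHom R R M Q x' j)).1
    rw [square N.mkQ Q x' j, hx]
    rfl
  choose y hy using h1
  obtain ⟨y', hy'⟩ := piRightHom_surjective_of_finite ↥N Q y
  have h2 : N.subtype.rTensor (∀ i, Q i) y' = x' := by
    apply hM ι Q
    funext j
    rw [← square N.subtype Q y' j, hy', hy j]
  rw [← h2]
  exact (hex2 (∀ i, Q i)).apply_apply_eq_zero y'

end H5ML
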