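import Mathlib
import Groth.Agent.Lib.helper5.MLBasic

namespace H5ML

universe u

open TensorProduct

theorem univInj_of_leftInverse {R : Type u} [CommRing R] {M N : Type u} [AddCommGroup M]
    [Module R M] [AddCommGroup N] [Module R N]
    (f : M →ₗ[R] N) (g : N →ₗ[R] M) (h : g ∘ₗ f = LinearMap.id) :
    CAlgX.UniversallyInjective R f := by
  intro Q _ _
  apply Function.LeftInverse.injective (g := g.rTensor Q)
  intro x
  rw [← LinearMap.comp_apply, ← LinearMap.rTensor_comp, h, LinearMap.rTensor_id,
    LinearMap.id_apply]

theorem ml_of_equiv {R : Type u} [CommRing R] {M N : Type u} [AddCommGroup M]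
    [Module R M] [AddCommGroup N] [Module R N] (e : M ≃ₗ[R] N)
    (hN : CAlg.IsMittagLeffler R N) : CAlg.IsMittagLeffler R M :=
  ml_of_univInj R e.toLinearMap
    (univInj_of_leftInverse e.toLinearMap e.symm.toLinearMap (by ext x; simp)) hN

theorem ml_fin (R : Type u) [CommRing R] (n : ℕ) : CAlg.IsMittagLeffler R (Fin n → R) := by
  classical
  intro ι Q _ _
  rw [injective_iff_map_eq_zero]
  intro x hx
  obtain ⟨q, rfl⟩ :=
    exists_sum_tmul (⇑(Pi.basisFun R (Fin n))) (Pi.basisFun R (Fin n)).span_eq x
  have hq : ∀ b, q b = 0 := by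
    intro b
    funext j
    have h0 : piRightHom R R (Fin n → R) Q
        (∑ a, (Pi.basisFun R (Fin n)) a ⊗ₜ[R] q a) j = 0 := congrFun hx j
    rw [map_sum, Finset.sum_apply] at h0
    simp only [piRightHom_tmul] at h0
    have hL : ∀ (e : Fin n → R) (z : Q j),
        ((TensorProduct.lid R (Q j)).toLinearMap ∘ₗ
          (LinearMap.proj b : (Fin n → R) →ₗ[R] R).rTensor (Q j)) (e ⊗ₜ z) = e b • z :=
      fun e z => by simp
    have h2 : ((TensorProduct.lid R (Q j)).toLinearMap ∘ₗ
          (LinearMap.proj b : (Fin n → R) →ₗ[R] R).rTensor (Q j))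
          (∑ a, (Pi.basisFun R (Fin n)) a ⊗ₜ[R] q a j) = 0 := by
      rw [h0, map_zero]
    rw [map_sum] at h2
    simp only [hL, Pi.basisFun_apply] at h2
    rw [Finset.sum_eq_single b] at h2
    · simpa using h2
    · intro a _ hab
      rw [Pi.single_eq_of_ne hab.symm, zero_smul]
    · intro h; exact absurd (Finset.mem_univ b) h
  apply Finset.sum_eq_zero
  intro a _
  rw [hq a, tmul_zero]

theorem ml_of_fp (R : Type u) [CommRing R] (M : Type u) [AddCommGroup M] [Module R M]
    [Module.FinitePresentation R M] : CAlg.IsMittagLeffler R M := by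
  obtain ⟨n, K, e, hK⟩ := Module.FinitePresentation.exists_fin R M
  exact ml_of_equiv e (ml_quotient_fg R K hK (ml_fin R n))

theorem finite_of_surj {R : Type u} [CommRing R] (N : Type u) [AddCommGroup N] [Module R N]
    (h : Function.Surjective (piRightHom R R N (fun _ : N => R))) : Module.Finite R N := by
  classical
  obtain ⟨x, hx⟩ := h (fun m => m ⊗ₜ[R] (1 : R))
  obtain ⟨S, rfl⟩ := TensorProduct.exists_finset x
  refine ⟨⟨S.image Prod.fst, ?_⟩⟩
  rw [eq_top_iff]
  rintro m -
  have h1 := congrFun hx m
  rw [map_sum, Finset.sum_apply] at h1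
  simp only [piRightHom_tmul] at h1
  have h2 : TensorProduct.rid R N (∑ i ∈ S, i.1 ⊗ₜ[R] i.2 m) = TensorProduct.rid R N (m ⊗ₜ[R] 1) := by
    rw [h1]
  rw [map_sum] at h2
  simp only [TensorProduct.rid_tmul, one_smul] at h2
  rw [← h2]
  apply Submodule.sum_mem
  intro i hi
  apply Submodule.smul_mem
  apply Submodule.subset_span
  rw [Finset.coe_image]
  exact ⟨i, hi, rfl⟩

theorem fp_of_bijective (R : Type u) [CommRing R] (M : Type u) [AddCommGroup M] [Module R M]
    (H : ∀ (ι : Type u) (Q : ι → Type u) [∀ i, AddCommGroup (Q i)] [∀ i, Module R (Q i)],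
      Function.Bijective (piRightHom R R M Q)) : Module.FinitePresentation R M := by
  haveI : Module.Finite R M := finite_of_surj M (H M (fun _ => R)).2
  obtain ⟨n, p, hp⟩ := Module.Finite.exists_fin' R M
  have hexact : Function.Exact (LinearMap.ker p).subtype p := LinearMap.exact_subtype_ker_map p
  have hKfin : Module.Finite R ↥(LinearMap.ker p) := by
    apply finite_of_surj
    intro y
    obtain ⟨z, hz⟩ := piRightHom_surjective_of_finite (Fin n → R)
      (fun _ : ↥(LinearMap.ker p) => R)
      (fun κ => (LinearMap.ker p).subtype.rTensor R (y κ))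
    have hpz : p.rTensor (↥(LinearMap.ker p) → R) z = 0 := by
      apply (H ↥(LinearMap.ker p) (fun _ => R)).1
      rw [map_zero]
      funext κ
      rw [← square p (fun _ : ↥(LinearMap.ker p) => R) z κ, hz]
      exact (rTensor_exact R hexact hp).apply_apply_eq_zero (y κ)
    obtain ⟨w, rfl⟩ := ((rTensor_exact (↥(LinearMap.ker p) → R) hexact hp) z).1 hpz
    refine ⟨w, ?_⟩
    funext κ
    have hinj : Function.Injective ((LinearMap.ker p).subtype.rTensor R) :=
      Module.Flat.rTensor_preserves_injective_linearMap _ (Submodule.injective_subtype _)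
    apply hinj
    rw [square (LinearMap.ker p).subtype (fun _ : ↥(LinearMap.ker p) => R) w κ, hz]
  exact Module.finitePresentation_of_free_of_surjective p hp (Module.Finite.iff_fg.1 hKfin)

section theta

variable (R : Type u) [CommRing R] (A : Type u)

/-- The evaluation map `P ⊗ (A → R) → (A → P)`. -/
noncomputable def theta (P : Type u) [AddCommGroup P] [Module R P] :
    P ⊗[R] (A → R) →ₗ[R] (A → P) :=
  TensorProduct.lift (LinearMap.mk₂ R (fun (p : P) (f : A → R) => fun a => f a • p)
    (fun p p' f => by funext a; exact smul_add (f a) p p')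
    (fun c p f => by funext a; exact smul_comm (f a) c p)
    (fun p f f' => by funext a; exact add_smul (f a) (f' a) p)
    (fun c p f => by funext a; exact smul_assoc c (f a) p))

theorem theta_tmul (P : Type u) [AddCommGroup P] [Module R P] (p : P) (f : A → R) :
    theta R A P (p ⊗ₜ[R] f) = fun a => f a • p := by
  unfold theta
  rw [TensorProduct.lift.tmul]
  rfl

theorem theta_natural {P P' : Type u} [AddCommGroup P] [Module R P] [AddCommGroup P']
    [Module R P'] (g : P →ₗ[R] P') (x : P ⊗[R] (A → R)) (a : A) :
    theta R A P' (g.rTensor (A → R) x) a = g (theta R A P x a) := by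
  induction x using TensorProduct.induction_on with
  | zero => simp
  | tmul p f => simp [theta_tmul]
  | add x y hx hy => simp only [map_add, Pi.add_apply, hx, hy]

theorem theta_pi (P : Type u) [AddCommGroup P] [Module R P] (x : P ⊗[R] (A → R)) (a : A) :
    theta R A P x a = TensorProduct.rid R P (piRightHom R R P (fun _ : A => R) x a) := by
  induction x using TensorProduct.induction_on with
  | zero => simp
  | tmul p f => simp [theta_tmul]
  | add x y hx hy => simp only [map_add, Pi.add_apply, hx, hy]

theorem theta_inj_of_fp (P : Type u) [AddCommGroup P] [Module R P]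
    [Module.FinitePresentation R P] : Function.Injective (theta R A P) := by
  intro x y h
  apply ml_of_fp R P A (fun _ => R)
  funext a
  apply (TensorProduct.rid R P).injective
  rw [← theta_pi, ← theta_pi, h]

theorem theta_inj [IsNoetherianRing R] (P : Type u) [AddCommGroup P] [Module R P] :
    Function.Injective (theta R A P) := by
  rw [injective_iff_map_eq_zero]
  intro x hx
  obtain ⟨P', hfin, hsub⟩ :=
    TensorProduct.exists_finite_submodule_left_of_setFinite {x} (Set.finite_singleton x)
  obtain ⟨x', rfl⟩ := hsub (Set.mem_singleton x)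
  haveI := hfin
  haveI : Module.FinitePresentation R ↥P' := Module.finitePresentation_of_finite R ↥P'
  have h0 : theta R A ↥P' x' = 0 := by
    funext a
    apply Subtype.ext
    have h3 := theta_natural R A P'.subtype x' a
    rw [hx] at h3
    exact h3.symm
  rw [(theta_inj_of_fp R A ↥P') (by rw [h0, map_zero] : theta R A ↥P' x' = theta R A ↥P' 0), map_zero]

theorem flat_pi [IsNoetherianRing R] : Module.Flat R (A → R) := by
  rw [Module.Flat.iff_rTensor_injective]
  intro I hI
  haveI : Module.Finite R ↥I := Module.Finite.iff_fg.2 hI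
  haveI : Module.FinitePresentation R ↥I := Module.finitePresentation_of_finite R ↥I
  intro x y hxy
  apply theta_inj_of_fp R A ↥I
  funext a
  apply Subtype.ext
  have h1 := theta_natural R A I.subtype x a
  have h2 := theta_natural R A I.subtype y a
  rw [hxy] at h1
  exact (h1.symm.trans h2)

theorem ml_pi [IsNoetherianRing R] : CAlg.IsMittagLeffler R (A → R) := by
  intro J Q _ _
  rw [injective_iff_map_eq_zero]
  intro x hx
  have key : ∀ (x : (A → R) ⊗[R] (∀ j, Q j)) (a : A) (j : J),
      theta R A (∀ j, Q j) (TensorProduct.comm R _ _ x) a j =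
        theta R A (Q j) (TensorProduct.comm R _ _ (piRightHom R R (A → R) Q x j)) a := by
    intro x a j
    induction x using TensorProduct.induction_on with
    | zero => simp
    | tmul f q => simp [theta_tmul]
    | add x y hx hy => simp only [map_add, Pi.add_apply, hx, hy]
  have h0 : theta R A (∀ j, Q j) (TensorProduct.comm R _ _ x) = 0 := by
    funext a j
    rw [key, hx]
    simp
  have h1 := (theta_inj R A (∀ j, Q j))
    (by rw [h0, map_zero] : theta R A _ (TensorProduct.comm R _ _ x) = theta R A _ 0)
  exact (TensorProduct.comm R _ _).injective (by rw [h1, map_zero])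

end theta

end H5ML
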