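import Mathlib
import Groth.Agent.Lib.helper5.MLPi
import Groth.Agent.S6360

namespace H5ML

universe u

open TensorProduct

theorem piRightHom_eq_lTensor_proj {R : Type u} [CommRing R] (P : Type u) [AddCommGroup P]
    [Module R P] {ι : Type u} (Q : ι → Type u) [∀ i, AddCommGroup (Q i)] [∀ i, Module R (Q i)]
    (w : P ⊗[R] (∀ i, Q i)) (i : ι) :
    piRightHom R R P Q w i = (LinearMap.proj i : (∀ i, Q i) →ₗ[R] Q i).lTensor P w := by
  induction w using TensorProduct.induction_on with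
  | zero => simp
  | tmul p q => simp
  | add a b ha hb => simp only [map_add, Pi.add_apply, ha, hb]

theorem exists_factor_fp {R : Type u} [CommRing R] {M : Type u} [AddCommGroup M] [Module R M]
    (n : ℕ) (f : (Fin n → R) →ₗ[R] M) (N : Type u) [AddCommGroup N] [Module R N]
    (w : (Fin n → R) ⊗[R] N) (hw : f.rTensor N w = 0) :
    ∃ (Q : Type u) (_ : AddCommGroup Q) (_ : Module R Q) (_ : Module.FinitePresentation R Q)
      (g : (Fin n → R) →ₗ[R] Q) (h : Q →ₗ[R] M), f = h ∘ₗ g ∧ g.rTensor N w = 0 := by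
  classical
  have hP : (LinearMap.range f).FG := by
    rw [LinearMap.range_eq_map]
    exact Module.Finite.fg_top.map f
  have hf₀ : (LinearMap.range f).subtype ∘ₗ f.rangeRestrict = f := LinearMap.ext fun _ => rfl
  have ht : LinearMap.rTensor N (LinearMap.range f).subtype (f.rangeRestrict.rTensor N w) = 0 := by
    rw [← LinearMap.comp_apply, ← LinearMap.rTensor_comp, hf₀, hw]
  obtain ⟨Q₁, hPQ, hQ₁fg, h1⟩ := TensorProduct.eq_zero_of_fg_of_subtype_eq_zero hP ht
  obtain ⟨f₁, hf₁def⟩ : ∃ f₁ : (Fin n → R) →ₗ[R] Q₁,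
      f₁ = (Submodule.inclusion hPQ) ∘ₗ f.rangeRestrict := ⟨_, rfl⟩
  have hf₁w : f₁.rTensor N w = 0 := by
    rw [hf₁def, LinearMap.rTensor_comp, LinearMap.comp_apply, h1]
  have hf₁f : Q₁.subtype ∘ₗ f₁ = f := by
    rw [hf₁def]
    exact LinearMap.ext fun _ => rfl
  haveI : Module.Finite R Q₁ := Module.Finite.iff_fg.mpr hQ₁fg
  obtain ⟨k, p, hp⟩ := Module.Finite.exists_fin' R Q₁
  obtain ⟨φ, hφ⟩ := Module.projective_lifting_property p f₁ hp
  have hex := rTensor_exact N (LinearMap.exact_subtype_ker_map p) hp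
  have hpφw : p.rTensor N (φ.rTensor N w) = 0 := by
    rw [← LinearMap.comp_apply, ← LinearMap.rTensor_comp, hφ, hf₁w]
  obtain ⟨v, hv⟩ := (hex _).mp hpφw
  obtain ⟨L', hL'fin, hL'sub⟩ :=
    TensorProduct.exists_finite_submodule_left_of_setFinite
      ({v} : Set ((LinearMap.ker p) ⊗[R] N)) (Set.finite_singleton v)
  obtain ⟨v', hv'⟩ := hL'sub (Set.mem_singleton v)
  obtain ⟨L'', hL''def⟩ : ∃ L'' : Submodule R (Fin k → R),
      L'' = L'.map (LinearMap.ker p).subtype := ⟨_, rfl⟩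
  have hL''fg : L''.FG := by
    rw [hL''def]
    exact (Module.Finite.iff_fg.mp hL'fin).map _
  have hL''le : L'' ≤ LinearMap.ker (Q₁.subtype ∘ₗ p) := by
    rw [hL''def]
    rintro _ ⟨l, _, rfl⟩
    have hl : p ((LinearMap.ker p).subtype l) = 0 := l.2
    rw [LinearMap.mem_ker, LinearMap.comp_apply, hl, map_zero]
  haveI : Module.FinitePresentation R ((Fin k → R) ⧸ L'') :=
    Module.finitePresentation_of_free_of_surjective L''.mkQ L''.mkQ_surjective
      (by rw [Submodule.ker_mkQ]; exact hL''fg)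
  refine ⟨(Fin k → R) ⧸ L'', inferInstance, inferInstance, inferInstance, L''.mkQ ∘ₗ φ,
    L''.liftQ (Q₁.subtype ∘ₗ p) hL''le, ?_, ?_⟩
  · apply LinearMap.ext
    intro x
    have e1 : p (φ x) = f₁ x := by rw [← hφ]; rfl
    show f x = Q₁.subtype (p (φ x))
    rw [e1]
    exact (LinearMap.congr_fun hf₁f x).symm
  · have hz0 : (L''.mkQ ∘ₗ (LinearMap.ker p).subtype) ∘ₗ L'.subtype = 0 := by
      apply LinearMap.ext
      intro l'
      show (Submodule.Quotient.mk ((LinearMap.ker p).subtype (L'.subtype l')) :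
        (Fin k → R) ⧸ L'') = 0
      rw [Submodule.Quotient.mk_eq_zero, hL''def]
      exact Submodule.mem_map_of_mem l'.2
    have e2 : (L''.mkQ ∘ₗ φ).rTensor N w =
        (((L''.mkQ ∘ₗ (LinearMap.ker p).subtype) ∘ₗ L'.subtype).rTensor N) v' := by
      simp only [LinearMap.rTensor_comp, LinearMap.comp_apply, hv', hv]
    rw [e2, hz0, LinearMap.rTensor_zero, LinearMap.zero_apply]

abbrev DomIdx {R : Type u} [CommRing R] {M : Type u} [AddCommGroup M] [Module R M] (n : ℕ)
    (f : (Fin n → R) →ₗ[R] M) : Type u :=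
  Σ (m : ℕ), Σ (K : Submodule R (Fin m → R)),
    {w : (Fin n → R) ⊗[R] ((Fin m → R) ⧸ K) // K.FG ∧ f.rTensor _ w = 0}

abbrev DomFam {R : Type u} [CommRing R] {M : Type u} [AddCommGroup M] [Module R M] (n : ℕ)
    (f : (Fin n → R) →ₗ[R] M) (α : DomIdx n f) : Type u := (Fin α.1 → R) ⧸ α.2.1

theorem dominate_of_ml {R : Type u} [CommRing R] {M : Type u} [AddCommGroup M] [Module R M]
    (hM : CAlg.IsMittagLeffler R M) (n : ℕ) (f : (Fin n → R) →ₗ[R] M) :
    ∃ (Q : Type u) (_ : AddCommGroup Q) (_ : Module R Q) (_ : Module.FinitePresentation R Q)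
      (g : (Fin n → R) →ₗ[R] Q),
      ∀ (N : Type u) [AddCommGroup N] [Module R N],
        LinearMap.ker (f.rTensor N) = LinearMap.ker (g.rTensor N) := by
  classical
  obtain ⟨w, hw⟩ := piRightHom_surjective_of_finite (Fin n → R) (DomFam n f)
      (fun α => α.2.2.1)
  have hfw : f.rTensor (∀ α, DomFam n f α) w = 0 := by
    apply hM (DomIdx n f) (DomFam n f)
    rw [map_zero]
    funext α
    rw [← square f (DomFam n f) w α, hw]
    exact α.2.2.2.2
  obtain ⟨Q, i1, i2, i3, g, h, hfg, hgw⟩ := exists_factor_fp n f _ w hfw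
  refine ⟨Q, i1, i2, i3, g, ?_⟩
  have hdom : ∀ (N : Type u) [AddCommGroup N] [Module R N],
      LinearMap.ker (f.rTensor N) ≤ LinearMap.ker (g.rTensor N) := by
    refine (Groth.Agent.S6360.result R f g).mpr ?_
    intro N _ _ hNfp v hv
    haveI := hNfp
    obtain ⟨m, K, e, hK⟩ := Module.FinitePresentation.exists_fin R N
    rw [LinearMap.mem_ker] at hv ⊢
    have hv' : f.rTensor _ ((e.toLinearMap.lTensor (Fin n → R)) v) = 0 := by
      rw [← LinearMap.comp_apply, LinearMap.rTensor_comp_lTensor,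
        ← LinearMap.lTensor_comp_rTensor, LinearMap.comp_apply, hv, map_zero]
    have hα : (LinearMap.proj (⟨m, K, ⟨(e.toLinearMap.lTensor (Fin n → R)) v, hK, hv'⟩⟩ :
          DomIdx n f) :
          (∀ α, DomFam n f α) →ₗ[R] _).lTensor (Fin n → R) w =
        (e.toLinearMap.lTensor (Fin n → R)) v := by
      rw [← piRightHom_eq_lTensor_proj]
      exact congrFun hw _
    have hg1 : g.rTensor _ ((e.toLinearMap.lTensor (Fin n → R)) v) = 0 := by
      rw [← hα, ← LinearMap.comp_apply, LinearMap.rTensor_comp_lTensor,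
        ← LinearMap.lTensor_comp_rTensor, LinearMap.comp_apply, hgw, map_zero]
    have hid : e.symm.toLinearMap ∘ₗ e.toLinearMap = LinearMap.id :=
      LinearMap.ext fun x => e.symm_apply_apply x
    have hv2 : v = (e.symm.toLinearMap.lTensor (Fin n → R))
        ((e.toLinearMap.lTensor (Fin n → R)) v) := by
      rw [← LinearMap.comp_apply, ← LinearMap.lTensor_comp, hid, LinearMap.lTensor_id,
        LinearMap.id_apply]
    rw [hv2, ← LinearMap.comp_apply, LinearMap.rTensor_comp_lTensor,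
      ← LinearMap.lTensor_comp_rTensor, LinearMap.comp_apply, hg1, map_zero]
  intro N _ _
  apply le_antisymm (hdom N)
  intro v hv
  rw [LinearMap.mem_ker] at hv ⊢
  rw [hfg, LinearMap.rTensor_comp, LinearMap.comp_apply, hv, map_zero]

theorem ml_of_dominate {R : Type u} [CommRing R] {M : Type u} [AddCommGroup M] [Module R M]
    (hcond : ∀ (n : ℕ) (f : (Fin n → R) →ₗ[R] M),
        ∃ (Q : Type u) (_ : AddCommGroup Q) (_ : Module R Q) (_ : Module.FinitePresentation R Q)
          (g : (Fin n → R) →ₗ[R] Q),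
          ∀ (N : Type u) [AddCommGroup N] [Module R N],
            LinearMap.ker (f.rTensor N) = LinearMap.ker (g.rTensor N)) :
    CAlg.IsMittagLeffler R M := by
  classical
  intro κ Qf _ _
  rw [injective_iff_map_eq_zero]
  intro z hz
  obtain ⟨M', hfin, hsub⟩ :=
    TensorProduct.exists_finite_submodule_left_of_setFinite ({z} : Set (M ⊗[R] (∀ k, Qf k)))
      (Set.finite_singleton z)
  obtain ⟨y', hy'⟩ := hsub (Set.mem_singleton z)
  obtain ⟨n, φ₀, hφ₀⟩ := Module.Finite.exists_fin' R M'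
  obtain ⟨w, hw⟩ := LinearMap.rTensor_surjective (∀ k, Qf k) hφ₀ y'
  obtain ⟨f, hfdef⟩ : ∃ f : (Fin n → R) →ₗ[R] M, f = M'.subtype ∘ₗ φ₀ := ⟨_, rfl⟩
  have hfw : f.rTensor (∀ k, Qf k) w = z := by
    rw [hfdef, LinearMap.rTensor_comp, LinearMap.comp_apply, hw, hy']
  obtain ⟨Q, i1, i2, i3, g, hker⟩ := hcond n f
  have hgw : g.rTensor (∀ k, Qf k) w = 0 := by
    apply ml_of_fp R Q κ Qf
    rw [map_zero]
    funext k
    rw [← square g Qf w k]
    have hmem : piRightHom R R (Fin n → R) Qf w k ∈ LinearMap.ker (f.rTensor (Qf k)) := by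
      rw [LinearMap.mem_ker, square f Qf w k, hfw, hz]
      rfl
    rw [hker (Qf k)] at hmem
    exact hmem
  have hmem2 : w ∈ LinearMap.ker (f.rTensor (∀ k, Qf k)) := by
    rw [hker (∀ k, Qf k)]
    exact hgw
  rw [← hfw]
  exact hmem2

theorem dominate_of_ml_fp {R : Type u} [CommRing R] {M : Type u} [AddCommGroup M] [Module R M]
    (hM : CAlg.IsMittagLeffler R M) (P : Type u) [AddCommGroup P] [Module R P]
    [Module.FinitePresentation R P] (f : P →ₗ[R] M) :
    ∃ (Q : Type u) (_ : AddCommGroup Q) (_ : Module R Q) (_ : Module.FinitePresentation R Q)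
      (g : P →ₗ[R] Q),
      ∀ (N : Type u) [AddCommGroup N] [Module R N],
        LinearMap.ker (f.rTensor N) = LinearMap.ker (g.rTensor N) := by
  classical
  obtain ⟨n, π, hπ⟩ := Module.Finite.exists_fin' R P
  obtain ⟨Q, i1, i2, i3, g', hg'⟩ := dominate_of_ml hM n (f ∘ₗ π)
  have hker : LinearMap.ker π ≤ LinearMap.ker g' := by
    intro a ha
    have h1 : (a ⊗ₜ[R] (1 : R)) ∈ LinearMap.ker ((f ∘ₗ π).rTensor R) := by
      rw [LinearMap.mem_ker, LinearMap.rTensor_tmul, LinearMap.comp_apply,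
        LinearMap.mem_ker.mp ha, map_zero, TensorProduct.zero_tmul]
    rw [hg' R, LinearMap.mem_ker, LinearMap.rTensor_tmul] at h1
    have h2 := congrArg (TensorProduct.rid R Q) h1
    rw [TensorProduct.rid_tmul, one_smul, map_zero] at h2
    exact LinearMap.mem_ker.mpr h2
  obtain ⟨g, hgdef⟩ : ∃ g : P →ₗ[R] Q, g = (LinearMap.ker π).liftQ g' hker ∘ₗ
      (π.quotKerEquivOfSurjective hπ).symm.toLinearMap := ⟨_, rfl⟩
  have hgπ : g ∘ₗ π = g' := by
    apply LinearMap.ext
    intro x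
    have h3 : (π.quotKerEquivOfSurjective hπ).symm (π x) = Submodule.Quotient.mk x := by
      rw [LinearEquiv.symm_apply_eq]
      rfl
    rw [hgdef]
    show (LinearMap.ker π).liftQ g' hker ((π.quotKerEquivOfSurjective hπ).symm (π x)) = g' x
    rw [h3]
    rfl
  refine ⟨Q, i1, i2, i3, g, ?_⟩
  intro N _ _
  ext v
  obtain ⟨w, rfl⟩ := LinearMap.rTensor_surjective N hπ v
  rw [LinearMap.mem_ker, LinearMap.mem_ker, ← LinearMap.comp_apply, ← LinearMap.rTensor_comp,
    ← LinearMap.comp_apply, ← LinearMap.rTensor_comp, hgπ, ← LinearMap.mem_ker,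
    ← LinearMap.mem_ker, hg' N]

end H5ML
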