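import Mathlib
import Groth.Agent.Lib.helper5.MLDom
import Groth.Agent.S6359

namespace H5ML

universe u

open TensorProduct

section
variable {R : Type u} [CommRing R] {ι : Type u} [Preorder ι] [IsDirected ι (· ≤ ·)] [Nonempty ι]
  [DecidableEq ι] {G : ι → Type u} [∀ i, AddCommGroup (G i)] [∀ i, Module R (G i)]
  (f : ∀ i j, i ≤ j → G i →ₗ[R] G j) [DirectedSystem G fun i j h => f i j h]

theorem exists_stage_zero {κ : Type*} [Finite κ] (j : ι) (x : κ → G j)
    (hx : ∀ t, Module.DirectLimit.of R ι G f j (x t) = 0) :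
    ∃ (j' : ι) (hjj' : j ≤ j'), ∀ t, f j j' hjj' (x t) = 0 := by
  choose jt hjt hzero using fun t => Module.DirectLimit.of.zero_exact (hx t)
  obtain ⟨j₀, hj₀⟩ := Finite.exists_le jt
  obtain ⟨j', hjj', hj₀j'⟩ := exists_ge_ge j j₀
  refine ⟨j', hjj', fun t => ?_⟩
  have h1 : f j j' hjj' (x t) =
      f (jt t) j' ((hj₀ t).trans hj₀j') (f j (jt t) (hjt t) (x t)) :=
    (DirectedSystem.map_map' f (hjt t) ((hj₀ t).trans hj₀j') (x t)).symm
  rw [h1, hzero t, map_zero]

theorem exists_stage_eq {P : Type u} [AddCommGroup P] [Module R P] [Module.Finite R P] (j : ι)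
    (a b : P →ₗ[R] G j)
    (hab : (Module.DirectLimit.of R ι G f j) ∘ₗ a = (Module.DirectLimit.of R ι G f j) ∘ₗ b) :
    ∃ (j' : ι) (hjj' : j ≤ j'), f j j' hjj' ∘ₗ a = f j j' hjj' ∘ₗ b := by
  obtain ⟨m, s, hs⟩ := Module.Finite.exists_fin (R := R) (M := P)
  obtain ⟨j', hjj', hz⟩ := exists_stage_zero f j (fun t => a (s t) - b (s t)) (fun t => by
    rw [map_sub, sub_eq_zero]
    exact LinearMap.congr_fun hab (s t))
  refine ⟨j', hjj', LinearMap.ext_on_range hs fun t => ?_⟩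
  have h2 : f j j' hjj' (a (s t) - b (s t)) = 0 := hz t
  rw [map_sub, sub_eq_zero] at h2
  exact h2

theorem exists_lift_fin (n : ℕ) (v : Fin n → Module.DirectLimit G f) :
    ∃ (j : ι) (x : Fin n → G j), ∀ a, Module.DirectLimit.of R ι G f j (x a) = v a := by
  choose jf xf hxf using fun a => Module.DirectLimit.exists_of (v a)
  obtain ⟨j, hj⟩ := Finite.exists_le jf
  refine ⟨j, fun a => f (jf a) j (hj a) (xf a), fun a => ?_⟩
  rw [Module.DirectLimit.of_f, hxf]

theorem exists_factor_stage (Q : Type u) [AddCommGroup Q] [Module R Q]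
    [Module.FinitePresentation R Q] (h : Q →ₗ[R] Module.DirectLimit G f) :
    ∃ (j : ι) (hj : Q →ₗ[R] G j), h = (Module.DirectLimit.of R ι G f j) ∘ₗ hj := by
  obtain ⟨n, m, p, r, hp, hex⟩ := Module.FinitePresentation.exists_fin' R Q
  obtain ⟨j₀, x, hx⟩ := exists_lift_fin f n (fun a => h (p (Pi.basisFun R (Fin n) a)))
  obtain ⟨ψ₀, hψ₀b⟩ : ∃ ψ₀ : (Fin n → R) →ₗ[R] G j₀,
      ∀ a, ψ₀ (Pi.basisFun R (Fin n) a) = x a :=
    ⟨(Pi.basisFun R (Fin n)).constr R x, fun a => (Pi.basisFun R (Fin n)).constr_basis R x a⟩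
  have hψ₀ : (Module.DirectLimit.of R ι G f j₀) ∘ₗ ψ₀ = h ∘ₗ p := by
    apply (Pi.basisFun R (Fin n)).ext
    intro a
    rw [LinearMap.comp_apply, LinearMap.comp_apply, hψ₀b, hx]
  have h0 : (Module.DirectLimit.of R ι G f j₀) ∘ₗ (ψ₀ ∘ₗ r) =
      (Module.DirectLimit.of R ι G f j₀) ∘ₗ (0 : (Fin m → R) →ₗ[R] G j₀) := by
    apply LinearMap.ext
    intro y
    rw [LinearMap.comp_apply, LinearMap.comp_apply, LinearMap.comp_apply, LinearMap.zero_apply,
      map_zero]
    have h4 := LinearMap.congr_fun hψ₀ (r y)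
    rw [LinearMap.comp_apply, LinearMap.comp_apply, hex.apply_apply_eq_zero, map_zero] at h4
    exact h4
  obtain ⟨j, hj₀j, hj⟩ := exists_stage_eq f j₀ (ψ₀ ∘ₗ r) 0 h0
  have hkill : LinearMap.ker p ≤ LinearMap.ker (f j₀ j hj₀j ∘ₗ ψ₀) := by
    intro y hy
    obtain ⟨y', rfl⟩ := (hex y).mp (LinearMap.mem_ker.mp hy)
    rw [LinearMap.mem_ker]
    have h5 := LinearMap.congr_fun hj y'
    rw [LinearMap.comp_zero, LinearMap.zero_apply] at h5
    exact h5
  refine ⟨j, (LinearMap.ker p).liftQ (f j₀ j hj₀j ∘ₗ ψ₀) hkill ∘ₗ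
      (p.quotKerEquivOfSurjective hp).symm.toLinearMap, ?_⟩
  apply LinearMap.ext
  intro q
  obtain ⟨y, rfl⟩ := hp q
  have h3 : (p.quotKerEquivOfSurjective hp).symm (p y) = Submodule.Quotient.mk y := by
    rw [LinearEquiv.symm_apply_eq]
    rfl
  show h (p y) = Module.DirectLimit.of R ι G f j ((LinearMap.ker p).liftQ (f j₀ j hj₀j ∘ₗ ψ₀)
    hkill ((p.quotKerEquivOfSurjective hp).symm (p y)))
  rw [h3]
  show h (p y) = Module.DirectLimit.of R ι G f j (f j₀ j hj₀j (ψ₀ y))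
  rw [Module.DirectLimit.of_f]
  exact (LinearMap.congr_fun hψ₀ y).symm

theorem ml_colim_of_factor [∀ i, Module.FinitePresentation R (G i)]
    (hcond : ∀ i, ∃ (j : ι) (hij : i ≤ j), ∀ (k : ι) (hik : i ≤ k),
        ∃ h : G k →ₗ[R] G j, f i j hij = h ∘ₗ f i k hik) :
    CAlg.IsMittagLeffler R (Module.DirectLimit G f) := by
  intro κ Q _ _
  rw [injective_iff_map_eq_zero]
  intro z hz
  obtain ⟨i, zi, hzi⟩ := Module.DirectLimit.exists_of
      (TensorProduct.directLimitLeft f (∀ k, Q k) z)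
  have hz' : (Module.DirectLimit.of R ι G f i).rTensor (∀ k, Q k) zi = z := by
    apply (TensorProduct.directLimitLeft f (∀ k, Q k)).injective
    rw [TensorProduct.directLimitLeft_rTensor_of, hzi]
  obtain ⟨j, hij, hfac⟩ := hcond i
  have hkey : (f i j hij).rTensor (∀ k, Q k) zi = 0 := by
    apply ml_of_fp R (G j) κ Q
    rw [map_zero]
    funext k
    have hc : (Module.DirectLimit.of R ι G f i).rTensor (Q k)
        (piRightHom R R (G i) Q zi k) = 0 := by
      rw [square (Module.DirectLimit.of R ι G f i) Q zi k, hz', hz]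
      rfl
    have h1 := TensorProduct.directLimitLeft_rTensor_of f (Q k) (piRightHom R R (G i) Q zi k)
    rw [hc, map_zero] at h1
    obtain ⟨l, hil, hl⟩ := Module.DirectLimit.of.zero_exact h1.symm
    obtain ⟨h, hh⟩ := hfac l hil
    have hl' : (f i l hil).rTensor (Q k) (piRightHom R R (G i) Q zi k) = 0 := hl
    have goal_k : (f i j hij).rTensor (Q k) (piRightHom R R (G i) Q zi k) = 0 := by
      rw [hh, LinearMap.rTensor_comp, LinearMap.comp_apply, hl', map_zero]
    rw [← square (f i j hij) Q zi k, goal_k]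
    rfl
  have e : Module.DirectLimit.of R ι G f i = (Module.DirectLimit.of R ι G f j) ∘ₗ f i j hij := by
    apply LinearMap.ext
    intro x
    rw [LinearMap.comp_apply, Module.DirectLimit.of_f]
  rw [← hz', e, LinearMap.rTensor_comp, LinearMap.comp_apply, hkey, map_zero]

theorem factor_of_ml_colim [∀ i, Module.FinitePresentation R (G i)]
    (hM : CAlg.IsMittagLeffler R (Module.DirectLimit G f)) (i : ι) :
    ∃ (j : ι) (hij : i ≤ j), ∀ (k : ι) (hik : i ≤ k),
        ∃ h : G k →ₗ[R] G j, f i j hij = h ∘ₗ f i k hik := by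
  classical
  obtain ⟨Q, i1, i2, i3, g, hker⟩ :=
    dominate_of_ml_fp hM (G i) (Module.DirectLimit.of R ι G f i)
  haveI : Module.FinitePresentation R (Q ⧸ LinearMap.range g) :=
    Module.finitePresentation_of_surjective (LinearMap.range g).mkQ
      (LinearMap.range g).mkQ_surjective
      (by rw [Submodule.ker_mkQ, LinearMap.range_eq_map]; exact Module.Finite.fg_top.map g)
  obtain ⟨h'', hh''⟩ := (Groth.Agent.S6359.result R g (Module.DirectLimit.of R ι G f i)).mp
    (fun N _ _ => (hker N).ge)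
  obtain ⟨j₀, h₀, hh₀⟩ := exists_factor_stage f Q h''
  obtain ⟨j₁, hij₁, hj₀j₁⟩ := exists_ge_ge i j₀
  have hab : (Module.DirectLimit.of R ι G f j₁) ∘ₗ ((f j₀ j₁ hj₀j₁ ∘ₗ h₀) ∘ₗ g) =
      (Module.DirectLimit.of R ι G f j₁) ∘ₗ (f i j₁ hij₁) := by
    apply LinearMap.ext
    intro x
    simp only [LinearMap.comp_apply]
    rw [Module.DirectLimit.of_f, Module.DirectLimit.of_f]
    have h1 := LinearMap.congr_fun hh'' x
    have h2 := LinearMap.congr_fun hh₀ (g x)
    rw [LinearMap.comp_apply] at h1 h2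
    rw [h1, h2]
  obtain ⟨j, hj₁j, hj⟩ := exists_stage_eq f j₁ _ _ hab
  refine ⟨j, hij₁.trans hj₁j, ?_⟩
  intro k hik
  haveI : Module.FinitePresentation R (G k ⧸ LinearMap.range (f i k hik)) :=
    Module.finitePresentation_of_surjective (LinearMap.range (f i k hik)).mkQ
      (LinearMap.range (f i k hik)).mkQ_surjective
      (by rw [Submodule.ker_mkQ, LinearMap.range_eq_map]; exact Module.Finite.fg_top.map _)
  obtain ⟨hk, hhk⟩ := (Groth.Agent.S6359.result R (f i k hik) g).mp (by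
    intro N _ _ v hv
    rw [← hker N]
    rw [LinearMap.mem_ker] at hv ⊢
    have e : Module.DirectLimit.of R ι G f i =
        (Module.DirectLimit.of R ι G f k) ∘ₗ f i k hik := by
      apply LinearMap.ext
      intro x
      rw [LinearMap.comp_apply, Module.DirectLimit.of_f]
    rw [e, LinearMap.rTensor_comp, LinearMap.comp_apply, hv, map_zero])
  refine ⟨(f j₁ j hj₁j ∘ₗ f j₀ j₁ hj₀j₁ ∘ₗ h₀) ∘ₗ hk, ?_⟩
  apply LinearMap.ext
  intro x
  have h5 := LinearMap.congr_fun hj x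
  have h6 := LinearMap.congr_fun hhk x
  simp only [LinearMap.comp_apply] at h5 h6 ⊢
  rw [← h6, h5]
  exact (DirectedSystem.map_map' f hij₁ hj₁j x).symm

end

end H5ML
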