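import Mathlib
import Groth.Agent.Lib.helper5.MLColim

namespace H5ML

universe u

open TensorProduct

section
variable {R : Type u} [CommRing R] {ι : Type u} [Preorder ι] [IsDirected ι (· ≤ ·)] [Nonempty ι]
  [DecidableEq ι] {G : ι → Type u} [∀ i, AddCommGroup (G i)] [∀ i, Module R (G i)]
  (f : ∀ i j, i ≤ j → G i →ₗ[R] G j) [DirectedSystem G fun i j h => f i j h]

theorem exists_countable_sub [∀ i, Module.FinitePresentation R (G i)]
    (hML : CAlg.IsMittagLeffler R (Module.DirectLimit G f))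
    (hc : CAlg.IsCountablyGenerated R (Module.DirectLimit G f)) :
    ∃ I' : Set ι, I'.Countable ∧ DirectedOn (· ≤ ·) I' ∧
      Function.Bijective (Module.DirectLimit.lift R I' (fun i : I' => G i.1)
        (fun (i j : I') (h : i ≤ j) => f i.1 j.1 h)
        (fun i : I' => Module.DirectLimit.of R ι G f i.1)
        (fun (i j : I') (h : i ≤ j) (x : G i.1) => Module.DirectLimit.of_f)) := by
  classical
  obtain ⟨s, hsc, hs⟩ := hc
  obtain ⟨x, hx⟩ := (hsc.insert 0).exists_eq_range (Set.insert_nonempty 0 s)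
  have hxspan : Submodule.span R (Set.range x) = ⊤ := by
    rw [← hx, eq_top_iff, ← hs]
    exact Submodule.span_mono (Set.subset_insert 0 s)
  choose ix yx hyx using fun n => Module.DirectLimit.exists_of (x n)
  choose m hm hfac using factor_of_ml_colim f hML
  let j : ℕ → ι := fun n =>
    Nat.rec (ix 0) (fun n jn => (exists_ge_ge (m jn) (ix (n + 1))).choose) n
  have hj1 : ∀ n, m (j n) ≤ j (n + 1) :=
    fun n => (exists_ge_ge (m (j n)) (ix (n + 1))).choose_spec.1
  have hj2 : ∀ n, ix (n + 1) ≤ j (n + 1) :=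
    fun n => (exists_ge_ge (m (j n)) (ix (n + 1))).choose_spec.2
  have hj3 : ∀ n, ix n ≤ j n := by
    intro n
    cases n with
    | zero => exact le_rfl
    | succ n => exact hj2 n
  have hjs : ∀ n, j n ≤ j (n + 1) := fun n => (hm (j n)).trans (hj1 n)
  have hjmono : Monotone j := monotone_nat_of_le_succ hjs
  refine ⟨Set.range j, Set.countable_range j, ?_, ?_⟩
  · rintro _ ⟨a, rfl⟩ _ ⟨b, rfl⟩
    exact ⟨j (max a b), ⟨max a b, rfl⟩, hjmono (le_max_left a b), hjmono (le_max_right a b)⟩
  · haveI : Nonempty (Set.range j) := ⟨⟨j 0, 0, rfl⟩⟩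
    haveI : IsDirected (Set.range j) (· ≤ ·) := ⟨by
      rintro ⟨_, a, rfl⟩ ⟨_, b, rfl⟩
      exact ⟨⟨j (max a b), max a b, rfl⟩, hjmono (le_max_left a b),
        hjmono (le_max_right a b)⟩⟩
    constructor
    · rw [injective_iff_map_eq_zero]
      intro z hz
      obtain ⟨⟨_, n, rfl⟩, y, rfl⟩ := Module.DirectLimit.exists_of z
      rw [Module.DirectLimit.lift_of] at hz
      have hz' : Module.DirectLimit.of R ι G f (j n) y = 0 := hz
      obtain ⟨k, hk, hky⟩ := Module.DirectLimit.of.zero_exact hz'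
      obtain ⟨h, hh⟩ := hfac (j n) k hk
      have h1 : f (j n) (m (j n)) (hm (j n)) y = 0 := by
        rw [hh, LinearMap.comp_apply, hky, map_zero]
      have h2 : f (j n) (j (n + 1)) ((hm (j n)).trans (hj1 n)) y = 0 := by
        rw [← DirectedSystem.map_map' f (hm (j n)) (hj1 n) y, h1, map_zero]
      have h3 : Module.DirectLimit.of R (Set.range j) (fun i => G i.1)
          (fun (i j : Set.range j) (h : i ≤ j) => f i.1 j.1 h) ⟨j n, n, rfl⟩ y =
          Module.DirectLimit.of R (Set.range j) (fun i => G i.1)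
          (fun (i j : Set.range j) (h : i ≤ j) => f i.1 j.1 h) ⟨j (n + 1), n + 1, rfl⟩
            (f (j n) (j (n + 1)) ((hm (j n)).trans (hj1 n)) y) :=
        (Module.DirectLimit.of_f (R := R) (ι := Set.range j) (G := fun i => G i.1)
          (f := fun (i j : Set.range j) (h : i ≤ j) => f i.1 j.1 h)
          (i := ⟨j n, n, rfl⟩) (j := ⟨j (n + 1), n + 1, rfl⟩)
          (hij := (hm (j n)).trans (hj1 n)) (x := y)).symm
      rw [h3, h2, map_zero]
    · rw [← LinearMap.range_eq_top, eq_top_iff, ← hxspan, Submodule.span_le]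
      rintro _ ⟨n, rfl⟩
      refine ⟨Module.DirectLimit.of R (Set.range j) (fun i => G i.1)
        (fun (i j : Set.range j) (h : i ≤ j) => f i.1 j.1 h) ⟨j n, n, rfl⟩
        (f (ix n) (j n) (hj3 n) (yx n)), ?_⟩
      rw [Module.DirectLimit.lift_of]
      show Module.DirectLimit.of R ι G f (j n) (f (ix n) (j n) (hj3 n) (yx n)) = x n
      rw [Module.DirectLimit.of_f, hyx]

end

end H5ML
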