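import Mathlib
import Groth.Agent.Lib.helper5.MLDom
import Groth.Agent.S6359

namespace H5ML

universe u

open TensorProduct

abbrev FN (R : Type u) [CommRing R] (n : ℕ) : Submodule R (ℕ →₀ R) :=
  Finsupp.supported R R (Set.Iio n : Set ℕ)

theorem fn_fp (R : Type u) [CommRing R] (n : ℕ) : Module.FinitePresentation R (FN R n) :=
  by
  have e : (↥(Set.Iio n : Set ℕ) →₀ R) ≃ₗ[R] FN R n :=
    (Finsupp.supportedEquivFinsupp (M := R) (R := R) (Set.Iio n : Set ℕ)).symm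
  exact Module.FinitePresentation.of_equiv (R := R) (M := ↥(Set.Iio n : Set ℕ) →₀ R)
    (N := FN R n) e

theorem ker_le_of_dom {R : Type u} [CommRing R] {A B C : Type u} [AddCommGroup A] [Module R A]
    [AddCommGroup B] [Module R B] [AddCommGroup C] [Module R C] (f : A →ₗ[R] B) (g : A →ₗ[R] C)
    (h : ∀ (T : Type u) [AddCommGroup T] [Module R T],
      LinearMap.ker (f.rTensor T) ≤ LinearMap.ker (g.rTensor T)) :
    LinearMap.ker f ≤ LinearMap.ker g := by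
  intro a ha
  have h1 : (a ⊗ₜ[R] (1 : R)) ∈ LinearMap.ker (f.rTensor R) := by
    rw [LinearMap.mem_ker, LinearMap.rTensor_tmul, LinearMap.mem_ker.mp ha,
      TensorProduct.zero_tmul]
  have h2 := h R h1
  rw [LinearMap.mem_ker, LinearMap.rTensor_tmul] at h2
  have h3 := congrArg (TensorProduct.rid R C) h2
  rw [TensorProduct.rid_tmul, one_smul, map_zero] at h3
  exact LinearMap.mem_ker.mpr h3

section
variable {R : Type u} [CommRing R] {M : Type u} [AddCommGroup M] [Module R M]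

def DomBy (φ : (ℕ →₀ R) →ₗ[R] M) {Q : Type u} [AddCommGroup Q] [Module R Q] (n : ℕ)
    (β : (ℕ →₀ R) →ₗ[R] Q) : Prop :=
  ∀ (T : Type u) [AddCommGroup T] [Module R T],
    LinearMap.ker ((φ ∘ₗ (FN R n).subtype).rTensor T) ≤
      LinearMap.ker ((β ∘ₗ (FN R n).subtype).rTensor T)

theorem domBy_ker (φ : (ℕ →₀ R) →ₗ[R] M) {Q : Type u} [AddCommGroup Q] [Module R Q] (n : ℕ)
    (β : (ℕ →₀ R) →ₗ[R] Q) (h : DomBy φ n β) (y : ℕ →₀ R) (hy : y ∈ FN R n) (hφy : φ y = 0) :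
    β y = 0 := by
  have h1 : ((⟨y, hy⟩ : FN R n) ⊗ₜ[R] (1 : R)) ∈
      LinearMap.ker ((φ ∘ₗ (FN R n).subtype).rTensor R) := by
    rw [LinearMap.mem_ker, LinearMap.rTensor_tmul]
    show φ y ⊗ₜ[R] (1 : R) = 0
    rw [hφy, TensorProduct.zero_tmul]
  have h2 := h R h1
  rw [LinearMap.mem_ker, LinearMap.rTensor_tmul] at h2
  have h3 := congrArg (TensorProduct.rid R Q) h2
  rw [TensorProduct.rid_tmul, one_smul, map_zero] at h3
  exact h3

theorem step (hM : CAlg.IsMittagLeffler R M) (φ : (ℕ →₀ R) →ₗ[R] M) {Q : Type u}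
    [AddCommGroup Q] [Module R Q] (n : ℕ) (β : (ℕ →₀ R) →ₗ[R] Q) (hβ : DomBy φ n β) :
    ∃ β' : (ℕ →₀ R) →ₗ[R] Q, DomBy φ (n + 1) β' ∧
      β' ∘ₗ (FN R n).subtype = β ∘ₗ (FN R n).subtype := by
  classical
  haveI := fn_fp R (n + 1)
  haveI : Module.Finite R (FN R n) := by
    haveI := fn_fp R n
    infer_instance
  have hle : FN R n ≤ FN R (n + 1) :=
    Finsupp.supported_mono (Set.Iio_subset_Iio (Nat.le_succ n))
  obtain ⟨Q', i1, i2, i3, g', hg'⟩ :=
    dominate_of_ml_fp hM (FN R (n + 1)) (φ ∘ₗ (FN R (n + 1)).subtype)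
  have hincl : (FN R (n + 1)).subtype ∘ₗ Submodule.inclusion hle = (FN R n).subtype :=
    Submodule.subtype_comp_inclusion _ _ hle
  haveI : Module.FinitePresentation R
      (Q' ⧸ LinearMap.range (g' ∘ₗ Submodule.inclusion hle)) :=
    Module.finitePresentation_of_surjective
      (LinearMap.range (g' ∘ₗ Submodule.inclusion hle)).mkQ
      (Submodule.mkQ_surjective _)
      (by rw [Submodule.ker_mkQ]; exact Submodule.fg_range _)
  have hdom : ∀ (T : Type u) [AddCommGroup T] [Module R T],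
      LinearMap.ker ((g' ∘ₗ Submodule.inclusion hle).rTensor T) ≤
        LinearMap.ker ((β ∘ₗ (FN R n).subtype).rTensor T) := by
    intro T _ _ x hx
    apply hβ T
    rw [LinearMap.mem_ker] at hx ⊢
    have h1 : (Submodule.inclusion hle).rTensor T x ∈ LinearMap.ker (g'.rTensor T) := by
      rw [LinearMap.mem_ker, ← LinearMap.comp_apply, ← LinearMap.rTensor_comp]
      exact hx
    rw [← hg' T, LinearMap.mem_ker, ← LinearMap.comp_apply, ← LinearMap.rTensor_comp,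
      LinearMap.comp_assoc, hincl] at h1
    exact h1
  have key := Groth.Agent.S6359.result R (M := FN R n) (N := Q') (M' := Q)
      (g' ∘ₗ Submodule.inclusion hle) (β ∘ₗ (FN R n).subtype)
  obtain ⟨s, hs⟩ := key.mp hdom
  have hcomp : ((s ∘ₗ g') ∘ₗ Finsupp.restrictDom R R (Set.Iio (n + 1))) ∘ₗ
      (FN R (n + 1)).subtype = s ∘ₗ g' := by
    rw [LinearMap.comp_assoc, Finsupp.restrictDom_comp_subtype, LinearMap.comp_id]
  refine ⟨(s ∘ₗ g') ∘ₗ (Finsupp.restrictDom R R (Set.Iio (n + 1))), ?_, ?_⟩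
  · intro T _ _ x hx
    rw [hcomp, LinearMap.mem_ker, LinearMap.rTensor_comp, LinearMap.comp_apply]
    have h2 : x ∈ LinearMap.ker (g'.rTensor T) := by
      rw [← hg' T]
      exact hx
    rw [LinearMap.mem_ker.mp h2, map_zero]
  · apply LinearMap.ext
    intro y
    have h1 := LinearMap.congr_fun hcomp (Submodule.inclusion hle y)
    have h2 := LinearMap.congr_fun hs y
    simp only [LinearMap.comp_apply] at h1 h2 ⊢
    rw [h2]
    exact h1

noncomputable def seqB (hM : CAlg.IsMittagLeffler R M) (φ : (ℕ →₀ R) →ₗ[R] M) {Q : Type u}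
    [AddCommGroup Q] [Module R Q] (r : ℕ) (β₀ : (ℕ →₀ R) →ₗ[R] Q) (hβ₀ : DomBy φ r β₀) :
    ∀ k : ℕ, {β : (ℕ →₀ R) →ₗ[R] Q // DomBy φ (r + k) β}
  | 0 => ⟨β₀, hβ₀⟩
  | k + 1 => ⟨(step hM φ (r + k) (seqB hM φ r β₀ hβ₀ k).1 (seqB hM φ r β₀ hβ₀ k).2).choose,
      (step hM φ (r + k) (seqB hM φ r β₀ hβ₀ k).1 (seqB hM φ r β₀ hβ₀ k).2).choose_spec.1⟩

theorem seqB_succ (hM : CAlg.IsMittagLeffler R M) (φ : (ℕ →₀ R) →ₗ[R] M) {Q : Type u}
    [AddCommGroup Q] [Module R Q] (r : ℕ) (β₀ : (ℕ →₀ R) →ₗ[R] Q) (hβ₀ : DomBy φ r β₀) (k : ℕ) :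
    (seqB hM φ r β₀ hβ₀ (k + 1)).1 ∘ₗ (FN R (r + k)).subtype =
      (seqB hM φ r β₀ hβ₀ k).1 ∘ₗ (FN R (r + k)).subtype :=
  (step hM φ (r + k) (seqB hM φ r β₀ hβ₀ k).1 (seqB hM φ r β₀ hβ₀ k).2).choose_spec.2

theorem exists_seq (hM : CAlg.IsMittagLeffler R M) (φ : (ℕ →₀ R) →ₗ[R] M) {Q : Type u}
    [AddCommGroup Q] [Module R Q] (r : ℕ) (β₀ : (ℕ →₀ R) →ₗ[R] Q) (hβ₀ : DomBy φ r β₀) :
    ∃ B : ℕ → ((ℕ →₀ R) →ₗ[R] Q), B 0 = β₀ ∧ (∀ k, DomBy φ (r + k) (B k)) ∧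
      ∀ k, B (k + 1) ∘ₗ (FN R (r + k)).subtype = B k ∘ₗ (FN R (r + k)).subtype :=
  ⟨fun k => (seqB hM φ r β₀ hβ₀ k).1, rfl, fun k => (seqB hM φ r β₀ hβ₀ k).2,
    fun k => seqB_succ hM φ r β₀ hβ₀ k⟩

theorem exists_endo (hML : CAlg.IsMittagLeffler R M) (hc : CAlg.IsCountablyGenerated R M)
    {P : Type u} [AddCommGroup P] [Module R P] [Module.Finite R P] (f : P →ₗ[R] M) :
    ∃ (Q : Type u) (_ : AddCommGroup Q) (_ : Module R Q) (_ : Module.FinitePresentation R Q)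
      (b : M →ₗ[R] Q) (c : Q →ₗ[R] M), (c ∘ₗ b) ∘ₗ f = f := by
  classical
  obtain ⟨s, hsc, hs⟩ := hc
  obtain ⟨x, hx⟩ := (hsc.insert 0).exists_eq_range (Set.insert_nonempty 0 s)
  have hxspan : Submodule.span R (Set.range x) = ⊤ := by
    rw [← hx, eq_top_iff, ← hs]
    exact Submodule.span_mono (Set.subset_insert 0 s)
  obtain ⟨φ, hφdef⟩ : ∃ φ : (ℕ →₀ R) →ₗ[R] M, φ = Finsupp.linearCombination R x := ⟨_, rfl⟩
  have hφ : Function.Surjective φ := by
    rw [← LinearMap.range_eq_top, hφdef, Finsupp.range_linearCombination, hxspan]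
  obtain ⟨m, π, hπ⟩ := Module.Finite.exists_fin' R P
  obtain ⟨ψ, hψ⟩ := Module.projective_lifting_property φ (f ∘ₗ π) hφ
  obtain ⟨r, hr⟩ : ∃ r, ∀ v, ψ v ∈ FN R r := by
    obtain ⟨r, hr⟩ := Finset.exists_nat_subset_range
      (Finset.univ.biUnion fun j => (ψ (Pi.basisFun R (Fin m) j)).support)
    refine ⟨r, ?_⟩
    have hb : ∀ j, ψ (Pi.basisFun R (Fin m) j) ∈ FN R r := by
      intro j
      rw [Finsupp.mem_supported]
      intro i hi
      have h1 : i ∈ Finset.univ.biUnion fun j => (ψ (Pi.basisFun R (Fin m) j)).support :=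
        Finset.mem_biUnion.mpr ⟨j, Finset.mem_univ j, Finset.mem_coe.mp hi⟩
      exact Finset.mem_range.mp (hr h1)
    have hcomap : Submodule.comap ψ (FN R r) = ⊤ := by
      rw [eq_top_iff, ← (Pi.basisFun R (Fin m)).span_eq, Submodule.span_le]
      rintro _ ⟨j, rfl⟩
      exact hb j
    intro v
    have h2 : v ∈ Submodule.comap ψ (FN R r) := by
      rw [hcomap]
      exact Submodule.mem_top
    exact h2
  haveI := fn_fp R r
  obtain ⟨Q, i1, i2, i3, g, hg⟩ := dominate_of_ml_fp hML (FN R r) (φ ∘ₗ (FN R r).subtype)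
  haveI : Module.FinitePresentation R (Q ⧸ LinearMap.range g) :=
    Module.finitePresentation_of_surjective (LinearMap.range g).mkQ
      (Submodule.mkQ_surjective _)
      (by rw [Submodule.ker_mkQ]; exact Submodule.fg_range _)
  have keyc := Groth.Agent.S6359.result R (M := FN R r) (N := Q) (M' := M)
    g (φ ∘ₗ (FN R r).subtype)
  have hdomc : ∀ (T : Type u) [AddCommGroup T] [Module R T],
      LinearMap.ker (g.rTensor T) ≤ LinearMap.ker ((φ ∘ₗ (FN R r).subtype).rTensor T) :=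
    fun T _ _ => (hg T).ge
  obtain ⟨c, hc'⟩ := keyc.mp hdomc
  obtain ⟨β₀, hβ₀def⟩ : ∃ β₀ : (ℕ →₀ R) →ₗ[R] Q,
      β₀ = g ∘ₗ Finsupp.restrictDom R R (Set.Iio r) := ⟨_, rfl⟩
  have hβ₀ι : β₀ ∘ₗ (FN R r).subtype = g := by
    rw [hβ₀def, LinearMap.comp_assoc, Finsupp.restrictDom_comp_subtype, LinearMap.comp_id]
  have hβ₀ : DomBy φ r β₀ := by
    intro T _ _
    rw [hβ₀ι]
    exact (hg T).le
  obtain ⟨B, hB0, hBD, hBs⟩ := exists_seq hML φ r β₀ hβ₀
  have hstab : ∀ k₁ k₂, k₁ ≤ k₂ → ∀ y ∈ FN R (r + k₁),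
      (B k₂) y = (B k₁) y := by
    intro k₁ k₂ hk
    induction k₂, hk using Nat.le_induction with
    | base => intro y _; rfl
    | succ k₂ hk ih =>
      intro y hy
      have hy2 : y ∈ FN R (r + k₂) :=
        Finsupp.supported_mono (Set.Iio_subset_Iio (by omega)) hy
      have h3 : (B (k₂ + 1)) y = (B k₂) y :=
        LinearMap.congr_fun (hBs k₂) ⟨y, hy2⟩
      rw [← ih y hy]
      exact h3
  obtain ⟨bt, hbtdef⟩ : ∃ bt : (ℕ →₀ R) →ₗ[R] Q, bt = Finsupp.linearCombination R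
      (fun i => (B (i + 1)) (Finsupp.single i 1)) := ⟨_, rfl⟩
  have hsingle : ∀ (i n : ℕ), i < n → Finsupp.single i (1 : R) ∈ FN R n := by
    intro i n hin
    exact Finsupp.single_mem_supported R 1 hin
  have key : ∀ k i, i < r + k →
      bt (Finsupp.single i 1) = (B k) (Finsupp.single i 1) := by
    intro k i hi
    rw [hbtdef, Finsupp.linearCombination_single, one_smul]
    rcases le_total (i + 1) k with h | h
    · exact (hstab (i + 1) k h _ (hsingle i _ (by omega))).symm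
    · exact hstab k (i + 1) h _ (hsingle i _ hi)
  have hbt : ∀ k, ∀ y ∈ FN R (r + k), bt y = (B k) y := by
    intro k y hy
    have hy' : y ∈ Submodule.span R
        ((fun i => Finsupp.single i (1 : R)) '' (Set.Iio (r + k) : Set ℕ)) := by
      rw [← Finsupp.supported_eq_span_single]
      exact hy
    refine LinearMap.eqOn_span ?_ hy'
    rintro _ ⟨i, hi, rfl⟩
    exact key k i hi
  have hkerbt : LinearMap.ker φ ≤ LinearMap.ker bt := by
    intro y hy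
    obtain ⟨n, hn⟩ := Finset.exists_nat_subset_range y.support
    have hyn : y ∈ FN R (r + n) := by
      rw [Finsupp.mem_supported]
      intro i hi
      have h4 : i < n := Finset.mem_range.mp (hn (Finset.mem_coe.mp hi))
      show i < r + n
      omega
    rw [LinearMap.mem_ker, hbt n y hyn]
    exact domBy_ker φ (r + n) (B n) (hBD n) y hyn (LinearMap.mem_ker.mp hy)
  obtain ⟨b, hbdef⟩ : ∃ b : M →ₗ[R] Q, b = (LinearMap.ker φ).liftQ bt hkerbt ∘ₗ
      (φ.quotKerEquivOfSurjective hφ).symm.toLinearMap := ⟨_, rfl⟩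
  have hbφ : ∀ y, b (φ y) = bt y := by
    intro y
    have h7 : (φ.quotKerEquivOfSurjective hφ).symm (φ y) = Submodule.Quotient.mk y := by
      rw [LinearEquiv.symm_apply_eq]
      rfl
    rw [hbdef]
    show (LinearMap.ker φ).liftQ bt hkerbt ((φ.quotKerEquivOfSurjective hφ).symm (φ y)) = bt y
    rw [h7]
    rfl
  refine ⟨Q, i1, i2, i3, b, c, ?_⟩
  apply LinearMap.ext
  intro p
  obtain ⟨v, rfl⟩ := hπ p
  have h8 : f (π v) = φ (ψ v) := (LinearMap.congr_fun hψ v).symm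
  have hy : ψ v ∈ FN R (r + 0) := hr v
  have h9 : bt (ψ v) = β₀ (ψ v) := by
    rw [hbt 0 (ψ v) hy, hB0]
  have e1 : β₀ (ψ v) = g ⟨ψ v, hr v⟩ := LinearMap.congr_fun hβ₀ι ⟨ψ v, hr v⟩
  have e2 : φ (ψ v) = c (g ⟨ψ v, hr v⟩) := LinearMap.congr_fun hc' ⟨ψ v, hr v⟩
  show c (b (f (π v))) = f (π v)
  rw [h8, hbφ, h9, e1, ← e2]

end

end H5ML
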