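import Mathlib
import Groth.Agent.Lib.helper5.MLPi

namespace H5ML

universe u

open TensorProduct

theorem piRightHom_eq {R S : Type u} [CommRing R] [CommRing S] [Algebra R S] {ι : Type u}
    (Q : ι → Type u) [∀ i, AddCommGroup (Q i)] [∀ i, Module R (Q i)]
    (x : S ⊗[R] (∀ i, Q i)) :
    piRightHom R S S Q x = piRightHom R R S Q x := by
  induction x using TensorProduct.induction_on with
  | zero => simp
  | tmul s q => simp
  | add x y hx hy => rw [map_add, map_add, hx, hy]

theorem ml_restrict {R S : Type u} [CommRing R] [CommRing S] [Algebra R S]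
    (M : Type u) [AddCommGroup M] [Module S M] [Module R M] [IsScalarTower R S M]
    (hM : CAlg.IsMittagLeffler S M)
    (hinj : ∀ (ι : Type u) (Q : ι → Type u) [∀ i, AddCommGroup (Q i)] [∀ i, Module R (Q i)],
      Function.Injective ((piRightHom R S S Q).lTensor M)) :
    CAlg.IsMittagLeffler R M := by
  intro ι Q _ _
  have key : ∀ (x : M ⊗[R] (∀ j, Q j)) (j : ι),
      piRightHom S S M (fun j => S ⊗[R] Q j) ((piRightHom R S S Q).lTensor M
        ((AlgebraTensorModule.cancelBaseChange R S S M (∀ j, Q j)).symm x)) j =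
      (AlgebraTensorModule.cancelBaseChange R S S M (Q j)).symm (piRightHom R R M Q x j) := by
    intro x j
    induction x using TensorProduct.induction_on with
    | zero => simp
    | tmul m q => simp
    | add x y hx hy => simp only [map_add, Pi.add_apply, hx, hy]
  intro x y hxy
  apply (AlgebraTensorModule.cancelBaseChange R S S M (∀ j, Q j)).symm.injective
  apply hinj ι Q
  apply hM ι (fun j => S ⊗[R] Q j)
  funext j
  rw [key, key, hxy]

theorem ml_restrict_flat (R S : Type u) [CommRing R] [CommRing S] [Algebra R S]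
    (M : Type u) [AddCommGroup M] [Module S M] [Module R M] [IsScalarTower R S M]
    (hS : CAlg.IsMittagLeffler R S) [Module.Flat S M] (hM : CAlg.IsMittagLeffler S M) :
    CAlg.IsMittagLeffler R M := by
  apply ml_restrict M hM
  intro ι Q _ _
  apply Module.Flat.lTensor_preserves_injective_linearMap
  intro x y hxy
  apply hS ι Q
  rw [← piRightHom_eq, ← piRightHom_eq]
  exact hxy

theorem ml_restrict_fp (R S : Type u) [CommRing R] [CommRing S] [Algebra R S]
    [Module.FinitePresentation R S]
    (M : Type u) [AddCommGroup M] [Module S M] [Module R M] [IsScalarTower R S M]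
    (hM : CAlg.IsMittagLeffler S M) : CAlg.IsMittagLeffler R M := by
  apply ml_restrict M hM
  intro ι Q _ _
  have hbij : Function.Bijective (piRightHom R S S Q) := by
    have h1 : Function.Bijective (piRightHom R R S Q) :=
      ⟨ml_of_fp R S ι Q, piRightHom_surjective_of_finite S Q⟩
    have h2 : ⇑(piRightHom R S S Q) = ⇑(piRightHom R R S Q) := funext (piRightHom_eq Q)
    rw [h2]; exact h1
  apply Function.LeftInverse.injective
    (g := ((LinearEquiv.ofBijective (piRightHom R S S Q) hbij).symm.toLinearMap).lTensor M)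
  intro x
  rw [← LinearMap.comp_apply, ← LinearMap.lTensor_comp]
  have h3 : (LinearEquiv.ofBijective (piRightHom R S S Q) hbij).symm.toLinearMap ∘ₗ
      piRightHom R S S Q = LinearMap.id :=
    LinearMap.ext fun z => (LinearEquiv.ofBijective (piRightHom R S S Q) hbij).symm_apply_apply z
  rw [h3, LinearMap.lTensor_id, LinearMap.id_apply]

theorem csquare {R S : Type u} [CommRing R] [CommRing S] [Algebra R S] (M : Type u)
    [AddCommGroup M] [Module S M] [Module R M] [IsScalarTower R S M]
    {ι : Type u} (Q : ι → Type u) [∀ i, AddCommGroup (Q i)] [∀ i, Module S (Q i)]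
    [∀ i, Module R (Q i)] [∀ i, IsScalarTower R S (Q i)]
    [CompatibleSMul R S M (∀ i, Q i)] [∀ i, CompatibleSMul R S M (Q i)]
    (x : M ⊗[R] (∀ i, Q i)) (j : ι) :
    piRightHom S S M Q ((equivOfCompatibleSMul R S R M (∀ i, Q i)).symm x) j =
      (equivOfCompatibleSMul R S R M (Q j)).symm (piRightHom R R M Q x j) := by
  induction x using TensorProduct.induction_on with
  | zero => simp
  | tmul m q =>
    rw [piRightHom_tmul]
    show piRightHom S S M Q (m ⊗ₜ[S] q) j = m ⊗ₜ[S] q j
    rw [piRightHom_tmul]
  | add x y hx hy => simp only [map_add, Pi.add_apply, hx, hy]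

theorem ml_of_surjective (R S : Type u) [CommRing R] [CommRing S] [Algebra R S]
    (hsurj : Function.Surjective (algebraMap R S))
    (M : Type u) [AddCommGroup M] [Module S M] [Module R M] [IsScalarTower R S M]
    (hM : CAlg.IsMittagLeffler R M) : CAlg.IsMittagLeffler S M := by
  intro ι Q _ _
  letI : ∀ i, Module R (Q i) := fun i => Module.compHom (Q i) (algebraMap R S)
  haveI : ∀ i, IsScalarTower R S (Q i) := fun i =>
    IsScalarTower.of_algebraMap_smul fun r x => rfl
  have hcompat : ∀ (P : Type u) [AddCommGroup P] [Module S P] [Module R P]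
      [IsScalarTower R S P], CompatibleSMul R S M P := by
    intro P _ _ _ _
    refine ⟨fun a m n => ?_⟩
    obtain ⟨r, rfl⟩ := hsurj a
    rw [algebraMap_smul, algebraMap_smul, TensorProduct.smul_tmul]
  haveI : CompatibleSMul R S M (∀ i, Q i) := hcompat _
  haveI : ∀ i, CompatibleSMul R S M (Q i) := fun i => hcompat _
  intro z z' hzz
  obtain ⟨x, rfl⟩ := (equivOfCompatibleSMul R S R M (∀ i, Q i)).symm.surjective z
  obtain ⟨x', rfl⟩ := (equivOfCompatibleSMul R S R M (∀ i, Q i)).symm.surjective z'
  congr 1
  apply hM ι Q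
  funext j
  apply (equivOfCompatibleSMul R S R M (Q j)).symm.injective
  rw [← csquare M Q x j, ← csquare M Q x' j, hzz]

noncomputable def phi (R S : Type u) [CommRing R] [CommRing S] [Algebra R S] (M P : Type u)
    [AddCommGroup M] [Module R M] [AddCommGroup P] [Module S P] [Module R P]
    [IsScalarTower R S P] : (S ⊗[R] M) ⊗[S] P ≃+ M ⊗[R] P :=
  ((TensorProduct.comm S (S ⊗[R] M) P).toAddEquiv.trans
    (AlgebraTensorModule.cancelBaseChange R S S P M).toAddEquiv).trans
      (TensorProduct.comm R P M).toAddEquiv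

theorem phi_tmul (R S : Type u) [CommRing R] [CommRing S] [Algebra R S] (M P : Type u)
    [AddCommGroup M] [Module R M] [AddCommGroup P] [Module S P] [Module R P]
    [IsScalarTower R S P] (s : S) (m : M) (p : P) :
    phi R S M P ((s ⊗ₜ[R] m) ⊗ₜ[S] p) = m ⊗ₜ[R] (s • p) := by
  simp [phi]

theorem phi_square (R S : Type u) [CommRing R] [CommRing S] [Algebra R S] (M : Type u)
    [AddCommGroup M] [Module R M]
    {ι : Type u} (Q : ι → Type u) [∀ i, AddCommGroup (Q i)] [∀ i, Module S (Q i)]
    [∀ i, Module R (Q i)] [∀ i, IsScalarTower R S (Q i)]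
    (z : (S ⊗[R] M) ⊗[S] (∀ i, Q i)) (j : ι) :
    phi R S M (Q j) (piRightHom S S (S ⊗[R] M) Q z j) =
      piRightHom R R M Q (phi R S M (∀ i, Q i) z) j := by
  induction z using TensorProduct.induction_on with
  | zero => simp
  | tmul y q =>
    induction y using TensorProduct.induction_on with
    | zero => simp
    | tmul s m => simp [phi_tmul]
    | add y y' hy hy' =>
      rw [add_tmul, map_add, Pi.add_apply, map_add, map_add, map_add, Pi.add_apply, hy, hy']
  | add z z' hz hz' => simp only [map_add, Pi.add_apply, hz, hz']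

theorem ml_baseChange (R S : Type u) [CommRing R] [CommRing S] [Algebra R S] (M : Type u)
    [AddCommGroup M] [Module R M] (hM : CAlg.IsMittagLeffler R M) :
    CAlg.IsMittagLeffler S (S ⊗[R] M) := by
  intro ι Q _ _
  letI : ∀ i, Module R (Q i) := fun i => Module.compHom (Q i) (algebraMap R S)
  haveI : ∀ i, IsScalarTower R S (Q i) := fun i =>
    IsScalarTower.of_algebraMap_smul fun r x => rfl
  intro z z' hzz
  apply (phi R S M (∀ i, Q i)).injective
  apply hM ι Q
  funext j
  rw [← phi_square R S M Q z j, ← phi_square R S M Q z' j, hzz]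

end H5ML
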