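import Mathlib
import Groth.Agent.Lib.helper5.MLDom
import Groth.Agent.Lib.helper5.MLRestrict

namespace H5ML

universe u

open TensorProduct

theorem lInj_of_fp {R : Type u} [CommRing R] {A B : Type u} [AddCommGroup A] [Module R A]
    [AddCommGroup B] [Module R B] (u : A →ₗ[R] B)
    (hfp : ∀ (Q : Type u) [AddCommGroup Q] [Module R Q] [Module.FinitePresentation R Q],
      Function.Injective (u.lTensor Q))
    (T : Type u) [AddCommGroup T] [Module R T] : Function.Injective (u.lTensor T) := by
  rw [injective_iff_map_eq_zero]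
  intro x hx
  obtain ⟨T₀, hfin, hsub⟩ :=
    TensorProduct.exists_finite_submodule_left_of_setFinite ({x} : Set (T ⊗[R] A))
      (Set.finite_singleton x)
  obtain ⟨x₀, hx₀⟩ := hsub (Set.mem_singleton x)
  obtain ⟨n, p, hp⟩ := Module.Finite.exists_fin' R T₀
  obtain ⟨xt, hxt⟩ := LinearMap.rTensor_surjective A hp x₀
  obtain ⟨f, hfdef⟩ : ∃ f : (Fin n → R) →ₗ[R] T, f = T₀.subtype ∘ₗ p := ⟨_, rfl⟩
  have hfx : f.rTensor A xt = x := by
    rw [hfdef, LinearMap.rTensor_comp, LinearMap.comp_apply, hxt, hx₀]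
  have hw : f.rTensor B (u.lTensor (Fin n → R) xt) = 0 := by
    rw [← LinearMap.comp_apply, LinearMap.rTensor_comp_lTensor, ← LinearMap.lTensor_comp_rTensor,
      LinearMap.comp_apply, hfx, hx]
  obtain ⟨Q, i1, i2, i3, g, h, hfg, hgw⟩ := exists_factor_fp n f B _ hw
  have h1 : u.lTensor Q (g.rTensor A xt) = 0 := by
    rw [← LinearMap.comp_apply, LinearMap.lTensor_comp_rTensor, ← LinearMap.rTensor_comp_lTensor,
      LinearMap.comp_apply, hgw]
  have h2 : g.rTensor A xt = 0 := (injective_iff_map_eq_zero _).mp (hfp Q) _ h1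
  rw [← hfx, hfg, LinearMap.rTensor_comp, LinearMap.comp_apply, h2, map_zero]

theorem piRightHom_natural {R : Type u} [CommRing R] (T : Type u) [AddCommGroup T] [Module R T]
    {ι : Type u} (A B : ι → Type u) [∀ i, AddCommGroup (A i)] [∀ i, Module R (A i)]
    [∀ i, AddCommGroup (B i)] [∀ i, Module R (B i)] (u : ∀ i, A i →ₗ[R] B i)
    (y : T ⊗[R] (∀ i, A i)) (k : ι) :
    piRightHom R R T B ((LinearMap.pi (fun i => u i ∘ₗ LinearMap.proj i)).lTensor T y) k =
      (u k).lTensor T (piRightHom R R T A y k) := by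
  induction y using TensorProduct.induction_on with
  | zero => simp
  | tmul t a => simp
  | add a b ha hb => simp only [map_add, Pi.add_apply, ha, hb]

theorem lInj_pi {R : Type u} [CommRing R] {ι : Type u} (A B : ι → Type u)
    [∀ i, AddCommGroup (A i)] [∀ i, Module R (A i)]
    [∀ i, AddCommGroup (B i)] [∀ i, Module R (B i)] (u : ∀ i, A i →ₗ[R] B i)
    (hu : ∀ i (T : Type u) [AddCommGroup T] [Module R T], Function.Injective ((u i).lTensor T))
    (T : Type u) [AddCommGroup T] [Module R T] :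
    Function.Injective ((LinearMap.pi (fun i => u i ∘ₗ LinearMap.proj i)).lTensor T) := by
  apply lInj_of_fp
  intro Q _ _ _
  rw [injective_iff_map_eq_zero]
  intro y hy
  apply ml_of_fp R Q ι A
  rw [map_zero]
  funext k
  apply hu k Q
  rw [← piRightHom_natural Q A B u y k, hy]
  simp

theorem lInj_mk_one (R S : Type u) [CommRing R] [CommRing S] [Algebra R S]
    [Module.FaithfullyFlat R S]
    (Q : Type u) [AddCommGroup Q] [Module R Q] (T : Type u) [AddCommGroup T] [Module R T] :
    Function.Injective ((TensorProduct.mk R S Q 1).lTensor T) := by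
  have h : (TensorProduct.leftComm R T S Q).toLinearMap ∘ₗ (TensorProduct.mk R S Q 1).lTensor T =
      TensorProduct.mk R S (T ⊗[R] Q) 1 := by
    apply TensorProduct.ext'
    intro t q
    simp
  intro a b hab
  apply Module.FaithfullyFlat.tensorProduct_mk_injective (A := R) (B := S) (T ⊗[R] Q)
  rw [← h, LinearMap.comp_apply, LinearMap.comp_apply, hab]

theorem ml_descent (R S : Type u) [CommRing R] [CommRing S] [Algebra R S]
    [Module.FaithfullyFlat R S]
    (M : Type u) [AddCommGroup M] [Module R M] (h : CAlg.IsMittagLeffler S (S ⊗[R] M)) :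
    CAlg.IsMittagLeffler R M := by
  intro κ Q _ _
  rw [injective_iff_map_eq_zero]
  intro z hz
  have hinj : Function.Injective
      ((LinearMap.pi (fun k => (TensorProduct.mk R S (Q k) 1) ∘ₗ
        (LinearMap.proj k : (∀ k, Q k) →ₗ[R] Q k))).lTensor M) :=
    lInj_pi Q (fun k => S ⊗[R] Q k) (fun k => TensorProduct.mk R S (Q k) 1)
      (fun k T _ _ => lInj_mk_one R S (Q k) T) M
  apply hinj
  rw [map_zero]
  have hζ : (phi R S M (∀ k, S ⊗[R] Q k)).symm
      ((LinearMap.pi (fun k => (TensorProduct.mk R S (Q k) 1) ∘ₗ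
        (LinearMap.proj k : (∀ k, Q k) →ₗ[R] Q k))).lTensor M z) = 0 := by
    apply h κ (fun k => S ⊗[R] Q k)
    rw [map_zero]
    funext k
    apply (phi R S M (S ⊗[R] Q k)).injective
    rw [phi_square R S M (fun k => S ⊗[R] Q k) _ k, AddEquiv.apply_symm_apply,
      piRightHom_natural M Q (fun k => S ⊗[R] Q k) (fun k => TensorProduct.mk R S (Q k) 1) z k,
      hz]
    simp
  have h5 := congrArg (phi R S M (∀ k, S ⊗[R] Q k)) hζ
  rw [AddEquiv.apply_symm_apply, map_zero] at h5
  exact h5

end H5ML
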