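import Mathlib
import Groth.Agent.Lib.helper5.MLDom

namespace H5ML

universe u

open TensorProduct

theorem fp_tensor {R : Type u} [CommRing R] (A B : Type u) [AddCommGroup A] [Module R A]
    [AddCommGroup B] [Module R B]
    [Module.FinitePresentation R A] [Module.FinitePresentation R B] :
    Module.FinitePresentation R (A ⊗[R] B) := by
  obtain ⟨a, pa, hpa⟩ := Module.Finite.exists_fin' R A
  obtain ⟨b, pb, hpb⟩ := Module.Finite.exists_fin' R B
  have hka : (LinearMap.ker pa).FG := Module.FinitePresentation.fg_ker pa hpa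
  have hkb : (LinearMap.ker pb).FG := Module.FinitePresentation.fg_ker pb hpb
  haveI : Module.Finite R (LinearMap.ker pa) := Module.Finite.iff_fg.mpr hka
  haveI : Module.Finite R (LinearMap.ker pb) := Module.Finite.iff_fg.mpr hkb
  apply Module.finitePresentation_of_free_of_surjective (TensorProduct.map pa pb)
    (TensorProduct.map_surjective hpa hpb)
  rw [TensorProduct.map_ker (LinearMap.exact_subtype_ker_map pa) hpa
    (LinearMap.exact_subtype_ker_map pb) hpb]
  exact (Submodule.fg_range _).sup (Submodule.fg_range _)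

section
variable {R : Type u} [CommRing R] {A B C : Type u} [AddCommGroup A] [Module R A]
  [AddCommGroup B] [Module R B] [AddCommGroup C] [Module R C]

/-- mutual domination -/
def Dom (f : A →ₗ[R] B) (g : A →ₗ[R] C) : Prop :=
  ∀ (T : Type u) [AddCommGroup T] [Module R T],
    LinearMap.ker (f.rTensor T) = LinearMap.ker (g.rTensor T)

theorem dom_trans {D : Type u} [AddCommGroup D] [Module R D] {f : A →ₗ[R] B} {g : A →ₗ[R] C}
    {h : A →ₗ[R] D} (h1 : Dom f g) (h2 : Dom g h) : Dom f h := by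
  intro T _ _
  rw [h1 T, h2 T]

theorem dom_precomp {A' : Type u} [AddCommGroup A'] [Module R A'] {f : A →ₗ[R] B}
    {g : A →ₗ[R] C} (h : Dom f g) (a : A' →ₗ[R] A) : Dom (f ∘ₗ a) (g ∘ₗ a) := by
  intro T _ _
  ext x
  rw [LinearMap.mem_ker, LinearMap.mem_ker, LinearMap.rTensor_comp, LinearMap.rTensor_comp,
    LinearMap.comp_apply, LinearMap.comp_apply, ← LinearMap.mem_ker, ← LinearMap.mem_ker, h T]

theorem ker_transfer {A₂ B₂ C₂ T T' : Type u} [AddCommGroup A₂] [Module R A₂]
    [AddCommGroup B₂] [Module R B₂] [AddCommGroup C₂] [Module R C₂] [AddCommGroup T] [Module R T]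
    [AddCommGroup T'] [Module R T']
    (f : A →ₗ[R] B) (g : A →ₗ[R] C) (F : A₂ →ₗ[R] B₂) (G : A₂ →ₗ[R] C₂)
    (eA : A₂ ⊗[R] T ≃ₗ[R] A ⊗[R] T') (eB : B₂ ⊗[R] T ≃ₗ[R] B ⊗[R] T')
    (eC : C₂ ⊗[R] T ≃ₗ[R] C ⊗[R] T')
    (hB : eB.toLinearMap ∘ₗ F.rTensor T = f.rTensor T' ∘ₗ eA.toLinearMap)
    (hC : eC.toLinearMap ∘ₗ G.rTensor T = g.rTensor T' ∘ₗ eA.toLinearMap)
    (h : LinearMap.ker (f.rTensor T') = LinearMap.ker (g.rTensor T')) :
    LinearMap.ker (F.rTensor T) = LinearMap.ker (G.rTensor T) := by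
  ext x
  have h1 : F.rTensor T x = 0 ↔ f.rTensor T' (eA x) = 0 := by
    have h3 : eB (F.rTensor T x) = f.rTensor T' (eA x) := LinearMap.congr_fun hB x
    rw [← h3]
    exact (LinearEquiv.map_eq_zero_iff eB).symm
  have h2 : G.rTensor T x = 0 ↔ g.rTensor T' (eA x) = 0 := by
    have h3 : eC (G.rTensor T x) = g.rTensor T' (eA x) := LinearMap.congr_fun hC x
    rw [← h3]
    exact (LinearEquiv.map_eq_zero_iff eC).symm
  rw [LinearMap.mem_ker, LinearMap.mem_ker, h1, h2, ← LinearMap.mem_ker, ← LinearMap.mem_ker, h]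

theorem dom_rTensor {f : A →ₗ[R] B} {g : A →ₗ[R] C} (h : Dom f g) (N' : Type u)
    [AddCommGroup N'] [Module R N'] : Dom (f.rTensor N') (g.rTensor N') := by
  intro T _ _
  exact ker_transfer f g (f.rTensor N') (g.rTensor N') (TensorProduct.assoc R A N' T)
    (TensorProduct.assoc R B N' T) (TensorProduct.assoc R C N' T)
    (TensorProduct.ext_threefold fun a n t => rfl) (TensorProduct.ext_threefold fun a n t => rfl)
    (h (N' ⊗[R] T))

theorem dom_lTensor {f : A →ₗ[R] B} {g : A →ₗ[R] C} (h : Dom f g) (M' : Type u)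
    [AddCommGroup M'] [Module R M'] : Dom (f.lTensor M') (g.lTensor M') := by
  intro T _ _
  exact ker_transfer f g (f.lTensor M') (g.lTensor M')
    ((LinearEquiv.rTensor T (TensorProduct.comm R M' A)) ≪≫ₗ TensorProduct.assoc R A M' T)
    ((LinearEquiv.rTensor T (TensorProduct.comm R M' B)) ≪≫ₗ TensorProduct.assoc R B M' T)
    ((LinearEquiv.rTensor T (TensorProduct.comm R M' C)) ≪≫ₗ TensorProduct.assoc R C M' T)
    (TensorProduct.ext_threefold fun m a t => rfl) (TensorProduct.ext_threefold fun m a t => rfl)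
    (h (M' ⊗[R] T))

end

theorem ml_tensor {R : Type u} [CommRing R] (M N : Type u) [AddCommGroup M] [Module R M]
    [AddCommGroup N] [Module R N] (hM : CAlg.IsMittagLeffler R M)
    (hN : CAlg.IsMittagLeffler R N) : CAlg.IsMittagLeffler R (M ⊗[R] N) := by
  classical
  apply ml_of_dominate
  intro n f
  obtain ⟨M', N', hM', hN', hsub⟩ := TensorProduct.exists_finite_submodule_of_setFinite
    (Set.range (fun i => f (Pi.basisFun R (Fin n) i))) (Set.finite_range _)
  obtain ⟨a, pa, hpa⟩ := Module.Finite.exists_fin' R M'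
  obtain ⟨b, pb, hpb⟩ := Module.Finite.exists_fin' R N'
  obtain ⟨u, hu⟩ : ∃ u : (Fin a → R) →ₗ[R] M, u = M'.subtype ∘ₗ pa := ⟨_, rfl⟩
  obtain ⟨v, hv⟩ : ∃ v : (Fin b → R) →ₗ[R] N, v = N'.subtype ∘ₗ pb := ⟨_, rfl⟩
  have h1 : TensorProduct.map u v = TensorProduct.mapIncl M' N' ∘ₗ TensorProduct.map pa pb := by
    rw [hu, hv, TensorProduct.map_comp]
  have h2 : LinearMap.range (TensorProduct.map u v) =
      LinearMap.range (TensorProduct.mapIncl M' N') := by
    rw [h1]
    exact LinearMap.range_comp_of_range_eq_top _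
      (LinearMap.range_eq_top.mpr (TensorProduct.map_surjective hpa hpb))
  have hy : ∀ i, ∃ y, TensorProduct.map u v y = f (Pi.basisFun R (Fin n) i) := by
    intro i
    have h3 : f (Pi.basisFun R (Fin n) i) ∈ LinearMap.range (TensorProduct.mapIncl M' N') :=
      hsub ⟨i, rfl⟩
    rw [← h2] at h3
    exact h3
  choose y hy using hy
  obtain ⟨f', hf'⟩ : ∃ f' : (Fin n → R) →ₗ[R] (Fin a → R) ⊗[R] (Fin b → R),
      ∀ i, f' (Pi.basisFun R (Fin n) i) = y i :=
    ⟨(Pi.basisFun R (Fin n)).constr R y, fun i => (Pi.basisFun R (Fin n)).constr_basis R y i⟩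
  have hff' : f = TensorProduct.map u v ∘ₗ f' := by
    apply (Pi.basisFun R (Fin n)).ext
    intro i
    rw [LinearMap.comp_apply, hf', hy]
  obtain ⟨Qu, i1, i2, i3, gu, hgu⟩ := dominate_of_ml hM a u
  obtain ⟨Qv, j1, j2, j3, gv, hgv⟩ := dominate_of_ml hN b v
  have hdu : Dom u gu := hgu
  have hdv : Dom v gv := hgv
  have e1 : TensorProduct.map u v = (u.rTensor N) ∘ₗ (v.lTensor (Fin a → R)) :=
    (LinearMap.rTensor_comp_lTensor _ u v).symm
  have e2 : TensorProduct.map gu v = (gu.rTensor N) ∘ₗ (v.lTensor (Fin a → R)) :=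
    (LinearMap.rTensor_comp_lTensor _ gu v).symm
  have e3 : TensorProduct.map gu v = (v.lTensor Qu) ∘ₗ (gu.rTensor (Fin b → R)) :=
    (LinearMap.lTensor_comp_rTensor _ gu v).symm
  have e4 : TensorProduct.map gu gv = (gv.lTensor Qu) ∘ₗ (gu.rTensor (Fin b → R)) :=
    (LinearMap.lTensor_comp_rTensor _ gu gv).symm
  have d1 : Dom (TensorProduct.map u v) (TensorProduct.map gu v) := by
    rw [e1, e2]
    exact dom_precomp (dom_rTensor hdu N) _
  have d2 : Dom (TensorProduct.map gu v) (TensorProduct.map gu gv) := by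
    rw [e3, e4]
    exact dom_precomp (dom_lTensor hdv Qu) _
  have d3 : Dom f (TensorProduct.map gu gv ∘ₗ f') := by
    rw [hff']
    exact dom_precomp (dom_trans d1 d2) f'
  haveI : Module.FinitePresentation R (Qu ⊗[R] Qv) := fp_tensor Qu Qv
  exact ⟨Qu ⊗[R] Qv, inferInstance, inferInstance, inferInstance,
    TensorProduct.map gu gv ∘ₗ f', d3⟩

end H5ML
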