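import Mathlib

/-! helper5: successive approximation for modules over a ring with finitely many generators. -/

set_option autoImplicit false
set_option linter.unusedSectionVars false

open Filter

theorem H5_module_approx {R X : Type*} [CommRing R] [AddCommGroup X] [Module R X]
    [UniformSpace X] [IsUniformAddGroup X] [ContinuousConstSMul R X] [NonarchimedeanAddGroup X]
    [T2Space X] [CompleteSpace X]
    {s : ℕ} (g : Fin s → R) (P Q : ℕ → AddSubgroup X)
    (hP0 : IsClosed (P 0 : Set X)) (hPle : ∀ k, P k ≤ P 0)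
    (hP : ∀ U ∈ nhds (0 : X), ∃ k₀, ∀ k, k₀ ≤ k → (P k : Set X) ⊆ U)
    (hQ : ∀ U ∈ nhds (0 : X), ∃ k₀, ∀ k, k₀ ≤ k → (Q k : Set X) ⊆ U)
    (hstep : ∀ k, ∀ x ∈ Q k, ∃ m : Fin s → X, (∀ j, m j ∈ P k) ∧
      x - ∑ j, g j • m j ∈ Q (k + 1))
    (x : X) (hx : x ∈ Q 0) : ∃ y : Fin s → X, (∀ j, y j ∈ P 0) ∧ x = ∑ j, g j • y j := by
  have step : ∀ (k : ℕ) (z : Q k), ∃ m : Fin s → X, (∀ j, m j ∈ P k) ∧
      (z : X) - ∑ j, g j • m j ∈ Q (k + 1) := fun k z => hstep k z z.2
  choose c hc hy using step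
  let y : ∀ k, Q k := fun k =>
    Nat.rec ⟨x, hx⟩ (fun k yk => ⟨(yk : X) - ∑ j, g j • c k yk j, hy k yk⟩) k
  let Cc : ℕ → Fin s → X := fun k j => c k (y k) j
  have hC : ∀ k j, Cc k j ∈ P k := fun k j => hc k (y k) j
  have hysucc : ∀ k, ((y (k + 1)).1 : X) = (y k).1 - ∑ j, g j • Cc k j := by
    intro k; rfl
  have hsum : ∀ K : ℕ, x - ∑ j, g j • (∑ k ∈ Finset.range K, Cc k j) = (y K).1 := by
    intro K
    induction K with
    | zero => simp [y]
    | succ K ih =>
      rw [hysucc, ← ih]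
      simp only [Finset.sum_range_succ, smul_add, Finset.sum_add_distrib]
      abel
  have htend0 : ∀ j, Tendsto (fun k => Cc k j) atTop (nhds 0) := by
    intro j U hU
    obtain ⟨k₀, hk₀⟩ := hP U hU
    rw [Filter.mem_map]
    exact Filter.mem_atTop_sets.mpr ⟨k₀, fun k hk => hk₀ k hk (hC k j)⟩
  have hsummable : ∀ j, Summable (fun k => Cc k j) := by
    intro j
    apply NonarchimedeanAddGroup.summable_of_tendsto_cofinite_zero
    rw [Nat.cofinite_eq_atTop]
    exact htend0 j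
  have hlim1 : Tendsto (fun K => x - ∑ j, g j • (∑ k ∈ Finset.range K, Cc k j)) atTop
      (nhds (x - ∑ j, g j • (∑' k, Cc k j))) := by
    apply tendsto_const_nhds.sub
    apply tendsto_finsetSum
    intro j _
    exact ((hsummable j).hasSum.tendsto_sum_nat).const_smul (g j)
  have hlim2 : Tendsto (fun K => x - ∑ j, g j • (∑ k ∈ Finset.range K, Cc k j)) atTop
      (nhds 0) := by
    simp_rw [hsum]
    intro U hU
    obtain ⟨k₀, hk₀⟩ := hQ U hU
    rw [Filter.mem_map]
    exact Filter.mem_atTop_sets.mpr ⟨k₀, fun k hk => hk₀ k hk (y k).2⟩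
  have h0 := tendsto_nhds_unique hlim1 hlim2
  refine ⟨fun j => ∑' k, Cc k j, fun j => ?_, sub_eq_zero.mp h0⟩
  exact hP0.mem_of_tendsto (hsummable j).hasSum.tendsto_sum_nat
    (Eventually.of_forall fun K => (P 0).sum_mem fun k _ => hPle k (hC k j))

theorem H5_mem_span_smul {R M : Type*} [CommRing R] [AddCommGroup M] [Module R M]
    {s : ℕ} (g : Fin s → R) (P : Submodule R M) {z : M}
    (hz : z ∈ Ideal.span (Set.range g) • P) :
    ∃ m : Fin s → M, (∀ j, m j ∈ P) ∧ z = ∑ j, g j • m j := by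
  refine Submodule.smul_induction_on hz ?_ ?_
  · intro r hr n hn
    obtain ⟨c, rfl⟩ := (Ideal.mem_span_range_iff_exists_fun).mp hr
    refine ⟨fun j => c j • n, fun j => P.smul_mem _ hn, ?_⟩
    rw [Finset.sum_smul]
    refine Finset.sum_congr rfl fun j _ => ?_
    rw [mul_comm, mul_smul]
  · rintro x y ⟨m, hm, rfl⟩ ⟨m', hm', rfl⟩
    refine ⟨fun j => m j + m' j, fun j => P.add_mem (hm j) (hm' j), ?_⟩
    simp only [smul_add, Finset.sum_add_distrib]
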