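import Mathlib

/-! helper5: completions of nonarchimedean additive groups and their quotients. -/

set_option autoImplicit false
set_option linter.unusedSectionVars false

open Filter UniformSpace

/-- successive approximation for additive groups -/
theorem H5_lift_of_approx_addGroup {A B : Type*} [AddCommGroup A] [UniformSpace A]
    [IsUniformAddGroup A] [NonarchimedeanAddGroup A] [T2Space A] [CompleteSpace A]
    [AddCommGroup B] [TopologicalSpace B] [T2Space B] [IsTopologicalAddGroup B]
    (φ : A →+ B) (hφ : Continuous φ)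
    (I : ℕ → AddSubgroup A) (J : ℕ → AddSubgroup B) (hanti : Antitone I)
    (hclosed : ∀ n, IsClosed (I n : Set A))
    (hI : ∀ U ∈ nhds (0 : A), ∃ k, (I k : Set A) ⊆ U)
    (hJ : ∀ U ∈ nhds (0 : B), ∃ k₀, ∀ k, k₀ ≤ k → (J k : Set B) ⊆ U)
    (hstep : ∀ k, ∀ b ∈ J k, ∃ a ∈ I k, b - φ a ∈ J (k + 1))
    (n : ℕ) (b : B) (hb : b ∈ J n) : ∃ a ∈ I n, φ a = b := by
  have step : ∀ (k : ℕ) (y : J k), ∃ a : A, a ∈ I k ∧ (y : B) - φ a ∈ J (k + 1) :=
    fun k y => hstep k y y.2
  choose f hf hfy using step
  let y : ∀ k, J (n + k) := fun k =>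
    Nat.rec ⟨b, hb⟩ (fun k yk => ⟨(yk : B) - φ (f (n + k) yk), hfy (n + k) yk⟩) k
  let c : ℕ → A := fun k => f (n + k) (y k)
  have hc : ∀ k, c k ∈ I (n + k) := fun k => hf (n + k) (y k)
  have hysucc : ∀ k, ((y (k + 1)).1 : B) = (y k).1 - φ (c k) := by
    intro k; rfl
  have hsum : ∀ K : ℕ, b - φ (∑ k ∈ Finset.range K, c k) = (y K).1 := by
    intro K
    induction K with
    | zero => simp [y]
    | succ K ih =>
      rw [hysucc, ← ih, Finset.sum_range_succ, map_add]
      abel
  have htend0 : Tendsto c atTop (nhds 0) := by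
    intro U hU
    obtain ⟨k₀, hk₀⟩ := hI U hU
    rw [Filter.mem_map]
    refine Filter.mem_atTop_sets.mpr ⟨k₀, fun k hk => hk₀ ?_⟩
    exact hanti (by omega : k₀ ≤ n + k) (hc k)
  have hsummable : Summable c := by
    apply NonarchimedeanAddGroup.summable_of_tendsto_cofinite_zero
    rw [Nat.cofinite_eq_atTop]
    exact htend0
  have hlimA : Tendsto (fun K => ∑ k ∈ Finset.range K, c k) atTop (nhds (∑' k, c k)) :=
    hsummable.hasSum.tendsto_sum_nat
  refine ⟨∑' k, c k, ?_, ?_⟩
  · refine (hclosed n).mem_of_tendsto hlimA (Filter.Eventually.of_forall fun K => ?_)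
    exact (I n).sum_mem fun k _ => hanti (by omega : n ≤ n + k) (hc k)
  · have hlim1 : Tendsto (fun K => b - φ (∑ k ∈ Finset.range K, c k)) atTop
        (nhds (b - φ (∑' k, c k))) :=
      tendsto_const_nhds.sub ((hφ.tendsto _).comp hlimA)
    have hlim2 : Tendsto (fun K => b - φ (∑ k ∈ Finset.range K, c k)) atTop (nhds 0) := by
      simp_rw [hsum]
      intro U hU
      obtain ⟨k₀, hk₀⟩ := hJ U hU
      rw [Filter.mem_map]
      exact Filter.mem_atTop_sets.mpr ⟨k₀, fun k hk => hk₀ (n + k) (by omega) (y k).2⟩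
    have h0 := tendsto_nhds_unique hlim1 hlim2
    exact (sub_eq_zero.mp h0).symm

section
variable {G : Type*} [AddCommGroup G] [UniformSpace G] [IsUniformAddGroup G]
  [NonarchimedeanAddGroup G]

/-- kernel of `G^ → (G/N)^` is the closure of the image of `N` -/
theorem H5_compl_quot_ker (N : AddSubgroup G) :
    (@UniformSpace.Completion.map G _ (G ⧸ N) (IsTopologicalAddGroup.rightUniformSpace (G ⧸ N))
        (QuotientAddGroup.mk' N)) ⁻¹' {0} =
      closure ((fun g : G => (g : UniformSpace.Completion G)) '' (N : Set G)) := by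
  letI : UniformSpace (G ⧸ N) := IsTopologicalAddGroup.rightUniformSpace (G ⧸ N)
  haveI : IsUniformAddGroup (G ⧸ N) := isUniformAddGroup_of_addCommGroup
  have hπc : Continuous (QuotientAddGroup.mk' N) := QuotientAddGroup.continuous_mk
  have hπ : UniformContinuous (QuotientAddGroup.mk' N) :=
    uniformContinuous_addMonoidHom_of_continuous hπc
  let Φ : Completion G →+ Completion (G ⧸ N) := AddMonoidHom.completion (QuotientAddGroup.mk' N) hπc
  have hΦ : ∀ x, Φ x = Completion.map (QuotientAddGroup.mk' N) x := fun x => rfl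
  have hΦcoe : ∀ g : G, Φ (g : Completion G) = ((QuotientAddGroup.mk' N g : G ⧸ N) : Completion (G ⧸ N)) :=
    fun g => AddMonoidHom.completion_coe _ hπc g
  have hΦcont : Continuous Φ := AddMonoidHom.continuous_completion _ hπc
  apply Set.Subset.antisymm
  · intro x hx
    have hx0 : Φ x = 0 := hx
    rw [mem_closure_iff_nhds]
    intro t ht
    have h0 : (fun y => x + y) ⁻¹' t ∈ nhds (0 : Completion G) := by
      apply (continuous_const_add x).continuousAt
      simpa using ht
    obtain ⟨V, hV⟩ := NonarchimedeanAddGroup.is_nonarchimedean _ h0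
    -- density
    have hnb : {y : Completion G | y - x ∈ (V : Set (Completion G))} ∈ nhds x := by
      have : (fun y => y - x) ⁻¹' (V : Set (Completion G)) ∈ nhds x := by
        apply (continuous_id.sub continuous_const).continuousAt
        simpa using V.mem_nhds_zero
      exact this
    obtain ⟨m, hm⟩ := (Completion.denseRange_coe (α := G)).mem_nhds hnb
    have hm' : (m : Completion G) - x ∈ (V : Set (Completion G)) := hm
    let U : AddSubgroup G := (V : AddSubgroup (Completion G)).comap (Completion.toCompl : G →+ Completion G)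
    have hUopen : IsOpen (U : Set G) := V.isOpen.preimage (Completion.continuous_coe G)
    -- V ⊆ closure (ι U)
    have hVcl : (V : Set (Completion G)) ⊆ closure ((fun g : G => (g : Completion G)) '' (U : Set G)) := by
      have hdense : Dense (Set.range (fun g : G => (g : Completion G))) := Completion.denseRange_coe (α := G)
      have h1 := hdense.open_subset_closure_inter V.isOpen
      refine h1.trans (closure_mono ?_)
      rintro _ ⟨hy, g, rfl⟩
      exact ⟨g, hy, rfl⟩
    have h2 : Φ ((m : Completion G) - x) ∈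
        closure ((fun q : G ⧸ N => (q : Completion (G ⧸ N))) '' ((QuotientAddGroup.mk' N) '' (U : Set G))) := by
      have h3 := image_closure_subset_closure_image hΦcont (Set.mem_image_of_mem Φ (hVcl hm'))
      refine closure_mono ?_ h3
      rintro _ ⟨_, ⟨g, hg, rfl⟩, rfl⟩
      exact ⟨QuotientAddGroup.mk' N g, ⟨g, hg, rfl⟩, (hΦcoe g).symm⟩
    rw [map_sub, hx0, sub_zero, hΦcoe] at h2
    have h4 : (QuotientAddGroup.mk' N m) ∈ closure ((QuotientAddGroup.mk' N) '' (U : Set G)) := by
      rw [(Completion.isUniformInducing_coe (G ⧸ N)).isInducing.closure_eq_preimage_closure_image]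
      exact h2
    have hUq_open : IsOpen ((U.map (QuotientAddGroup.mk' N) : AddSubgroup (G ⧸ N)) : Set (G ⧸ N)) := by
      have : ((U.map (QuotientAddGroup.mk' N) : AddSubgroup (G ⧸ N)) : Set (G ⧸ N)) =
          (QuotientAddGroup.mk' N) '' (U : Set G) := rfl
      rw [this]
      exact QuotientAddGroup.isOpenMap_coe _ hUopen
    have hUq_closed := AddSubgroup.isClosed_of_isOpen _ hUq_open
    have h5 : (QuotientAddGroup.mk' N m) ∈ (QuotientAddGroup.mk' N) '' (U : Set G) := by
      have : closure ((QuotientAddGroup.mk' N) '' (U : Set G)) = (QuotientAddGroup.mk' N) '' (U : Set G) :=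
        hUq_closed.closure_eq
      rw [this] at h4
      exact h4
    obtain ⟨u, hu, hum⟩ := h5
    have hn : -u + m ∈ N := by
      have : ((u : G) : G ⧸ N) = (m : G ⧸ N) := hum
      exact QuotientAddGroup.eq.mp this
    refine ⟨((-u + m : G) : Completion G), ?_, ⟨-u + m, hn, rfl⟩⟩
    have h6 : ((-u + m : G) : Completion G) = x + (((m : Completion G) - x) - (u : Completion G)) := by
      rw [Completion.coe_add, Completion.coe_neg]; abel
    rw [h6]
    apply hV
    exact (V : AddSubgroup (Completion G)).sub_mem hm' hu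
  · refine closure_minimal ?_ (isClosed_singleton.preimage Completion.continuous_map)
    rintro _ ⟨g, hg, rfl⟩
    show Φ (g : Completion G) = 0
    rw [hΦcoe]
    have : QuotientAddGroup.mk' N g = 0 := (QuotientAddGroup.eq_zero_iff g).mpr hg
    rw [this, Completion.coe_zero]

end

theorem H5_nonarch_of_linearModule (R : Type*) [Ring R] {M : Type*} [AddCommGroup M] [Module R M]
    [TopologicalSpace M] [IsTopologicalAddGroup M] [IsLinearTopology R M] :
    NonarchimedeanAddGroup M :=
  { is_nonarchimedean := fun U hU => by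
      obtain ⟨N', hN', hN'U⟩ := (IsLinearTopology.hasBasis_open_submodule R).mem_iff.mp hU
      exact ⟨⟨N'.toAddSubgroup, hN'⟩, hN'U⟩ }

section
variable {G : Type*} [AddCommGroup G] [UniformSpace G] [IsUniformAddGroup G]
  [NonarchimedeanAddGroup G]

/-- `G^ → (G/N)^` is surjective and open when `G` is first countable -/
theorem H5_compl_quot_surj_open (hc : (nhds (0 : G)).IsCountablyGenerated) (N : AddSubgroup G) :
    Function.Surjective (@UniformSpace.Completion.map G _ (G ⧸ N)
        (IsTopologicalAddGroup.rightUniformSpace (G ⧸ N)) (QuotientAddGroup.mk' N)) ∧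
    IsOpenMap (@UniformSpace.Completion.map G _ (G ⧸ N)
        (IsTopologicalAddGroup.rightUniformSpace (G ⧸ N)) (QuotientAddGroup.mk' N)) := by
  letI : UniformSpace (G ⧸ N) := IsTopologicalAddGroup.rightUniformSpace (G ⧸ N)
  haveI : IsUniformAddGroup (G ⧸ N) := isUniformAddGroup_of_addCommGroup
  have hπc : Continuous (QuotientAddGroup.mk' N) := QuotientAddGroup.continuous_mk
  let Φ : Completion G →+ Completion (G ⧸ N) := AddMonoidHom.completion (QuotientAddGroup.mk' N) hπc
  have hΦcoe : ∀ g : G, Φ (g : Completion G) = ((QuotientAddGroup.mk' N g : G ⧸ N) : Completion (G ⧸ N)) :=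
    fun g => AddMonoidHom.completion_coe _ hπc g
  have hΦcont : Continuous Φ := AddMonoidHom.continuous_completion _ hπc
  have hbasisG : (nhds (0 : G)).HasBasis (fun _ : OpenAddSubgroup G => True)
      (fun U => (U : Set G)) :=
    ⟨fun s => ⟨fun hs => by
      obtain ⟨V, hV⟩ := NonarchimedeanAddGroup.is_nonarchimedean s hs
      exact ⟨V, trivial, hV⟩, fun ⟨V, _, hV⟩ => mem_of_superset V.mem_nhds_zero hV⟩⟩
  obtain ⟨U, -, hUbasis⟩ := hbasisG.exists_antitone_subbasis
  have hUanti : ∀ {m n}, m ≤ n → (U n : Set G) ⊆ U m := fun h => hUbasis.antitone h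
  let V : ℕ → AddSubgroup (Completion G) := fun n =>
    ((U n : AddSubgroup G).map (Completion.toCompl)).topologicalClosure
  have hVcoe : ∀ n, (V n : Set (Completion G)) =
      closure ((fun g : G => (g : Completion G)) '' (U n : Set G)) := fun n => rfl
  have hVclosed : ∀ n, IsClosed (V n : Set (Completion G)) := fun n => by
    rw [hVcoe]; exact isClosed_closure
  have hVanti : Antitone V := by
    intro m n h
    show (V n : Set (Completion G)) ⊆ V m
    rw [hVcoe, hVcoe]
    exact closure_mono (Set.image_mono (hUanti h))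
  have hV : ∀ S ∈ nhds (0 : Completion G), ∃ k, (V k : Set (Completion G)) ⊆ S := by
    intro S hS
    obtain ⟨C, hC, hCc, hCS⟩ := exists_mem_nhds_isClosed_subset hS
    have hpre : (fun g : G => (g : Completion G)) ⁻¹' C ∈ nhds (0 : G) := by
      apply (Completion.continuous_coe G).continuousAt
      rw [Completion.coe_zero]; exact hC
    obtain ⟨k, -, hk⟩ := hUbasis.toHasBasis.mem_iff.mp hpre
    refine ⟨k, ?_⟩
    rw [hVcoe]
    exact (closure_minimal (Set.image_subset_iff.mpr hk) hCc).trans hCS
  let W : ℕ → AddSubgroup (Completion (G ⧸ N)) := fun n =>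
    (((U n : AddSubgroup G).map (QuotientAddGroup.mk' N)).map Completion.toCompl).topologicalClosure
  have hWcoe : ∀ n, (W n : Set (Completion (G ⧸ N))) =
      closure ((fun q : G ⧸ N => (q : Completion (G ⧸ N))) ''
        ((QuotientAddGroup.mk' N) '' (U n : Set G))) := fun n => rfl
  have hWnhds : ∀ n, (W n : Set (Completion (G ⧸ N))) ∈ nhds (0 : Completion (G ⧸ N)) := by
    intro n
    rw [hWcoe]
    have h1 : (QuotientAddGroup.mk' N) '' (U n : Set G) ∈ nhds (0 : G ⧸ N) := by
      have := QuotientAddGroup.isOpenMap_coe (N := N) _ (U n).isOpen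
      exact this.mem_nhds ⟨0, (U n).zero_mem, rfl⟩
    have := (Completion.isDenseInducing_coe (α := G ⧸ N)).closure_image_mem_nhds h1
    rwa [Completion.coe_zero] at this
  have hW : ∀ S ∈ nhds (0 : Completion (G ⧸ N)), ∃ k₀, ∀ k, k₀ ≤ k →
      (W k : Set (Completion (G ⧸ N))) ⊆ S := by
    intro S hS
    obtain ⟨C, hC, hCc, hCS⟩ := exists_mem_nhds_isClosed_subset hS
    have hpre : (fun g : G => ((QuotientAddGroup.mk' N g : G ⧸ N) : Completion (G ⧸ N))) ⁻¹' C
        ∈ nhds (0 : G) := by
      apply ((Completion.continuous_coe (G ⧸ N)).comp hπc).continuousAt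
      show C ∈ nhds (((QuotientAddGroup.mk' N (0 : G) : G ⧸ N)) : Completion (G ⧸ N))
      rw [map_zero, Completion.coe_zero]; exact hC
    obtain ⟨k₀, -, hk₀⟩ := hUbasis.toHasBasis.mem_iff.mp hpre
    refine ⟨k₀, fun k hk => ?_⟩
    rw [hWcoe]
    refine (closure_minimal ?_ hCc).trans hCS
    rintro _ ⟨_, ⟨g, hg, rfl⟩, rfl⟩
    exact hk₀ (hUanti hk hg)
  have hstep : ∀ k, ∀ w ∈ W k, ∃ a ∈ V k, w - Φ a ∈ W (k + 1) := by
    intro k w hw
    have hw' : w ∈ closure ((fun q : G ⧸ N => (q : Completion (G ⧸ N))) ''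
        ((QuotientAddGroup.mk' N) '' (U k : Set G))) := hw
    rw [mem_closure_iff_nhds] at hw'
    have hnb : (fun y => w - y) ⁻¹' (W (k + 1) : Set (Completion (G ⧸ N))) ∈ nhds w := by
      apply (continuous_const.sub continuous_id).continuousAt
      simpa using hWnhds (k + 1)
    obtain ⟨_, hy, ⟨_, ⟨g, hg, rfl⟩, rfl⟩⟩ := hw' _ hnb
    refine ⟨(g : Completion G), subset_closure ⟨g, hg, rfl⟩, ?_⟩
    rw [hΦcoe]; exact hy
  have hlift := H5_lift_of_approx_addGroup Φ hΦcont V W hVanti hVclosed hV hW hstep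
  have hsurj : Function.Surjective Φ := by
    intro w
    have hnb : (fun y => w - y) ⁻¹' (W 0 : Set (Completion (G ⧸ N))) ∈ nhds w := by
      apply (continuous_const.sub continuous_id).continuousAt
      simpa using hWnhds 0
    have hdr : DenseRange (fun g : G => ((QuotientAddGroup.mk' N g : G ⧸ N) : Completion (G ⧸ N))) :=
      (Completion.denseRange_coe).comp (QuotientAddGroup.mk'_surjective N).denseRange
        (Completion.continuous_coe _)
    obtain ⟨g, hg⟩ := hdr.mem_nhds hnb
    obtain ⟨a, -, ha⟩ := hlift 0 _ hg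
    have ha' : Φ a = w - ((QuotientAddGroup.mk' N g : G ⧸ N) : Completion (G ⧸ N)) := ha
    refine ⟨(g : Completion G) + a, ?_⟩
    rw [map_add, hΦcoe, ha']; abel
  have hopen : IsOpenMap Φ := by
    rw [IsTopologicalAddGroup.isOpenMap_iff_nhds_zero]
    intro S hS
    rw [Filter.mem_map] at hS
    obtain ⟨n, hn⟩ := hV _ hS
    refine Filter.mem_of_superset (hWnhds n) ?_
    intro b hb
    obtain ⟨a, ha, hab⟩ := hlift n b hb
    rw [← hab]
    exact hn ha
  exact ⟨hsurj, hopen⟩

end
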