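import Mathlib
import Groth.Agent.Lib.helper5.NormalProd

namespace H5ND

open Polynomial

theorem H5_range_of_integral {A T : Type*} [CommRing A] [CommRing T] [IsDomain T]
    (j : A →+* T) (hj : Function.Injective j) (w : A) (hw0 : j w ≠ 0)
    (hred : ∀ (a : A) (d : ℕ), w ∣ a ^ d → w ∣ a)
    (t : T) (P : Polynomial A) (hP : P.Monic) (hroot : (P.map j).eval t = 0) :
    ∀ (N : ℕ) (a : A), (j w) ^ N * t = j a → ∃ b, t = j b := by
  intro N
  induction N with
  | zero =>
    intro a h
    exact ⟨a, by simpa using h⟩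
  | succ N ih =>
    intro a h
    have hlc : j P.leadingCoeff ≠ 0 := by
      rw [hP.leadingCoeff, map_one]; exact one_ne_zero
    have hQ : (P.scaleRoots (w ^ (N + 1))).eval a = 0 := by
      apply hj
      rw [map_zero, ← Polynomial.eval_map_apply, Polynomial.map_scaleRoots _ _ _ hlc, ← h, map_pow,
        Polynomial.scaleRoots_eval_mul, hroot, mul_zero]
    have hdeg : (P.scaleRoots (w ^ (N + 1))).natDegree = P.natDegree :=
      Polynomial.natDegree_scaleRoots _ _
    rw [Polynomial.eval_eq_sum_range, hdeg, Finset.sum_range_succ] at hQ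
    have hlast : (P.scaleRoots (w ^ (N + 1))).coeff P.natDegree * a ^ P.natDegree
        = a ^ P.natDegree := by
      rw [Polynomial.coeff_scaleRoots, Nat.sub_self, pow_zero, mul_one, hP.coeff_natDegree,
        _root_.one_mul]
    rw [hlast] at hQ
    have hS : w ∣ ∑ i ∈ Finset.range P.natDegree,
        (P.scaleRoots (w ^ (N + 1))).coeff i * a ^ i := by
      apply Finset.dvd_sum
      intro i hi
      rw [Finset.mem_range] at hi
      rw [Polynomial.coeff_scaleRoots]
      have h1 : w ∣ (w ^ (N + 1)) ^ (P.natDegree - i) :=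
        dvd_pow (dvd_pow_self w (Nat.succ_ne_zero N)) (by omega)
      exact Dvd.dvd.mul_right (Dvd.dvd.mul_left h1 _) _
    have hpow : w ∣ a ^ P.natDegree := by
      have h5 : a ^ P.natDegree = -(∑ i ∈ Finset.range P.natDegree,
          (P.scaleRoots (w ^ (N + 1))).coeff i * a ^ i) :=
        eq_neg_of_add_eq_zero_right hQ
      rw [h5]
      exact (dvd_neg).2 hS
    obtain ⟨a', rfl⟩ := hred a _ hpow
    apply ih a'
    rw [pow_succ, map_mul, mul_comm ((j w) ^ N) (j w), mul_assoc] at h
    exact mul_left_cancel₀ hw0 h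

theorem H5_isIntegrallyClosed_descent {A T : Type*} [CommRing A] [IsDomain A] [CommRing T]
    [IsDomain T] [IsIntegrallyClosed T]
    (j : A →+* T) (hj : Function.Injective j) (w : A) (hw0 : j w ≠ 0)
    (hred : ∀ (a : A) (d : ℕ), w ∣ a ^ d → w ∣ a)
    (hloc : ∀ t : T, ∃ (N : ℕ) (a : A), (j w) ^ N * t = j a) :
    IsIntegrallyClosed A := by
  apply H5NP.H5_isIntegrallyClosed_of_scaleRoots
  intro u v p hv hp h
  have hjv : j v ≠ 0 := fun h0 => hv (hj (by rw [h0, map_zero]))
  have hlc : j p.leadingCoeff ≠ 0 := by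
    rw [hp.leadingCoeff, map_one]; exact one_ne_zero
  have h1 : ((p.map j).scaleRoots (j v)).eval (j u) = 0 := by
    rw [← Polynomial.map_scaleRoots _ _ _ hlc, Polynomial.eval_map_apply, h, map_zero]
  obtain ⟨t, ht⟩ := H5NP.H5_dvd_of_scaleRoots (j u) (j v) (p.map j) hjv (hp.map j) h1
  have h2 : (p.map j).eval t = 0 := by
    rw [ht, Polynomial.scaleRoots_eval_mul] at h1
    exact (mul_eq_zero.1 h1).resolve_left (pow_ne_zero _ hjv)
  obtain ⟨N, a, hNa⟩ := hloc t
  obtain ⟨b, rfl⟩ := H5_range_of_integral j hj w hw0 hred t p hp h2 N a hNa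
  refine ⟨b, hj ?_⟩
  rw [ht, map_mul]

end H5ND
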