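import Mathlib
import Groth.Agent.Lib.helper5.NormalProd

universe u

namespace H5NP

open Polynomial

theorem H5_S11135 {ι : Type u} [Fintype ι] (D : ι → Type u)
    [∀ i, CommRing (D i)] [∀ i, IsDomain (D i)] [∀ i, IsIntegrallyClosed (D i)]
    (R : Type u) [CommRing R] (F : Set ((Π i, D i) →+* R))
    (hF : ∀ f ∈ F, ∀ s ∈ nonZeroDivisors (Π i, D i), f s ∈ nonZeroDivisors R)
    (A : Subring (Π i, D i)) (hA : ∀ a, a ∈ A ↔ ∀ f ∈ F, ∀ f' ∈ F, f a = f' a) :
    ∃ (κ : Type u) (_ : Fintype κ) (E : κ → Type u) (_ : ∀ j, CommRing (E j))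
      (_ : ∀ j, IsDomain (E j)) (_ : ∀ j, IsIntegrallyClosed (E j)),
      Nonempty (A ≃+* Π j, E j) := by
  classical
  let e : Finset ι → (Π i, D i) := fun S i => if i ∈ S then 1 else 0
  have hnzd : ∀ s : (Π i, D i), (∀ i, s i ≠ 0) → s ∈ nonZeroDivisors (Π i, D i) := by
    intro s hs
    rw [mem_nonZeroDivisors_iff_right]
    intro x hx
    funext i
    have h1 : x i * s i = 0 := congrFun hx i
    exact (mul_eq_zero.1 h1).resolve_right (hs i)
  have hcancel : ∀ x b : (Π i, D i), b ∈ A → b ∈ nonZeroDivisors (Π i, D i) →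
      x * b ∈ A → x ∈ A := by
    intro x b hb hbn hc
    rw [hA]
    intro f hf f' hf'
    have h1 : f (x * b) = f' (x * b) := (hA _).1 hc f hf f' hf'
    have h2 : f b = f' b := (hA _).1 hb f hf f' hf'
    rw [map_mul, map_mul, ← h2] at h1
    have h3 : (f x - f' x) * f b = 0 := by rw [sub_mul, h1, sub_self]
    have h4 := (mul_right_mem_nonZeroDivisors_eq_zero_iff (hF f hf b hbn)).1 h3
    exact sub_eq_zero.1 h4
  let supp : (Π i, D i) → Finset ι := fun a => Finset.univ.filter (fun i => a i ≠ 0)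
  have hsupp : ∀ a i, i ∈ supp a ↔ a i ≠ 0 := by
    intro a i
    simp [supp]
  have hL1 : ∀ a ∈ A, e (supp a) ∈ A := by
    intro a ha
    rw [hA]
    intro f hf f' hf'
    set s : (Π i, D i) := a + (1 - e (supp a)) with hs
    have hsi : ∀ i, s i = a i + (1 - (if i ∈ supp a then (1 : D i) else 0)) := fun i => rfl
    have hs_nz : ∀ i, s i ≠ 0 := by
      intro i
      by_cases hi : a i = 0
      · have hmem : i ∉ supp a := by rw [hsupp]; exact not_not.2 hi
        rw [hsi, if_neg hmem, hi, zero_add, sub_zero]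
        exact one_ne_zero
      · have hmem : i ∈ supp a := (hsupp a i).2 hi
        rw [hsi, if_pos hmem, sub_self, add_zero]
        exact hi
    have hsn := hnzd s hs_nz
    have hse : a = s * e (supp a) := by
      funext i
      show a i = s i * (if i ∈ supp a then (1 : D i) else 0)
      by_cases hi : a i = 0
      · have hmem : i ∉ supp a := by rw [hsupp]; exact not_not.2 hi
        rw [if_neg hmem, mul_zero]
        exact hi
      · have hmem : i ∈ supp a := (hsupp a i).2 hi
        rw [hsi, if_pos hmem, mul_one, sub_self, add_zero]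
    have hee : e (supp a) * e (supp a) = e (supp a) := by
      funext i
      show (if i ∈ supp a then (1 : D i) else 0) * (if i ∈ supp a then (1 : D i) else 0) =
        (if i ∈ supp a then (1 : D i) else 0)
      by_cases hi : i ∈ supp a
      · rw [if_pos hi, mul_one]
      · rw [if_neg hi, mul_zero]
    have hfa : f a = f' a := (hA a).1 ha f hf f' hf'
    have huu : f (e (supp a)) * f (e (supp a)) = f (e (supp a)) := by rw [← map_mul, hee]
    have huu' : f' (e (supp a)) * f' (e (supp a)) = f' (e (supp a)) := by rw [← map_mul, hee]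
    have hn : f s * f (e (supp a)) = f' s * f' (e (supp a)) := by
      rw [← map_mul, ← map_mul, ← hse]
      exact hfa
    generalize f (e (supp a)) = u at huu hn ⊢
    generalize f' (e (supp a)) = u' at huu' hn ⊢
    have h1 : u * (1 - u') = 0 := by
      have h0 : (u * (1 - u')) * f s = 0 := by
        calc (u * (1 - u')) * f s = (f s * u) * (1 - u') := by ring
          _ = (f' s * u') * (1 - u') := by rw [hn]
          _ = f' s * (u' - u' * u') := by ring
          _ = 0 := by rw [huu', sub_self, mul_zero]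
      exact (mul_right_mem_nonZeroDivisors_eq_zero_iff (hF f hf s hsn)).1 h0
    have h2 : u' * (1 - u) = 0 := by
      have h0 : (u' * (1 - u)) * f' s = 0 := by
        calc (u' * (1 - u)) * f' s = (f' s * u') * (1 - u) := by ring
          _ = (f s * u) * (1 - u) := by rw [hn]
          _ = f s * (u - u * u) := by ring
          _ = 0 := by rw [huu, sub_self, mul_zero]
      exact (mul_right_mem_nonZeroDivisors_eq_zero_iff (hF f' hf' s hsn)).1 h0
    have h3 : u = u * u' := by
      rw [mul_sub, mul_one, sub_eq_zero] at h1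
      exact h1
    have h4 : u' = u' * u := by
      rw [mul_sub, mul_one, sub_eq_zero] at h2
      exact h2
    calc u = u * u' := h3
      _ = u' * u := mul_comm _ _
      _ = u' := h4.symm
  let 𝓑 : Set (Finset ι) := {S | e S ∈ A}
  have hB_univ : Finset.univ ∈ 𝓑 := by
    show e Finset.univ ∈ A
    have h1 : e Finset.univ = 1 := by
      funext i
      show (if i ∈ Finset.univ then (1 : D i) else 0) = 1
      rw [if_pos (Finset.mem_univ i)]
    rw [h1]
    exact A.one_mem
  have hB_inter : ∀ S T, S ∈ 𝓑 → T ∈ 𝓑 → S ∩ T ∈ 𝓑 := by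
    intro S T hS hT
    show e (S ∩ T) ∈ A
    have h1 : e (S ∩ T) = e S * e T := by
      funext i
      show (if i ∈ S ∩ T then (1 : D i) else 0) =
        (if i ∈ S then (1 : D i) else 0) * (if i ∈ T then (1 : D i) else 0)
      by_cases h1 : i ∈ S <;> by_cases h2 : i ∈ T <;> simp [h1, h2]
    rw [h1]
    exact A.mul_mem hS hT
  have hB_sdiff : ∀ S T, S ∈ 𝓑 → T ∈ 𝓑 → S \ T ∈ 𝓑 := by
    intro S T hS hT
    show e (S \ T) ∈ A
    have h1 : e (S \ T) = e S * (1 - e T) := by
      funext i
      show (if i ∈ S \ T then (1 : D i) else 0) =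
        (if i ∈ S then (1 : D i) else 0) * (1 - (if i ∈ T then (1 : D i) else 0))
      by_cases h1 : i ∈ S <;> by_cases h2 : i ∈ T <;> simp [h1, h2]
    rw [h1]
    exact A.mul_mem hS (A.sub_mem A.one_mem hT)
  let cl : ι → Finset ι := fun i => Finset.univ.filter (fun j => ∀ S ∈ 𝓑, i ∈ S → j ∈ S)
  have hcl_mem : ∀ i j, j ∈ cl i ↔ ∀ S ∈ 𝓑, i ∈ S → j ∈ S := by
    intro i j
    simp [cl]
  have hC0 : ∀ i, i ∈ cl i := fun i => (hcl_mem i i).2 fun S _ h => h
  have hC2 : ∀ S ∈ 𝓑, ∀ j ∈ S, cl j ⊆ S := fun S hS j hj k hk => (hcl_mem j k).1 hk S hS hj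
  have hC1 : ∀ i, cl i ∈ 𝓑 := by
    intro i
    have hne : ((Finset.univ : Finset (Finset ι)).filter (fun S => S ∈ 𝓑 ∧ i ∈ S)).Nonempty :=
      ⟨Finset.univ, Finset.mem_filter.2 ⟨Finset.mem_univ _, hB_univ, Finset.mem_univ i⟩⟩
    obtain ⟨S₀, hS₀, hmin⟩ := Finset.exists_min_image _ Finset.card hne
    rw [Finset.mem_filter] at hS₀
    obtain ⟨-, hS₀B, hiS₀⟩ := hS₀
    have h0 : cl i = S₀ := by
      apply Finset.Subset.antisymm (hC2 S₀ hS₀B i hiS₀)
      intro j hj
      rw [hcl_mem]
      intro S hS hiS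
      have h1 : S₀ ∩ S ∈ 𝓑 := hB_inter _ _ hS₀B hS
      have h2 : i ∈ S₀ ∩ S := Finset.mem_inter.2 ⟨hiS₀, hiS⟩
      have h3 := hmin (S₀ ∩ S) (Finset.mem_filter.2 ⟨Finset.mem_univ _, h1, h2⟩)
      have h4 : S₀ ∩ S = S₀ := Finset.eq_of_subset_of_card_le Finset.inter_subset_left h3
      have h5 : j ∈ S₀ ∩ S := by rw [h4]; exact hj
      exact (Finset.mem_inter.1 h5).2
    rw [h0]
    exact hS₀B
  have hC3 : ∀ i j, j ∈ cl i → cl j = cl i := by
    intro i j hj
    apply Finset.Subset.antisymm (hC2 _ (hC1 i) j hj)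
    have hi : i ∈ cl j := by
      by_contra hi
      have h1 : cl i \ cl j ∈ 𝓑 := hB_sdiff _ _ (hC1 i) (hC1 j)
      have h2 : i ∈ cl i \ cl j := Finset.mem_sdiff.2 ⟨hC0 i, hi⟩
      have h3 := hC2 _ h1 i h2 hj
      exact (Finset.mem_sdiff.1 h3).2 (hC0 j)
    exact hC2 _ (hC1 j) i hi
  have hC4 : ∀ i S, S ∈ 𝓑 → S ⊆ cl i → ∀ k ∈ S, S = cl i := by
    intro i S hS hsub k hk
    apply Finset.Subset.antisymm hsub
    rw [← hC3 i k (hsub hk)]
    exact hC2 S hS k hk
  have hKey : ∀ a ∈ A, ∀ i, a i = 0 → ∀ j ∈ cl i, a j = 0 := by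
    intro a ha i hai j hj
    by_contra hne
    have ha' : a * e (cl i) ∈ A := A.mul_mem ha (hC1 i)
    have hS : supp (a * e (cl i)) ∈ 𝓑 := hL1 _ ha'
    have hsub : supp (a * e (cl i)) ⊆ cl i := by
      intro k hk
      rw [hsupp] at hk
      by_contra hk'
      apply hk
      show a k * (if k ∈ cl i then (1 : D k) else 0) = 0
      rw [if_neg hk', mul_zero]
    have hjmem : j ∈ supp (a * e (cl i)) := by
      rw [hsupp]
      show a j * (if j ∈ cl i then (1 : D j) else 0) ≠ 0
      rw [if_pos hj, mul_one]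
      exact hne
    have heq := hC4 i _ hS hsub j hjmem
    have himem : i ∈ supp (a * e (cl i)) := by rw [heq]; exact hC0 i
    rw [hsupp] at himem
    apply himem
    show a i * (if i ∈ cl i then (1 : D i) else 0) = 0
    rw [hai, zero_mul]
  let κ : Type u := {T : Finset ι // T ∈ Finset.univ.image cl}
  have hrep : ∀ T : κ, ∃ i, cl i = T.1 := by
    intro T
    obtain ⟨i, -, hi⟩ := Finset.mem_image.1 T.2
    exact ⟨i, hi⟩
  choose rep hrep' using hrep
  let mkκ : ι → κ := fun i => ⟨cl i, Finset.mem_image_of_mem cl (Finset.mem_univ i)⟩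
  have hrepmem : ∀ T : κ, rep T ∈ T.1 := by
    intro T
    have h1 := hC0 (rep T)
    rw [hrep' T] at h1
    exact h1
  have hclT : ∀ T : κ, T.1 ∈ 𝓑 := by
    intro T
    have h1 := hC1 (rep T)
    rw [hrep' T] at h1
    exact h1
  let ψ : ∀ i, A →+* D i := fun i => (Pi.evalRingHom D i).comp A.subtype
  let Φ : A →+* Π T : κ, ↥(ψ (rep T)).range :=
    RingHom.pi (fun T => (ψ (rep T)).rangeRestrict)
  have hΦinj : Function.Injective Φ := by
    rw [injective_iff_map_eq_zero]
    intro a ha
    apply Subtype.ext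
    funext j
    show a.1 j = 0
    have h1 : a.1 (rep (mkκ j)) = 0 := congrArg Subtype.val (congrFun ha (mkκ j))
    have h2 : j ∈ cl (rep (mkκ j)) := by
      rw [hrep' (mkκ j)]
      exact hC0 j
    exact hKey a.1 a.2 _ h1 j h2
  have hΦsurj : Function.Surjective Φ := by
    intro y
    have hy : ∀ T : κ, ∃ a : A, ψ (rep T) a = (y T).1 := fun T => RingHom.mem_range.1 (y T).2
    choose b hb using hy
    let εT : κ → A := fun T => ⟨e T.1, hclT T⟩
    refine ⟨∑ T, b T * εT T, ?_⟩
    funext T'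
    apply Subtype.ext
    show ψ (rep T') (∑ T, b T * εT T) = (y T').1
    rw [map_sum, ← hb T', Finset.sum_eq_single T']
    · rw [map_mul]
      have h1 : ψ (rep T') (εT T') = 1 := by
        show (if rep T' ∈ T'.1 then (1 : D (rep T')) else 0) = 1
        rw [if_pos (hrepmem T')]
      rw [h1, mul_one]
    · intro T _ hne
      rw [map_mul]
      have h1 : ψ (rep T') (εT T) = 0 := by
        show (if rep T' ∈ T.1 then (1 : D (rep T')) else 0) = 0
        rw [if_neg]
        intro hmem
        apply hne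
        apply Subtype.ext
        rw [← hrep' T] at hmem
        have h2 := hC3 _ _ hmem
        rw [hrep' T, hrep' T'] at h2
        exact h2.symm
      rw [h1, mul_zero]
    · intro h
      exact absurd (Finset.mem_univ _) h
  have hev : ∀ {X : Type u} [CommRing X] (g : A →+* X) (p : Polynomial A) (r : A),
      g (p.eval r) = (p.map g).eval (g r) := by
    intro X _ g p r
    rw [Polynomial.eval_map, Polynomial.eval₂_at_apply]
  have hnormal : ∀ T : κ, IsIntegrallyClosed ↥(ψ (rep T)).range := by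
    intro T
    apply H5_isIntegrallyClosed_of_scaleRoots
    intro u v p hv hp hroot
    obtain ⟨ub, rfl⟩ := RingHom.rangeRestrict_surjective (ψ (rep T)) u
    obtain ⟨vb, rfl⟩ := RingHom.rangeRestrict_surjective (ψ (rep T)) v
    obtain ⟨q, hqp, -, hq⟩ := Polynomial.lifts_and_natDegree_eq_and_monic
      ((Polynomial.mem_lifts p).2 (Polynomial.map_surjective _
        (RingHom.rangeRestrict_surjective (ψ (rep T))) p)) hp
    have hρw : (ψ (rep T)).rangeRestrict ((Polynomial.scaleRoots q vb).eval ub) = 0 := by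
      rw [hev, Polynomial.map_scaleRoots q vb ((ψ (rep T)).rangeRestrict)
        (by rw [hq.leadingCoeff, map_one]; exact one_ne_zero), hqp]
      exact hroot
    have hw0 : ((Polynomial.scaleRoots q vb).eval ub).1 (rep T) = 0 := congrArg Subtype.val hρw
    have hwT : ∀ j ∈ T.1, ((Polynomial.scaleRoots q vb).eval ub).1 j = 0 := by
      intro j hj
      rw [← hrep' T] at hj
      exact hKey _ ((Polynomial.scaleRoots q vb).eval ub).2 _ hw0 j hj
    have hvbT : ∀ j ∈ T.1, vb.1 j ≠ 0 := by
      intro j hj hzero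
      rw [← hrep' T] at hj
      have h1 : cl j = cl (rep T) := hC3 _ _ hj
      have h2 : rep T ∈ cl j := by rw [h1]; exact hC0 _
      have h3 := hKey vb.1 vb.2 j hzero _ h2
      apply hv
      apply Subtype.ext
      exact h3
    have hdiv : ∀ j ∈ T.1, ∃ xj : D j, ub.1 j = vb.1 j * xj := by
      intro j hj
      have h1 : (Polynomial.scaleRoots (q.map (ψ j)) (ψ j vb)).eval (ψ j ub) = 0 := by
        rw [← Polynomial.map_scaleRoots q vb (ψ j)
          (by rw [hq.leadingCoeff, map_one]; exact one_ne_zero), ← hev]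
        exact hwT j hj
      exact H5_dvd_of_scaleRoots (ψ j ub) (ψ j vb) (q.map (ψ j)) (hvbT j hj) (hq.map _) h1
    let xq : (Π i, D i) := fun j => if h : j ∈ T.1 then Classical.choose (hdiv j h) else 0
    have hxq : ∀ j (h : j ∈ T.1), ub.1 j = vb.1 j * xq j := by
      intro j h
      show ub.1 j = vb.1 j * (if h : j ∈ T.1 then Classical.choose (hdiv j h) else 0)
      rw [dif_pos h]
      exact Classical.choose_spec (hdiv j h)
    have hxq0 : ∀ j, j ∉ T.1 → xq j = 0 := by
      intro j h
      show (if h : j ∈ T.1 then Classical.choose (hdiv j h) else 0) = 0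
      rw [dif_neg h]
    have heT : e T.1 ∈ A := hclT T
    have hbbA : vb.1 * e T.1 + (1 - e T.1) ∈ A :=
      A.add_mem (A.mul_mem vb.2 heT) (A.sub_mem A.one_mem heT)
    have hbbn : vb.1 * e T.1 + (1 - e T.1) ∈ nonZeroDivisors (Π i, D i) := by
      apply hnzd
      intro j
      show vb.1 j * (if j ∈ T.1 then (1 : D j) else 0) +
        (1 - (if j ∈ T.1 then (1 : D j) else 0)) ≠ 0
      by_cases hj : j ∈ T.1
      · simp only [if_pos hj, mul_one, sub_self, add_zero]
        exact hvbT j hj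
      · simp only [if_neg hj, mul_zero, zero_add, sub_zero]
        exact one_ne_zero
    have hxb : xq * (vb.1 * e T.1 + (1 - e T.1)) = ub.1 * e T.1 := by
      funext j
      show xq j * (vb.1 j * (if j ∈ T.1 then (1 : D j) else 0) +
        (1 - (if j ∈ T.1 then (1 : D j) else 0))) =
        ub.1 j * (if j ∈ T.1 then (1 : D j) else 0)
      by_cases hj : j ∈ T.1
      · simp only [if_pos hj, mul_one, sub_self, add_zero]
        rw [hxq j hj, mul_comm]
      · simp only [if_neg hj, mul_zero]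
        rw [hxq0 j hj, zero_mul]
    have hxqA : xq ∈ A := hcancel xq _ hbbA hbbn (by rw [hxb]; exact A.mul_mem ub.2 heT)
    refine ⟨(ψ (rep T)).rangeRestrict ⟨xq, hxqA⟩, ?_⟩
    rw [← map_mul]
    apply Subtype.ext
    show ub.1 (rep T) = vb.1 (rep T) * xq (rep T)
    exact hxq (rep T) (hrepmem T)
  exact ⟨κ, inferInstance, fun T => ↥(ψ (rep T)).range, fun T => inferInstance,
    fun T => inferInstance, hnormal, ⟨RingEquiv.ofBijective Φ ⟨hΦinj, hΦsurj⟩⟩⟩

end H5NP
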