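import Mathlib
import Groth.Prelude.Def_PLie

universe u v w

namespace H5PL

open PLie

variable {R : Type u} [CommRing R] {p : ℕ} [CharP R p]
variable {L : Type v} [LieRing L] [LieAlgebra R L] {M : Type w} [LieRing M] [LieAlgebra R M]

theorem map_bracketWord (g : L →ₗ⁅R⁆ M) {ι : Type*} (x : ι → L) (x₁ : L) (w : List ι) :
    g (bracketWord x x₁ w) = bracketWord (fun i => g (x i)) (g x₁) w := by
  induction w with
  | nil => rfl
  | cons i w ih =>
    rw [bracketWord_cons, bracketWord_cons, LieHom.map_lie, ih]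

theorem map_pair (g : L →ₗ⁅R⁆ M) (x₀ x₁ : L) :
    (fun b => g (pair x₀ x₁ b)) = pair (g x₀) (g x₁) := by
  funext b
  cases b <;> simp [pair]

theorem map_jacobson (g : L →ₗ⁅R⁆ M) (x₀ x₁ : L) :
    g (jacobson R p x₀ x₁) = jacobson R p (g x₀) (g x₁) := by
  unfold jacobson
  rw [map_sum]
  refine Finset.sum_congr rfl fun t _ => ?_
  rw [map_smul, map_bracketWord, map_pair]

theorem bracketWord_zero {ι : Type*} (x : ι → L) (w : List ι) :
    bracketWord x (0 : L) w = 0 := by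
  induction w with
  | nil => rfl
  | cons i w ih => rw [bracketWord_cons, ih, lie_zero]

theorem jacobson_zero_right (x₀ : L) : jacobson R p x₀ (0 : L) = 0 := by
  unfold jacobson
  refine Finset.sum_eq_zero fun t _ => ?_
  rw [bracketWord_zero, smul_zero]

theorem ad_pow_map (g : L →ₗ⁅R⁆ M) (x z : L) (n : ℕ) :
    ((LieAlgebra.ad R M (g x)) ^ n) (g z) = g (((LieAlgebra.ad R L x) ^ n) z) := by
  induction n with
  | zero => simp
  | succ n ih =>
    rw [pow_succ', pow_succ', Module.End.mul_apply, Module.End.mul_apply, ih,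
      LieAlgebra.ad_apply, LieAlgebra.ad_apply, LieHom.map_lie]

theorem wd (φ : PMap R p L) (g : L →ₗ⁅R⁆ M) (hker : ∀ x : L, g x = 0 → g (φ x) = 0)
    (x x' : L) (h : g x = g x') : g (φ x) = g (φ x') := by
  have hk : g (x - x') = 0 := by rw [map_sub, h, sub_self]
  have h1 : x' + (x - x') = x := by abel
  have h2 := φ.map_add x' (x - x')
  rw [h1] at h2
  have h3 : g (φ.toFun (x - x')) = 0 := hker _ hk
  show g (φ.toFun x) = g (φ.toFun x')
  rw [h2, map_sub, map_add, h3, map_jacobson, hk, jacobson_zero_right, add_zero,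
    sub_zero]

noncomputable def pm (φ : PMap R p L) (g : L →ₗ⁅R⁆ M) (hs : Function.Surjective g) : M → M :=
  fun y => g (φ.toFun (Classical.choose (hs y)))

theorem pm_apply (φ : PMap R p L) (g : L →ₗ⁅R⁆ M) (hs : Function.Surjective g)
    (hker : ∀ x : L, g x = 0 → g (φ x) = 0) (x : L) : pm φ g hs (g x) = g (φ.toFun x) :=
  wd φ g hker _ _ (Classical.choose_spec (hs (g x)))

noncomputable def pushPMap (φ : PMap R p L) (g : L →ₗ⁅R⁆ M) (hs : Function.Surjective g)
    (hker : ∀ x : L, g x = 0 → g (φ x) = 0) : PMap R p M where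
  toFun := pm φ g hs
  map_smul c y := by
    obtain ⟨x, rfl⟩ := hs y
    rw [← map_smul g c x, pm_apply φ g hs hker, pm_apply φ g hs hker, φ.map_smul, map_smul]
  ad_map y := by
    obtain ⟨x, rfl⟩ := hs y
    apply LinearMap.ext
    intro z
    obtain ⟨x', rfl⟩ := hs z
    rw [pm_apply φ g hs hker, ad_pow_map, LieAlgebra.ad_apply, ← LieHom.map_lie,
      ← LieAlgebra.ad_apply (R := R), φ.ad_map]
  map_add y₀ y₁ := by
    obtain ⟨x₀, rfl⟩ := hs y₀
    obtain ⟨x₁, rfl⟩ := hs y₁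
    rw [← map_add g x₀ x₁, pm_apply φ g hs hker, pm_apply φ g hs hker, pm_apply φ g hs hker,
      φ.map_add, map_sub, map_add, map_jacobson]

theorem pmap_ext (ψ₁ ψ₂ : PMap R p M) (h : ψ₁.toFun = ψ₂.toFun) : ψ₁ = ψ₂ := by
  rcases ψ₁ with ⟨t₁, a₁, b₁, c₁⟩
  rcases ψ₂ with ⟨t₂, a₂, b₂, c₂⟩
  have : t₁ = t₂ := h
  subst this
  rfl

theorem exists_unique_push (φ : PMap R p L) (g : L →ₗ⁅R⁆ M) (hs : Function.Surjective g)
    (hker : ∀ x : L, g x = 0 → g (φ x) = 0) : ∃! ψ : PMap R p M, IsPHom φ ψ g := by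
  refine ⟨pushPMap φ g hs hker, fun x => (pm_apply φ g hs hker x).symm, ?_⟩
  intro ψ hψ
  apply pmap_ext
  funext y
  obtain ⟨x, rfl⟩ := hs y
  exact (hψ x).symm.trans (pm_apply φ g hs hker x).symm

end H5PL
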