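import Mathlib

/-! helper5: precompleteness for sums of ideals. -/

set_option autoImplicit false

theorem H5_isPrecomplete_sup {R M : Type*} [CommRing R] [AddCommGroup M] [Module R M]
    (I J : Ideal R) (hI : IsPrecomplete I M) (hJ : IsPrecomplete J M) :
    IsPrecomplete (I ⊔ J) M := by
  refine ⟨fun x hx => ?_⟩
  have hxd : ∀ {m n}, m ≤ n → x n - x m ∈ ((I ⊔ J) ^ m • ⊤ : Submodule R M) := fun h => by
    have := hx h
    rw [SModEq.sub_mem] at this
    rw [← neg_sub]; exact Submodule.neg_mem _ this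
  have hle : ∀ n, ((I ⊔ J) ^ (2 * n) • ⊤ : Submodule R M) ≤ I ^ n • ⊤ ⊔ J ^ n • ⊤ := by
    intro n
    have h1 : (I ⊔ J) ^ (n + n) ≤ I ^ n ⊔ J ^ n := Ideal.sup_pow_add_le_pow_sup_pow
    rw [two_mul]
    calc ((I ⊔ J) ^ (n + n) • ⊤ : Submodule R M) ≤ (I ^ n ⊔ J ^ n) • ⊤ :=
          Submodule.smul_mono_left h1
      _ = I ^ n • ⊤ ⊔ J ^ n • ⊤ := Submodule.sup_smul _ _ _
  have hdec : ∀ n, ∃ u ∈ (I ^ n • ⊤ : Submodule R M), ∃ v ∈ (J ^ n • ⊤ : Submodule R M),
      x (2 * (n + 1)) - x (2 * n) = u + v := by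
    intro n
    have := hle n (hxd (by omega : 2 * n ≤ 2 * (n + 1)))
    obtain ⟨u, hu, v, hv, huv⟩ := Submodule.mem_sup.mp this
    exact ⟨u, hu, v, hv, huv.symm⟩
  choose u hu v hv huv using hdec
  let U : ℕ → M := fun n => ∑ k ∈ Finset.range n, u k
  let V : ℕ → M := fun n => ∑ k ∈ Finset.range n, v k
  have hUc : ∀ {m n}, m ≤ n → U m ≡ U n [SMOD (I ^ m • ⊤ : Submodule R M)] := by
    intro m n hmn
    rw [SModEq.sub_mem]
    have : U n - U m = ∑ k ∈ Finset.Ico m n, u k := by
      simp only [U]; rw [Finset.sum_Ico_eq_sub _ hmn]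
    rw [← neg_sub, this]
    refine Submodule.neg_mem _ (Submodule.sum_mem _ fun k hk => ?_)
    have hk' := (Finset.mem_Ico.mp hk).1
    exact Submodule.smul_mono_left (Ideal.pow_le_pow_right hk') (hu k)
  have hVc : ∀ {m n}, m ≤ n → V m ≡ V n [SMOD (J ^ m • ⊤ : Submodule R M)] := by
    intro m n hmn
    rw [SModEq.sub_mem]
    have : V n - V m = ∑ k ∈ Finset.Ico m n, v k := by
      simp only [V]; rw [Finset.sum_Ico_eq_sub _ hmn]
    rw [← neg_sub, this]
    refine Submodule.neg_mem _ (Submodule.sum_mem _ fun k hk => ?_)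
    have hk' := (Finset.mem_Ico.mp hk).1
    exact Submodule.smul_mono_left (Ideal.pow_le_pow_right hk') (hv k)
  obtain ⟨LU, hLU⟩ := hI.prec' U hUc
  obtain ⟨LV, hLV⟩ := hJ.prec' V hVc
  have hx2n : ∀ n, x (2 * n) = x 0 + U n + V n := by
    intro n
    induction n with
    | zero => simp [U, V]
    | succ n ih =>
      have h1 : x (2 * (n + 1)) = x (2 * n) + (u n + v n) := by
        rw [← huv n]; abel
      have hU : U (n + 1) = U n + u n := Finset.sum_range_succ _ _
      have hV : V (n + 1) = V n + v n := Finset.sum_range_succ _ _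
      rw [h1, ih, hU, hV]; abel
  refine ⟨x 0 + LU + LV, fun n => ?_⟩
  rw [SModEq.sub_mem]
  have h1 : x n - (x 0 + LU + LV) = (x n - x (2 * n)) + ((U n - LU) + (V n - LV)) := by
    rw [hx2n n]; abel
  rw [h1]
  refine Submodule.add_mem _ ?_ (Submodule.add_mem _ ?_ ?_)
  · rw [← neg_sub]; exact Submodule.neg_mem _ (hxd (by omega))
  · exact Submodule.smul_mono_left (Ideal.pow_right_mono le_sup_left n)
      ((SModEq.sub_mem).mp (hLU n))
  · exact Submodule.smul_mono_left (Ideal.pow_right_mono le_sup_right n)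
      ((SModEq.sub_mem).mp (hLV n))

theorem H5_isPrecomplete_span_finset {R M : Type*} [CommRing R] [AddCommGroup M] [Module R M]
    (s : Finset R) (h : ∀ a ∈ s, IsPrecomplete (Ideal.span {a}) M) :
    IsPrecomplete (Ideal.span (s : Set R)) M := by
  classical
  induction s using Finset.induction_on with
  | empty =>
    rw [Finset.coe_empty, Ideal.span_empty]
    exact IsPrecomplete.bot (R := R) (M := M)
  | insert a s _ ih =>
    rw [Finset.coe_insert, Ideal.span_insert]
    exact H5_isPrecomplete_sup _ _ (h a (Finset.mem_insert_self a s))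
      (ih fun b hb => h b (Finset.mem_insert_of_mem hb))
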