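import Mathlib

universe u
open CategoryTheory CategoryTheory.Limits AlgebraicGeometry HomogeneousLocalization

namespace H5PC2

theorem surj_appLE_congr {X Y : Scheme.{u}} (f : X ⟶ Y) {U U' : Y.Opens} {V V' : X.Opens}
    (hU : U = U') (hV : V = V') (e : V ≤ f ⁻¹ᵁ U) (e' : V' ≤ f ⁻¹ᵁ U')
    (h : Function.Surjective (f.appLE U V e)) : Function.Surjective (f.appLE U' V' e') := by
  subst hU hV; exact h

variable {A σ : Type u} [CommRing A] [SetLike σ A] [AddSubgroupClass σ A] (𝒜 : ℕ → σ)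
    [GradedRing 𝒜]
    {B τ : Type u} [CommRing B] [SetLike τ B] [AddSubgroupClass τ B] (ℬ : ℕ → τ) [GradedRing ℬ]

theorem away_map_surj (φ : 𝒜 →+*ᵍ ℬ) (hsurj : Function.Surjective φ) {i : ℕ} (s : A)
    (hs : s ∈ 𝒜 i) : Function.Surjective (Away.map φ s) := by
  intro z
  obtain ⟨n, b, hb, rfl⟩ := Away.mk_surjective ℬ (φ.2 hs) z
  obtain ⟨a', ha'⟩ := hsurj b
  have ha : (DirectSum.decompose 𝒜 a' (n • i) : A) ∈ 𝒜 (n • i) := SetLike.coe_mem _
  have hφa : φ (DirectSum.decompose 𝒜 a' (n • i) : A) = b := by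
    rw [GradedRingHom.map_directSumDecompose 𝒜 ℬ φ, ha', DirectSum.decompose_of_mem_same ℬ hb]
  refine ⟨Away.mk 𝒜 hs n _ ha, ?_⟩
  rw [Away.map_mk]
  apply HomogeneousLocalization.val_injective
  rw [Away.val_mk, Away.val_mk, hφa]
  rfl

theorem main (φ : 𝒜 →+*ᵍ ℬ) (hsurj : Function.Surjective φ)
    (hφ : HomogeneousIdeal.irrelevant ℬ ≤ (HomogeneousIdeal.irrelevant 𝒜).map φ) :
    IsClosedImmersion (Proj.map φ hφ) := by
  classical
  have hcov : ⨆ p : {p : ℕ × A // 0 < p.1 ∧ p.2 ∈ 𝒜 p.1}, Proj.basicOpen 𝒜 p.1.2 = ⊤ := by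
    apply Proj.iSup_basicOpen_eq_top 𝒜 (fun p : {p : ℕ × A // 0 < p.1 ∧ p.2 ∈ 𝒜 p.1} => p.1.2)
    rw [HomogeneousIdeal.irrelevant_eq_span]
    apply Ideal.span_mono
    intro s hs
    simp only [Set.mem_iUnion] at hs
    obtain ⟨i, hi, hsi⟩ := hs
    exact ⟨⟨(i, s), hi, hsi⟩, rfl⟩
  refine (HasAffineProperty.iff_of_iSup_eq_top (P := @IsClosedImmersion)
    (fun p : {p : ℕ × A // 0 < p.1 ∧ p.2 ∈ 𝒜 p.1} =>
      (⟨Proj.basicOpen 𝒜 p.1.2, Proj.isAffineOpen_basicOpen 𝒜 p.1.2 p.2.2 p.2.1⟩ :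
        (Proj 𝒜).affineOpens)) hcov).mpr ?_
  rintro ⟨⟨i, s⟩, hi, hs⟩
  have hi' : 0 < i := hi
  have hs' : s ∈ 𝒜 i := hs
  refine ⟨?_, ?_⟩
  · exact Proj.isAffineOpen_basicOpen ℬ (φ s) (φ.2 hs') hi'
  · show Function.Surjective ((Proj.map φ hφ ∣_ Proj.basicOpen 𝒜 s).app ⊤)
    rw [morphismRestrict_app']
    refine surj_appLE_congr (Proj.map φ hφ) (U := Proj.basicOpen 𝒜 s)
      (V := Proj.basicOpen ℬ (φ s))
      (Scheme.Opens.ι_image_top _).symm ?_ (by rfl) _ ?_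
    · rw [Scheme.Hom.preimage_top, Scheme.Opens.ι_image_top]
      rfl
    · intro y
      obtain ⟨z, hz⟩ := (Proj.basicOpenIsoAway ℬ (φ s) (φ.2 hs')
        hi').commRingCatIsoToRingEquiv.surjective y
      have hz' : (Proj.awayToSection ℬ (φ s)) z = y := hz
      obtain ⟨w, hw⟩ := away_map_surj 𝒜 ℬ φ hsurj s hs' z
      refine ⟨Proj.awayToSection 𝒜 s w, ?_⟩
      have h := Proj.awayToSection_comp_appLE φ hφ hs'
      have h2 := ConcreteCategory.congr_hom h w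
      rw [CommRingCat.comp_apply, CommRingCat.comp_apply] at h2
      rw [h2]
      show (Proj.awayToSection ℬ (φ s)) (Away.map φ s w) = y
      rw [hw, hz']

end H5PC2
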