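import Mathlib

namespace H5PI
open TensorProduct

universe u

theorem tmul_eq_zero_iff {A : Type u} [CommRing A] {M : Type u} [AddCommGroup M] [Module A M]
    (s : M →ₗ[A] M →₀ A) (hs : Finsupp.linearCombination A id ∘ₗ s = LinearMap.id)
    (B : Type u) [CommRing B] [Algebra A B] (x : M) :
    (1 : B) ⊗ₜ[A] x = 0 ↔ ∀ m : M, algebraMap A B (s x m) = 0 := by
  classical
  constructor
  · intro h m
    have h1 : (TensorProduct.finsuppScalarRight A A B M)
        ((LinearMap.lTensor B s) ((1 : B) ⊗ₜ[A] x)) m = 0 := by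
      rw [h, map_zero, map_zero, Finsupp.zero_apply]
    rw [LinearMap.lTensor_tmul, TensorProduct.finsuppScalarRight_apply_tmul_apply] at h1
    rw [Algebra.algebraMap_eq_smul_one]
    exact h1
  · intro h
    have h1 : (LinearMap.lTensor B s) ((1 : B) ⊗ₜ[A] x) = 0 := by
      apply (TensorProduct.finsuppScalarRight A A B M).injective
      rw [map_zero]
      ext m
      rw [LinearMap.lTensor_tmul, TensorProduct.finsuppScalarRight_apply_tmul_apply,
        Finsupp.zero_apply, ← Algebra.algebraMap_eq_smul_one]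
      exact h m
    have h2 : (LinearMap.lTensor B (Finsupp.linearCombination A id))
        ((LinearMap.lTensor B s) ((1 : B) ⊗ₜ[A] x)) = (1 : B) ⊗ₜ[A] x := by
      rw [← LinearMap.lTensor_comp_apply, hs, LinearMap.lTensor_id, LinearMap.id_apply]
    rw [← h2, h1, map_zero]

theorem main {A : Type u} [CommRing A] {M N : Type u} [AddCommGroup M] [Module A M]
    [Module.Projective A M] [AddCommGroup N] [Module A N] (u : M →ₗ[A] N)
    (hu : Function.Surjective u) :
    ∃ I : Ideal A, ∀ (B : Type u) [CommRing B] [Algebra A B],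
      Function.Bijective (u.baseChange B) ↔ I.map (algebraMap A B) = ⊥ := by
  obtain ⟨s, hs⟩ := Module.projective_def'.mp (inferInstance : Module.Projective A M)
  refine ⟨Ideal.span {a | ∃ x ∈ LinearMap.ker u, ∃ m : M, a = s x m}, ?_⟩
  intro B _ _
  have hexact := lTensor_exact B (LinearMap.exact_subtype_ker_map u) hu
  have hsurj : Function.Surjective (u.lTensor B) := LinearMap.lTensor_surjective B hu
  rw [LinearMap.baseChange_eq_ltensor, Ideal.map_span, Ideal.span_eq_bot]
  constructor
  · rintro ⟨hinj, -⟩ b ⟨a, ⟨x, hx, m, rfl⟩, rfl⟩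
    have h0 : (1 : B) ⊗ₜ[A] x = 0 := by
      apply hinj
      rw [map_zero, LinearMap.lTensor_tmul, LinearMap.mem_ker.mp hx, TensorProduct.tmul_zero]
    exact (tmul_eq_zero_iff s hs B x).mp h0 m
  · intro h
    refine ⟨?_, hsurj⟩
    rw [← LinearMap.ker_eq_bot, LinearMap.exact_iff.mp hexact, LinearMap.range_eq_bot]
    apply TensorProduct.ext'
    intro b x
    rw [LinearMap.lTensor_tmul, LinearMap.zero_apply, Submodule.subtype_apply]
    have h0 : (1 : B) ⊗ₜ[A] (x : M) = 0 := by
      apply (tmul_eq_zero_iff s hs B (x : M)).mpr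
      intro m
      exact h _ ⟨s x m, ⟨x, x.2, m, rfl⟩, rfl⟩
    have h3 : b ⊗ₜ[A] (x : M) = b • ((1 : B) ⊗ₜ[A] (x : M)) := by
      rw [TensorProduct.smul_tmul', smul_eq_mul, mul_one]
    rw [h3, h0, smul_zero]

end H5PI
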