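import Mathlib

namespace H5PR

theorem loc_reduced {A : Type*} [CommRing A] (I p : Ideal A) [p.IsPrime]
    (hred : ∀ f ∈ I, IsNilpotent f → f = 0) (f : A) (hfI : f ∈ I) (hfp : f ∉ p)
    (w : Localization p.primeCompl) (hw : IsNilpotent w) : w = 0 := by
  obtain ⟨k, hk⟩ := hw
  obtain ⟨a, s, rfl⟩ := IsLocalization.exists_mk'_eq p.primeCompl w
  rw [← IsLocalization.mk'_pow, IsLocalization.mk'_eq_zero_iff] at hk
  obtain ⟨c, hc⟩ := hk
  rw [IsLocalization.mk'_eq_zero_iff]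
  have hcf : (c : A) * f ∈ p.primeCompl :=
    p.primeCompl.mul_mem c.2 (show f ∈ p.primeCompl from hfp)
  refine ⟨⟨(c : A) * f, hcf⟩, ?_⟩
  show (c : A) * f * a = 0
  apply hred
  · exact I.mul_mem_right _ (I.mul_mem_left _ hfI)
  · refine ⟨k + 1, ?_⟩
    calc ((c : A) * f * a) ^ (k + 1)
        = (c : A) ^ k * f ^ (k + 1) * a * ((c : A) * a ^ k) := by ring
      _ = 0 := by rw [hc, mul_zero]

theorem atPrime_reduced {A σ : Type*} [CommRing A] [SetLike σ A] [AddSubgroupClass σ A]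
    (𝒜 : ℕ → σ) [GradedRing 𝒜] (I p : Ideal A) [p.IsPrime]
    (hred : ∀ f ∈ I, IsNilpotent f → f = 0) (f : A) (hfI : f ∈ I) (hfp : f ∉ p) :
    IsReduced (HomogeneousLocalization.AtPrime 𝒜 p) := by
  constructor
  intro z hz
  apply HomogeneousLocalization.val_injective
  rw [HomogeneousLocalization.val_zero]
  apply loc_reduced I p hred f hfI hfp
  obtain ⟨k, hk⟩ := hz
  refine ⟨k, ?_⟩
  rw [← HomogeneousLocalization.val_pow, hk, HomogeneousLocalization.val_zero]

end H5PR
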