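import Mathlib
import Groth.Agent.Lib.helper5.ProjReduced

universe u
open AlgebraicGeometry CategoryTheory

namespace H5PR

theorem proj_reduced {A σ : Type u} [CommRing A] [SetLike σ A] [AddSubgroupClass σ A]
    (𝒜 : ℕ → σ) [GradedRing 𝒜]
    (hred : ∀ f ∈ (HomogeneousIdeal.irrelevant 𝒜).toIdeal, IsNilpotent f → f = 0) :
    AlgebraicGeometry.IsReduced (Proj 𝒜) := by
  haveI : ∀ x : (Proj 𝒜), _root_.IsReduced ((Proj 𝒜).presheaf.stalk x) := by
    intro x
    obtain ⟨f, hfI, hfp⟩ := SetLike.not_le_iff_exists.mp x.not_irrelevant_le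
    haveI : _root_.IsReduced
        ↑(CommRingCat.of (HomogeneousLocalization.AtPrime 𝒜 x.asHomogeneousIdeal.toIdeal)) :=
      H5PR.atPrime_reduced 𝒜 (HomogeneousIdeal.irrelevant 𝒜).toIdeal
        x.asHomogeneousIdeal.toIdeal hred f hfI hfp
    exact isReduced_of_injective (Proj.stalkIso 𝒜 x).commRingCatIsoToRingEquiv
      (RingEquiv.injective _)
  exact AlgebraicGeometry.isReduced_of_isReduced_stalk (Proj 𝒜)

end H5PR
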