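import Mathlib
import Groth.Agent.Lib.helper5.ProjReduced2

universe u
open AlgebraicGeometry CategoryTheory

namespace H5PI

theorem proj_integral {A σ : Type u} [CommRing A] [SetLike σ A] [AddSubgroupClass σ A]
    (𝒜 : ℕ → σ) [GradedRing 𝒜] [IsDomain A]
    (hne : (HomogeneousIdeal.irrelevant 𝒜).toIdeal ≠ ⊥) :
    AlgebraicGeometry.IsIntegral (Proj 𝒜) := by
  classical
  have hred : ∀ f ∈ (HomogeneousIdeal.irrelevant 𝒜).toIdeal, IsNilpotent f → f = 0 :=
    fun f _ hn => hn.eq_zero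
  have key : ∀ c : A, c ∈ (HomogeneousIdeal.irrelevant 𝒜).toIdeal → c ≠ 0 →
      ∃ y : ProjectiveSpectrum 𝒜, c ∉ y.asHomogeneousIdeal := by
    intro c hc hc0
    have hnn : ¬ IsNilpotent c := fun h => hc0 (hred c hc h)
    rw [nilpotent_iff_mem_prime] at hnn
    push Not at hnn
    obtain ⟨q, hq, hqn⟩ := hnn
    have hcore_le : (q.homogeneousCore 𝒜).toIdeal ≤ q := Ideal.toIdeal_homogeneousCore_le 𝒜 q
    have hy3 : ¬ HomogeneousIdeal.irrelevant 𝒜 ≤ q.homogeneousCore 𝒜 := by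
      intro hle
      exact hqn (hcore_le (hle hc))
    exact ⟨⟨q.homogeneousCore 𝒜, hq.homogeneousCore, hy3⟩, fun h => hqn (hcore_le h)⟩
  have key2 : ∀ (x : ProjectiveSpectrum 𝒜) (a : A), a ∉ x.asHomogeneousIdeal →
      ∃ s : A, s ∈ (HomogeneousIdeal.irrelevant 𝒜).toIdeal ∧
        a * s ∉ x.asHomogeneousIdeal.toIdeal := by
    intro x a hax
    obtain ⟨s, hs, hsx⟩ := SetLike.not_le_iff_exists.mp x.not_irrelevant_le
    refine ⟨s, hs, ?_⟩
    intro h
    rcases x.isPrime.mem_or_mem h with h | h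
    · exact hax h
    · exact hsx h
  have key3 : ∀ (a b : A) (x y : ProjectiveSpectrum 𝒜), a ∉ x.asHomogeneousIdeal →
      b ∉ y.asHomogeneousIdeal →
      ∃ z : ProjectiveSpectrum 𝒜, a ∉ z.asHomogeneousIdeal ∧ b ∉ z.asHomogeneousIdeal := by
    intro a b x y hax hby
    obtain ⟨s, hs, hasx⟩ := key2 x a hax
    obtain ⟨t, ht, hbty⟩ := key2 y b hby
    have h1 : a * s ∈ (HomogeneousIdeal.irrelevant 𝒜).toIdeal := Ideal.mul_mem_left _ _ hs
    have h1' : a * s ≠ 0 := fun h => hasx (by rw [h]; exact Ideal.zero_mem _)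
    have h2' : b * t ≠ 0 := fun h => hbty (by rw [h]; exact Ideal.zero_mem _)
    have h3 : (a * s) * (b * t) ≠ 0 := mul_ne_zero h1' h2'
    obtain ⟨z, hz⟩ := key _ (Ideal.mul_mem_right _ _ h1) h3
    refine ⟨z, fun h => hz ?_, fun h => hz ?_⟩
    · have e : a * s * (b * t) = a * (s * (b * t)) := by ring
      rw [e]
      show a * (s * (b * t)) ∈ z.asHomogeneousIdeal.toIdeal
      exact Ideal.mul_mem_right _ _ h
    · have e : a * s * (b * t) = b * (a * s * t) := by ring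
      rw [e]
      show b * (a * s * t) ∈ z.asHomogeneousIdeal.toIdeal
      exact Ideal.mul_mem_right _ _ h
  rw [isIntegral_iff_irreducibleSpace_and_isReduced]
  obtain ⟨f, hf, hf0⟩ := (Submodule.ne_bot_iff _).mp hne
  refine ⟨?_, H5PR.proj_reduced 𝒜 hred⟩
  obtain ⟨x0, -⟩ := key f hf hf0
  have hpre : IsPreirreducible (Set.univ : Set (ProjectiveSpectrum 𝒜)) := by
    rintro u v hu hv ⟨x, -, hxu⟩ ⟨y, -, hyv⟩
    have hb := ProjectiveSpectrum.isTopologicalBasis_basic_opens 𝒜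
    obtain ⟨_, ⟨a, rfl⟩, hxa, hau⟩ := hb.exists_subset_of_mem_open hxu hu
    obtain ⟨_, ⟨b, rfl⟩, hyb, hbv⟩ := hb.exists_subset_of_mem_open hyv hv
    obtain ⟨z, hza, hzb⟩ := key3 a b x y hxa hyb
    exact ⟨z, trivial, hau hza, hbv hzb⟩
  exact @IrreducibleSpace.mk _ _ ⟨hpre⟩ ⟨x0⟩

end H5PI
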