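import Mathlib

universe u
open CategoryTheory CategoryTheory.Limits AlgebraicGeometry HomogeneousLocalization

namespace H5PB2

theorem loc_mk_eq_zero_iff {A : Type*} [CommRing A] (S : Submonoid A) (x : A) (y : S) :
    Localization.mk x y = 0 ↔ ∃ c : S, (c : A) * x = 0 := by
  rw [← Localization.mk_zero (1 : S), Localization.mk_eq_mk_iff, Localization.r_iff_exists]
  simp only [OneMemClass.coe_one, one_mul, mul_zero]

theorem isIso_appLE_congr {X Y : Scheme.{u}} (f : X ⟶ Y) {U U' : Y.Opens} {V V' : X.Opens}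
    (hU : U = U') (hV : V = V') (e : V ≤ f ⁻¹ᵁ U) (e' : V' ≤ f ⁻¹ᵁ U')
    (h : IsIso (f.appLE U V e)) : IsIso (f.appLE U' V' e') := by
  subst hU hV; exact h

variable {A σ : Type u} [CommRing A] [SetLike σ A] [AddSubgroupClass σ A] (𝒜 : ℕ → σ)
    [GradedRing 𝒜]
    {B τ : Type u} [CommRing B] [SetLike τ B] [AddSubgroupClass τ B] (ℬ : ℕ → τ) [GradedRing ℬ]

theorem away_map_bij (φ : ℬ →+*ᵍ 𝒜) (hbij : ∀ n : ℕ, 0 < n → Set.BijOn φ (ℬ n) (𝒜 n))
    {d : ℕ} (hd : 0 < d) (s : B) (hs : s ∈ ℬ d) : Function.Bijective (Away.map φ s) := by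
  constructor
  · rw [injective_iff_map_eq_zero]
    intro w hw
    obtain ⟨n, b, hb, rfl⟩ := Away.mk_surjective ℬ hs w
    rw [Away.map_mk] at hw
    have hw' := congrArg HomogeneousLocalization.val hw
    rw [Away.val_mk, HomogeneousLocalization.val_zero, loc_mk_eq_zero_iff] at hw'
    obtain ⟨⟨c, hcmem⟩, hc⟩ := hw'
    obtain ⟨k, rfl⟩ := (Submonoid.mem_powers_iff _ _).mp hcmem
    change φ s ^ k * φ b = 0 at hc
    have hdeg : s ^ (k + 1) * b ∈ ℬ ((k + 1) • d + n • d) :=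
      SetLike.mul_mem_graded (SetLike.pow_mem_graded (k + 1) hs) hb
    have hpos : 0 < (k + 1) • d + n • d := by
      have : 0 < (k + 1) • d := by rw [smul_eq_mul]; exact Nat.mul_pos (Nat.succ_pos k) hd
      omega
    have hφ0 : φ (s ^ (k + 1) * b) = φ 0 := by
      rw [map_mul, map_pow, pow_succ', mul_assoc, hc, mul_zero, map_zero]
    have hzero : s ^ (k + 1) * b = 0 :=
      (hbij _ hpos).injOn hdeg (zero_mem (ℬ ((k + 1) • d + n • d))) hφ0
    apply HomogeneousLocalization.val_injective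
    rw [Away.val_mk, HomogeneousLocalization.val_zero, loc_mk_eq_zero_iff]
    exact ⟨⟨s ^ (k + 1), k + 1, rfl⟩, hzero⟩
  · intro w
    obtain ⟨n, a, ha, rfl⟩ := Away.mk_surjective 𝒜 (φ.2 hs) w
    have hdeg : a * φ s ∈ 𝒜 ((n + 1) • d) := by
      rw [succ_nsmul]
      exact SetLike.mul_mem_graded ha (φ.2 hs)
    have hpos : 0 < (n + 1) • d := by
      rw [smul_eq_mul]; exact Nat.mul_pos (Nat.succ_pos n) hd
    obtain ⟨b, hb, hφb⟩ := (hbij _ hpos).surjOn hdeg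
    refine ⟨Away.mk ℬ hs (n + 1) b hb, ?_⟩
    rw [Away.map_mk]
    apply HomogeneousLocalization.val_injective
    rw [Away.val_mk, Away.val_mk, Localization.mk_eq_mk_iff, Localization.r_iff_exists]
    refine ⟨1, ?_⟩
    simp only [OneMemClass.coe_one, one_mul]
    rw [hφb]
    have e : ∀ t : A, t ^ n * (a * t) = t ^ (n + 1) * a := fun t => by ring
    exact e (φ s)

theorem main (φ : ℬ →+*ᵍ 𝒜) (hbij : ∀ n : ℕ, 0 < n → Set.BijOn φ (ℬ n) (𝒜 n))
    (hφ : HomogeneousIdeal.irrelevant 𝒜 ≤ (HomogeneousIdeal.irrelevant ℬ).map φ) :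
    IsIso (Proj.map φ hφ) := by
  classical
  have hcov : ⨆ p : {p : ℕ × B // 0 < p.1 ∧ p.2 ∈ ℬ p.1}, Proj.basicOpen ℬ p.1.2 = ⊤ := by
    apply Proj.iSup_basicOpen_eq_top ℬ (fun p : {p : ℕ × B // 0 < p.1 ∧ p.2 ∈ ℬ p.1} => p.1.2)
    rw [HomogeneousIdeal.irrelevant_eq_span]
    apply Ideal.span_mono
    intro s hs
    simp only [Set.mem_iUnion] at hs
    obtain ⟨i, hi, hsi⟩ := hs
    exact ⟨⟨(i, s), hi, hsi⟩, rfl⟩
  show MorphismProperty.isomorphisms Scheme (Proj.map φ hφ)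
  refine HasAffineProperty.of_iSup_eq_top (P := MorphismProperty.isomorphisms Scheme)
    (fun p : {p : ℕ × B // 0 < p.1 ∧ p.2 ∈ ℬ p.1} =>
      (⟨Proj.basicOpen ℬ p.1.2, Proj.isAffineOpen_basicOpen ℬ p.1.2 p.2.2 p.2.1⟩ :
        (Proj ℬ).affineOpens)) hcov ?_
  rintro ⟨⟨i, s⟩, hi, hs⟩
  have hi' : 0 < i := hi
  have hs' : s ∈ ℬ i := hs
  refine ⟨?_, ?_⟩
  · exact Proj.isAffineOpen_basicOpen 𝒜 (φ s) (φ.2 hs') hi'
  · show IsIso ((Proj.map φ hφ ∣_ Proj.basicOpen ℬ s).app ⊤)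
    rw [morphismRestrict_app']
    refine isIso_appLE_congr (Proj.map φ hφ) (U := Proj.basicOpen ℬ s)
      (V := Proj.basicOpen 𝒜 (φ s))
      (Scheme.Opens.ι_image_top _).symm ?_ (by rfl) _ ?_
    · rw [Scheme.Hom.preimage_top, Scheme.Opens.ι_image_top]
      rfl
    · have h := Proj.awayToSection_comp_appLE φ hφ hs'
      haveI h1 : IsIso (Proj.awayToSection ℬ s) := by
        rw [← Proj.basicOpenIsoAway_hom ℬ s hs' hi']; infer_instance
      haveI h2 : IsIso (Proj.awayToSection 𝒜 (φ s)) := by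
        rw [← Proj.basicOpenIsoAway_hom 𝒜 (φ s) (φ.2 hs') hi']; infer_instance
      haveI h3 : IsIso (CommRingCat.ofHom (Away.map φ s : Away ℬ s →+* Away 𝒜 (φ s))) :=
        (ConcreteCategory.isIso_iff_bijective _).mpr (away_map_bij 𝒜 ℬ φ hbij hi' s hs')
      have h4 : Scheme.Hom.appLE (Proj.map φ hφ) (Proj.basicOpen ℬ s)
          (Proj.basicOpen 𝒜 (φ s)) (by rfl) =
          inv (Proj.awayToSection ℬ s) ≫
            (CommRingCat.ofHom (Away.map φ s : Away ℬ s →+* Away 𝒜 (φ s)) ≫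
              Proj.awayToSection 𝒜 (φ s)) := by
        rw [← h, IsIso.inv_hom_id_assoc]
      rw [h4]
      infer_instance

end H5PB2
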