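import Mathlib

universe u
open CategoryTheory CategoryTheory.Limits AlgebraicGeometry HomogeneousLocalization

namespace H5PZ

variable {A σ : Type u} [CommRing A] [SetLike σ A] [AddSubgroupClass σ A] (𝒜 : ℕ → σ)
    [GradedRing 𝒜]
    {B τ : Type u} [CommRing B] [SetLike τ B] [AddSubgroupClass τ B] (ℬ : ℕ → τ) [GradedRing ℬ]

set_option backward.isDefEq.respectTransparency false in
theorem map_toSpecZero (ψ : 𝒜 →+*ᵍ ℬ)
    (hψ : HomogeneousIdeal.irrelevant ℬ ≤ (HomogeneousIdeal.irrelevant 𝒜).map ψ)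
    (ψ0 : 𝒜 0 →+* ℬ 0) (hψ0 : ∀ a : 𝒜 0, ((ψ0 a : ℬ 0) : B) = ψ (a : A)) :
    Proj.map ψ hψ ≫ Proj.toSpecZero 𝒜 =
      Proj.toSpecZero ℬ ≫ Spec.map (CommRingCat.ofHom ψ0) := by
  refine (Proj.mapAffineOpenCover ψ hψ).openCover.hom_ext _ _ fun s => ?_
  simp only [Scheme.AffineOpenCover.openCover_f, Proj.mapAffineOpenCover_f]
  rw [Proj.awayι_comp_map_assoc ψ hψ s.1.2 _ s.2.2, Proj.awayι_toSpecZero,
    Proj.awayι_toSpecZero_assoc, ← Spec.map_comp, ← Spec.map_comp]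
  congr 1
  ext a
  show Localization.mk (ψ (a : A)) ⟨ψ 1, _⟩ = Localization.mk ((ψ0 a : ℬ 0) : B) ⟨1, _⟩
  rw [Localization.mk_eq_mk_iff, Localization.r_iff_exists]
  exact ⟨1, by simp [hψ0]⟩

end H5PZ
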