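import Mathlib

universe u

namespace H5VQ

open HomogeneousLocalization

theorem mk_congr {M : Type u} [CommRing M] {P : Submonoid M} (a a' : M) (s s' : P) (h1 : a = a')
    (h2 : (s : M) = s') : Localization.mk a s = Localization.mk a' s' := by
  rw [h1, Subtype.ext h2]

theorem mk_cancel {M : Type u} [CommRing M] (z : M) (c : M) (m j n : ℕ) (h : m + j = n)
    (h1 : z ^ m ∈ Submonoid.powers z) (h2 : z ^ n ∈ Submonoid.powers z) :
    Localization.mk c (⟨z ^ m, h1⟩ : Submonoid.powers z) = Localization.mk (c * z ^ j) ⟨z ^ n, h2⟩ := by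
  subst h
  rw [Localization.mk_eq_mk_iff, Localization.r_iff_exists]
  refine ⟨1, ?_⟩
  show ((1 : Submonoid.powers z) : M) * (z ^ (m + j) * c) =
    ((1 : Submonoid.powers z) : M) * (z ^ m * (c * z ^ j))
  rw [pow_add]; ring

section

variable {R S T : Type u} [CommRing R] [CommRing S] [Algebra R S] [CommRing T] [Algebra R T]
  (𝒮 : ℕ → Submodule R S) [GradedAlgebra 𝒮] (𝒯 : ℕ → Submodule R T) [GradedAlgebra 𝒯]
  (φ : S →+* T) {d : ℕ} {t : T} (ht : t ∈ 𝒯 d)
  (hmem : ∀ (n : ℕ) (x : S), x ∈ 𝒮 n → φ x ∈ 𝒯 (n • d))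

/-- degree-`n` piece: `x ↦ φ x / t ^ n`. -/
noncomputable def gn (n : ℕ) : 𝒮 n →+ Away 𝒯 t where
  toFun x := Away.mk 𝒯 ht n (φ x) (hmem n x x.2)
  map_zero' := by
    apply HomogeneousLocalization.val_injective
    rw [Away.val_mk, HomogeneousLocalization.val_zero]
    simp [Localization.mk_zero]
  map_add' x y := by
    apply HomogeneousLocalization.val_injective
    rw [HomogeneousLocalization.val_add, Away.val_mk, Away.val_mk, Away.val_mk,
      Localization.add_mk_self]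
    simp [map_add]

theorem gn_val (n : ℕ) (x : 𝒮 n) :
    (gn 𝒮 𝒯 φ ht hmem n x).val =
      Localization.mk (φ x) ⟨t ^ n, pow_mem (Submonoid.mem_powers t) n⟩ := rfl

noncomputable def G0 : (DirectSum ℕ fun n => 𝒮 n) →+* Away 𝒯 t :=
  DirectSum.toSemiring (gn 𝒮 𝒯 φ ht hmem)
    (by
      apply HomogeneousLocalization.val_injective
      rw [gn_val, HomogeneousLocalization.val_one, ← Localization.mk_one]
      apply mk_congr
      · rw [SetLike.coe_gOne, map_one]
      · simp)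
    (fun {i j} ai aj => by
      apply HomogeneousLocalization.val_injective
      rw [HomogeneousLocalization.val_mul]
      simp only [gn_val]
      rw [Localization.mk_mul]
      apply mk_congr
      · rw [SetLike.coe_gMul, map_mul]
      · simp [pow_add])

noncomputable def G : S →+* Away 𝒯 t :=
  (G0 𝒮 𝒯 φ ht hmem).comp (DirectSum.decomposeRingEquiv 𝒮).toRingHom

theorem G_of_mem (n : ℕ) (x : S) (hx : x ∈ 𝒮 n) :
    G 𝒮 𝒯 φ ht hmem x = gn 𝒮 𝒯 φ ht hmem n ⟨x, hx⟩ := by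
  show G0 𝒮 𝒯 φ ht hmem (DirectSum.decompose 𝒮 x) = _
  rw [DirectSum.decompose_of_mem 𝒮 hx, G0, DirectSum.toSemiring_of]

theorem G_val (n : ℕ) (x : S) (hx : x ∈ 𝒮 n) :
    (G 𝒮 𝒯 φ ht hmem x).val =
      Localization.mk (φ x) ⟨t ^ n, pow_mem (Submonoid.mem_powers t) n⟩ := by
  rw [G_of_mem 𝒮 𝒯 φ ht hmem n x hx]; rfl

end

theorem veronese {R A : Type u} [CommRing R] [CommRing A] [Algebra R A] (𝒜 : ℕ → Submodule R A)
    [GradedAlgebra 𝒜]
    {B : Type u} [CommRing B] [Algebra R B] (ℬ : ℕ → Submodule R B) [GradedAlgebra ℬ]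
    (d : ℕ) (hd : 0 < d) (φ : B →ₐ[R] A) (hφ : Function.Injective φ)
    (hdeg : ∀ n : ℕ, Submodule.map φ.toLinearMap (ℬ n) = 𝒜 (n * d)) (f' : B) (hf' : f' ∈ ℬ 1) :
    ∃ e : HomogeneousLocalization.Away 𝒜 (φ f') ≃+* B ⧸ Ideal.span {f' - 1},
      ∀ (n : ℕ) (x : B), x ∈ ℬ n →
        (e.symm (Ideal.Quotient.mk (Ideal.span {f' - 1}) x)).val =
          Localization.mk (φ x) ⟨φ f' ^ n, pow_mem (Submonoid.mem_powers (φ f')) n⟩ := by
  classical
  have hf : φ f' ∈ 𝒜 d := by
    have h1 : φ.toLinearMap f' ∈ Submodule.map φ.toLinearMap (ℬ 1) :=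
      Submodule.mem_map_of_mem hf'
    rw [hdeg 1, one_mul] at h1
    exact h1
  have hmem : ∀ (n : ℕ) (x : B), x ∈ ℬ n → (φ : B →+* A) x ∈ 𝒜 (n • d) := by
    intro n x hx
    have h1 : φ.toLinearMap x ∈ Submodule.map φ.toLinearMap (ℬ n) :=
      Submodule.mem_map_of_mem hx
    rw [hdeg n] at h1
    rw [smul_eq_mul]
    exact h1
  obtain ⟨g0, hg0⟩ : ∃ g0 : B →+* HomogeneousLocalization.Away 𝒜 (φ f'),
      ∀ (n : ℕ) (x : B), x ∈ ℬ n →
      (g0 x).val = Localization.mk (φ x) ⟨φ f' ^ n, pow_mem (Submonoid.mem_powers (φ f')) n⟩ :=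
    ⟨G ℬ 𝒜 (φ : B →+* A) hf hmem, fun n x hx => G_val ℬ 𝒜 (φ : B →+* A) hf hmem n x hx⟩
  have hq1 : Ideal.Quotient.mk (Ideal.span {f' - 1}) f' = 1 := by
    rw [← map_one (Ideal.Quotient.mk (Ideal.span {f' - 1}))]
    exact Ideal.Quotient.eq.mpr (Ideal.mem_span_singleton_self _)
  have hg0f : g0 f' = 1 := by
    apply HomogeneousLocalization.val_injective
    rw [hg0 1 f' hf', HomogeneousLocalization.val_one]
    have h := Localization.mk_self (⟨φ f', Submonoid.mem_powers _⟩ : Submonoid.powers (φ f'))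
    refine (mk_congr _ _ _ _ rfl ?_).trans h
    simp
  have hker : ∀ a ∈ Ideal.span {f' - 1}, g0 a = 0 := by
    intro a ha
    obtain ⟨c, rfl⟩ := Ideal.mem_span_singleton'.mp ha
    rw [map_mul, map_sub, hg0f, map_one, sub_self, mul_zero]
  obtain ⟨g, hg⟩ : ∃ g : B ⧸ Ideal.span {f' - 1} →+* HomogeneousLocalization.Away 𝒜 (φ f'),
      ∀ x, g (Ideal.Quotient.mk (Ideal.span {f' - 1}) x) = g0 x :=
    ⟨Ideal.Quotient.lift (Ideal.span {f' - 1}) g0 hker, fun x => Ideal.Quotient.lift_mk _ _ _⟩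
  have hhom : ∀ x : B, ∃ (N : ℕ) (y : B), y ∈ ℬ N ∧
      Ideal.Quotient.mk (Ideal.span {f' - 1}) y = Ideal.Quotient.mk (Ideal.span {f' - 1}) x :=
    DirectSum.Decomposition.inductionOn ℬ
      (motive := fun x => ∃ (N : ℕ) (y : B), y ∈ ℬ N ∧
        Ideal.Quotient.mk (Ideal.span {f' - 1}) y = Ideal.Quotient.mk (Ideal.span {f' - 1}) x)
      ⟨0, 0, zero_mem _, rfl⟩
      (fun {i} m => ⟨i, m, m.2, rfl⟩)
      (fun x1 x2 h1 h2 => by
        obtain ⟨N1, y1, hy1, e1⟩ := h1
        obtain ⟨N2, y2, hy2, e2⟩ := h2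
        refine ⟨N1 + N2, y1 * f' ^ N2 + y2 * f' ^ N1, add_mem ?_ ?_, ?_⟩
        · have := SetLike.mul_mem_graded hy1 (SetLike.pow_mem_graded N2 hf')
          rwa [smul_eq_mul, mul_one] at this
        · have := SetLike.mul_mem_graded hy2 (SetLike.pow_mem_graded N1 hf')
          rwa [smul_eq_mul, mul_one, add_comm N2 N1] at this
        · rw [map_add, map_add, map_mul, map_mul, map_pow, map_pow, hq1, one_pow, one_pow,
            mul_one, mul_one, e1, e2])
  have hinj : Function.Injective g := by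
    rw [injective_iff_map_eq_zero]
    intro q hq
    obtain ⟨x, rfl⟩ := Ideal.Quotient.mk_surjective q
    obtain ⟨N, y, hy, hyx⟩ := hhom x
    rw [← hyx] at hq ⊢
    rw [hg] at hq
    have h1 := congrArg HomogeneousLocalization.val hq
    rw [hg0 N y hy, HomogeneousLocalization.val_zero, Localization.mk_eq_mk',
      IsLocalization.mk'_eq_zero_iff] at h1
    obtain ⟨⟨_, k, rfl⟩, hk⟩ := h1
    have h2 : f' ^ k * y = 0 := by
      apply hφ
      rw [map_mul, map_pow, map_zero]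
      exact hk
    have h3 : Ideal.Quotient.mk (Ideal.span {f' - 1}) (f' ^ k * y) =
        Ideal.Quotient.mk (Ideal.span {f' - 1}) y := by
      rw [map_mul, map_pow, hq1, one_pow, one_mul]
    rw [← h3, h2, map_zero]
  have hsurj : Function.Surjective g := by
    intro x
    obtain ⟨n, a, ha, rfl⟩ := HomogeneousLocalization.Away.mk_surjective 𝒜 hf x
    have ha' : a ∈ Submodule.map φ.toLinearMap (ℬ n) := by
      rw [hdeg n]; rwa [smul_eq_mul] at ha
    obtain ⟨b, hb, rfl⟩ := Submodule.mem_map.mp ha'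
    refine ⟨Ideal.Quotient.mk _ b, ?_⟩
    rw [hg]
    apply HomogeneousLocalization.val_injective
    rw [hg0 n b hb]
    rfl
  refine ⟨(RingEquiv.ofBijective g ⟨hinj, hsurj⟩).symm, ?_⟩
  intro n x hx
  rw [RingEquiv.symm_symm]
  show (g (Ideal.Quotient.mk _ x)).val = _
  rw [hg, hg0 n x hx]

theorem pcone {R A : Type u} [CommRing R] [CommRing A] [Algebra R A] (𝒜 : ℕ → Submodule R A)
    [GradedAlgebra 𝒜]
    {B : Type u} [CommRing B] [Algebra R B] (ℬ : ℕ → Submodule R B) [GradedAlgebra ℬ]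
    [Algebra A B] [IsScalarTower R A B] (φ : 𝒜 →+*ᵍ ℬ) (hφ : ∀ a : A, φ a = algebraMap A B a)
    (z : B) (hz : z ∈ ℬ 1) (hhat : Function.Bijective (Polynomial.aeval (R := A) z)) :
    ∃ θ : A ≃+* HomogeneousLocalization.Away ℬ z,
      ∀ (n : ℕ) (a : A), a ∈ 𝒜 n →
        (θ a).val = Localization.mk (φ a) ⟨z ^ n, pow_mem (Submonoid.mem_powers z) n⟩ := by
  classical
  have hmem : ∀ (n : ℕ) (x : A), x ∈ 𝒜 n → (algebraMap A B) x ∈ ℬ (n • 1) := by
    intro n x hx
    rw [smul_eq_mul, mul_one, ← hφ]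
    exact φ.map_mem hx
  obtain ⟨θ0, hθ0⟩ : ∃ θ0 : A →+* HomogeneousLocalization.Away ℬ z, ∀ (n : ℕ) (a : A), a ∈ 𝒜 n →
      (θ0 a).val =
        Localization.mk (algebraMap A B a) ⟨z ^ n, pow_mem (Submonoid.mem_powers z) n⟩ :=
    ⟨G 𝒜 ℬ (algebraMap A B) hz hmem, fun n x hx => G_val 𝒜 ℬ (algebraMap A B) hz hmem n x hx⟩
  obtain ⟨σ, hσz, hσC⟩ : ∃ σ : B →+* A, σ z = 1 ∧ ∀ a : A, σ (algebraMap A B a) = a := by
    let E : Polynomial A ≃+* B := RingEquiv.ofBijective (Polynomial.aeval (R := A) z) hhat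
    have hEX : E Polynomial.X = z := Polynomial.aeval_X z
    have hEC : ∀ a : A, E (Polynomial.C a) = algebraMap A B a := fun a => Polynomial.aeval_C z a
    have h1 : E.symm z = Polynomial.X := (RingEquiv.symm_apply_eq E).mpr hEX.symm
    have h2 : ∀ a : A, E.symm (algebraMap A B a) = Polynomial.C a :=
      fun a => (RingEquiv.symm_apply_eq E).mpr (hEC a).symm
    refine ⟨(Polynomial.evalRingHom (1 : A)).comp E.symm.toRingHom, ?_, ?_⟩
    · show Polynomial.eval 1 (E.symm z) = 1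
      rw [h1, Polynomial.eval_X]
    · intro a
      show Polynomial.eval 1 (E.symm (algebraMap A B a)) = a
      rw [h2, Polynomial.eval_C]
  have hσzu : IsUnit (σ z) := by rw [hσz]; exact isUnit_one
  obtain ⟨ψ, hψ0⟩ : ∃ ψ : Localization.Away z →+* A,
      ∀ b : B, ψ (algebraMap B (Localization.Away z) b) = σ b :=
    ⟨IsLocalization.Away.lift z hσzu, fun b => IsLocalization.Away.lift_eq z hσzu b⟩
  have hψ : ∀ (b : B) (n : ℕ) (h : z ^ n ∈ Submonoid.powers z),
      ψ (Localization.mk b ⟨z ^ n, h⟩) = σ b := by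
    intro b n h
    have h1 := IsLocalization.mk'_spec (Localization.Away z) b ⟨z ^ n, h⟩
    have h2 := congrArg ψ h1
    rw [map_mul, hψ0, hψ0] at h2
    rw [Localization.mk_eq_mk']
    simpa [hσz] using h2
  have hret : ∀ a : A, ψ (θ0 a).val = a :=
    DirectSum.Decomposition.inductionOn 𝒜 (motive := fun a => ψ (θ0 a).val = a)
      (by rw [map_zero, HomogeneousLocalization.val_zero, map_zero])
      (fun {i} m => by rw [hθ0 i m m.2, hψ, hσC])
      (fun a1 a2 h1 h2 => by rw [map_add, HomogeneousLocalization.val_add, map_add, h1, h2])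
  have hinj : Function.Injective θ0 := by
    intro a1 a2 h
    calc a1 = ψ (θ0 a1).val := (hret a1).symm
      _ = ψ (θ0 a2).val := by rw [h]
      _ = a2 := hret a2
  have hP : ∀ (p : Polynomial A) (n : ℕ), ∃ a : A, (θ0 a).val =
      Localization.mk ((DirectSum.decompose ℬ (Polynomial.aeval z p) n : ℬ n) : B)
        ⟨z ^ n, pow_mem (Submonoid.mem_powers z) n⟩ := by
    intro p
    induction p using Polynomial.induction_on' with
    | add p q hp hq =>
      intro n
      obtain ⟨a1, h1⟩ := hp n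
      obtain ⟨a2, h2⟩ := hq n
      refine ⟨a1 + a2, ?_⟩
      have e1 : θ0 (a1 + a2) = θ0 a1 + θ0 a2 := map_add _ _ _
      have e2 : Polynomial.aeval z (p + q) = Polynomial.aeval z p + Polynomial.aeval z q :=
        map_add _ _ _
      rw [e1, e2, HomogeneousLocalization.val_add, h1, h2, Localization.add_mk_self,
        DirectSum.decompose_add, DirectSum.add_apply, Submodule.coe_add]
    | monomial j a' =>
      intro n
      rw [Polynomial.aeval_monomial]
      have hzj : z ^ j ∈ ℬ j := by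
        have := SetLike.pow_mem_graded j hz
        rwa [smul_eq_mul, mul_one] at this
      rw [DirectSum.coe_decompose_mul_of_right_mem ℬ n hzj]
      split_ifs with hjn
      · refine ⟨(DirectSum.decompose 𝒜 a' (n - j) : A), ?_⟩
        rw [hθ0 (n - j) _ (SetLike.coe_mem _)]
        have e3 := GradedRingHom.map_directSumDecompose 𝒜 ℬ φ (x := a') (i := n - j)
        rw [hφ, hφ] at e3
        rw [← e3]
        exact mk_cancel z _ (n - j) j n (Nat.sub_add_cancel hjn) _ _
      · exact ⟨0, by rw [map_zero, HomogeneousLocalization.val_zero, Localization.mk_zero]⟩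
  have hsurj : Function.Surjective θ0 := by
    intro x
    obtain ⟨n, b, hb, rfl⟩ := HomogeneousLocalization.Away.mk_surjective ℬ hz x
    have hb' : b ∈ ℬ n := by rwa [smul_eq_mul, mul_one] at hb
    obtain ⟨p, rfl⟩ := hhat.2 b
    obtain ⟨a, ha⟩ := hP p n
    refine ⟨a, ?_⟩
    apply HomogeneousLocalization.val_injective
    rw [ha, DirectSum.decompose_of_mem_same ℬ hb']
    rfl
  refine ⟨RingEquiv.ofBijective θ0 ⟨hinj, hsurj⟩, ?_⟩
  intro n a ha
  show (θ0 a).val = _
  rw [hθ0 n a ha, hφ]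

end H5VQ
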