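import Mathlib
import Groth.Prelude.Def_CohB1
import Groth.Agent.Lib.helper5.VeroneseQuot

universe u

namespace H5PSC

attribute [local instance] MvPolynomial.gradedAlgebra

variable (n : ℕ) (R : Type u) [CommRing R] (i : Fin (n + 1))

abbrev Idx : Type := {j : Fin (n + 1) // j ≠ i}

noncomputable abbrev φr : MvPolynomial (Idx n i) R →ₐ[R] MvPolynomial (Fin (n + 1)) R :=
  MvPolynomial.rename (Subtype.val : Idx n i → Fin (n + 1))

noncomputable def Gm :
    MvPolynomial (Fin (n + 1)) R →ₐ[R] Polynomial (MvPolynomial (Idx n i) R) :=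
  MvPolynomial.aeval (fun j : Fin (n + 1) =>
    if h : j = i then (Polynomial.X : Polynomial (MvPolynomial (Idx n i) R))
    else Polynomial.C (MvPolynomial.X (⟨j, h⟩ : Idx n i)))

theorem Gm_X_self : Gm n R i (MvPolynomial.X i) = Polynomial.X := by
  rw [Gm, MvPolynomial.aeval_X, dif_pos rfl]

theorem Gm_X_ne (j : Fin (n + 1)) (h : j ≠ i) :
    Gm n R i (MvPolynomial.X j) = Polynomial.C (MvPolynomial.X (⟨j, h⟩ : Idx n i)) := by
  rw [Gm, MvPolynomial.aeval_X, dif_neg h]

theorem Gm_C (r : R) :
    Gm n R i (MvPolynomial.C r) = Polynomial.C (MvPolynomial.C r) := by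
  rw [Gm, MvPolynomial.aeval_C, Polynomial.algebraMap_apply, MvPolynomial.algebraMap_eq]

theorem Gm_comp_φr (a : MvPolynomial (Idx n i) R) :
    Gm n R i (φr n R i a) = Polynomial.C a := by
  induction a using MvPolynomial.induction_on with
  | C r =>
    show Gm n R i (MvPolynomial.rename Subtype.val (MvPolynomial.C r)) = _
    rw [MvPolynomial.rename_C, Gm_C]
  | add p q hp hq => rw [map_add, map_add, hp, hq, map_add]
  | mul_X p s hp =>
    have e : Gm n R i (MvPolynomial.X (s : Fin (n + 1))) = Polynomial.C (MvPolynomial.X s) :=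
      Gm_X_ne n R i s.1 s.2
    have e2 : φr n R i (MvPolynomial.X s) = MvPolynomial.X (s : Fin (n + 1)) :=
      MvPolynomial.rename_X _ _
    rw [map_mul, map_mul, hp, e2, e, map_mul]

theorem F_comp_Gm (b : MvPolynomial (Fin (n + 1)) R) :
    Polynomial.eval₂ (φr n R i).toRingHom (MvPolynomial.X i) (Gm n R i b) = b := by
  induction b using MvPolynomial.induction_on with
  | C r =>
    rw [Gm_C, Polynomial.eval₂_C]
    show MvPolynomial.rename Subtype.val (MvPolynomial.C r) = _
    rw [MvPolynomial.rename_C]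
  | add p q hp hq => rw [map_add, Polynomial.eval₂_add, hp, hq]
  | mul_X p j hp =>
    rw [map_mul, Polynomial.eval₂_mul, hp]
    congr 1
    by_cases h : j = i
    · subst h
      rw [Gm_X_self, Polynomial.eval₂_X]
    · rw [Gm_X_ne n R i j h, Polynomial.eval₂_C]
      show MvPolynomial.rename Subtype.val (MvPolynomial.X (⟨j, h⟩ : Idx n i)) = _
      rw [MvPolynomial.rename_X]

theorem Gm_comp_F (p : Polynomial (MvPolynomial (Idx n i) R)) :
    Gm n R i (Polynomial.eval₂ (φr n R i).toRingHom (MvPolynomial.X i) p) = p := by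
  have h : ((Gm n R i : MvPolynomial (Fin (n + 1)) R →+* Polynomial (MvPolynomial (Idx n i) R)).comp
      (Polynomial.eval₂RingHom (φr n R i).toRingHom (MvPolynomial.X i))) =
      RingHom.id (Polynomial (MvPolynomial (Idx n i) R)) := by
    apply Polynomial.ringHom_ext
    · intro a
      show Gm n R i (Polynomial.eval₂ (φr n R i).toRingHom (MvPolynomial.X i) (Polynomial.C a)) =
        Polynomial.C a
      rw [Polynomial.eval₂_C]
      exact Gm_comp_φr n R i a
    · show Gm n R i (Polynomial.eval₂ (φr n R i).toRingHom (MvPolynomial.X i) Polynomial.X) =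
        Polynomial.X
      rw [Polynomial.eval₂_X, Gm_X_self]
  exact congrArg (fun f => f p) h

theorem main : Function.Bijective
    (MvPolynomial.eval₂Hom
      ((HomogeneousLocalization.fromZeroRingHom (CohB1.polyGrading n R)
          (Submonoid.powers (MvPolynomial.X i))).comp
        (algebraMap R (CohB1.polyGrading n R 0)))
      (fun j : {j : Fin (n + 1) // j ≠ i} =>
        (HomogeneousLocalization.mk ⟨1, ⟨MvPolynomial.X j.1, MvPolynomial.isHomogeneous_X R j.1⟩,
          ⟨MvPolynomial.X i, MvPolynomial.isHomogeneous_X R i⟩, ⟨1, pow_one _⟩⟩ :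
          HomogeneousLocalization.Away (CohB1.polyGrading n R) (MvPolynomial.X i)))) := by
  classical
  letI : Algebra (MvPolynomial (Idx n i) R) (MvPolynomial (Fin (n + 1)) R) :=
    (φr n R i).toRingHom.toAlgebra
  haveI : IsScalarTower R (MvPolynomial (Idx n i) R) (MvPolynomial (Fin (n + 1)) R) :=
    IsScalarTower.of_algebraMap_eq (fun r => by
      show (algebraMap R (MvPolynomial (Fin (n + 1)) R)) r =
        MvPolynomial.rename Subtype.val (algebraMap R (MvPolynomial (Idx n i) R) r)
      rw [MvPolynomial.algebraMap_eq, MvPolynomial.algebraMap_eq, MvPolynomial.rename_C])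
  let φg : (MvPolynomial.homogeneousSubmodule (Idx n i) R) →+*ᵍ (CohB1.polyGrading n R) :=
    { (φr n R i).toRingHom with
      map_mem := fun {k x} hx =>
        (MvPolynomial.mem_homogeneousSubmodule _ _).mpr
          (((MvPolynomial.mem_homogeneousSubmodule _ _).mp hx).rename_isHomogeneous) }
  have hz : (MvPolynomial.X i : MvPolynomial (Fin (n + 1)) R) ∈ CohB1.polyGrading n R 1 :=
    (MvPolynomial.mem_homogeneousSubmodule _ _).mpr (MvPolynomial.isHomogeneous_X R i)
  have hhat : Function.Bijective (Polynomial.aeval (R := MvPolynomial (Idx n i) R)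
      (MvPolynomial.X i : MvPolynomial (Fin (n + 1)) R)) := by
    have hF : ∀ p, Polynomial.aeval (R := MvPolynomial (Idx n i) R)
        (MvPolynomial.X i : MvPolynomial (Fin (n + 1)) R) p =
        Polynomial.eval₂ (φr n R i).toRingHom (MvPolynomial.X i) p :=
      fun p => Polynomial.aeval_def _ _
    refine Function.bijective_iff_has_inverse.mpr ⟨Gm n R i, fun p => ?_, fun b => ?_⟩
    · rw [hF]; exact Gm_comp_F n R i p
    · rw [hF]; exact F_comp_Gm n R i b
  obtain ⟨θ, hθ⟩ := H5VQ.pcone (MvPolynomial.homogeneousSubmodule (Idx n i) R)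
    (CohB1.polyGrading n R) φg (fun a => rfl) (MvPolynomial.X i) hz hhat
  have hEq : (MvPolynomial.eval₂Hom
      ((HomogeneousLocalization.fromZeroRingHom (CohB1.polyGrading n R)
          (Submonoid.powers (MvPolynomial.X i))).comp
        (algebraMap R (CohB1.polyGrading n R 0)))
      (fun j : {j : Fin (n + 1) // j ≠ i} =>
        (HomogeneousLocalization.mk ⟨1, ⟨MvPolynomial.X j.1, MvPolynomial.isHomogeneous_X R j.1⟩,
          ⟨MvPolynomial.X i, MvPolynomial.isHomogeneous_X R i⟩, ⟨1, pow_one _⟩⟩ :
          HomogeneousLocalization.Away (CohB1.polyGrading n R) (MvPolynomial.X i)))) =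
      (θ : MvPolynomial (Idx n i) R →+*
        HomogeneousLocalization.Away (CohB1.polyGrading n R) (MvPolynomial.X i)) := by
    apply MvPolynomial.ringHom_ext
    · intro r
      apply HomogeneousLocalization.val_injective
      rw [MvPolynomial.eval₂Hom_C]
      have hC0 : (MvPolynomial.C r : MvPolynomial (Idx n i) R) ∈
          MvPolynomial.homogeneousSubmodule (Idx n i) R 0 :=
        (MvPolynomial.mem_homogeneousSubmodule _ _).mpr (MvPolynomial.isHomogeneous_C _ r)
      show _ = (θ (MvPolynomial.C r)).val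
      rw [hθ 0 (MvPolynomial.C r) hC0]
      refine H5VQ.mk_congr _ _ _ _ ?_ ?_
      · show (MvPolynomial.C r : MvPolynomial (Fin (n + 1)) R) =
          MvPolynomial.rename Subtype.val (MvPolynomial.C r)
        rw [MvPolynomial.rename_C]
      · simp
    · intro j
      apply HomogeneousLocalization.val_injective
      rw [MvPolynomial.eval₂Hom_X']
      have hX1 : (MvPolynomial.X j : MvPolynomial (Idx n i) R) ∈
          MvPolynomial.homogeneousSubmodule (Idx n i) R 1 :=
        (MvPolynomial.mem_homogeneousSubmodule _ _).mpr (MvPolynomial.isHomogeneous_X R j)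
      show _ = (θ (MvPolynomial.X j)).val
      rw [hθ 1 (MvPolynomial.X j) hX1]
      refine H5VQ.mk_congr _ _ _ _ ?_ ?_
      · show (MvPolynomial.X (j : Fin (n + 1)) : MvPolynomial (Fin (n + 1)) R) =
          MvPolynomial.rename Subtype.val (MvPolynomial.X j)
        rw [MvPolynomial.rename_X]
      · simp
  rw [hEq]
  exact θ.bijective

end H5PSC
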