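import Mathlib
import Groth.Prelude.Def_CohB1

universe u
open CategoryTheory CategoryTheory.Limits AlgebraicGeometry

namespace H5PP

variable (n : ℕ) (R : Type u) [CommRing R]

theorem algMap_bij : Function.Bijective (algebraMap R (CohB1.polyGrading n R 0)) := by
  constructor
  · intro a b h
    have h2 : (MvPolynomial.C a : MvPolynomial (Fin (n + 1)) R) = MvPolynomial.C b :=
      congrArg Subtype.val h
    exact MvPolynomial.C_injective _ _ h2
  · rintro ⟨p, hp⟩
    have hp' : p.IsHomogeneous 0 := (MvPolynomial.mem_homogeneousSubmodule _ _).mp hp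
    rw [← MvPolynomial.totalDegree_zero_iff_isHomogeneous,
      MvPolynomial.totalDegree_eq_zero_iff_eq_C] at hp'
    exact ⟨MvPolynomial.coeff 0 p, Subtype.ext hp'.symm⟩

instance finType :
    Algebra.FiniteType (CohB1.polyGrading n R 0) (MvPolynomial (Fin (n + 1)) R) := by
  haveI : IsScalarTower R (CohB1.polyGrading n R 0) (MvPolynomial (Fin (n + 1)) R) := by
    exact IsScalarTower.of_algebraMap_eq' (R := R) (S := CohB1.polyGrading n R 0)
      (A := MvPolynomial (Fin (n + 1)) R) (RingHom.ext fun r => rfl)
  exact Algebra.FiniteType.of_restrictScalars_finiteType R _ _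

theorem toSpec_isProper : IsProper (CohB1.ProjSpace.toSpec n R) := by
  unfold CohB1.ProjSpace.toSpec
  haveI : IsIso (CommRingCat.ofHom (algebraMap R (CohB1.polyGrading n R 0))) := by
    rw [ConcreteCategory.isIso_iff_bijective]
    exact algMap_bij n R
  have h1 : IsProper (Proj.toSpecZero (CohB1.polyGrading n R)) := inferInstance
  have h2 : IsProper (Spec.map (CommRingCat.ofHom (algebraMap R (CohB1.polyGrading n R 0)))) :=
    inferInstance
  exact MorphismProperty.comp_mem (W := @IsProper) _ _ h1 h2

theorem toBase_isProper (S : Scheme.{u}) : IsProper (CohB1.ProjSpaceOver.toBase n S) := by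
  unfold CohB1.ProjSpaceOver.toBase
  exact MorphismProperty.pullback_snd (P := @IsProper) _ _ (toSpec_isProper n (ULift.{u} ℤ))

theorem baseChange_aux {T P S S' X : Scheme.{u}} (π : P ⟶ T) (tS : S ⟶ T) (tS' : S' ⟶ T)
    (g : S' ⟶ S) (hg : g ≫ tS = tS') (f : X ⟶ S) (i : X ⟶ pullback π tS)
    (hi : IsClosedImmersion i) (hif : i ≫ pullback.snd π tS = f) :
    ∃ i' : pullback f g ⟶ pullback π tS', IsClosedImmersion i' ∧
      i' ≫ pullback.snd π tS' = pullback.snd f g := by
  obtain ⟨h, hh1, hh2⟩ : ∃ h : pullback π tS' ⟶ pullback π tS,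
      h ≫ pullback.fst π tS = pullback.fst π tS' ∧
      h ≫ pullback.snd π tS = pullback.snd π tS' ≫ g :=
    ⟨pullback.lift (pullback.fst π tS') (pullback.snd π tS' ≫ g) (by
        rw [pullback.condition, Category.assoc, hg]),
      pullback.lift_fst _ _ _, pullback.lift_snd _ _ _⟩
  have hA : IsPullback h (pullback.snd π tS') (pullback.snd π tS) g := by
    have s : IsPullback (h ≫ pullback.fst π tS) (pullback.snd π tS') π (g ≫ tS) := by
      rw [hh1, hg]
      exact IsPullback.of_hasPullback π tS'
    exact IsPullback.of_right s hh2 (IsPullback.of_hasPullback π tS)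
  obtain ⟨i', hi1, hi2⟩ : ∃ i' : pullback f g ⟶ pullback π tS',
      i' ≫ pullback.fst π tS' = pullback.fst f g ≫ i ≫ pullback.fst π tS ∧
      i' ≫ pullback.snd π tS' = pullback.snd f g :=
    ⟨pullback.lift (pullback.fst f g ≫ i ≫ pullback.fst π tS) (pullback.snd f g) (by
        calc (pullback.fst f g ≫ i ≫ pullback.fst π tS) ≫ π
            = pullback.fst f g ≫ i ≫ (pullback.fst π tS ≫ π) := by simp only [Category.assoc]
          _ = pullback.fst f g ≫ i ≫ (pullback.snd π tS ≫ tS) := by rw [pullback.condition]
          _ = pullback.fst f g ≫ (i ≫ pullback.snd π tS) ≫ tS := by simp only [Category.assoc]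
          _ = (pullback.fst f g ≫ f) ≫ tS := by rw [hif, Category.assoc]
          _ = (pullback.snd f g ≫ g) ≫ tS := by rw [pullback.condition]
          _ = pullback.snd f g ≫ tS' := by rw [Category.assoc, hg]),
      pullback.lift_fst _ _ _, pullback.lift_snd _ _ _⟩
  have hi2' : i' ≫ pullback.snd π tS' ≫ g = pullback.snd f g ≫ g := by
    rw [← Category.assoc, hi2]
  have hp : i' ≫ h = pullback.fst f g ≫ i := by
    apply pullback.hom_ext
    · rw [Category.assoc, Category.assoc, hh1, hi1]
    · rw [Category.assoc, Category.assoc, hh2, hi2', hif]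
      exact pullback.condition.symm
  have hB : IsPullback i' (pullback.fst f g) h i := by
    have s : IsPullback (i' ≫ pullback.snd π tS') (pullback.fst f g) g
        (i ≫ pullback.snd π tS) := by
      rw [hi2, hif]
      exact (IsPullback.of_hasPullback f g).flip
    exact IsPullback.of_right s hp hA.flip
  exact ⟨i', MorphismProperty.of_isPullback (P := @IsClosedImmersion) hB.flip hi, hi2⟩

end H5PP
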