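import Mathlib
import Groth.Prelude.Def_CohB1

universe u
open CategoryTheory CategoryTheory.Limits AlgebraicGeometry HomogeneousLocalization

namespace H5PS

variable (n : ℕ) (R : Type u) [CommRing R]

noncomputable def ev : MvPolynomial (Fin (n + 1)) R →+* R :=
  (MvPolynomial.aeval (fun _ => (1 : R)) : MvPolynomial (Fin (n + 1)) R →ₐ[R] R).toRingHom

theorem ev_X0 : IsUnit (ev n R (MvPolynomial.X 0)) := by
  unfold ev; simp

noncomputable def ρ : Away (CohB1.polyGrading n R) (MvPolynomial.X 0) →+* R :=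
  (IsLocalization.Away.lift
    (S := Localization.Away (MvPolynomial.X 0 : MvPolynomial (Fin (n + 1)) R))
    (MvPolynomial.X 0) (g := ev n R) (ev_X0 n R)).comp
    (algebraMap (Away (CohB1.polyGrading n R) (MvPolynomial.X 0))
      (Localization.Away (MvPolynomial.X 0 : MvPolynomial (Fin (n + 1)) R)))

theorem ρ_comp (r : R) :
    ρ n R (fromZeroRingHom (CohB1.polyGrading n R) _
      (algebraMap R (CohB1.polyGrading n R 0) r)) = r := by
  unfold ρ
  rw [RingHom.comp_apply, HomogeneousLocalization.algebraMap_apply]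
  have h1 : (fromZeroRingHom (CohB1.polyGrading n R) (Submonoid.powers (MvPolynomial.X 0))
      (algebraMap R (CohB1.polyGrading n R 0) r)).val =
      algebraMap (MvPolynomial (Fin (n + 1)) R)
        (Localization.Away (MvPolynomial.X 0 : MvPolynomial (Fin (n + 1)) R))
        (MvPolynomial.C r) := by
    rw [← Localization.mk_one_eq_algebraMap]
    rfl
  rw [h1, IsLocalization.Away.lift_eq]
  unfold ev
  simp

theorem hX0 : (MvPolynomial.X 0 : MvPolynomial (Fin (n + 1)) R) ∈ CohB1.polyGrading n R 1 :=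
  (MvPolynomial.mem_homogeneousSubmodule _ _).mpr (MvPolynomial.isHomogeneous_X R 0)

theorem toSpec_section : ∃ σ : Spec (CommRingCat.of R) ⟶ CohB1.ProjSpace n R,
    σ ≫ CohB1.ProjSpace.toSpec n R = 𝟙 _ := by
  refine ⟨Spec.map (CommRingCat.ofHom (ρ n R)) ≫
    Proj.awayι (CohB1.polyGrading n R) (MvPolynomial.X 0)
      (hX0 n R) one_pos, ?_⟩
  unfold CohB1.ProjSpace.toSpec
  show Spec.map (CommRingCat.ofHom (ρ n R)) ≫
    Proj.awayι (CohB1.polyGrading n R) (MvPolynomial.X 0) (hX0 n R) one_pos ≫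
      Proj.toSpecZero (CohB1.polyGrading n R) ≫
        Spec.map (CommRingCat.ofHom (algebraMap R (CohB1.polyGrading n R 0))) = _
  rw [Proj.awayι_toSpecZero_assoc]
  simp only [← Spec.map_comp, Category.assoc]
  have h : CommRingCat.ofHom (algebraMap R (CohB1.polyGrading n R 0)) ≫
      CommRingCat.ofHom (fromZeroRingHom (CohB1.polyGrading n R) _) ≫
      CommRingCat.ofHom (ρ n R) = 𝟙 _ := by
    ext r
    exact ρ_comp n R r
  rw [h, Spec.map_id]

theorem toSpec_surjective : Surjective (CohB1.ProjSpace.toSpec n R) := by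
  obtain ⟨σ, hσ⟩ := toSpec_section n R
  refine ⟨fun y => ⟨σ y, ?_⟩⟩
  rw [← Scheme.Hom.comp_apply, hσ]
  rfl


section zero
variable (R : Type u) [CommRing R]

theorem hom1 (p : MvPolynomial (Fin 1) R) (i : ℕ) (hp : p.IsHomogeneous i) :
    p = MvPolynomial.C (MvPolynomial.coeff (Finsupp.single 0 i) p) * MvPolynomial.X 0 ^ i := by
  classical
  ext m
  rw [MvPolynomial.coeff_C_mul, MvPolynomial.coeff_X_pow]
  by_cases hm : Finsupp.single 0 i = m
  · rw [if_pos hm, mul_one, hm]
  · rw [if_neg hm, mul_zero]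
    apply hp.coeff_eq_zero
    intro hdeg
    apply hm
    have hm' : m = Finsupp.single 0 (m 0) := by
      refine Finsupp.ext (fun j => ?_)
      have : j = 0 := Subsingleton.elim _ _
      subst this
      simp
    rw [hm'] at hdeg ⊢
    rw [Finsupp.degree_single] at hdeg
    rw [hdeg]

theorem basicOpen_X0_eq_top :
    Proj.basicOpen (CohB1.polyGrading 0 R) (MvPolynomial.X 0) = ⊤ := by
  have hle : (HomogeneousIdeal.irrelevant (CohB1.polyGrading 0 R)).toIdeal ≤
      Ideal.span (Set.range fun _ : Unit => (MvPolynomial.X 0 : MvPolynomial (Fin 1) R)) := by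
    rw [HomogeneousIdeal.irrelevant_eq_span, Ideal.span_le]
    intro p hp
    simp only [Set.mem_iUnion] at hp
    obtain ⟨i, hi, hpi⟩ := hp
    have := hom1 R p i ((MvPolynomial.mem_homogeneousSubmodule _ _).mp hpi)
    rw [this]
    apply Ideal.mul_mem_left
    obtain ⟨j, rfl⟩ : ∃ j, i = j + 1 := ⟨i - 1, by omega⟩
    rw [pow_succ]
    apply Ideal.mul_mem_left
    exact Ideal.subset_span ⟨(), rfl⟩
  have h := Proj.iSup_basicOpen_eq_top (CohB1.polyGrading 0 R) _ hle
  rw [iSup_const] at h
  exact h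

noncomputable def ι0 : R →+* Away (CohB1.polyGrading 0 R) (MvPolynomial.X 0) :=
  (fromZeroRingHom (CohB1.polyGrading 0 R) _).comp (algebraMap R (CohB1.polyGrading 0 R 0))

theorem ι0_bij : Function.Bijective (ι0 R) := by
  constructor
  · intro a b hab
    have := congrArg (ρ 0 R) hab
    unfold ι0 at this
    rw [RingHom.comp_apply, RingHom.comp_apply, ρ_comp, ρ_comp] at this
    exact this
  · intro w
    obtain ⟨k, p, hp, rfl⟩ := Away.mk_surjective (CohB1.polyGrading 0 R) (hX0 0 R) w
    have hp' : p.IsHomogeneous k := by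
      have := (MvPolynomial.mem_homogeneousSubmodule _ _).mp hp
      simpa using this
    refine ⟨MvPolynomial.coeff (Finsupp.single 0 k) p, ?_⟩
    apply HomogeneousLocalization.val_injective
    rw [Away.val_mk]
    show Localization.mk (MvPolynomial.C (MvPolynomial.coeff (Finsupp.single 0 k) p)) 1 = _
    rw [Localization.mk_eq_mk_iff, Localization.r_iff_exists]
    refine ⟨1, ?_⟩
    simp only [OneMemClass.coe_one, one_mul]
    conv_rhs => rw [hom1 R p k hp']
    rw [mul_comm]

theorem toSpec0_isIso : IsIso (CohB1.ProjSpace.toSpec 0 R) := by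
  have hopen : IsIso (Proj.awayι (CohB1.polyGrading 0 R) (MvPolynomial.X 0) (hX0 0 R)
      one_pos) := by
    rw [isIso_iff_isOpenImmersion_and_surjective]
    refine ⟨inferInstance, ⟨fun y => ?_⟩⟩
    have hy : y ∈ (Proj.awayι (CohB1.polyGrading 0 R) (MvPolynomial.X 0) (hX0 0 R)
        one_pos).opensRange := by
      rw [Proj.opensRange_awayι, basicOpen_X0_eq_top]; trivial
    exact hy
  have hcomp : Proj.awayι (CohB1.polyGrading 0 R) (MvPolynomial.X 0) (hX0 0 R) one_pos ≫
      CohB1.ProjSpace.toSpec 0 R = Spec.map (CommRingCat.ofHom (ι0 R)) := by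
    unfold CohB1.ProjSpace.toSpec
    show Proj.awayι (CohB1.polyGrading 0 R) (MvPolynomial.X 0) (hX0 0 R) one_pos ≫
      Proj.toSpecZero (CohB1.polyGrading 0 R) ≫
        Spec.map (CommRingCat.ofHom (algebraMap R (CohB1.polyGrading 0 R 0))) = _
    rw [Proj.awayι_toSpecZero_assoc, ← Spec.map_comp]
    rfl
  haveI : IsIso (CommRingCat.ofHom (ι0 R)) :=
    (ConcreteCategory.isIso_iff_bijective _).mpr (ι0_bij R)
  haveI : IsIso (Proj.awayι (CohB1.polyGrading 0 R) (MvPolynomial.X 0) (hX0 0 R) one_pos ≫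
      CohB1.ProjSpace.toSpec 0 R) := by rw [hcomp]; infer_instance
  haveI := hopen
  exact IsIso.of_isIso_comp_left
    (Proj.awayι (CohB1.polyGrading 0 R) (MvPolynomial.X 0) (hX0 0 R) one_pos) _

end zero

end H5PS
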