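import Mathlib

namespace H5PJ

open TensorProduct

/-- `X / A X`. -/
abbrev Q (R : Type*) [CommRing R] (A : Ideal R) (X : Type*) [AddCommGroup X] [Module R X] :=
  X ⧸ (A • ⊤ : Submodule R X)

section
variable {R : Type*} [CommRing R]

theorem smul_quot_eq_zero (A : Ideal R) {X : Type*} [AddCommGroup X] [Module R X] :
    ∀ a ∈ A, ∀ x : Q R A X, a • x = 0 := by
  intro a ha x
  obtain ⟨y, rfl⟩ := Submodule.mkQ_surjective _ x
  rw [← map_smul, Submodule.mkQ_apply, Submodule.Quotient.mk_eq_zero]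
  exact Submodule.smul_mem_smul ha Submodule.mem_top

/-- functoriality of `X ↦ X / A X`. -/
def qmap (A : Ideal R) {X Y : Type*} [AddCommGroup X] [Module R X] [AddCommGroup Y] [Module R Y]
    (f : X →ₗ[R] Y) : Q R A X →ₗ[R] Q R A Y :=
  Submodule.mapQ _ _ f (by
    rw [← Submodule.map_le_iff_le_comap, Submodule.map_smul'']
    exact Submodule.smul_mono le_rfl le_top)

theorem qmap_surjective (A : Ideal R) {X Y : Type*} [AddCommGroup X] [Module R X]
    [AddCommGroup Y] [Module R Y] (f : X →ₗ[R] Y) (hf : Function.Surjective f) :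
    Function.Surjective (qmap A f) := by
  intro y
  obtain ⟨y', rfl⟩ := Submodule.mkQ_surjective _ y
  obtain ⟨x, rfl⟩ := hf y'
  exact ⟨Submodule.Quotient.mk x, rfl⟩

/-- the projection `X / A X → X / B X` for `A ≤ B`. -/
def qle {A B : Ideal R} (h : A ≤ B) (X : Type*) [AddCommGroup X] [Module R X] :
    Q R A X →ₗ[R] Q R B X :=
  Submodule.mapQ _ _ LinearMap.id (by
    rw [Submodule.comap_id]; exact Submodule.smul_mono h le_rfl)

theorem lift_of_projective_quot (I : Ideal R) {P : Type*} [AddCommGroup P] [Module R P]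
    (hI : Module.Projective (R ⧸ I) ((R ⧸ I) ⊗[R] P))
    {M N : Type*} [AddCommGroup M] [Module R M] [AddCommGroup N] [Module R N]
    (hM : ∀ a ∈ I, ∀ m : M, a • m = 0) (hN : ∀ a ∈ I, ∀ n : N, a • n = 0)
    (g : M →ₗ[R] N) (hg : Function.Surjective g) (h : P →ₗ[R] N) :
    ∃ h' : P →ₗ[R] M, g ∘ₗ h' = h := by
  have tM : Module.IsTorsionBySet R M (I : Set R) := fun x a => hM a.1 a.2 x
  have tN : Module.IsTorsionBySet R N (I : Set R) := fun x a => hN a.1 a.2 x
  letI : Module (R ⧸ I) M := tM.module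
  letI : Module (R ⧸ I) N := tN.module
  haveI : IsScalarTower R (R ⧸ I) M := tM.isScalarTower
  haveI : IsScalarTower R (R ⧸ I) N := tN.isScalarTower
  haveI := hI
  let g' : M →ₗ[R ⧸ I] N := LinearMap.extendScalarsOfSurjective
    (Ideal.Quotient.mk_surjective : Function.Surjective (algebraMap R (R ⧸ I))) g
  let ht : (R ⧸ I) ⊗[R] P →ₗ[R ⧸ I] N := LinearMap.liftBaseChange (R ⧸ I) h
  obtain ⟨l, hl⟩ := Module.projective_lifting_property g' ht hg
  refine ⟨(l.restrictScalars R) ∘ₗ (TensorProduct.mk R (R ⧸ I) P 1), ?_⟩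
  ext p
  have h1 := LinearMap.congr_fun hl ((1 : R ⧸ I) ⊗ₜ[R] p)
  rw [LinearMap.comp_apply, LinearMap.liftBaseChange_one_tmul] at h1
  exact h1

theorem lift_of_projective_quot' (I : Ideal R) {P : Type*} [AddCommGroup P] [Module R P]
    (hI : Module.Projective (R ⧸ I) ((R ⧸ I) ⊗[R] P))
    {M N : Type*} [AddCommGroup M] [Module R M] [AddCommGroup N] [Module R N]
    (hM : ∀ a ∈ I, ∀ m : M, a • m = 0) (hN : ∀ a ∈ I, ∀ n : N, a • n = 0)
    (g : M →ₗ[R] N) (h : P →ₗ[R] N) (hr : ∀ p, h p ∈ LinearMap.range g) :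
    ∃ h' : P →ₗ[R] M, g ∘ₗ h' = h := by
  have hN' : ∀ a ∈ I, ∀ n : LinearMap.range g, a • n = 0 := by
    intro a ha n
    apply Subtype.ext
    rw [Submodule.coe_smul, hN a ha n.1, Submodule.coe_zero]
  obtain ⟨h', hh'⟩ := lift_of_projective_quot I hI hM hN' g.rangeRestrict
    g.surjective_rangeRestrict (h.codRestrict (LinearMap.range g) hr)
  refine ⟨h', ?_⟩
  ext p
  have := LinearMap.congr_fun hh' p
  exact congrArg Subtype.val this

theorem exists_ker_sub_mem {F P : Type*} [AddCommGroup F] [Module R F] [AddCommGroup P]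
    [Module R P] (π : F →ₗ[R] P) (hπ : Function.Surjective π) (A : Ideal R) (f : F)
    (hf : π f ∈ (A • ⊤ : Submodule R P)) :
    ∃ k ∈ LinearMap.ker π, f - k ∈ (A • ⊤ : Submodule R F) := by
  have hmap : (A • ⊤ : Submodule R P) = Submodule.map π (A • ⊤ : Submodule R F) := by
    rw [Submodule.map_smul'', Submodule.map_top, LinearMap.range_eq_top.2 hπ]
  rw [hmap] at hf
  obtain ⟨f', hf', hff'⟩ := hf
  refine ⟨f - f', ?_, ?_⟩
  · rw [LinearMap.mem_ker, map_sub, hff', sub_self]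
  · rw [sub_sub_cancel]; exact hf'

theorem finsupp_inter_smul_top (I J : Ideal R) (hIJ : I ⊓ J = ⊥) {ι : Type*} (x : ι →₀ R)
    (hxI : x ∈ (I • ⊤ : Submodule R (ι →₀ R))) (hxJ : x ∈ (J • ⊤ : Submodule R (ι →₀ R))) :
    x = 0 := by
  have coeff : ∀ (A : Ideal R) (y : ι →₀ R), y ∈ (A • ⊤ : Submodule R (ι →₀ R)) →
      ∀ i, y i ∈ A := by
    intro A y hy i
    refine Submodule.smul_induction_on hy ?_ ?_
    · intro a ha m _
      rw [Finsupp.smul_apply, smul_eq_mul]
      exact A.mul_mem_right _ ha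
    · intro y z hy hz
      rw [Finsupp.add_apply]; exact A.add_mem hy hz
  ext i
  have h1 := coeff I x hxI i
  have h2 := coeff J x hxJ i
  have h3 : x i ∈ I ⊓ J := ⟨h1, h2⟩
  rw [hIJ] at h3
  simpa using Ideal.mem_bot.1 h3

end

end H5PJ
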