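import Mathlib
import Groth.Agent.Lib.helper5.ProjTwoIdeals

namespace H5PJ

open TensorProduct

theorem projective_of_mod_two {R : Type*} [CommRing R] (I J : Ideal R) (hIJ : I ⊓ J = ⊥)
    (P : Type*) [AddCommGroup P] [Module R P]
    (hI : Module.Projective (R ⧸ I) ((R ⧸ I) ⊗[R] P))
    (hJ : Module.Projective (R ⧸ J) ((R ⧸ J) ⊗[R] P)) : Module.Projective R P := by
  classical
  obtain ⟨π, hπdef⟩ : ∃ π : (P →₀ R) →ₗ[R] P,
      π = Finsupp.linearCombination R (id : P → P) := ⟨_, rfl⟩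
  have hπ : Function.Surjective π := by
    intro p; refine ⟨Finsupp.single p 1, ?_⟩
    rw [hπdef, Finsupp.linearCombination_single, one_smul]; rfl
  -- Step 1: lifts mod I and mod J
  obtain ⟨a, ha⟩ := lift_of_projective_quot I hI (smul_quot_eq_zero I (X := P →₀ R))
    (smul_quot_eq_zero I (X := P)) (qmap I π) (qmap_surjective I π hπ)
    (Submodule.mkQ (I • ⊤ : Submodule R P))
  obtain ⟨b, hb⟩ := lift_of_projective_quot J hJ (smul_quot_eq_zero J (X := P →₀ R))
    (smul_quot_eq_zero J (X := P)) (qmap J π) (qmap_surjective J π hπ)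
    (Submodule.mkQ (J • ⊤ : Submodule R P))
  have ha' : ∀ (p : P) (f : P →₀ R), Submodule.Quotient.mk f = a p →
      π f - p ∈ (I • ⊤ : Submodule R P) := by
    intro p f hf
    have h1 := LinearMap.congr_fun ha p
    rw [LinearMap.comp_apply, ← hf] at h1
    exact (Submodule.Quotient.eq _).1 h1
  have hb' : ∀ (p : P) (f : P →₀ R), Submodule.Quotient.mk f = b p →
      π f - p ∈ (J • ⊤ : Submodule R P) := by
    intro p f hf
    have h1 := LinearMap.congr_fun hb p
    rw [LinearMap.comp_apply, ← hf] at h1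
    exact (Submodule.Quotient.eq _).1 h1
  -- Step 2: adjust `a`
  obtain ⟨d, hd⟩ : ∃ d : P →ₗ[R] Q R (I ⊔ J) (P →₀ R),
      d = qle (le_sup_left : I ≤ I ⊔ J) (P →₀ R) ∘ₗ a
        - qle (le_sup_right : J ≤ I ⊔ J) (P →₀ R) ∘ₗ b := ⟨_, rfl⟩
  obtain ⟨κ, hκ⟩ : ∃ κ : Q R I (LinearMap.ker π) →ₗ[R] Q R I (P →₀ R),
      κ = qmap I (LinearMap.ker π).subtype := ⟨_, rfl⟩
  have hκ0 : qmap I π ∘ₗ κ = 0 := by
    rw [hκ]
    apply Submodule.linearMap_qext
    ext k
    show Submodule.Quotient.mk (π k.1) = 0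
    rw [LinearMap.mem_ker.1 k.2, Submodule.Quotient.mk_zero]
  have hr : ∀ p, d p ∈ LinearMap.range (qle (le_sup_left : I ≤ I ⊔ J) (P →₀ R) ∘ₗ κ) := by
    intro p
    obtain ⟨f₁, hf₁⟩ := Submodule.mkQ_surjective _ (a p)
    obtain ⟨f₂, hf₂⟩ := Submodule.mkQ_surjective _ (b p)
    have h1 := ha' p f₁ hf₁
    have h2 := hb' p f₂ hf₂
    have h3 : π (f₁ - f₂) ∈ ((I ⊔ J) • ⊤ : Submodule R P) := by
      have : π (f₁ - f₂) = (π f₁ - p) - (π f₂ - p) := by rw [map_sub]; abel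
      rw [this]
      exact Submodule.sub_mem _ (Submodule.smul_mono le_sup_left le_rfl h1)
        (Submodule.smul_mono le_sup_right le_rfl h2)
    obtain ⟨k, hk, hkf⟩ := exists_ker_sub_mem π hπ (I ⊔ J) (f₁ - f₂) h3
    refine ⟨Submodule.Quotient.mk ⟨k, hk⟩, ?_⟩
    rw [hκ, hd, LinearMap.sub_apply, LinearMap.comp_apply, LinearMap.comp_apply,
      LinearMap.comp_apply, ← hf₁, ← hf₂]
    show (Submodule.Quotient.mk k : Q R (I ⊔ J) (P →₀ R))
      = Submodule.Quotient.mk f₁ - Submodule.Quotient.mk f₂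
    rw [← Submodule.Quotient.mk_sub, eq_comm, Submodule.Quotient.eq]
    exact hkf
  obtain ⟨c, hc⟩ := lift_of_projective_quot' I hI
    (smul_quot_eq_zero I (X := LinearMap.ker π))
    (fun x hx => smul_quot_eq_zero (I ⊔ J) (X := P →₀ R) x (le_sup_left (a := I) (b := J) hx))
    (qle (le_sup_left : I ≤ I ⊔ J) (P →₀ R) ∘ₗ κ) d hr
  obtain ⟨a₁, ha₁⟩ : ∃ a₁ : P →ₗ[R] Q R I (P →₀ R), a₁ = a - κ ∘ₗ c := ⟨_, rfl⟩
  have ha₁π : qmap I π ∘ₗ a₁ = Submodule.mkQ (I • ⊤ : Submodule R P) := by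
    rw [ha₁, LinearMap.comp_sub, ← LinearMap.comp_assoc, hκ0, LinearMap.zero_comp, sub_zero, ha]
  have hcompat : qle (le_sup_left : I ≤ I ⊔ J) (P →₀ R) ∘ₗ a₁
      = qle (le_sup_right : J ≤ I ⊔ J) (P →₀ R) ∘ₗ b := by
    rw [ha₁, LinearMap.comp_sub, ← LinearMap.comp_assoc, hc, hd]
    abel
  have ha₁' : ∀ (p : P) (f : P →₀ R), Submodule.Quotient.mk f = a₁ p →
      π f - p ∈ (I • ⊤ : Submodule R P) := by
    intro p f hf
    have h1 := LinearMap.congr_fun ha₁π p
    rw [LinearMap.comp_apply, ← hf] at h1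
    exact (Submodule.Quotient.eq _).1 h1
  -- Step 3: glue
  obtain ⟨Φ, hΦdef⟩ : ∃ Φ : (P →₀ R) →ₗ[R] Q R I (P →₀ R) × Q R J (P →₀ R),
      Φ = LinearMap.prod (Submodule.mkQ _) (Submodule.mkQ _) := ⟨_, rfl⟩
  have hΦ : Function.Injective Φ := by
    rw [injective_iff_map_eq_zero]
    intro x hx
    rw [hΦdef] at hx
    have hx1 : (Submodule.Quotient.mk x : Q R I (P →₀ R)) = 0 := congrArg Prod.fst hx
    have hx2 : (Submodule.Quotient.mk x : Q R J (P →₀ R)) = 0 := congrArg Prod.snd hx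
    exact finsupp_inter_smul_top I J hIJ x ((Submodule.Quotient.mk_eq_zero _).1 hx1)
      ((Submodule.Quotient.mk_eq_zero _).1 hx2)
  have hrange : ∀ p, (LinearMap.prod a₁ b) p ∈ LinearMap.range Φ := by
    intro p
    obtain ⟨f₁, hf₁⟩ := Submodule.mkQ_surjective _ (a₁ p)
    obtain ⟨f₂, hf₂⟩ := Submodule.mkQ_surjective _ (b p)
    have h12 : f₁ - f₂ ∈ ((I ⊔ J) • ⊤ : Submodule R (P →₀ R)) := by
      have h1 := LinearMap.congr_fun hcompat p
      rw [LinearMap.comp_apply, LinearMap.comp_apply, ← hf₁, ← hf₂] at h1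
      exact (Submodule.Quotient.eq _).1 h1
    rw [Submodule.sup_smul] at h12
    obtain ⟨u, hu, v, hv, huv⟩ := Submodule.mem_sup.1 h12
    refine ⟨f₁ - u, ?_⟩
    rw [hΦdef]
    apply Prod.ext
    · show (Submodule.Quotient.mk (f₁ - u) : Q R I (P →₀ R)) = a₁ p
      rw [← hf₁]
      show (Submodule.Quotient.mk (f₁ - u) : Q R I (P →₀ R)) = Submodule.Quotient.mk f₁
      rw [Submodule.Quotient.eq]
      have : f₁ - u - f₁ = -u := by abel
      rw [this]; exact Submodule.neg_mem _ hu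
    · show (Submodule.Quotient.mk (f₁ - u) : Q R J (P →₀ R)) = b p
      rw [← hf₂]
      show (Submodule.Quotient.mk (f₁ - u) : Q R J (P →₀ R)) = Submodule.Quotient.mk f₂
      rw [Submodule.Quotient.eq]
      have h5 : f₁ - f₂ = u + v := huv.symm
      have h6 : f₁ - u - f₂ = (f₁ - f₂) - u := by abel
      have : f₁ - u - f₂ = v := by rw [h6, h5]; abel
      rw [this]; exact hv
  obtain ⟨s, hsdef⟩ : ∃ s : P →ₗ[R] (P →₀ R),
      s = (LinearEquiv.ofInjective Φ hΦ).symm.toLinearMap ∘ₗ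
        (LinearMap.prod a₁ b).codRestrict (LinearMap.range Φ) hrange := ⟨_, rfl⟩
  have hs : ∀ p, Φ (s p) = (a₁ p, b p) := by
    intro p
    have h1 := (LinearEquiv.ofInjective Φ hΦ).apply_symm_apply
      ((LinearMap.prod a₁ b).codRestrict (LinearMap.range Φ) hrange p)
    have h2 := congrArg Subtype.val h1
    rw [hsdef]
    exact h2
  have hs1 : ∀ p, Submodule.Quotient.mk (s p) = a₁ p := by
    intro p
    have := congrArg Prod.fst (hs p)
    rw [hΦdef] at this
    exact this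
  have hs2 : ∀ p, Submodule.Quotient.mk (s p) = b p := by
    intro p
    have := congrArg Prod.snd (hs p)
    rw [hΦdef] at this
    exact this
  -- Step 4: the error term squares to zero
  obtain ⟨δ, hδdef⟩ : ∃ δ : P →ₗ[R] P, δ = LinearMap.id - π ∘ₗ s := ⟨_, rfl⟩
  have hδ_apply : ∀ p, δ p = p - π (s p) := by
    intro p; rw [hδdef]; rfl
  have hδI : ∀ p, δ p ∈ (I • ⊤ : Submodule R P) := by
    intro p
    have := ha₁' p (s p) (hs1 p)
    rw [hδ_apply]
    have e : p - π (s p) = -(π (s p) - p) := by abel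
    rw [e]; exact Submodule.neg_mem _ this
  have hδJ : ∀ p, δ p ∈ (J • ⊤ : Submodule R P) := by
    intro p
    have := hb' p (s p) (hs2 p)
    rw [hδ_apply]
    have e : p - π (s p) = -(π (s p) - p) := by abel
    rw [e]; exact Submodule.neg_mem _ this
  have hkill : ∀ x ∈ I, ∀ y ∈ (J • ⊤ : Submodule R P), x • y = 0 := by
    intro x hx y hy
    refine Submodule.smul_induction_on hy ?_ ?_
    · intro z hz m _
      rw [smul_smul]
      have h3 : x * z ∈ I ⊓ J := ⟨I.mul_mem_right _ hx, J.mul_mem_left _ hz⟩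
      rw [hIJ, Ideal.mem_bot] at h3
      rw [h3, zero_smul]
    · intro y z hy hz; rw [smul_add, hy, hz, add_zero]
  have hδ0 : ∀ x ∈ (I • ⊤ : Submodule R P), δ x = 0 := by
    intro x hx
    refine Submodule.smul_induction_on hx ?_ ?_
    · intro z hz m _
      rw [map_smul]; exact hkill z hz _ (hδJ m)
    · intro y z hy hz; rw [map_add, hy, hz, add_zero]
  have hπs : ∀ x, π (s x) = x - δ x := by
    intro x; rw [hδ_apply]; abel
  refine Module.Projective.of_split (s ∘ₗ (LinearMap.id + δ)) π ?_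
  apply LinearMap.ext
  intro p
  rw [LinearMap.comp_apply, LinearMap.comp_apply, LinearMap.add_apply, LinearMap.id_apply,
    hπs, map_add, hδ0 _ (hδI p)]
  abel

end H5PJ
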