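import Mathlib

namespace H5QF

open Polynomial

theorem mem_iff {S : Type*} [CommRing S] (f g : S[X]) :
    g ∈ (⊥ : Subalgebra S (S[X] ⧸ Ideal.span ({f} : Set S[X]))).comap
        (Ideal.Quotient.mkₐ S (Ideal.span ({f} : Set S[X]))) ↔
      ∃ (s : S) (q : S[X]), g = C s + f * q := by
  rw [Subalgebra.mem_comap, Algebra.mem_bot]
  constructor
  · rintro ⟨s, hs⟩
    have h1 : (Ideal.Quotient.mk (Ideal.span ({f} : Set S[X]))) (C s) =
        (Ideal.Quotient.mk (Ideal.span ({f} : Set S[X]))) g := hs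
    rw [Ideal.Quotient.eq, Ideal.mem_span_singleton'] at h1
    obtain ⟨q, hq⟩ := h1
    refine ⟨s, -q, ?_⟩
    linear_combination hq
  · rintro ⟨s, q, rfl⟩
    refine ⟨s, ?_⟩
    show (Ideal.Quotient.mk (Ideal.span ({f} : Set S[X]))) (C s) =
      (Ideal.Quotient.mk (Ideal.span ({f} : Set S[X]))) (C s + f * q)
    rw [Ideal.Quotient.eq, Ideal.mem_span_singleton']
    exact ⟨-q, by ring⟩

theorem main (S : Type*) [CommRing S] [Nontrivial S] (f : S[X]) (hf : f.Monic)
    (hdeg : f.natDegree = 2) :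
    Module.Free S ((⊥ : Subalgebra S (S[X] ⧸ Ideal.span ({f} : Set S[X]))).comap
        (Ideal.Quotient.mkₐ S (Ideal.span ({f} : Set S[X])))) ∧
      Module.Finite ((⊥ : Subalgebra S (S[X] ⧸ Ideal.span ({f} : Set S[X]))).comap
        (Ideal.Quotient.mkₐ S (Ideal.span ({f} : Set S[X])))) S[X] := by
  classical
  constructor
  · let L : S × S[X] →ₗ[S] ↥((⊥ : Subalgebra S (S[X] ⧸ Ideal.span ({f} : Set S[X]))).comap
        (Ideal.Quotient.mkₐ S (Ideal.span ({f} : Set S[X])))) :=
      { toFun := fun sq => ⟨C sq.1 + f * sq.2, (mem_iff f _).2 ⟨sq.1, sq.2, rfl⟩⟩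
        map_add' := fun x y => Subtype.ext (by
          show C (x.1 + y.1) + f * (x.2 + y.2) = (C x.1 + f * x.2) + (C y.1 + f * y.2)
          rw [C_add]; ring)
        map_smul' := fun c x => Subtype.ext (by
          show C (c • x.1) + f * (c • x.2) = c • (C x.1 + f * x.2)
          rw [smul_eq_mul, C_mul, smul_eq_C_mul, smul_eq_C_mul]; ring) }
    have hinj : Function.Injective L := by
      rw [← LinearMap.ker_eq_bot, LinearMap.ker_eq_bot']
      rintro ⟨s, q⟩ h
      have h0 : C s + f * q = 0 := congrArg Subtype.val h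
      have hq : q = 0 := by
        by_contra hq
        have hd : (f * q).natDegree = 2 + q.natDegree := by rw [hf.natDegree_mul' hq, hdeg]
        have h1 : f * q = C (-s) := by rw [C_neg]; linear_combination h0
        rw [h1, natDegree_C] at hd
        omega
      subst hq
      rw [mul_zero, add_zero] at h0
      have hs : s = 0 := C_eq_zero.1 h0
      rw [hs]; rfl
    have hsurj : Function.Surjective L := by
      rintro ⟨g, hg⟩
      obtain ⟨s, q, rfl⟩ := (mem_iff f g).1 hg
      exact ⟨(s, q), rfl⟩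
    exact Module.Free.of_equiv (LinearEquiv.ofBijective L ⟨hinj, hsurj⟩)
  · refine ⟨⟨{1, X}, ?_⟩⟩
    rw [eq_top_iff]
    rintro g -
    have hmod := Polynomial.modByMonic_add_div g f
    have hlt : (g %ₘ f).natDegree < 2 := by
      rw [← hdeg]
      exact natDegree_modByMonic_lt g hf (by
        intro h1; rw [h1, natDegree_one] at hdeg; omega)
    have hlt' : (g %ₘ f).natDegree ≤ 1 := by omega
    have hr : g %ₘ f = C ((g %ₘ f).coeff 1) * X + C ((g %ₘ f).coeff 0) :=
      eq_X_add_C_of_degree_le_one (by exact_mod_cast degree_le_of_natDegree_le hlt')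
    have hg : g = (⟨C ((g %ₘ f).coeff 0) + f * (g /ₘ f), (mem_iff f _).2 ⟨_, _, rfl⟩⟩ :
          ↥((⊥ : Subalgebra S (S[X] ⧸ Ideal.span ({f} : Set S[X]))).comap
            (Ideal.Quotient.mkₐ S (Ideal.span ({f} : Set S[X]))))) • (1 : S[X]) +
        (⟨C ((g %ₘ f).coeff 1) + f * 0, (mem_iff f _).2 ⟨_, _, rfl⟩⟩ :
          ↥((⊥ : Subalgebra S (S[X] ⧸ Ideal.span ({f} : Set S[X]))).comap
            (Ideal.Quotient.mkₐ S (Ideal.span ({f} : Set S[X]))))) • (X : S[X]) := by
      show g = (C ((g %ₘ f).coeff 0) + f * (g /ₘ f)) * 1 + (C ((g %ₘ f).coeff 1) + f * 0) * X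
      rw [mul_zero, add_zero, mul_one]
      conv_lhs => rw [← hmod, hr]
      ring
    rw [hg]
    apply Submodule.add_mem
    · exact Submodule.smul_mem _ _ (Submodule.subset_span (by simp))
    · exact Submodule.smul_mem _ _ (Submodule.subset_span (by simp))

theorem main' (S : Type*) [CommRing S] (a b : S) :
    Module.Free S ((⊥ : Subalgebra S (S[X] ⧸ Ideal.span
        ({X ^ 2 + C a * X + C b} : Set S[X]))).comap
        (Ideal.Quotient.mkₐ S (Ideal.span ({X ^ 2 + C a * X + C b} : Set S[X])))) ∧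
      Module.Finite ((⊥ : Subalgebra S (S[X] ⧸ Ideal.span
        ({X ^ 2 + C a * X + C b} : Set S[X]))).comap
        (Ideal.Quotient.mkₐ S (Ideal.span ({X ^ 2 + C a * X + C b} : Set S[X])))) S[X] := by
  rcases subsingleton_or_nontrivial S with hS | hS
  · have : Subsingleton S[X] := Polynomial.subsingleton_iff_subsingleton.2 hS
    refine ⟨Module.Free.of_subsingleton' S _, ⟨⟨∅, ?_⟩⟩⟩
    rw [eq_top_iff]
    intro x _
    rw [Subsingleton.elim x 0]
    exact zero_mem _
  · have hlin : degree (C a * X + C b) < ((2 : ℕ) : WithBot ℕ) :=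
      lt_of_le_of_lt degree_linear_le (by exact_mod_cast (by norm_num : (1 : ℕ) < 2))
    have hf : (X ^ 2 + C a * X + C b : S[X]).Monic := by
      rw [add_assoc]; exact monic_X_pow_add hlin
    have hdeg : (X ^ 2 + C a * X + C b : S[X]).natDegree = 2 := by
      rw [add_assoc, natDegree_add_eq_left_of_natDegree_lt, natDegree_X_pow]
      rw [natDegree_X_pow]
      exact lt_of_le_of_lt natDegree_linear_le (by norm_num)
    exact main S _ hf hdeg

end H5QF
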