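import Mathlib
import Groth.Prelude.Def_W4stkalgebra1Int

universe u

namespace H5RI

open Polynomial

variable {R S : Type u} [CommRing R] [CommRing S] [Algebra R S]

/-- the ring map from the Rees algebra to `S[X]` -/
noncomputable def phi (I : Ideal R) : ↥(reesAlgebra I) →+* S[X] :=
  (Polynomial.mapRingHom (algebraMap R S)).comp (reesAlgebra I).val.toRingHom

theorem phi_apply (I : Ideal R) (a : ↥(reesAlgebra I)) :
    phi (S := S) I a = Polynomial.map (algebraMap R S) (a : R[X]) := rfl

theorem forward (I : Ideal R) (s : S) (h : W4stkalgebra1.IsIntegralOverIdeal I s) :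
    (phi (S := S) I).IsIntegralElem (C s * X) := by
  obtain ⟨p, hpm, hpc, hp⟩ := h
  obtain ⟨d, hd⟩ : ∃ d, p.natDegree = d := ⟨_, rfl⟩
  rw [hd] at hpc
  have hmem : ∀ j, p.coeff j ∈ I ^ (d - j) := by
    intro j
    by_cases hj : j < d
    · exact hpc j hj
    · have : d - j = 0 := by omega
      rw [this, pow_zero, Ideal.one_eq_top]
      exact Submodule.mem_top
  obtain ⟨c, hc⟩ : ∃ c : ℕ → ↥(reesAlgebra I),
      ∀ i, (c i : R[X]) = monomial (d - i) (p.coeff i) :=
    ⟨fun i => ⟨monomial (d - i) (p.coeff i), reesAlgebra.monomial_mem.2 (hmem i)⟩, fun i => rfl⟩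
  have hcd : p.coeff d = 1 := by rw [← hd]; exact hpm.coeff_natDegree
  have hsum : s ^ d + ∑ i : Fin d, algebraMap R S (p.coeff i) * s ^ (i : ℕ) = 0 := by
    have h := hp
    rw [Polynomial.eval₂_eq_sum_range, hd, Finset.sum_range_succ, hcd, map_one, one_mul,
      Finset.sum_range] at h
    rw [add_comm]; exact h
  have hterm : ∀ i : ℕ, i < d →
      phi (S := S) I (c i) * (C s * X) ^ i = C (algebraMap R S (p.coeff i) * s ^ i) * X ^ d := by
    intro i hi
    have h1 : phi (S := S) I (c i) = C (algebraMap R S (p.coeff i)) * X ^ (d - i) := by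
      rw [phi_apply, hc, Polynomial.map_monomial, ← Polynomial.C_mul_X_pow_eq_monomial]
    have h2 : (X : S[X]) ^ (d - i) * X ^ i = X ^ d := by
      rw [← pow_add, Nat.sub_add_cancel hi.le]
    rw [h1, mul_pow]
    calc C (algebraMap R S (p.coeff i)) * X ^ (d - i) * (C s ^ i * X ^ i)
        = C (algebraMap R S (p.coeff i)) * C s ^ i * (X ^ (d - i) * X ^ i) := by ring
      _ = C (algebraMap R S (p.coeff i)) * C s ^ i * X ^ d := by rw [h2]
      _ = C (algebraMap R S (p.coeff i) * s ^ i) * X ^ d := by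
          rw [Polynomial.C_mul, Polynomial.C_pow]
  refine ⟨X ^ d + ∑ i : Fin d, C (c i) * X ^ (i : ℕ),
    Polynomial.monic_X_pow_add (Polynomial.degree_sum_fin_lt _), ?_⟩
  have hrw : ∀ i : Fin d,
      Polynomial.eval₂ (phi (S := S) I) (C s * X) (C (c i) * X ^ (i : ℕ)) =
      C (algebraMap R S (p.coeff i) * s ^ (i : ℕ)) * X ^ d := by
    intro i
    rw [Polynomial.eval₂_mul, Polynomial.eval₂_C, Polynomial.eval₂_pow, Polynomial.eval₂_X]
    exact hterm i i.2
  have hS : ∑ i : Fin d, Polynomial.eval₂ (phi (S := S) I) (C s * X) (C (c i) * X ^ (i : ℕ)) =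
      ∑ i : Fin d, C (algebraMap R S (p.coeff i) * s ^ (i : ℕ)) * X ^ d :=
    Finset.sum_congr rfl (fun i _ => hrw i)
  have hC : ∑ i : Fin d, (C (algebraMap R S (p.coeff i) * s ^ (i : ℕ)) : S[X]) =
      C (∑ i : Fin d, algebraMap R S (p.coeff i) * s ^ (i : ℕ)) := (map_sum C _ _).symm
  rw [Polynomial.eval₂_add, Polynomial.eval₂_pow, Polynomial.eval₂_X, Polynomial.eval₂_finsetSum,
    hS, ← Finset.sum_mul, hC, mul_pow, ← Polynomial.C_pow, ← add_mul, ← Polynomial.C_add, hsum,
    Polynomial.C_0, zero_mul]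

theorem backward [Nontrivial R] (I : Ideal R) (s : S)
    (h : (phi (S := S) I).IsIntegralElem (C s * X)) :
    W4stkalgebra1.IsIntegralOverIdeal I s := by
  obtain ⟨P, hPm, hP⟩ := h
  obtain ⟨d, hd⟩ : ∃ d, P.natDegree = d := ⟨_, rfl⟩
  obtain ⟨a, ha⟩ : ∃ a : ℕ → R,
      ∀ i, a i = ((P.coeff i : ↥(reesAlgebra I)) : R[X]).coeff (d - i) :=
    ⟨fun i => ((P.coeff i : ↥(reesAlgebra I)) : R[X]).coeff (d - i), fun i => rfl⟩
  have had : a d = 1 := by
    rw [ha, ← hd, hPm.coeff_natDegree, Nat.sub_self]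
    show (1 : R[X]).coeff 0 = 1
    exact Polynomial.coeff_one_zero
  have ha0 : ∀ j, d < j → a j = 0 := by
    intro j hj
    have hPj : P.coeff j = 0 :=
      Polynomial.coeff_eq_zero_of_natDegree_lt (by rw [hd]; exact hj)
    have h0' : ((0 : ↥(reesAlgebra I)) : R[X]) = 0 := rfl
    rw [ha, hPj, h0', Polynomial.coeff_zero]
  have hamem : ∀ j, a j ∈ I ^ (d - j) := by
    intro j
    rw [ha]
    exact (mem_reesAlgebra_iff I _).1 (P.coeff j).2 (d - j)
  obtain ⟨p, hp_def⟩ : ∃ p : R[X], p = ∑ i ∈ Finset.range (d + 1), monomial i (a i) := ⟨_, rfl⟩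
  have hcoeff : ∀ j, p.coeff j = a j := by
    intro j
    rw [hp_def, Polynomial.finsetSum_coeff]
    simp only [Polynomial.coeff_monomial, Finset.sum_ite_eq', Finset.mem_range]
    split_ifs with hj
    · rfl
    · exact (ha0 j (by omega)).symm
  have hnat : p.natDegree = d := by
    apply le_antisymm
    · exact Polynomial.natDegree_le_iff_coeff_eq_zero.2 (fun N hN => by rw [hcoeff, ha0 N hN])
    · exact Polynomial.le_natDegree_of_ne_zero (by rw [hcoeff, had]; exact one_ne_zero)
  have hmonic : p.Monic := by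
    unfold Polynomial.Monic Polynomial.leadingCoeff
    rw [hnat, hcoeff, had]
  have heval : Polynomial.eval₂ (algebraMap R S) s p =
      ∑ i ∈ Finset.range (d + 1), algebraMap R S (a i) * s ^ i := by
    rw [hp_def, Polynomial.eval₂_finsetSum]
    simp only [Polynomial.eval₂_monomial]
  have key : ∀ i ∈ Finset.range (d + 1),
      (phi (S := S) I (P.coeff i) * (C s * X) ^ i).coeff d = algebraMap R S (a i) * s ^ i := by
    intro i hi
    have hid : i ≤ d := Nat.lt_succ_iff.1 (Finset.mem_range.1 hi)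
    rw [phi_apply, mul_pow, ← Polynomial.C_pow, ← mul_assoc, Polynomial.coeff_mul_X_pow',
      if_pos hid, Polynomial.coeff_mul_C, Polynomial.coeff_map, ha]
  have h0 : ∑ i ∈ Finset.range (d + 1), algebraMap R S (a i) * s ^ i = 0 := by
    have h : (Polynomial.eval₂ (phi (S := S) I) (C s * X) P).coeff d = (0 : S[X]).coeff d := by
      rw [hP]
    rw [Polynomial.eval₂_eq_sum_range, hd, Polynomial.finsetSum_coeff,
      Polynomial.coeff_zero] at h
    rw [← h]
    exact (Finset.sum_congr rfl key).symm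
  refine ⟨p, hmonic, ?_, ?_⟩
  · intro j hj
    rw [hnat] at hj ⊢
    rw [hcoeff]; exact hamem j
  · rw [heval, h0]

theorem integral_iff_rees (I : Ideal R) (s : S) :
    W4stkalgebra1.IsIntegralOverIdeal I s ↔
      ((Polynomial.mapRingHom (algebraMap R S)).comp
        (reesAlgebra I).val.toRingHom).IsIntegralElem (Polynomial.C s * Polynomial.X) := by
  show W4stkalgebra1.IsIntegralOverIdeal I s ↔ (phi (S := S) I).IsIntegralElem (C s * X)
  constructor
  · exact forward I s
  · intro h
    rcases subsingleton_or_nontrivial R with hR | hR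
    · haveI : Subsingleton S := (algebraMap R S).codomain_trivial
      exact ⟨1, Polynomial.monic_one, fun j hj => by
        rw [Polynomial.natDegree_one] at hj; exact absurd hj (Nat.not_lt_zero _),
        Subsingleton.elim _ _⟩
    · exact backward I s h

theorem integral_submodule (I : Ideal R) :
    (∃ N : Submodule R S, ∀ s : S, s ∈ N ↔ W4stkalgebra1.IsIntegralOverIdeal I s) ∧
    (∀ s s' : S, IsIntegral R s → W4stkalgebra1.IsIntegralOverIdeal I s' →
      W4stkalgebra1.IsIntegralOverIdeal I (s * s')) := by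
  have hiff : ∀ s : S, W4stkalgebra1.IsIntegralOverIdeal I s ↔
      (phi (S := S) I).IsIntegralElem (C s * X) := fun s => integral_iff_rees I s
  have hconst : ∀ s : S, IsIntegral R s → (phi (S := S) I).IsIntegralElem (C s) := by
    rintro s ⟨q, hqm, hq⟩
    refine ⟨q.map (algebraMap R ↥(reesAlgebra I)), hqm.map _, ?_⟩
    rw [Polynomial.eval₂_map]
    have hcomp : (phi (S := S) I).comp (algebraMap R ↥(reesAlgebra I)) =
        (C : S →+* S[X]).comp (algebraMap R S) := by
      ext r
      have hr : ((algebraMap R ↥(reesAlgebra I) r : ↥(reesAlgebra I)) : R[X]) = C r := rfl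
      rw [RingHom.comp_apply, RingHom.comp_apply, phi_apply, hr, Polynomial.map_C]
    rw [hcomp, ← Polynomial.hom_eval₂, hq, map_zero]
  have hmulconst : ∀ s s' : S, IsIntegral R s → W4stkalgebra1.IsIntegralOverIdeal I s' →
      W4stkalgebra1.IsIntegralOverIdeal I (s * s') := by
    intro s s' hs hs'
    rw [hiff] at hs' ⊢
    have : C (s * s') * X = C s * (C s' * X) := by rw [Polynomial.C_mul, mul_assoc]
    rw [this]
    exact RingHom.IsIntegralElem.mul _ (hconst s hs) hs'
  refine ⟨⟨{ carrier := {s | W4stkalgebra1.IsIntegralOverIdeal I s}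
             add_mem' := ?_
             zero_mem' := ?_
             smul_mem' := ?_ }, fun s => Iff.rfl⟩, hmulconst⟩
  · intro x y hx hy
    show W4stkalgebra1.IsIntegralOverIdeal I (x + y)
    have hx' : W4stkalgebra1.IsIntegralOverIdeal I x := hx
    have hy' : W4stkalgebra1.IsIntegralOverIdeal I y := hy
    rw [hiff] at hx' hy' ⊢
    rw [Polynomial.C_add, add_mul]
    exact RingHom.IsIntegralElem.add _ hx' hy'
  · show W4stkalgebra1.IsIntegralOverIdeal I 0
    rw [hiff, Polynomial.C_0, zero_mul]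
    exact RingHom.isIntegralElem_zero _
  · intro r x hx
    show W4stkalgebra1.IsIntegralOverIdeal I (r • x)
    rw [Algebra.smul_def]
    exact hmulconst _ _ isIntegral_algebraMap hx

end H5RI
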