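import Mathlib
import Groth.Prelude.Def_RelProj
import Groth.Agent.Lib.helper5.ProjMapToSpecZero
import Groth.Agent.Lib.helper5.ProjClosedImm3

set_option autoImplicit false
universe u
open CategoryTheory CategoryTheory.Limits AlgebraicGeometry Opposite TopologicalSpace
open scoped HomogeneousIdeal

namespace H5RC

theorem main {Y PA PB : Scheme.{u}} {𝒜 ℬ : RelProj.QCGrAlg Y}
    (φ : 𝒜.toQCAlg ⟶ ℬ.toQCAlg) (hφ : RelProj.IsGradedHom φ)
    (hsurj : ∀ (U : Y.Opens) (hU : IsAffineOpen U) (n : ℕ), 0 < n → ∀ b ∈ ℬ.deg U hU n,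
      ∃ a ∈ 𝒜.deg U hU n, (φ.hom.app (op U)).hom a = b)
    (hirr : ∀ (U : Y.Opens) (hU : IsAffineOpen U),
      (ℬ.deg U hU)₊ ≤ ((𝒜.deg U hU)₊).map (RelProj.gradedHomAt φ hφ U hU))
    (pA : PA ⟶ Y) (pB : PB ⟶ Y)
    (chartA : ∀ (U : Y.Opens) (hU : IsAffineOpen U), (((pA ⁻¹ᵁ U : PA.Opens) : Scheme.{u}) ≅ Proj (𝒜.deg U hU)))
    (chartB : ∀ (U : Y.Opens) (hU : IsAffineOpen U), (((pB ⁻¹ᵁ U : PB.Opens) : Scheme.{u}) ≅ Proj (ℬ.deg U hU)))
    (hA : RelProj.IsRelProj 𝒜 pA chartA) (hB : RelProj.IsRelProj ℬ pB chartB)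
    (h : PB ⟶ PA) (hh : RelProj.IsRelProjMap φ hφ hirr chartA chartB h) : IsClosedImmersion h := by
  classical
  have hcomp : h ≫ pA = pB := by
    have hcov : TopologicalSpace.IsOpenCover (fun V : Y.affineOpens => pB ⁻¹ᵁ V.1) :=
      Scheme.Hom.iSup_preimage_eq_top pB (iSup_affineOpens_eq_top Y)
    refine (PB.openCoverOfIsOpenCover _ hcov).hom_ext _ _ (fun V => ?_)
    show (pB ⁻¹ᵁ V.1).ι ≫ h ≫ pA = (pB ⁻¹ᵁ V.1).ι ≫ pB
    have hV : IsAffineOpen V.1 := V.2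
    let ψ0 : (𝒜.deg V.1 hV 0) →+* (ℬ.deg V.1 hV 0) :=
      { toFun := fun a => ⟨(RelProj.gradedHomAt φ hφ V.1 hV) a.1,
          (RelProj.gradedHomAt φ hφ V.1 hV).map_mem a.2⟩
        map_one' := Subtype.ext (map_one (RelProj.gradedHomAt φ hφ V.1 hV))
        map_mul' := fun a b => Subtype.ext (map_mul (RelProj.gradedHomAt φ hφ V.1 hV) a.1 b.1)
        map_zero' := Subtype.ext (map_zero (RelProj.gradedHomAt φ hφ V.1 hV))
        map_add' := fun a b => Subtype.ext (map_add (RelProj.gradedHomAt φ hφ V.1 hV) a.1 b.1) }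
    have e1 : Proj.map (RelProj.gradedHomAt φ hφ V.1 hV) (hirr V.1 hV) ≫
        Proj.toSpecZero (𝒜.deg V.1 hV) =
        Proj.toSpecZero (ℬ.deg V.1 hV) ≫ Spec.map (CommRingCat.ofHom ψ0) :=
      H5PZ.map_toSpecZero _ _ (RelProj.gradedHomAt φ hφ V.1 hV) (hirr V.1 hV) ψ0 (fun a => rfl)
    have e2 : Spec.map (CommRingCat.ofHom ψ0) ≫ Spec.map (𝒜.strZero V.1 hV) =
        Spec.map (ℬ.strZero V.1 hV) := by
      rw [← Spec.map_comp]
      congr 1
      ext r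
      exact congrArg (fun t => (t.app (op V.1)).hom r) φ.comm
    rw [← Category.assoc, hh V.1 hV, ← hB.chart_over V.1 hV]
    simp only [Category.assoc]
    rw [← hA.chart_over V.1 hV, Iso.inv_hom_id_assoc, reassoc_of% e1, reassoc_of% e2]
  subst hcomp
  rw [IsZariskiLocalAtTarget.iff_of_iSup_eq_top (P := @IsClosedImmersion)
    (fun V : Y.affineOpens => pA ⁻¹ᵁ V.1)
    (Scheme.Hom.iSup_preimage_eq_top pA (iSup_affineOpens_eq_top Y))]
  intro V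
  have hV : IsAffineOpen V.1 := V.2
  have key : (h ∣_ (pA ⁻¹ᵁ V.1)) = (chartB V.1 hV).hom ≫
      Proj.map (RelProj.gradedHomAt φ hφ V.1 hV) (hirr V.1 hV) ≫ (chartA V.1 hV).inv := by
    have e3 : ((chartB V.1 hV).hom ≫
        Proj.map (RelProj.gradedHomAt φ hφ V.1 hV) (hirr V.1 hV) ≫ (chartA V.1 hV).inv) ≫
        (pA ⁻¹ᵁ V.1).ι = ((h ≫ pA) ⁻¹ᵁ V.1).ι ≫ h := by
      rw [Category.assoc, Category.assoc]
      exact (hh V.1 hV).symm
    exact (cancel_mono (pA ⁻¹ᵁ V.1).ι).mp ((morphismRestrict_ι h _).trans e3.symm)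
  have h1 : IsClosedImmersion (Proj.map (RelProj.gradedHomAt φ hφ V.1 hV) (hirr V.1 hV)) :=
    H5PC3.main _ _ (RelProj.gradedHomAt φ hφ V.1 hV) (fun n hn b hb => hsurj V.1 hV n hn b hb)
      (hirr V.1 hV)
  have h2 : IsClosedImmersion (Proj.map (RelProj.gradedHomAt φ hφ V.1 hV) (hirr V.1 hV) ≫
      (chartA V.1 hV).inv) := inferInstance
  have h3 : IsClosedImmersion ((chartB V.1 hV).hom ≫
      Proj.map (RelProj.gradedHomAt φ hφ V.1 hV) (hirr V.1 hV) ≫ (chartA V.1 hV).inv) :=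
    inferInstance
  rw [key]
  exact h3


end H5RC
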