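import Mathlib

universe u
open CategoryTheory CategoryTheory.Limits AlgebraicGeometry HomogeneousLocalization

namespace H5FT

variable {A σ : Type u} [CommRing A] [SetLike σ A] [AddSubgroupClass σ A] (𝒜 : ℕ → σ)
    [GradedRing 𝒜]

theorem closure_graded_induction
    (hgen : Subring.closure ((𝒜 0 : Set A) ∪ (𝒜 1 : Set A)) = ⊤)
    (C : ℕ → A → Prop) (h0 : ∀ k, C k 0) (hadd : ∀ k x y, C k x → C k y → C k (x + y))
    (hneg : ∀ k x, C k x → C k (-x))
    (hmul : ∀ i j x y, x ∈ 𝒜 i → y ∈ 𝒜 j → C i x → C j y → C (i + j) (x * y))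
    (hA0 : ∀ x ∈ 𝒜 0, C 0 x) (hA1 : ∀ x ∈ 𝒜 1, C 1 x) :
    ∀ k x, x ∈ 𝒜 k → C k x := by
  classical
  have hsum : ∀ (k : ℕ) {ι : Type} (s : Finset ι) (g : ι → A),
      (∀ i ∈ s, C k (g i)) → C k (∑ i ∈ s, g i) := by
    intro k ι s g h
    induction s using Finset.induction_on with
    | empty => simpa using h0 k
    | insert a s ha ih =>
      rw [Finset.sum_insert ha]
      exact hadd k _ _ (h a (Finset.mem_insert_self a s))
        (ih (fun i hi => h i (Finset.mem_insert_of_mem hi)))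
  have key : ∀ a : A, ∀ k, C k (DirectSum.decompose 𝒜 a k : A) := by
    intro a
    have ha : a ∈ Subring.closure ((𝒜 0 : Set A) ∪ (𝒜 1 : Set A)) := by rw [hgen]; trivial
    induction ha using Subring.closure_induction with
    | mem x hx =>
      intro k
      rcases hx with hx | hx
      · by_cases hk : k = 0
        · subst hk; rw [DirectSum.decompose_of_mem_same 𝒜 hx]; exact hA0 x hx
        · rw [DirectSum.decompose_of_mem_ne 𝒜 hx (Ne.symm hk)]; exact h0 k
      · by_cases hk : k = 1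
        · subst hk; rw [DirectSum.decompose_of_mem_same 𝒜 hx]; exact hA1 x hx
        · rw [DirectSum.decompose_of_mem_ne 𝒜 hx (Ne.symm hk)]; exact h0 k
    | zero =>
      intro k
      rw [DirectSum.decompose_zero, DirectSum.zero_apply, ZeroMemClass.coe_zero]; exact h0 k
    | one =>
      intro k
      have h1 : (1 : A) ∈ 𝒜 0 := SetLike.GradedOne.one_mem
      by_cases hk : k = 0
      · subst hk; rw [DirectSum.decompose_of_mem_same 𝒜 h1]; exact hA0 1 h1
      · rw [DirectSum.decompose_of_mem_ne 𝒜 h1 (Ne.symm hk)]; exact h0 k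
    | add x y _ _ hx hy =>
      intro k
      rw [DirectSum.decompose_add, DirectSum.add_apply, AddMemClass.coe_add]
      exact hadd k _ _ (hx k) (hy k)
    | neg x _ hx =>
      intro k
      have e : (DirectSum.decompose 𝒜 (-x) k : A) = -(DirectSum.decompose 𝒜 x k : A) := by
        rw [DirectSum.decompose_neg]; rfl
      rw [e]; exact hneg k _ (hx k)
    | mul x y _ _ hx hy =>
      intro k
      rw [DirectSum.decompose_mul, DirectSum.coe_mul_apply]
      apply hsum
      intro ij hij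
      rw [Finset.mem_filter] at hij
      have h := hmul ij.1 ij.2 _ _ (SetLike.coe_mem _) (SetLike.coe_mem _) (hx ij.1) (hy ij.2)
      rw [hij.2] at h
      exact h
  intro k x hx
  have h := key x k
  rw [DirectSum.decompose_of_mem_same 𝒜 hx] at h
  exact h

theorem irrelevant_le_span
    (hgen : Subring.closure ((𝒜 0 : Set A) ∪ (𝒜 1 : Set A)) = ⊤) (T : Finset A)
    (hT1 : ∀ x ∈ 𝒜 1, x ∈ Ideal.span (T : Set A)) :
    (HomogeneousIdeal.irrelevant 𝒜).toIdeal ≤ Ideal.span (T : Set A) := by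
  have h := closure_graded_induction 𝒜 hgen (fun k x => 1 ≤ k → x ∈ Ideal.span (T : Set A))
    (fun k _ => Ideal.zero_mem _) (fun k x y hx hy hk => Ideal.add_mem _ (hx hk) (hy hk))
    (fun k x hx hk => neg_mem (hx hk))
    (fun i j x y _ _ hx hy hk => by
      by_cases hi : 1 ≤ i
      · exact Ideal.mul_mem_right _ _ (hx hi)
      · have hj : 1 ≤ j := by omega
        exact Ideal.mul_mem_left _ _ (hy hj))
    (fun x _ hk => absurd hk (by norm_num))
    (fun x hx _ => hT1 x hx)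
  rw [HomogeneousIdeal.irrelevant_eq_span, Ideal.span_le]
  intro x hx
  simp only [Set.mem_iUnion] at hx
  obtain ⟨i, hi, hxi⟩ := hx
  exact h i x hxi hi

def den (t : A) (k : ℕ) : Submonoid.powers t := ⟨t ^ k, k, rfl⟩

theorem den_coe (t : A) (k : ℕ) : ((den t k : Submonoid.powers t) : A) = t ^ k := rfl

variable {O : Type u} [CommRing O]

theorem away_finiteType (s : O →+* A) (s0 : O →+* 𝒜 0)
    (hs0 : ∀ o, ((s0 o : 𝒜 0) : A) = s o)
    (hgen : Subring.closure ((𝒜 0 : Set A) ∪ (𝒜 1 : Set A)) = ⊤)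
    (T : Finset A) (hTsub : ∀ t ∈ T, t ∈ 𝒜 1)
    (hT : ∀ x ∈ 𝒜 1, ∃ c : A → O, x = ∑ t ∈ T, s (c t) * t)
    (t : A) (ht : t ∈ 𝒜 1) :
    ((fromZeroRingHom 𝒜 (Submonoid.powers t)).comp s0).FiniteType := by
  classical
  letI : Algebra O (Away 𝒜 t) := ((fromZeroRingHom 𝒜 (Submonoid.powers t)).comp s0).toAlgebra
  obtain ⟨gfun, hgval⟩ : ∃ gfun : A → Away 𝒜 t, ∀ t' (_ : t' ∈ 𝒜 1),
      (gfun t').val = Localization.mk t' (⟨t, Submonoid.mem_powers t⟩ : Submonoid.powers t) :=
    ⟨fun t' => if h : t' ∈ 𝒜 1 then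
        HomogeneousLocalization.mk ⟨1, ⟨t', h⟩, ⟨t, ht⟩, ⟨1, pow_one t⟩⟩ else 0,
      fun t' h => by simp only [dif_pos h]; rfl⟩
  obtain ⟨G, hGdef⟩ : ∃ G : Finset (Away 𝒜 t), G = T.image gfun := ⟨_, rfl⟩
  obtain ⟨𝔅, h𝔅⟩ : ∃ 𝔅 : Subring (Away 𝒜 t),
      ∀ w, w ∈ 𝔅 ↔ w ∈ Algebra.adjoin O (G : Set (Away 𝒜 t)) :=
    ⟨(Algebra.adjoin O (G : Set (Away 𝒜 t))).toSubring, fun w => Iff.rfl⟩
  obtain ⟨v, hv⟩ : ∃ v : Away 𝒜 t →+* Localization.Away t, ∀ w, v w = w.val :=
    ⟨algebraMap (Away 𝒜 t) (Localization.Away t),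
      fun w => HomogeneousLocalization.algebraMap_apply w⟩
  have hden : ∀ i j, den t i * den t j = den t (i + j) :=
    fun i j => Subtype.ext (pow_add t i j).symm
  have hO : ∀ o : O, Localization.mk (s o) (1 : Submonoid.powers t) ∈ 𝔅.map v := by
    intro o
    refine Subring.mem_map.mpr ⟨algebraMap O (Away 𝒜 t) o,
      (h𝔅 _).mpr ((Algebra.adjoin O _).algebraMap_mem o), ?_⟩
    rw [hv]
    show (fromZeroRingHom 𝒜 (Submonoid.powers t) (s0 o)).val = _
    rw [← hs0 o]
    rfl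
  have hG : ∀ t' ∈ T, Localization.mk t' (den t 1) ∈ 𝔅.map v := by
    intro t' ht'
    refine Subring.mem_map.mpr ⟨gfun t', (h𝔅 _).mpr (Algebra.subset_adjoin
      (Finset.mem_coe.mpr (hGdef ▸ Finset.mem_image_of_mem gfun ht'))), ?_⟩
    rw [hv, hgval t' (hTsub t' ht')]
    congr 1
    exact Subtype.ext (pow_one t).symm
  have hC1 : ∀ x ∈ 𝒜 1, Localization.mk x (den t 1) ∈ 𝔅.map v := by
    intro x hx
    obtain ⟨c, hc⟩ := hT x hx
    rw [hc]
    have hs : Localization.mk (∑ t' ∈ T, s (c t') * t') (den t 1) =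
        ∑ t' ∈ T, Localization.mk (s (c t') * t') (den t 1) :=
      map_sum (Localization.mkAddMonoidHom (den t 1)) _ _
    rw [hs]
    apply Subring.sum_mem
    intro t' ht'
    have e : Localization.mk (s (c t') * t') (den t 1) =
        Localization.mk (s (c t')) (1 : Submonoid.powers t) * Localization.mk t' (den t 1) := by
      rw [Localization.mk_mul, one_mul]
    rw [e]
    exact Subring.mul_mem _ (hO _) (hG t' ht')
  have hC0 : ∀ x ∈ 𝒜 0, Localization.mk x (den t 0) ∈ 𝔅.map v := by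
    intro x hx
    have hxt : x * t ∈ 𝒜 1 := by
      have h := SetLike.mul_mem_graded hx ht
      simpa using h
    have e : Localization.mk x (den t 0) = Localization.mk (x * t) (den t 1) := by
      rw [Localization.mk_eq_mk_iff, Localization.r_iff_exists]
      refine ⟨1, ?_⟩
      rw [den_coe, den_coe]
      simp only [OneMemClass.coe_one, one_mul, pow_zero, pow_one]
      ring
    rw [e]
    exact hC1 _ hxt
  have hall := closure_graded_induction 𝒜 hgen
    (fun k x => Localization.mk x (den t k) ∈ 𝔅.map v)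
    (fun k => by rw [Localization.mk_zero]; exact Subring.zero_mem _)
    (fun k x y hx hy => by rw [← Localization.add_mk_self]; exact Subring.add_mem _ hx hy)
    (fun k x hx => by rw [← Localization.neg_mk]; exact Subring.neg_mem _ hx)
    (fun i j x y _ _ hx hy => by
      rw [← hden i j, ← Localization.mk_mul]; exact Subring.mul_mem _ hx hy)
    hC0 hC1
  have htop : Algebra.adjoin O (G : Set (Away 𝒜 t)) = ⊤ := by
    rw [eq_top_iff]
    intro w _
    obtain ⟨n, a, ha, rfl⟩ := Away.mk_surjective 𝒜 ht w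
    have ha' : a ∈ 𝒜 n := by simpa using ha
    obtain ⟨w', hw', hvw⟩ := Subring.mem_map.mp (hall n a ha')
    have hww : w' = Away.mk 𝒜 ht n a ha := by
      apply HomogeneousLocalization.val_injective
      rw [← hv w', hvw, Away.val_mk]
      rfl
    rw [← hww]
    exact (h𝔅 _).mp hw'
  exact ⟨⟨G, htop⟩⟩

set_option backward.isDefEq.respectTransparency false in
theorem main (s : O →+* A) (s0 : O →+* 𝒜 0)
    (hs0 : ∀ o, ((s0 o : 𝒜 0) : A) = s o)
    (hgen : Subring.closure ((𝒜 0 : Set A) ∪ (𝒜 1 : Set A)) = ⊤)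
    (T : Finset A) (hTsub : ∀ t ∈ T, t ∈ 𝒜 1)
    (hT : ∀ x ∈ 𝒜 1, ∃ c : A → O, x = ∑ t ∈ T, s (c t) * t) :
    LocallyOfFiniteType (Proj.toSpecZero 𝒜 ≫ Spec.map (CommRingCat.ofHom s0)) ∧
      CompactSpace (Proj 𝒜) := by
  classical
  have hT1 : ∀ x ∈ 𝒜 1, x ∈ Ideal.span (T : Set A) := by
    intro x hx
    obtain ⟨c, hc⟩ := hT x hx
    rw [hc]
    exact Ideal.sum_mem _ (fun t ht =>
      Ideal.mul_mem_left _ _ (Ideal.subset_span (Finset.mem_coe.mpr ht)))
  have hirr := irrelevant_le_span 𝒜 hgen T hT1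
  have hrange : Set.range (fun i : {x // x ∈ T} => (i : A)) = (T : Set A) := by
    ext x; simp
  let 𝒰 := Proj.affineOpenCoverOfIrrelevantLESpan 𝒜 (fun i : {x // x ∈ T} => (i : A))
    (m := fun _ => 1) (fun i => hTsub i.1 i.2) (fun _ => one_pos)
    (by rw [hrange]; exact hirr)
  constructor
  · refine (IsZariskiLocalAtSource.iff_of_openCover (P := @LocallyOfFiniteType)
      𝒰.openCover).mpr (fun (i : {x // x ∈ T}) => ?_)
    have hi : 𝒰.openCover.f i = Proj.awayι 𝒜 i.1 (hTsub i.1 i.2) one_pos := rfl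
    rw [hi, Proj.awayι_toSpecZero_assoc, ← Spec.map_comp]
    rw [HasRingHomProperty.Spec_iff (P := @LocallyOfFiniteType)]
    exact away_finiteType 𝒜 s s0 hs0 hgen T hTsub hT i.1 (hTsub i.1 i.2)
  · haveI : Finite 𝒰.openCover.I₀ := (inferInstance : Finite {x // x ∈ T})
    exact Scheme.OpenCover.compactSpace 𝒰.openCover

end H5FT
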