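import Mathlib
import Groth.Prelude.Def_HTop2

universe u

namespace H5SN

open HTop

theorem uniq_of_reduced {B : Type*} [CommRing B] [IsReduced B] {a b : B}
    (h2 : a ^ 2 = b ^ 2) (h3 : a ^ 3 = b ^ 3) : a = b := by
  have h : (a - b) ^ 3 = 0 := by
    linear_combination (-3 * b - 3 * a) * h2 + 4 * h3
  exact sub_eq_zero.mp (IsReduced.eq_zero _ ⟨3, h⟩)

theorem reduced_of_seminormal (A : Type u) [CommRing A] (hA : IsSeminormalRing A) :
    IsReduced A := by
  rw [isReduced_iff_pow_one_lt 2 (by norm_num)]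
  intro b hb
  obtain ⟨a, _, huniq⟩ := hA 0 0 (by simp)
  have h0 : (0 : A) = a := huniq 0 ⟨by simp, by simp⟩
  have hb3 : b ^ 3 = b ^ 2 * b := by ring
  have hb' : b = a := huniq b ⟨by rw [hb], by rw [hb3, hb, zero_mul]⟩
  rw [hb', ← h0]

theorem ker_away {A : Type u} [CommRing A] (f : A) (r : A)
    (hr : algebraMap A (Localization.Away f) r = 0) : ∃ N : ℕ, f ^ N * r = 0 := by
  rw [← map_zero (algebraMap A (Localization.Away f))] at hr
  obtain ⟨⟨_, N, rfl⟩, hc⟩ := (IsLocalization.eq_iff_exists (Submonoid.powers f) _).mp hr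
  exact ⟨N, by simpa using hc⟩

theorem eq_zero_of_cover {A : Type u} [CommRing A] (s : Finset A)
    (hs : Ideal.span (s : Set A) = ⊤)
    (r : A) (h : ∀ g ∈ s, algebraMap A (Localization.Away g) r = 0) : r = 0 := by
  classical
  have h1 : ∀ g ∈ s, ∃ n : ℕ, g ^ n * r = 0 := fun g hg => ker_away g r (h g hg)
  choose! n hn using h1
  have h2 : ∀ g ∈ s, g ^ (s.sup n) * r = 0 := by
    intro g hg
    obtain ⟨k, hk⟩ := Nat.exists_eq_add_of_le (Finset.le_sup (f := n) hg)
    rw [hk, pow_add, mul_right_comm, hn g hg, zero_mul]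
  have h3 : Ideal.span ((fun x => x ^ (s.sup n)) '' (s : Set A)) = ⊤ :=
    Ideal.span_pow_eq_top _ hs _
  have h4 : (1 : A) ∈ Ideal.span ((fun x => x ^ (s.sup n)) '' (s : Set A)) := by
    rw [h3]; exact Submodule.mem_top
  have h5 : Ideal.span ((fun x => x ^ (s.sup n)) '' (s : Set A)) ≤
      LinearMap.ker (LinearMap.mulRight A r) := by
    rw [Ideal.span_le]
    rintro _ ⟨g, hg, rfl⟩
    rw [SetLike.mem_coe, LinearMap.mem_ker, LinearMap.mulRight_apply]
    exact h2 g hg
  have h6 := h5 h4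
  rw [LinearMap.mem_ker, LinearMap.mulRight_apply, one_mul] at h6
  exact h6

theorem aux1 {R S : Type*} [CommRing R] [CommRing S] (φ : R →+* S) (h b : R) (ag : S)
    (n N k : ℕ) (H : φ h ^ N * φ b = φ h ^ N * (φ h ^ n * ag)) :
    φ (h ^ (N + k) * b) = φ (h ^ (N + k + n)) * ag := by
  simp only [map_mul, map_pow]
  linear_combination (φ h ^ k) * H

theorem aux2 {R Sg Sh B : Type*} [CommRing R] [CommRing Sg] [CommRing Sh] [CommRing B]
    (φg : R →+* Sg) (φh : R →+* Sh) (ψ : Sg →+* B) (L : Sh →+* B)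
    (hL : ∀ r, L (φh r) = ψ (φg r)) (h b : R) (ah : Sh) (ag : Sg) (n : ℕ)
    (hb : ah * φh h ^ n = φh b) (hc : ψ ag = L ah) :
    ψ (φg b) = ψ (φg h ^ n * ag) := by
  rw [← hL, ← hb, map_mul, map_pow, hL, map_mul, map_pow, hc, mul_comm]

theorem glue {A : Type u} [CommRing A] (s : Finset A) (hs : Ideal.span (s : Set A) = ⊤)
    (a : ∀ g : A, Localization.Away g)
    (hcompat : ∀ g ∈ s, ∀ h ∈ s,
      ∀ (hu : IsUnit (((algebraMap (Localization.Away g)
          (Localization.Away (algebraMap A (Localization.Away g) h))).comp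
          (algebraMap A (Localization.Away g))) h)),
      algebraMap (Localization.Away g)
          (Localization.Away (algebraMap A (Localization.Away g) h)) (a g) =
        IsLocalization.Away.lift h hu (a h)) :
    ∃ c : A, ∀ g ∈ s, algebraMap A (Localization.Away g) c = a g := by
  classical
  have step1 : ∀ h ∈ s, ∃ (m : ℕ) (c : A), ∀ g ∈ s,
      algebraMap A (Localization.Away g) c =
        algebraMap A (Localization.Away g) (h ^ m) * a g := by
    intro h hh
    obtain ⟨n, b, hb⟩ := IsLocalization.Away.surj h (a h)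
    have hN : ∀ g ∈ s, ∃ N : ℕ,
        algebraMap A (Localization.Away g) h ^ N * algebraMap A (Localization.Away g) b =
        algebraMap A (Localization.Away g) h ^ N *
          (algebraMap A (Localization.Away g) h ^ n * a g) := by
      intro g hg
      have hu : IsUnit (((algebraMap (Localization.Away g)
          (Localization.Away (algebraMap A (Localization.Away g) h))).comp
          (algebraMap A (Localization.Away g))) h) :=
        IsLocalization.Away.algebraMap_isUnit
          (S := Localization.Away (algebraMap A (Localization.Away g) h))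
          (algebraMap A (Localization.Away g) h)
      have hc := hcompat g hg h hh hu
      have e1 := aux2 (algebraMap A (Localization.Away g)) (algebraMap A (Localization.Away h))
        (algebraMap (Localization.Away g)
          (Localization.Away (algebraMap A (Localization.Away g) h)))
        (IsLocalization.Away.lift h hu)
        (fun r => IsLocalization.Away.lift_eq h hu r) h b (a h) (a g) n hb hc
      obtain ⟨⟨_, N, rfl⟩, hN⟩ := (IsLocalization.eq_iff_exists
        (Submonoid.powers (algebraMap A (Localization.Away g) h)) _).mp e1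
      exact ⟨N, hN⟩
    choose! N hN' using hN
    refine ⟨s.sup N + n, h ^ s.sup N * b, ?_⟩
    intro g hg
    obtain ⟨k, hk⟩ := Nat.exists_eq_add_of_le (Finset.le_sup (f := N) hg)
    rw [hk]
    exact aux1 _ h b (a g) n (N g) k (hN' g hg)
  choose! m c hmc using step1
  obtain ⟨J, hJ⟩ : ∃ J : Ideal A, ∀ t : A, t ∈ J ↔ ∃ c : A, ∀ g ∈ s,
      algebraMap A (Localization.Away g) c = algebraMap A (Localization.Away g) t * a g := by
    refine ⟨{ carrier := {t | ∃ c : A, ∀ g ∈ s, algebraMap A (Localization.Away g) c = algebraMap A (Localization.Away g) t * a g}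
              add_mem' := ?_
              zero_mem' := ?_
              smul_mem' := ?_ }, fun t => Iff.rfl⟩
    · rintro t₁ t₂ ⟨c₁, h₁⟩ ⟨c₂, h₂⟩
      exact ⟨c₁ + c₂, fun g hg => by rw [map_add, map_add, add_mul, h₁ g hg, h₂ g hg]⟩
    · exact ⟨0, fun g _ => by rw [map_zero, zero_mul]⟩
    · rintro r t ⟨c₁, h₁⟩
      exact ⟨r * c₁, fun g hg => by
        rw [smul_eq_mul, map_mul, map_mul, h₁ g hg, mul_assoc]⟩
  have hpow : ∀ h ∈ s, h ^ s.sup m ∈ J := by
    intro h hh
    obtain ⟨k, hk⟩ := Nat.exists_eq_add_of_le (Finset.le_sup (f := m) hh)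
    rw [hk, pow_add]
    exact J.mul_mem_right _ ((hJ _).mpr ⟨c h, hmc h hh⟩)
  have htop : J = ⊤ := by
    rw [eq_top_iff, ← Ideal.span_pow_eq_top (s : Set A) hs (s.sup m), Ideal.span_le]
    rintro _ ⟨h, hh, rfl⟩
    exact hpow h hh
  have h1 : (1 : A) ∈ J := by rw [htop]; exact Submodule.mem_top
  obtain ⟨c₀, hc₀⟩ := (hJ 1).mp h1
  exact ⟨c₀, fun g hg => by rw [hc₀ g hg, map_one, one_mul]⟩

theorem aux_exists {A B : Type*} [CommRing A] [CommRing B] (φ : A →+* B) (f : A)
    (hker : ∀ r : A, φ r = 0 → ∃ N : ℕ, f ^ N * r = 0)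
    (v : B) (hv : v * φ f = 1)
    (hA : ∀ x y : A, x ^ 3 = y ^ 2 → ∃ c : A, x = c ^ 2 ∧ y = c ^ 3)
    (X Y : B) (hXY : X ^ 3 = Y ^ 2) (n m : ℕ) (a b : A)
    (ha : X * φ f ^ n = φ a) (hb : Y * φ f ^ m = φ b) :
    ∃ C : B, X = C ^ 2 ∧ Y = C ^ 3 := by
  have ha1 : X * φ f ^ (2 * (n + m)) = φ (a * f ^ (n + 2 * m)) := by
    rw [map_mul, map_pow, ← ha]; ring
  have hb1 : Y * φ f ^ (3 * (n + m)) = φ (b * f ^ (3 * n + 2 * m)) := by
    rw [map_mul, map_pow, ← hb]; ring
  obtain ⟨a₁, ha₁⟩ : ∃ a₁ : A, a₁ = a * f ^ (n + 2 * m) := ⟨_, rfl⟩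
  obtain ⟨b₁, hb₁⟩ : ∃ b₁ : A, b₁ = b * f ^ (3 * n + 2 * m) := ⟨_, rfl⟩
  obtain ⟨k, hk⟩ : ∃ k : ℕ, k = n + m := ⟨_, rfl⟩
  rw [← ha₁, ← hk] at ha1
  rw [← hb₁, ← hk] at hb1
  have h0 : φ (a₁ ^ 3 - b₁ ^ 2) = 0 := by
    rw [map_sub, map_pow, map_pow, ← ha1, ← hb1]
    linear_combination (φ f ^ (6 * k)) * hXY
  obtain ⟨N, hN⟩ := hker _ h0
  have h3 : (a₁ * f ^ (2 * N)) ^ 3 = (b₁ * f ^ (3 * N)) ^ 2 := by
    linear_combination (f ^ (5 * N)) * hN
  obtain ⟨c, hc2, hc3⟩ := hA _ _ h3
  have huv : ∀ j : ℕ, φ f ^ j * v ^ j = 1 := fun j => by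
    rw [← mul_pow, mul_comm, hv, one_pow]
  refine ⟨φ c * v ^ (k + N), ?_, ?_⟩
  · calc X = X * (φ f ^ (2 * (k + N)) * v ^ (2 * (k + N))) := by rw [huv, mul_one]
      _ = (X * φ f ^ (2 * k)) * φ f ^ (2 * N) * v ^ (2 * (k + N)) := by ring
      _ = φ (a₁ * f ^ (2 * N)) * v ^ (2 * (k + N)) := by rw [ha1, map_mul, map_pow]
      _ = (φ c * v ^ (k + N)) ^ 2 := by rw [hc2, map_pow]; ring
  · calc Y = Y * (φ f ^ (3 * (k + N)) * v ^ (3 * (k + N))) := by rw [huv, mul_one]
      _ = (Y * φ f ^ (3 * k)) * φ f ^ (3 * N) * v ^ (3 * (k + N)) := by ring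
      _ = φ (b₁ * f ^ (3 * N)) * v ^ (3 * (k + N)) := by rw [hb1, map_mul, map_pow]
      _ = (φ c * v ^ (k + N)) ^ 3 := by rw [hc3, map_pow]; ring

theorem seminormal_away {A : Type u} [CommRing A] (f : A) (hA : IsSeminormalRing A) :
    IsSeminormalRing (Localization.Away f) := by
  haveI : IsReduced A := reduced_of_seminormal A hA
  haveI : IsReduced (Localization.Away f) :=
    isReduced_localizationPreserves (Submonoid.powers f) (Localization.Away f) inferInstance
  intro X Y hXY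
  obtain ⟨n, a, ha⟩ := IsLocalization.Away.surj f X
  obtain ⟨m, b, hb⟩ := IsLocalization.Away.surj f Y
  obtain ⟨v, hv⟩ :=
    (IsLocalization.Away.algebraMap_isUnit (S := Localization.Away f) f).exists_left_inv
  obtain ⟨C, hC2, hC3⟩ := aux_exists (algebraMap A (Localization.Away f)) f
    (fun r hr => ker_away f r hr) v hv
    (fun x y h => (hA x y h).exists) X Y hXY n m a b ha hb
  refine ⟨C, ⟨hC2, hC3⟩, ?_⟩
  rintro C' ⟨h2, h3⟩
  exact uniq_of_reduced (by rw [← h2, hC2]) (by rw [← h3, hC3])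

theorem seminormal_of_cover {A : Type u} [CommRing A] (s : Finset A)
    (hs : Ideal.span (s : Set A) = ⊤)
    (h : ∀ f ∈ s, IsSeminormalRing (Localization.Away f)) : IsSeminormalRing A := by
  classical
  have hredg : ∀ g ∈ s, IsReduced (Localization.Away g) := fun g hg =>
    reduced_of_seminormal _ (h g hg)
  haveI hredA : IsReduced A := by
    constructor
    intro r hr
    apply eq_zero_of_cover s hs
    intro g hg
    haveI := hredg g hg
    exact IsReduced.eq_zero _ (hr.map (algebraMap A (Localization.Away g)))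
  intro x y hxy
  have hloc : ∀ g ∈ s, ∃ ag : Localization.Away g,
      algebraMap A (Localization.Away g) x = ag ^ 2 ∧
        algebraMap A (Localization.Away g) y = ag ^ 3 := by
    intro g hg
    exact (h g hg _ _ (by rw [← map_pow, ← map_pow, hxy])).exists
  choose! a ha using hloc
  have hcompat : ∀ g ∈ s, ∀ h' ∈ s,
      ∀ (hu : IsUnit (((algebraMap (Localization.Away g)
          (Localization.Away (algebraMap A (Localization.Away g) h'))).comp
          (algebraMap A (Localization.Away g))) h')),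
      algebraMap (Localization.Away g)
          (Localization.Away (algebraMap A (Localization.Away g) h')) (a g) =
        IsLocalization.Away.lift h' hu (a h') := by
    intro g hg h' hh' hu
    haveI := hredg g hg
    haveI : IsReduced (Localization.Away (algebraMap A (Localization.Away g) h')) :=
      isReduced_localizationPreserves
        (Submonoid.powers (algebraMap A (Localization.Away g) h')) _ inferInstance
    apply uniq_of_reduced
    · rw [← map_pow, ← map_pow, ← (ha g hg).1, ← (ha h' hh').1, IsLocalization.Away.lift_eq]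
      rfl
    · rw [← map_pow, ← map_pow, ← (ha g hg).2, ← (ha h' hh').2, IsLocalization.Away.lift_eq]
      rfl
  obtain ⟨c, hc⟩ := glue s hs a hcompat
  have hc2 : x = c ^ 2 := by
    apply sub_eq_zero.mp
    apply eq_zero_of_cover s hs
    intro g hg
    rw [map_sub, map_pow, hc g hg, (ha g hg).1, sub_self]
  have hc3 : y = c ^ 3 := by
    apply sub_eq_zero.mp
    apply eq_zero_of_cover s hs
    intro g hg
    rw [map_sub, map_pow, hc g hg, (ha g hg).2, sub_self]
  refine ⟨c, ⟨hc2, hc3⟩, ?_⟩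
  rintro c' ⟨h2, h3⟩
  exact uniq_of_reduced (by rw [← h2, hc2]) (by rw [← h3, hc3])

theorem uniq_p {B : Type*} [CommRing B] [IsReduced B] (p : ℕ) (hp : p.Prime) {a b : B}
    (h1 : a ^ p = b ^ p) (h2 : (p : B) * a = (p : B) * b) : a = b := by
  have stepA : ∀ k : ℕ, (p : B) * a ^ k = (p : B) * b ^ k := by
    intro k
    induction k with
    | zero => rw [pow_zero, pow_zero]
    | succ k ih =>
      calc (p : B) * a ^ (k + 1) = ((p : B) * a ^ k) * a := by ring
        _ = ((p : B) * b ^ k) * a := by rw [ih]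
        _ = b ^ k * ((p : B) * a) := by ring
        _ = b ^ k * ((p : B) * b) := by rw [h2]
        _ = (p : B) * b ^ (k + 1) := by ring
  have stepB : ∀ k : ℕ, k ≤ p → ((p.choose k : ℕ) : B) * a ^ k = ((p.choose k : ℕ) : B) * b ^ k := by
    intro k hk
    rcases Nat.eq_zero_or_pos k with h0 | h0
    · rw [h0, pow_zero, pow_zero]
    · rcases Nat.lt_or_ge k p with hlt | hge
      · obtain ⟨m, hm⟩ := hp.dvd_choose_self (by omega) hlt
        rw [hm, Nat.cast_mul, mul_assoc, mul_assoc, mul_left_comm, stepA k, ← mul_left_comm]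
      · have hkp : k = p := le_antisymm hk hge
        rw [hkp, Nat.choose_self, Nat.cast_one, one_mul, one_mul, h1]
  have hsum : (a - b) ^ p = (b - b) ^ p := by
    rw [sub_eq_add_neg, sub_eq_add_neg b b, add_pow, add_pow]
    refine Finset.sum_congr rfl fun k hk => ?_
    have hkp : k ≤ p := Nat.lt_succ_iff.mp (Finset.mem_range.mp hk)
    have := stepB k hkp
    linear_combination ((-b) ^ (p - k)) * this
  have h : (a - b) ^ p = 0 := by rw [hsum, sub_self, zero_pow hp.ne_zero]
  exact sub_eq_zero.mp (IsReduced.eq_zero _ ⟨p, h⟩)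

theorem compat_p {R Sg Sh B : Type*} [CommRing R] [CommRing Sg] [CommRing Sh] [CommRing B]
    [IsReduced B]
    (φg : R →+* Sg) (φh : R →+* Sh) (ψ : Sg →+* B) (L : Sh →+* B)
    (hL : ∀ r, L (φh r) = ψ (φg r)) (p : ℕ) (hp : p.Prime) (x y : R) (ag : Sg) (ah : Sh)
    (hg1 : φg x = ag ^ p) (hg2 : φg y = (p : Sg) * ag)
    (hh1 : φh x = ah ^ p) (hh2 : φh y = (p : Sh) * ah) : ψ ag = L ah := by
  apply uniq_p p hp
  · rw [← map_pow, ← map_pow, ← hg1, ← hh1, hL]
  · calc (p : B) * ψ ag = ψ ((p : Sg) * ag) := by rw [map_mul, map_natCast]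
      _ = ψ (φg y) := by rw [hg2]
      _ = L (φh y) := (hL y).symm
      _ = L ((p : Sh) * ah) := by rw [hh2]
      _ = (p : B) * L ah := by rw [map_mul, map_natCast]

theorem aux_exists_p {A B : Type*} [CommRing A] [CommRing B] (φ : A →+* B) (f : A)
    (hker : ∀ r : A, φ r = 0 → ∃ N : ℕ, f ^ N * r = 0)
    (v : B) (hv : v * φ f = 1) (p : ℕ) (hp : 0 < p)
    (hA : ∀ x y : A, (p : A) ^ p * x = y ^ p → ∃ c : A, x = c ^ p ∧ y = (p : A) * c)
    (X Y : B) (hXY : (p : B) ^ p * X = Y ^ p) (n m : ℕ) (a b : A)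
    (ha : X * φ f ^ n = φ a) (hb : Y * φ f ^ m = φ b) :
    ∃ C : B, X = C ^ p ∧ Y = (p : B) * C := by
  obtain ⟨q, rfl⟩ : ∃ q, p = q + 1 := ⟨p - 1, by omega⟩
  obtain ⟨k, hk⟩ : ∃ k : ℕ, k = n + m := ⟨_, rfl⟩
  have ha1 : X * φ f ^ ((q + 1) * k) = φ (a * f ^ (m + q * k)) := by
    rw [map_mul, map_pow, ← ha, hk]; ring
  have hb1 : Y * φ f ^ k = φ (b * f ^ n) := by
    rw [map_mul, map_pow, ← hb, hk]; ring
  obtain ⟨a₁, ha₁⟩ : ∃ a₁ : A, a₁ = a * f ^ (m + q * k) := ⟨_, rfl⟩
  obtain ⟨b₁, hb₁⟩ : ∃ b₁ : A, b₁ = b * f ^ n := ⟨_, rfl⟩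
  rw [← ha₁] at ha1
  rw [← hb₁] at hb1
  have h0 : φ (((q + 1 : ℕ) : A) ^ (q + 1) * a₁ - b₁ ^ (q + 1)) = 0 := by
    rw [map_sub, map_mul, map_pow, map_natCast, map_pow, ← ha1, ← hb1]
    linear_combination (φ f ^ ((q + 1) * k)) * hXY
  obtain ⟨N, hN⟩ := hker _ h0
  have h3 : ((q + 1 : ℕ) : A) ^ (q + 1) * (a₁ * f ^ ((q + 1) * N)) =
      (b₁ * f ^ N) ^ (q + 1) := by
    linear_combination (f ^ (q * N)) * hN
  obtain ⟨c, hc2, hc3⟩ := hA _ _ h3
  have huv : ∀ j : ℕ, φ f ^ j * v ^ j = 1 := fun j => by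
    rw [← mul_pow, mul_comm, hv, one_pow]
  refine ⟨φ c * v ^ (k + N), ?_, ?_⟩
  · calc X = X * (φ f ^ ((q + 1) * (k + N)) * v ^ ((q + 1) * (k + N))) := by
          rw [huv, mul_one]
      _ = (X * φ f ^ ((q + 1) * k)) * φ f ^ ((q + 1) * N) * v ^ ((q + 1) * (k + N)) := by ring
      _ = φ (a₁ * f ^ ((q + 1) * N)) * v ^ ((q + 1) * (k + N)) := by
          rw [ha1, map_mul, map_pow]
      _ = (φ c * v ^ (k + N)) ^ (q + 1) := by rw [hc2, map_pow]; ring
  · calc Y = Y * (φ f ^ (k + N) * v ^ (k + N)) := by rw [huv, mul_one]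
      _ = (Y * φ f ^ k) * φ f ^ N * v ^ (k + N) := by ring
      _ = φ (b₁ * f ^ N) * v ^ (k + N) := by rw [hb1, map_mul, map_pow]
      _ = ((q + 1 : ℕ) : B) * (φ c * v ^ (k + N)) := by
          rw [hc3, map_mul, map_natCast]; ring

theorem awn_away {A : Type u} [CommRing A] (f : A) (hA : IsAWNRing A) :
    IsAWNRing (Localization.Away f) := by
  obtain ⟨hsn, hpA⟩ := hA
  refine ⟨seminormal_away f hsn, ?_⟩
  haveI : IsReduced A := reduced_of_seminormal A hsn
  haveI : IsReduced (Localization.Away f) :=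
    isReduced_localizationPreserves (Submonoid.powers f) (Localization.Away f) inferInstance
  intro p hpp X Y hXY
  obtain ⟨n, a, ha⟩ := IsLocalization.Away.surj f X
  obtain ⟨m, b, hb⟩ := IsLocalization.Away.surj f Y
  obtain ⟨v, hv⟩ :=
    (IsLocalization.Away.algebraMap_isUnit (S := Localization.Away f) f).exists_left_inv
  obtain ⟨C, hC1, hC2⟩ := aux_exists_p (algebraMap A (Localization.Away f)) f
    (fun r hr => ker_away f r hr) v hv p hpp.pos
    (fun x y h => (hpA p hpp x y h).exists) X Y hXY n m a b ha hb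
  refine ⟨C, ⟨hC1, hC2⟩, ?_⟩
  rintro C' ⟨h1, h2⟩
  exact uniq_p p hpp (by rw [← h1, hC1]) (by rw [← h2, hC2])

theorem awn_of_cover {A : Type u} [CommRing A] (s : Finset A)
    (hs : Ideal.span (s : Set A) = ⊤)
    (h : ∀ f ∈ s, IsAWNRing (Localization.Away f)) : IsAWNRing A := by
  classical
  have hsn : IsSeminormalRing A := seminormal_of_cover s hs (fun f hf => (h f hf).1)
  refine ⟨hsn, ?_⟩
  haveI : IsReduced A := reduced_of_seminormal A hsn
  have hredg : ∀ g ∈ s, IsReduced (Localization.Away g) := fun g hg =>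
    reduced_of_seminormal _ (h g hg).1
  intro p hpp x y hxy
  have hloc : ∀ g ∈ s, ∃ ag : Localization.Away g,
      algebraMap A (Localization.Away g) x = ag ^ p ∧
        algebraMap A (Localization.Away g) y = (p : Localization.Away g) * ag := by
    intro g hg
    exact ((h g hg).2 p hpp _ _ (by
      rw [← map_natCast (algebraMap A (Localization.Away g)) p, ← map_pow, ← map_mul,
        ← map_pow, hxy])).exists
  choose! a ha using hloc
  have hcompat : ∀ g ∈ s, ∀ h' ∈ s,
      ∀ (hu : IsUnit (((algebraMap (Localization.Away g)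
          (Localization.Away (algebraMap A (Localization.Away g) h'))).comp
          (algebraMap A (Localization.Away g))) h')),
      algebraMap (Localization.Away g)
          (Localization.Away (algebraMap A (Localization.Away g) h')) (a g) =
        IsLocalization.Away.lift h' hu (a h') := by
    intro g hg h' hh' hu
    haveI := hredg g hg
    haveI : IsReduced (Localization.Away (algebraMap A (Localization.Away g) h')) :=
      isReduced_localizationPreserves
        (Submonoid.powers (algebraMap A (Localization.Away g) h')) _ inferInstance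
    exact compat_p (algebraMap A (Localization.Away g)) (algebraMap A (Localization.Away h'))
      (algebraMap (Localization.Away g)
        (Localization.Away (algebraMap A (Localization.Away g) h')))
      (IsLocalization.Away.lift h' hu) (fun r => IsLocalization.Away.lift_eq h' hu r)
      p hpp x y (a g) (a h') (ha g hg).1 (ha g hg).2 (ha h' hh').1 (ha h' hh').2
  obtain ⟨c, hc⟩ := glue s hs a hcompat
  have hc2 : x = c ^ p := by
    apply sub_eq_zero.mp
    apply eq_zero_of_cover s hs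
    intro g hg
    rw [map_sub, map_pow, hc g hg, (ha g hg).1, sub_self]
  have hc3 : y = (p : A) * c := by
    apply sub_eq_zero.mp
    apply eq_zero_of_cover s hs
    intro g hg
    rw [map_sub, map_mul, map_natCast, hc g hg, (ha g hg).2, sub_self]
  refine ⟨c, ⟨hc2, hc3⟩, ?_⟩
  rintro c' ⟨h2, h3⟩
  exact uniq_p p hpp (by rw [← h2, hc2]) (by rw [← h3, hc3])

theorem seminormal_of_equiv {A B : Type u} [CommRing A] [CommRing B] (e : A ≃+* B)
    (hA : IsSeminormalRing A) : IsSeminormalRing B := by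
  intro x y hxy
  have h1 : (e.symm x) ^ 3 = (e.symm y) ^ 2 := by
    rw [← map_pow, ← map_pow, hxy]
  obtain ⟨a, ⟨ha2, ha3⟩, hau⟩ := hA _ _ h1
  refine ⟨e a, ⟨?_, ?_⟩, ?_⟩
  · rw [← map_pow, ← ha2, e.apply_symm_apply]
  · rw [← map_pow, ← ha3, e.apply_symm_apply]
  · rintro b ⟨hb2, hb3⟩
    have : e.symm b = a :=
      hau (e.symm b) ⟨by rw [hb2, map_pow], by rw [hb3, map_pow]⟩
    rw [← this, e.apply_symm_apply]

theorem awn_of_equiv {A B : Type u} [CommRing A] [CommRing B] (e : A ≃+* B)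
    (hA : IsAWNRing A) : IsAWNRing B := by
  obtain ⟨hsn, hpA⟩ := hA
  refine ⟨seminormal_of_equiv e hsn, ?_⟩
  intro p hpp x y hxy
  have h1 : (p : A) ^ p * e.symm x = (e.symm y) ^ p := by
    rw [← map_pow, ← hxy, map_mul, map_pow, map_natCast]
  obtain ⟨a, ⟨ha1, ha2⟩, hau⟩ := hpA p hpp _ _ h1
  refine ⟨e a, ⟨?_, ?_⟩, ?_⟩
  · rw [← map_pow, ← ha1, e.apply_symm_apply]
  · have h2 : e ((p : A) * a) = (p : B) * e a := by rw [map_mul, map_natCast]
    rw [← h2, ← ha2, e.apply_symm_apply]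
  · rintro b ⟨hb1, hb2⟩
    have : e.symm b = a :=
      hau (e.symm b) ⟨by rw [hb1, map_pow], by rw [hb2, map_mul, map_natCast]⟩
    rw [← this, e.apply_symm_apply]

open AlgebraicGeometry CategoryTheory in
theorem scheme_char (X : Scheme.{u}) (P : ∀ (R : Type u) [CommRing R], Prop)
    (hequiv : ∀ (A B : Type u) [CommRing A] [CommRing B], (A ≃+* B) → P A → P B)
    (haway : ∀ (A : Type u) [CommRing A] (f : A), P A → P (Localization.Away f))
    (hcover : ∀ (A : Type u) [CommRing A] (s : Finset A), Ideal.span (s : Set A) = ⊤ →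
      (∀ f ∈ s, P (Localization.Away f)) → P A) :
    (∀ x : X, ∃ U : X.affineOpens, x ∈ (U : X.Opens) ∧ P Γ(X, U)) ↔
      ∀ U : X.affineOpens, P Γ(X, U) := by
  constructor
  · intro h V
    choose U hxU hPU using h
    have hsup : (⨆ i, (U i : X.Opens)) = ⊤ :=
      eq_top_iff.mpr fun x _ => TopologicalSpace.Opens.mem_iSup.mpr ⟨x, hxU x⟩
    refine of_affine_open_cover (P := fun W => P Γ(X, W)) U hsup V ?_ ?_ hPU
    · intro W f hW
      haveI := W.2.isLocalization_basicOpen f
      exact hequiv _ _ (IsLocalization.algEquiv (Submonoid.powers f) (Localization.Away f)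
        Γ(X, X.basicOpen f)).toRingEquiv (haway _ f hW)
    · intro W s hs hW
      refine hcover _ s hs ?_
      intro f hf
      haveI := W.2.isLocalization_basicOpen f
      exact hequiv _ _ (IsLocalization.algEquiv (Submonoid.powers f) Γ(X, X.basicOpen f)
        (Localization.Away f)).toRingEquiv (hW ⟨f, hf⟩)
  · intro h x
    obtain ⟨W, hW, hxW, -⟩ := TopologicalSpace.Opens.isBasis_iff_nbhd.mp X.isBasis_affineOpens
      (TopologicalSpace.Opens.mem_top x)
    exact ⟨⟨W, hW⟩, hxW, h ⟨W, hW⟩⟩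

end H5SN
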