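import Mathlib

/-! Weakly regular sequences along short exact sequences. -/

namespace H5SR

open RingTheory.Sequence

universe u v

theorem H5_ses_mod {R : Type u} [CommRing R] {M N C : Type v}
    [AddCommGroup M] [Module R M] [AddCommGroup N] [Module R N] [AddCommGroup C] [Module R C]
    (r : R) (i : M →ₗ[R] N) (p : N →ₗ[R] C) (hi : Function.Injective i)
    (hip : Function.Exact i p) (hp : Function.Surjective p) (hr : IsSMulRegular C r) :
    Function.Injective (QuotSMulTop.map r i) ∧
      Function.Exact (QuotSMulTop.map r i) (QuotSMulTop.map r p) ∧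
      Function.Surjective (QuotSMulTop.map r p) := by
  refine ⟨?_, QuotSMulTop.map_exact r hip hp, QuotSMulTop.map_surjective r hp⟩
  have h0 : Function.Exact (0 : M →ₗ[R] M) i := by
    intro y
    constructor
    · intro hy
      have : y = 0 := hi (by rw [hy, map_zero])
      exact ⟨0, by simp [this]⟩
    · rintro ⟨x, rfl⟩
      simp
  have hex := QuotSMulTop.map_first_exact_on_four_term_exact_of_isSMulRegular_last h0 hip hr
  refine (injective_iff_map_eq_zero _).mpr fun y hy => ?_
  obtain ⟨x, hx⟩ := (hex y).mp hy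
  rw [← hx, map_zero (QuotSMulTop.map r)]
  rfl

/-- Extension: `0 → M → N → C → 0`, `M` and `C` weakly regular ⇒ `N` weakly regular. -/
theorem H5_isWeaklyRegular_mid {R : Type u} [CommRing R] (rs : List R) :
    ∀ {M N C : Type v} [AddCommGroup M] [Module R M] [AddCommGroup N] [Module R N]
      [AddCommGroup C] [Module R C] (i : M →ₗ[R] N) (p : N →ₗ[R] C),
      Function.Injective i → Function.Exact i p → Function.Surjective p →
      IsWeaklyRegular M rs → IsWeaklyRegular C rs → IsWeaklyRegular N rs := by
  induction rs with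
  | nil => intros; exact IsWeaklyRegular.nil R _
  | cons r rs ih =>
    intro M N C _ _ _ _ _ _ i p hi hip hp hM hC
    rw [isWeaklyRegular_cons_iff] at hM hC ⊢
    obtain ⟨hM1, hM2⟩ := hM
    obtain ⟨hC1, hC2⟩ := hC
    obtain ⟨h1, h2, h3⟩ := H5_ses_mod r i p hi hip hp hC1
    refine ⟨?_, ih (QuotSMulTop.map r i) (QuotSMulTop.map r p) h1 h2 h3 hM2 hC2⟩
    exact isSMulRegular_of_range_eq_ker hi (LinearMap.exact_iff.mp hip).symm hM1 hC1

/-- Kernel: `0 → M → N → C → 0`, `N` weakly regular on `rs` and `C` on `rs.dropLast` ⇒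
`M` weakly regular on `rs`. -/
theorem H5_isWeaklyRegular_left {R : Type u} [CommRing R] (rs : List R) :
    ∀ {M N C : Type v} [AddCommGroup M] [Module R M] [AddCommGroup N] [Module R N]
      [AddCommGroup C] [Module R C] (i : M →ₗ[R] N) (p : N →ₗ[R] C),
      Function.Injective i → Function.Exact i p → Function.Surjective p →
      IsWeaklyRegular N rs → IsWeaklyRegular C rs.dropLast → IsWeaklyRegular M rs := by
  induction rs with
  | nil => intros; exact IsWeaklyRegular.nil R _
  | cons r rs ih =>
    intro M N C _ _ _ _ _ _ i p hi hip hp hN hC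
    rw [isWeaklyRegular_cons_iff] at hN ⊢
    obtain ⟨hN1, hN2⟩ := hN
    refine ⟨IsSMulRegular.of_injective i hi hN1, ?_⟩
    cases rs with
    | nil => exact IsWeaklyRegular.nil R _
    | cons r' rs' =>
      rw [List.dropLast_cons_cons, isWeaklyRegular_cons_iff] at hC
      obtain ⟨hC1, hC2⟩ := hC
      obtain ⟨h1, h2, h3⟩ := H5_ses_mod r i p hi hip hp hC1
      exact ih (QuotSMulTop.map r i) (QuotSMulTop.map r p) h1 h2 h3 hN2 hC2

end H5SR
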