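import Mathlib
import Groth.Prelude.Def_W4bk4bump814p2PDiff

open W4bk4bump814p2

namespace H5SD

universe u v

theorem chain_rule {R A M : Type*} [CommRing R] [CommRing A] [Algebra R A] [AddCommGroup M]
    [Module A M] [Module R M] [IsScalarTower R A M]
    (d : Derivation R A M) {σ : Type*} [Fintype σ] [DecidableEq σ] (x : σ → A)
    (F : MvPolynomial σ ℤ) :
    d (MvPolynomial.aeval x F) =
      ∑ a, MvPolynomial.aeval x (MvPolynomial.pderiv a F) • d (x a) := by
  induction F using MvPolynomial.induction_on with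
  | C c =>
    rw [MvPolynomial.aeval_C, eq_intCast (algebraMap ℤ A) c, Derivation.map_intCast]
    symm
    apply Finset.sum_eq_zero
    intro a _
    rw [MvPolynomial.pderiv_C, map_zero, zero_smul]
  | add F G hF hG =>
    rw [map_add, map_add, hF, hG, ← Finset.sum_add_distrib]
    apply Finset.sum_congr rfl
    intro a _
    rw [map_add, map_add, add_smul]
  | mul_X F b hF =>
    have h1 : ∀ a, MvPolynomial.aeval x (MvPolynomial.pderiv a (F * MvPolynomial.X b)) • d (x a) =
        (if b = a then MvPolynomial.aeval x F • d (x a) else 0) +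
          x b • (MvPolynomial.aeval x (MvPolynomial.pderiv a F) • d (x a)) := by
      intro a
      rw [Derivation.leibniz, MvPolynomial.pderiv_X, Pi.single_apply]
      by_cases h : b = a
      · rw [if_pos h, if_pos h, smul_eq_mul, smul_eq_mul, mul_one, map_add, map_mul,
          MvPolynomial.aeval_X, add_smul, mul_smul]
      · rw [if_neg h, if_neg h, smul_eq_mul, smul_eq_mul, mul_zero, zero_add, zero_add, map_mul,
          MvPolynomial.aeval_X, mul_smul]
    rw [map_mul, MvPolynomial.aeval_X, Derivation.leibniz, hF,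
      Finset.sum_congr rfl (fun a _ => h1 a), Finset.sum_add_distrib, Finset.sum_ite_eq,
      if_pos (Finset.mem_univ b), ← Finset.smul_sum]

theorem deriv_witt_sum {R B M : Type*} [CommRing R] [CommRing B] [Algebra R B] [AddCommGroup M]
    [Module B M] [Module R M]
    (D : Derivation R B M) (p n : ℕ) (s : ℕ → B) :
    D (∑ j ∈ Finset.range (n + 1), (p : B) ^ j * s j ^ p ^ (n - j)) =
      (p ^ n) • ∑ j ∈ Finset.range (n + 1), s j ^ (p ^ (n - j) - 1) • D (s j) := by
  rw [map_sum, Finset.smul_sum]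
  apply Finset.sum_congr rfl
  intro j hj
  have hjn : j ≤ n := Nat.lt_succ_iff.1 (Finset.mem_range.1 hj)
  have hc : D ((p : B) ^ j) = 0 := by
    rw [← Nat.cast_pow, Derivation.map_natCast]
  rw [Derivation.leibniz, hc, smul_zero, add_zero, Derivation.leibniz_pow, ← Nat.cast_pow,
    Nat.cast_smul_eq_nsmul B, smul_smul, ← pow_add, Nat.add_sub_cancel' hjn]

theorem neg_one_pow_p (A : Type*) [CommRing A] (p : ℕ) (hpA : (p : A) = 0) (hp : p.Prime)
    (m : ℕ) : (-1 : A) ^ (p ^ m) = -1 := by
  rcases hp.eq_two_or_odd' with h2 | hodd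
  · subst h2
    have h2A : (2 : A) = 0 := by exact_mod_cast hpA
    have h11 : (-1 : A) = 1 := by
      have h3 : (1 : A) + 1 = 0 := by rw [one_add_one_eq_two]; exact h2A
      exact neg_eq_of_add_eq_zero_left h3
    rw [h11, one_pow]
  · exact (hodd.pow).neg_one_pow

theorem witt_identity (p : ℕ) [hp : Fact p.Prime] (n : ℕ) :
    ∃ s : ℕ → MvPolynomial (Fin 2) ℤ, s 0 = MvPolynomial.X 0 + MvPolynomial.X 1 ∧
      (MvPolynomial.X 0 : MvPolynomial (Fin 2) ℤ) ^ p ^ n + MvPolynomial.X 1 ^ p ^ n =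
        ∑ j ∈ Finset.range (n + 1), (p : MvPolynomial (Fin 2) ℤ) ^ j * s j ^ p ^ (n - j) := by
  refine ⟨fun j => (WittVector.teichmuller p (MvPolynomial.X 0 : MvPolynomial (Fin 2) ℤ) +
      WittVector.teichmuller p (MvPolynomial.X 1)).coeff j, ?_, ?_⟩
  · show (WittVector.teichmuller p (MvPolynomial.X 0 : MvPolynomial (Fin 2) ℤ) +
      WittVector.teichmuller p (MvPolynomial.X 1)).coeff 0 = _
    rw [WittVector.add_coeff_zero, WittVector.teichmuller_coeff_zero,
      WittVector.teichmuller_coeff_zero]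
  · have h := WittVector.ghostComponent_apply (p := p) n
      (WittVector.teichmuller p (MvPolynomial.X 0 : MvPolynomial (Fin 2) ℤ) +
        WittVector.teichmuller p (MvPolynomial.X 1))
    rw [map_add, WittVector.ghostComponent_teichmuller, WittVector.ghostComponent_teichmuller,
      aeval_wittPolynomial] at h
    exact h

section sd

variable (K : Type u) (A : Type v) [Field K] [CommRing A] [Algebra K A] (p : ℕ)

theorem sum_mem_sigma (n : ℕ) (z : ℕ → A) :
    ∑ m ∈ Finset.range n, delta K A p m (z m) ∈ sigma K A p n := by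
  induction n with
  | zero =>
    rw [Finset.sum_range_zero, sigma_zero]
    exact Set.mem_singleton 0
  | succ n ih =>
    rw [mem_sigma_succ]
    refine ⟨z n, ?_⟩
    rw [Finset.sum_range_succ, add_sub_cancel_right]
    exact ih

theorem mem_sigma_iff (n : ℕ) (ω : Ω[A⁄K]) :
    ω ∈ sigma K A p n ↔ ∃ z : ℕ → A, ω = ∑ m ∈ Finset.range n, delta K A p m (z m) := by
  constructor
  · induction n generalizing ω with
    | zero =>
      intro h
      rw [sigma_zero] at h
      exact ⟨fun _ => 0, by rw [Finset.sum_range_zero]; exact Set.mem_singleton_iff.1 h⟩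
    | succ n ih =>
      intro h
      rw [mem_sigma_succ] at h
      obtain ⟨x, hx⟩ := h
      obtain ⟨z, hz⟩ := ih _ hx
      refine ⟨fun m => if m = n then x else z m, ?_⟩
      beta_reduce
      have h5 : ∑ m ∈ Finset.range n, delta K A p m (if m = n then x else z m) =
          ∑ m ∈ Finset.range n, delta K A p m (z m) := by
        apply Finset.sum_congr rfl
        intro m hm
        rw [if_neg (Finset.mem_range.1 hm).ne]
      rw [Finset.sum_range_succ, if_pos rfl, h5, ← hz, sub_add_cancel]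
  · rintro ⟨z, rfl⟩
    exact sum_mem_sigma K A p n z

theorem delta_zero_arg (m : ℕ) : delta K A p m 0 = 0 := by
  unfold delta
  rw [map_zero, smul_zero]

theorem delta_neg (hneg : ∀ m : ℕ, (-1 : A) ^ (p ^ m) = -1) (hp1 : 1 ≤ p) (m : ℕ) (z : A) :
    delta K A p m (-z) = - delta K A p m z := by
  obtain ⟨k, hk⟩ : ∃ k, p ^ m = k + 1 :=
    ⟨p ^ m - 1, (Nat.sub_add_cancel (Nat.one_le_pow _ _ hp1)).symm⟩
  have h1 : (-1 : A) ^ k * -1 = -1 := by rw [← pow_succ, ← hk]; exact hneg m
  unfold delta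
  rw [hk, Nat.add_sub_cancel, map_neg, neg_pow]
  have e : ((-1 : A) ^ k * z ^ k) • -(KaehlerDifferential.D K A z) =
      (((-1 : A) ^ k * -1) * z ^ k) • KaehlerDifferential.D K A z := by module
  rw [e, h1]
  module

theorem delta_smul_base (hp1 : 1 ≤ p) (m : ℕ) (b : K) (z : A) :
    delta K A p m (b • z) = b ^ (p ^ m) • delta K A p m z := by
  obtain ⟨k, hk⟩ : ∃ k, p ^ m = k + 1 :=
    ⟨p ^ m - 1, (Nat.sub_add_cancel (Nat.one_le_pow _ _ hp1)).symm⟩
  unfold delta
  rw [hk, Nat.add_sub_cancel, smul_pow, Derivation.map_smul, smul_assoc, smul_comm (z ^ k) b,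
    smul_smul, ← pow_succ]

theorem delta_mul (hp1 : 1 ≤ p) (m : ℕ) (a b : A) :
    delta K A p m (a * b) = a ^ (p ^ m) • delta K A p m b + b ^ (p ^ m) • delta K A p m a := by
  obtain ⟨k, hk⟩ : ∃ k, p ^ m = k + 1 :=
    ⟨p ^ m - 1, (Nat.sub_add_cancel (Nat.one_le_pow _ _ hp1)).symm⟩
  unfold delta
  rw [hk, Nat.add_sub_cancel, Derivation.leibniz, mul_pow]
  module

theorem delta_pow_eq_zero (hpA : (p : A) = 0) (m e : ℕ) (he : 1 ≤ e) (x : A) :
    delta K A p m (x ^ (p ^ e)) = 0 := by
  unfold delta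
  rw [Derivation.leibniz_pow, ← Nat.cast_smul_eq_nsmul A, Nat.cast_pow, hpA,
    zero_pow (by omega), zero_smul, smul_zero]

theorem delta_aeval (x : Fin 2 → A) (m : ℕ) (F : MvPolynomial (Fin 2) ℤ) :
    delta K A p m (MvPolynomial.aeval x F) =
      ∑ a, MvPolynomial.aeval x (F ^ (p ^ m - 1) * MvPolynomial.pderiv a F) •
        KaehlerDifferential.D K A (x a) := by
  unfold delta
  rw [chain_rule (KaehlerDifferential.D K A) x F, Finset.smul_sum]
  apply Finset.sum_congr rfl
  intro a _
  rw [smul_smul, map_mul, map_pow]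

theorem defect_mem [hp : Fact p.Prime] [CharP K p] (i : ℕ) (x y : A) :
    delta K A p i (x + y) - delta K A p i x - delta K A p i y ∈ sigma K A p i := by
  classical
  have hpA : (p : A) = 0 := by
    rw [← map_natCast (algebraMap K A), CharP.cast_eq_zero K p, map_zero]
  have hneg := neg_one_pow_p A p hpA hp.out
  have hp1 : 1 ≤ p := hp.out.one_le
  obtain ⟨s, hs0, hs⟩ := witt_identity p i
  obtain ⟨xx, hx0, hx1⟩ : ∃ xx : Fin 2 → A, xx 0 = x ∧ xx 1 = y := ⟨![x, y], rfl, rfl⟩
  have hcancel : ∀ U V : MvPolynomial (Fin 2) ℤ, (p ^ i) • U = (p ^ i) • V → U = V := by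
    intro U V h
    rw [nsmul_eq_mul, nsmul_eq_mul] at h
    exact mul_left_cancel₀ (Nat.cast_ne_zero.2 (pow_ne_zero i hp.out.ne_zero)) h
  have hI : ∀ a : Fin 2,
      (MvPolynomial.X 0 : MvPolynomial (Fin 2) ℤ) ^ (p ^ i - 1) *
          MvPolynomial.pderiv a (MvPolynomial.X 0) +
        (MvPolynomial.X 1 : MvPolynomial (Fin 2) ℤ) ^ (p ^ i - 1) *
          MvPolynomial.pderiv a (MvPolynomial.X 1) =
      ∑ j ∈ Finset.range (i + 1), s j ^ (p ^ (i - j) - 1) * MvPolynomial.pderiv a (s j) := by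
    intro a
    have h1 : MvPolynomial.pderiv a
        ((MvPolynomial.X 0 : MvPolynomial (Fin 2) ℤ) ^ p ^ i + MvPolynomial.X 1 ^ p ^ i) =
        MvPolynomial.pderiv a
          (∑ j ∈ Finset.range (i + 1), (p : MvPolynomial (Fin 2) ℤ) ^ j * s j ^ p ^ (i - j)) := by
      rw [hs]
    rw [deriv_witt_sum (MvPolynomial.pderiv a) p i s, map_add, Derivation.leibniz_pow,
      Derivation.leibniz_pow, ← smul_add] at h1
    have h2 := hcancel _ _ h1
    simp only [smul_eq_mul] at h2
    exact h2
  have e : ∀ (m : ℕ) (F : MvPolynomial (Fin 2) ℤ), delta K A p m (MvPolynomial.aeval xx F) =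
      ∑ a, MvPolynomial.aeval xx (F ^ (p ^ m - 1) * MvPolynomial.pderiv a F) •
        KaehlerDifferential.D K A (xx a) := fun m F => delta_aeval K A p xx m F
  have key : ∑ j ∈ Finset.range (i + 1), delta K A p (i - j) (MvPolynomial.aeval xx (s j)) =
      delta K A p i x + delta K A p i y := by
    have e2 : ∀ a : Fin 2, ∑ j ∈ Finset.range (i + 1),
        MvPolynomial.aeval xx (s j ^ (p ^ (i - j) - 1) * MvPolynomial.pderiv a (s j)) •
          KaehlerDifferential.D K A (xx a) =
        MvPolynomial.aeval xx ((MvPolynomial.X 0 : MvPolynomial (Fin 2) ℤ) ^ (p ^ i - 1) *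
          MvPolynomial.pderiv a (MvPolynomial.X 0)) • KaehlerDifferential.D K A (xx a) +
        MvPolynomial.aeval xx ((MvPolynomial.X 1 : MvPolynomial (Fin 2) ℤ) ^ (p ^ i - 1) *
          MvPolynomial.pderiv a (MvPolynomial.X 1)) • KaehlerDifferential.D K A (xx a) := by
      intro a
      rw [← Finset.sum_smul, ← map_sum, ← hI a, map_add, add_smul]
    rw [Finset.sum_congr rfl (fun j _ => e (i - j) (s j)), Finset.sum_comm,
      Finset.sum_congr rfl (fun a _ => e2 a), Finset.sum_add_distrib, ← e i (MvPolynomial.X 0),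
      ← e i (MvPolynomial.X 1), MvPolynomial.aeval_X, MvPolynomial.aeval_X, hx0, hx1]
  rw [Finset.sum_range_succ', Nat.sub_zero, hs0, map_add, MvPolynomial.aeval_X,
    MvPolynomial.aeval_X, hx0, hx1] at key
  have hdef : delta K A p i (x + y) - delta K A p i x - delta K A p i y =
      ∑ m ∈ Finset.range i, delta K A p m (-(MvPolynomial.aeval xx (s (i - m)))) := by
    have hrefl := Finset.sum_range_reflect
      (fun m => delta K A p m (-(MvPolynomial.aeval xx (s (i - m))))) i
    beta_reduce at hrefl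
    have e3 : ∀ j ∈ Finset.range i,
        delta K A p (i - 1 - j) (-(MvPolynomial.aeval xx (s (i - (i - 1 - j))))) =
        - delta K A p (i - (j + 1)) (MvPolynomial.aeval xx (s (j + 1))) := by
      intro j hj
      have hj' : j < i := Finset.mem_range.1 hj
      have e1 : i - 1 - j = i - (j + 1) := by omega
      have e2 : i - (i - (j + 1)) = j + 1 := by omega
      rw [e1, e2, delta_neg K A p hneg hp1]
    rw [← hrefl, Finset.sum_congr rfl e3, Finset.sum_neg_distrib]
    have h4 : delta K A p i (x + y) = delta K A p i x + delta K A p i y -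
        ∑ j ∈ Finset.range i, delta K A p (i - (j + 1)) (MvPolynomial.aeval xx (s (j + 1))) := by
      rw [← key]; abel
    rw [h4]; abel
  rw [hdef]
  exact sum_mem_sigma K A p i _

theorem zero_mem_sigma (i : ℕ) : (0 : Ω[A⁄K]) ∈ sigma K A p i := by
  rw [mem_sigma_iff]
  refine ⟨fun _ => 0, ?_⟩
  symm
  apply Finset.sum_eq_zero
  intro m _
  exact delta_zero_arg K A p m

theorem neg_mem_sigma (hneg : ∀ m : ℕ, (-1 : A) ^ (p ^ m) = -1) (hp1 : 1 ≤ p) (i : ℕ)
    {ω : Ω[A⁄K]} (h : ω ∈ sigma K A p i) : -ω ∈ sigma K A p i := by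
  rw [mem_sigma_iff] at h ⊢
  obtain ⟨z, rfl⟩ := h
  refine ⟨fun m => - z m, ?_⟩
  rw [← Finset.sum_neg_distrib]
  apply Finset.sum_congr rfl
  intro m _
  rw [delta_neg K A p hneg hp1]

theorem add_mem_sigma [hp : Fact p.Prime] [CharP K p] (i : ℕ) :
    ∀ {ω ω' : Ω[A⁄K]}, ω ∈ sigma K A p i → ω' ∈ sigma K A p i → ω + ω' ∈ sigma K A p i := by
  have hpA : (p : A) = 0 := by
    rw [← map_natCast (algebraMap K A), CharP.cast_eq_zero K p, map_zero]
  have hneg := neg_one_pow_p A p hpA hp.out
  have hp1 : 1 ≤ p := hp.out.one_le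
  induction i with
  | zero =>
    intro ω ω' h h'
    rw [sigma_zero, Set.mem_singleton_iff] at h h' ⊢
    rw [h, h', add_zero]
  | succ i ih =>
    intro ω ω' h h'
    rw [mem_sigma_succ] at h h' ⊢
    obtain ⟨a, ha⟩ := h
    obtain ⟨b, hb⟩ := h'
    refine ⟨a + b, ?_⟩
    have e : ω + ω' - delta K A p i (a + b) = (ω - delta K A p i a) + (ω' - delta K A p i b) +
        -(delta K A p i (a + b) - delta K A p i a - delta K A p i b) := by abel
    rw [e]
    exact ih (ih ha hb) (neg_mem_sigma K A p hneg hp1 i (defect_mem K A p i a b))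

theorem smul_mem_sigma [hp : Fact p.Prime] [CharP K p] [PerfectField K] (i : ℕ) (c : K)
    {ω : Ω[A⁄K]} (h : ω ∈ sigma K A p i) : c • ω ∈ sigma K A p i := by
  haveI : ExpChar K p := ExpChar.prime hp.out
  haveI : PerfectRing K p := PerfectField.toPerfectRing p
  have hp1 : 1 ≤ p := hp.out.one_le
  rw [mem_sigma_iff] at h ⊢
  obtain ⟨z, rfl⟩ := h
  have hroot : ∀ m : ℕ, ∃ b : K, b ^ p ^ m = c := fun m =>
    ⟨(iterateFrobeniusEquiv K p m).symm c, by
      rw [← iterateFrobeniusEquiv_def K p m]; exact RingEquiv.apply_symm_apply _ _⟩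
  choose b hb using hroot
  refine ⟨fun m => b m • z m, ?_⟩
  rw [Finset.smul_sum]
  apply Finset.sum_congr rfl
  intro m _
  rw [delta_smul_base K A p hp1, hb]

theorem sigma_submodule [hp : Fact p.Prime] [CharP K p] [PerfectField K] (i : ℕ) :
    ∃ S : Submodule K (Ω[A⁄K]), (S : Set (Ω[A⁄K])) = sigma K A p i :=
  ⟨{ carrier := sigma K A p i
     add_mem' := fun h h' => add_mem_sigma K A p i h h'
     zero_mem' := zero_mem_sigma K A p i
     smul_mem' := fun c _ h => smul_mem_sigma K A p i c h }, rfl⟩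

theorem sigma_eq_closure [hp : Fact p.Prime] [CharP K p] (i : ℕ) :
    sigma K A p i =
      (AddSubgroup.closure (⋃ j ∈ Finset.range i, Set.range (delta K A p j)) :
        Set (Ω[A⁄K])) := by
  classical
  have hpA : (p : A) = 0 := by
    rw [← map_natCast (algebraMap K A), CharP.cast_eq_zero K p, map_zero]
  have hneg := neg_one_pow_p A p hpA hp.out
  have hp1 : 1 ≤ p := hp.out.one_le
  apply Set.Subset.antisymm
  · intro ω h
    rw [mem_sigma_iff] at h
    obtain ⟨z, rfl⟩ := h
    rw [SetLike.mem_coe]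
    apply sum_mem
    intro m hm
    exact AddSubgroup.subset_closure (Set.mem_iUnion₂.2 ⟨m, hm, z m, rfl⟩)
  · have hle : AddSubgroup.closure (⋃ j ∈ Finset.range i, Set.range (delta K A p j)) ≤
        ({ carrier := sigma K A p i
           add_mem' := fun h h' => add_mem_sigma K A p i h h'
           zero_mem' := zero_mem_sigma K A p i
           neg_mem' := fun h => neg_mem_sigma K A p hneg hp1 i h } : AddSubgroup (Ω[A⁄K])) := by
      rw [AddSubgroup.closure_le]
      intro ω hω
      obtain ⟨j, hj, x, rfl⟩ := Set.mem_iUnion₂.1 hω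
      show delta K A p j x ∈ sigma K A p i
      rw [mem_sigma_iff]
      refine ⟨fun m => if m = j then x else 0, ?_⟩
      beta_reduce
      rw [Finset.sum_eq_single j]
      · rw [if_pos rfl]
      · intro m _ hmj
        rw [if_neg hmj, delta_zero_arg]
      · intro hj'
        exact absurd hj hj'
    intro ω hω
    exact hle hω

theorem pow_smul_mem [hp : Fact p.Prime] [CharP K p] (i : ℕ) (x : A)
    {ω : Ω[A⁄K]} (h : ω ∈ sigma K A p i) : (x ^ (p ^ i)) • ω ∈ sigma K A p i := by
  have hpA : (p : A) = 0 := by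
    rw [← map_natCast (algebraMap K A), CharP.cast_eq_zero K p, map_zero]
  have hp1 : 1 ≤ p := hp.out.one_le
  rw [mem_sigma_iff] at h ⊢
  obtain ⟨z, rfl⟩ := h
  refine ⟨fun m => x ^ (p ^ (i - m)) * z m, ?_⟩
  rw [Finset.smul_sum]
  apply Finset.sum_congr rfl
  intro m hm
  have hmi : m < i := Finset.mem_range.1 hm
  rw [delta_mul K A p hp1, delta_pow_eq_zero K A p hpA m (i - m) (by omega), smul_zero, add_zero,
    ← pow_mul, ← pow_add, Nat.sub_add_cancel hmi.le]

end sd

end H5SD
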