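import Mathlib

/-! helper5: connected components of the prime spectrum via idempotents. -/

set_option autoImplicit false

open PrimeSpectrum

section
variable {R : Type*} [CommRing R]

theorem H5_isIdem_prod_one_sub (F : Finset R) (hF : ∀ e ∈ F, IsIdempotentElem e) :
    IsIdempotentElem (∏ e ∈ F, (1 - e)) := by
  classical
  induction F using Finset.induction_on with
  | empty => simp [IsIdempotentElem]
  | insert a s ha ih =>
    rw [Finset.prod_insert ha]
    exact (hF a (Finset.mem_insert_self a s)).one_sub.mul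
      (ih fun e he => hF e (Finset.mem_insert_of_mem he))

theorem H5_span_mul_prod_one_sub (F : Finset R) (hF : ∀ e ∈ F, IsIdempotentElem e) {z : R}
    (hz : z ∈ Ideal.span (F : Set R)) : z * ∏ e ∈ F, (1 - e) = 0 := by
  classical
  induction hz using Submodule.span_induction with
  | mem x hx =>
    have hx' : x ∈ F := hx
    rw [← Finset.mul_prod_erase F _ hx', ← mul_assoc]
    have : x * (1 - x) = 0 := by
      have := (hF x hx').eq
      rw [mul_sub, mul_one, this, sub_self]
    rw [this, zero_mul]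
  | zero => rw [zero_mul]
  | add x y _ _ hx hy => rw [add_mul, hx, hy, add_zero]
  | smul a x _ hx => rw [smul_eq_mul, mul_assoc, hx, mul_zero]

theorem H5_idem_quot_trivial (p : PrimeSpectrum R)
    (ebar : R ⧸ Ideal.span {e : R | IsIdempotentElem e ∧ e ∈ p.asIdeal})
    (h : IsIdempotentElem ebar) : ebar = 0 ∨ ebar = 1 := by
  classical
  obtain ⟨x, rfl⟩ := Ideal.Quotient.mk_surjective ebar
  have hx : x * x - x ∈ Ideal.span {e : R | IsIdempotentElem e ∧ e ∈ p.asIdeal} := by
    have := h.eq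
    rw [← map_mul, Ideal.Quotient.eq] at this
    exact this
  obtain ⟨F, hFsub, hxF⟩ := Submodule.mem_span_finite_of_mem_span hx
  have hFidem : ∀ e ∈ F, IsIdempotentElem e := fun e he => (hFsub he).1
  have hπidem : IsIdempotentElem (∏ e ∈ F, (1 - e)) := H5_isIdem_prod_one_sub F hFidem
  have hkill : (x * x - x) * ∏ e ∈ F, (1 - e) = 0 := H5_span_mul_prod_one_sub F hFidem hxF
  have hπmk : Ideal.Quotient.mk (Ideal.span {e : R | IsIdempotentElem e ∧ e ∈ p.asIdeal})
      (∏ e ∈ F, (1 - e)) = 1 := by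
    rw [map_prod]
    apply Finset.prod_eq_one
    intro e he
    rw [map_sub, map_one, Ideal.Quotient.eq_zero_iff_mem.mpr (Ideal.subset_span (hFsub he)),
      sub_zero]
  have hyidem : IsIdempotentElem (x * ∏ e ∈ F, (1 - e)) := by
    show (x * ∏ e ∈ F, (1 - e)) * (x * ∏ e ∈ F, (1 - e)) = x * ∏ e ∈ F, (1 - e)
    have h2 : (∏ e ∈ F, (1 - e)) * (∏ e ∈ F, (1 - e)) = ∏ e ∈ F, (1 - e) := hπidem.eq
    have h3 : (x * ∏ e ∈ F, (1 - e)) * (x * ∏ e ∈ F, (1 - e)) - x * ∏ e ∈ F, (1 - e) =
        (x * x - x) * (∏ e ∈ F, (1 - e)) * (∏ e ∈ F, (1 - e)) +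
          x * ((∏ e ∈ F, (1 - e)) * (∏ e ∈ F, (1 - e)) - ∏ e ∈ F, (1 - e)) := by ring
    rw [← sub_eq_zero, h3, hkill, zero_mul, h2, sub_self, mul_zero, add_zero]
  have hymk : Ideal.Quotient.mk (Ideal.span {e : R | IsIdempotentElem e ∧ e ∈ p.asIdeal})
      (x * ∏ e ∈ F, (1 - e)) = Ideal.Quotient.mk _ x := by rw [map_mul, hπmk, mul_one]
  have hy0 : (x * ∏ e ∈ F, (1 - e)) * (1 - x * ∏ e ∈ F, (1 - e)) = 0 := by
    rw [mul_sub, mul_one, hyidem.eq, sub_self]
  have hmem : (x * ∏ e ∈ F, (1 - e)) * (1 - x * ∏ e ∈ F, (1 - e)) ∈ p.asIdeal := by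
    rw [hy0]; exact zero_mem _
  rcases p.isPrime.mem_or_mem hmem with h1 | h1
  · left
    rw [← hymk]
    exact Ideal.Quotient.eq_zero_iff_mem.mpr (Ideal.subset_span ⟨hyidem, h1⟩)
  · right
    have : Ideal.Quotient.mk (Ideal.span {e : R | IsIdempotentElem e ∧ e ∈ p.asIdeal})
        (1 - x * ∏ e ∈ F, (1 - e)) = 0 :=
      Ideal.Quotient.eq_zero_iff_mem.mpr (Ideal.subset_span ⟨hyidem.one_sub, h1⟩)
    rw [map_sub, map_one, sub_eq_zero] at this
    rw [← hymk, ← this]

theorem H5_connectedComponent_eq (p : PrimeSpectrum R) :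
    connectedComponent p = zeroLocus {e : R | IsIdempotentElem e ∧ e ∈ p.asIdeal} := by
  apply Set.Subset.antisymm
  · intro q hq
    rw [mem_zeroLocus]
    intro e he
    have hclopen : IsClopen (zeroLocus ({e} : Set R)) :=
      isClopen_iff_zeroLocus.mpr ⟨e, he.1, rfl⟩
    have hp : p ∈ zeroLocus ({e} : Set R) := by
      rw [mem_zeroLocus, Set.singleton_subset_iff]; exact he.2
    have := hclopen.connectedComponent_subset hp hq
    rw [mem_zeroLocus, Set.singleton_subset_iff] at this
    exact this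
  · have hpT : p ∈ zeroLocus {e : R | IsIdempotentElem e ∧ e ∈ p.asIdeal} := by
      rw [mem_zeroLocus]; exact fun e he => he.2
    refine IsPreconnected.subset_connectedComponent ?_ hpT
    have hrange : zeroLocus {e : R | IsIdempotentElem e ∧ e ∈ p.asIdeal} =
        Set.range (comap (Ideal.Quotient.mk
          (Ideal.span {e : R | IsIdempotentElem e ∧ e ∈ p.asIdeal}))) := by
      rw [range_comap_of_surjective _ _ Ideal.Quotient.mk_surjective, Ideal.mk_ker, zeroLocus_span]
    rw [hrange]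
    haveI : PreconnectedSpace (PrimeSpectrum
        (R ⧸ Ideal.span {e : R | IsIdempotentElem e ∧ e ∈ p.asIdeal})) := by
      rw [preconnectedSpace_iff_clopen]
      intro s hs
      obtain ⟨ebar, hebar, rfl⟩ := isClopen_iff_zeroLocus.mp hs
      rcases H5_idem_quot_trivial p ebar hebar with h | h
      · right; rw [h]; exact zeroLocus_singleton_zero
      · left; rw [h]; exact zeroLocus_singleton_one
    exact isPreconnected_range (PrimeSpectrum.continuous_comap _)

end
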