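import Mathlib

universe u

namespace H5TN

variable {R A : Type u} [CommRing R] [CommRing A] [Algebra R A] (𝒜 : ℕ → Submodule R A)
  [GradedAlgebra 𝒜]
  {M : Type u} [AddCommGroup M] [Module R M] [Module A M] [IsScalarTower R A M]
  (ℳ : ℕ → Submodule R M) [DirectSum.Decomposition ℳ] [SetLike.GradedSMul 𝒜 ℳ]

theorem kill_of_TN (hTN : ∃ n : ℕ, ∀ k : ℕ, n ≤ k → ℳ k = ⊥) (z : M) (d : ℕ) (f : A)
    (hd : 0 < d) (hf : f ∈ 𝒜 d) : ∃ k : ℕ, f ^ k • z = 0 := by
  classical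
  obtain ⟨n, hn⟩ := hTN
  refine ⟨n, ?_⟩
  rw [← DirectSum.sum_support_decompose ℳ z, Finset.smul_sum]
  apply Finset.sum_eq_zero
  intro i _
  have h1 : f ^ n ∈ 𝒜 (n • d) := SetLike.pow_mem_graded n hf
  have h2 : f ^ n • (DirectSum.decompose ℳ z i : M) ∈ ℳ (n • d + i) :=
    SetLike.GradedSMul.smul_mem (A := 𝒜) (B := ℳ) h1
      (SetLike.coe_mem (DirectSum.decompose ℳ z i))
  have h3 : ℳ (n • d + i) = ⊥ := hn _ (by
    rw [smul_eq_mul]
    calc n ≤ n * d := Nat.le_mul_of_pos_right n hd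
      _ ≤ n * d + i := Nat.le_add_right _ _)
  rw [h3] at h2
  exact (Submodule.mem_bot R).mp h2

theorem pow_mem_of_deg
    (hgen : (HomogeneousIdeal.irrelevant 𝒜).toIdeal = Ideal.span (𝒜 1 : Set A)) :
    ∀ (j : ℕ) (a : A), a ∈ 𝒜 j → a ∈ (HomogeneousIdeal.irrelevant 𝒜).toIdeal ^ j := by
  classical
  intro j
  induction j with
  | zero => intro a _; rw [pow_zero, Ideal.one_eq_top]; trivial
  | succ j ih =>
    intro a ha
    have ha1 : a ∈ (HomogeneousIdeal.irrelevant 𝒜).toIdeal :=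
      HomogeneousIdeal.mem_irrelevant_of_mem 𝒜 (Nat.succ_pos j) ha
    rw [hgen] at ha1
    obtain ⟨n, c, g, hsum⟩ := Submodule.mem_span_set'.mp ha1
    have h1 : (DirectSum.decompose 𝒜 a (j + 1) : A) =
        ∑ i, (DirectSum.decompose 𝒜 (c i) j : A) * (g i : A) := by
      rw [← hsum, DirectSum.decompose_sum, DFinsupp.finsetSum_apply,
        AddSubmonoidClass.coe_finsetSum]
      apply Finset.sum_congr rfl
      intro i _
      rw [smul_eq_mul, DirectSum.coe_decompose_mul_of_right_mem 𝒜 (j + 1) (g i).2]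
      simp
    rw [DirectSum.decompose_of_mem_same 𝒜 ha] at h1
    rw [h1, pow_succ]
    apply Ideal.sum_mem
    intro i _
    apply Ideal.mul_mem_mul
    · exact ih _ (SetLike.coe_mem _)
    · rw [hgen]; exact Ideal.subset_span (g i).2

theorem TN_of_kill (hfg : (HomogeneousIdeal.irrelevant 𝒜).toIdeal.FG)
    (hgen : (HomogeneousIdeal.irrelevant 𝒜).toIdeal = Ideal.span (𝒜 1 : Set A))
    (hTF : ∃ n : ℕ, (Submodule.span A (⋃ k ∈ Set.Ici n, (ℳ k : Set M))).FG)
    (hkill : ∀ (z : M) (f : A), f ∈ 𝒜 1 → ∃ k : ℕ, f ^ k • z = 0) :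
    ∃ n : ℕ, ∀ k : ℕ, n ≤ k → ℳ k = ⊥ := by
  classical
  obtain ⟨n₀, hN⟩ := hTF
  obtain ⟨G, hGsub, hGspan⟩ := (Submodule.fg_span_iff_fg_span_finset_subset _).mp hN
  have hdeg : ∀ g ∈ G, ∃ e : ℕ, g ∈ ℳ e := by
    intro g hg
    have h := hGsub (Finset.mem_coe.mpr hg)
    simp only [Set.mem_iUnion] at h
    obtain ⟨e, _, he⟩ := h
    exact ⟨e, he⟩
  choose! e he using hdeg
  have hann : ∀ g : M, ∃ k : ℕ, (HomogeneousIdeal.irrelevant 𝒜).toIdeal ^ k ≤
      LinearMap.ker (LinearMap.toSpanSingleton A M g) := by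
    intro g
    apply Ideal.exists_pow_le_of_le_radical_of_fg _ hfg
    rw [hgen, Ideal.span_le]
    intro f hf
    obtain ⟨k, hk⟩ := hkill g f hf
    exact Ideal.mem_radical_iff.mpr ⟨k, LinearMap.mem_ker.mpr (by
      rw [LinearMap.toSpanSingleton_apply]; exact hk)⟩
  choose kf hkf using hann
  obtain ⟨K, hK⟩ : ∃ K, K = G.sup kf := ⟨_, rfl⟩
  obtain ⟨E, hE⟩ : ∃ E, E = G.sup e := ⟨_, rfl⟩
  refine ⟨max n₀ (K + E + 1), ?_⟩
  intro m hm
  rw [eq_bot_iff]
  intro x hx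
  rw [Submodule.mem_bot]
  have hm0 : n₀ ≤ m := le_trans (le_max_left _ _) hm
  have hm1 : K + E + 1 ≤ m := le_trans (le_max_right _ _) hm
  have hxN : x ∈ Submodule.span A (⋃ k ∈ Set.Ici n₀, (ℳ k : Set M)) := by
    apply Submodule.subset_span
    simp only [Set.mem_iUnion]
    exact ⟨m, hm0, hx⟩
  rw [hGspan] at hxN
  obtain ⟨c, -, hc⟩ := Submodule.mem_span_finset.mp hxN
  have hterm : ∀ g ∈ G, (DirectSum.decompose ℳ (c g • g) m : M) = 0 := by
    intro g hg
    have hsum : c g • g = ∑ j ∈ (DirectSum.decompose 𝒜 (c g)).support,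
        (DirectSum.decompose 𝒜 (c g) j : A) • g := by
      rw [← Finset.sum_smul, DirectSum.sum_support_decompose 𝒜 (c g)]
    rw [hsum, DirectSum.decompose_sum, DFinsupp.finsetSum_apply,
      AddSubmonoidClass.coe_finsetSum]
    apply Finset.sum_eq_zero
    intro j _
    by_cases hj : kf g ≤ j
    · have h1 : (DirectSum.decompose 𝒜 (c g) j : A) ∈
          (HomogeneousIdeal.irrelevant 𝒜).toIdeal ^ j :=
        pow_mem_of_deg 𝒜 hgen j _ (SetLike.coe_mem _)
      have h2 : (DirectSum.decompose 𝒜 (c g) j : A) ∈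
          LinearMap.ker (LinearMap.toSpanSingleton A M g) :=
        hkf g (Ideal.pow_le_pow_right hj h1)
      rw [LinearMap.mem_ker, LinearMap.toSpanSingleton_apply] at h2
      rw [h2, DirectSum.decompose_zero, DirectSum.zero_apply, ZeroMemClass.coe_zero]
    · have h3 : (DirectSum.decompose 𝒜 (c g) j : A) • g ∈ ℳ (j + e g) :=
        SetLike.GradedSMul.smul_mem (A := 𝒜) (B := ℳ)
          (SetLike.coe_mem (DirectSum.decompose 𝒜 (c g) j)) (he g hg)
      apply DirectSum.decompose_of_mem_ne ℳ h3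
      have h4 : kf g ≤ K := hK ▸ Finset.le_sup hg
      have h5 : e g ≤ E := hE ▸ Finset.le_sup hg
      omega
  have hx0 : (DirectSum.decompose ℳ x m : M) = 0 := by
    rw [← hc, DirectSum.decompose_sum, DFinsupp.finsetSum_apply,
      AddSubmonoidClass.coe_finsetSum]
    exact Finset.sum_eq_zero hterm
  rw [DirectSum.decompose_of_mem_same ℳ hx] at hx0
  exact hx0

end H5TN
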