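import Mathlib

universe u

namespace H5TI

/-- In a reduced ring with finitely many minimal primes, each minimal prime `p` gives an idempotent
of the total ring of fractions ("the unit of the factor corresponding to `p`"). -/
theorem exists_idem {R : Type u} [CommRing R] [IsReduced R] (hfin : (minimalPrimes R).Finite)
    (p : Ideal R) (hp : p ∈ minimalPrimes R) :
    ∃ (x : FractionRing R) (s z : R), x * x = x ∧
      x * algebraMap R (FractionRing R) s = algebraMap R (FractionRing R) z ∧
      z ∉ p ∧ (∀ p' ∈ minimalPrimes R, p' ≠ p → z ∈ p' ∧ s ∉ p') := by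
  classical
  obtain ⟨f, hf⟩ : ∃ f : R →+* FractionRing R, f = algebraMap R (FractionRing R) := ⟨_, rfl⟩
  have hunit : ∀ t : R, t ∈ nonZeroDivisors R → IsUnit (f t) := by
    intro t ht; rw [hf]; exact IsLocalization.map_units _ (⟨t, ht⟩ : nonZeroDivisors R)
  have hprime : ∀ p ∈ minimalPrimes R, p.IsPrime := fun p hp => Ideal.minimalPrimes_isPrime hp
  have hmin : ∀ p ∈ minimalPrimes R, ∀ p' ∈ minimalPrimes R, p' ≤ p → p' = p := by
    intro p hp p' hp' hle
    have hpm : Minimal (fun q : Ideal R => q.IsPrime ∧ ⊥ ≤ q) p := hp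
    have hpm' : Minimal (fun q : Ideal R => q.IsPrime ∧ ⊥ ≤ q) p' := hp'
    exact le_antisymm hle (hpm.le_of_le hpm'.prop hle)
  have h0 : ∀ x : R, (∀ p ∈ minimalPrimes R, x ∈ p) → x = 0 := by
    intro x hx
    have h1 : x ∈ sInf (minimalPrimes R) := by
      rw [Ideal.mem_sInf]; exact fun {p} hp => hx p hp
    have h2 : sInf (minimalPrimes R) = (⊥ : Ideal R).radical := Ideal.sInf_minimalPrimes
    rw [h2] at h1
    obtain ⟨n, hn⟩ := Ideal.mem_radical_iff.1 h1
    have h3 : IsNilpotent x := ⟨n, by simpa using hn⟩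
    exact h3.eq_zero
  obtain ⟨F, hF⟩ : ∃ F : Finset (Ideal R), ∀ p, p ∈ F ↔ p ∈ minimalPrimes R :=
    ⟨hfin.toFinset, fun p => Set.Finite.mem_toFinset hfin⟩
  have hz : ∀ p : Ideal R, ∃ z : R, p ∈ minimalPrimes R →
      (z ∉ p ∧ ∀ p' ∈ minimalPrimes R, p' ≠ p → z ∈ p') := by
    intro p
    by_cases hp : p ∈ minimalPrimes R
    · haveI : p.IsPrime := hprime p hp
      have hnot : ¬ ((F.erase p).inf id ≤ p) := by
        intro hle
        obtain ⟨p', hp'T, hp'p⟩ := (Ideal.IsPrime.inf_le' ‹p.IsPrime›).1 hle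
        rw [Finset.mem_erase, hF] at hp'T
        exact hp'T.1 (hmin p hp p' hp'T.2 hp'p)
      obtain ⟨z, hzJ, hzp⟩ := SetLike.not_le_iff_exists.1 hnot
      refine ⟨z, fun _ => ⟨hzp, fun p' hp' hne => ?_⟩⟩
      have : (F.erase p).inf id ≤ id p' :=
        Finset.inf_le (by rw [Finset.mem_erase, hF]; exact ⟨hne, hp'⟩)
      exact this hzJ
    · exact ⟨0, fun h => absurd h hp⟩
  choose z hz using hz
  obtain ⟨s, hs_def⟩ : ∃ s : R, s = ∑ p ∈ F, z p := ⟨_, rfl⟩
  have hzz : ∀ p ∈ minimalPrimes R, ∀ p' ∈ minimalPrimes R, p ≠ p' → z p * z p' = 0 := by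
    intro p hp p' hp' hne
    apply h0
    intro p'' hp''
    by_cases h : p'' = p
    · rw [h]; exact p.mul_mem_left _ ((hz p' hp').2 p hp hne)
    · exact p''.mul_mem_right _ ((hz p hp).2 p'' hp'' h)
  have hsz : ∀ p ∈ minimalPrimes R, s - z p ∈ p := by
    intro p hp
    have hpF : p ∈ F := (hF p).2 hp
    have : s - z p = ∑ p' ∈ F.erase p, z p' := by
      rw [hs_def, ← Finset.add_sum_erase F z hpF, add_sub_cancel_left]
    rw [this]
    refine p.sum_mem (fun p' hp' => ?_)
    rw [Finset.mem_erase] at hp'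
    exact (hz p' ((hF p').1 hp'.2)).2 p hp (Ne.symm hp'.1)
  have hsp : ∀ p ∈ minimalPrimes R, s ∉ p := by
    intro p hp hsp'
    have h1 := hsz p hp
    have : z p ∈ p := by
      have := p.sub_mem hsp' h1
      rwa [sub_sub_cancel] at this
    exact (hz p hp).1 this
  have hsreg : ∀ x : R, x * s = 0 → x = 0 := by
    intro x hx
    apply h0
    intro p hp
    haveI := hprime p hp
    have : x * s ∈ p := by rw [hx]; exact p.zero_mem
    exact ((Ideal.IsPrime.mem_or_mem ‹_› this).resolve_right (hsp p hp))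
  have hsmem : s ∈ nonZeroDivisors R := mem_nonZeroDivisors_iff_right.2 hsreg
  have hfs : IsUnit (f s) := hunit s hsmem
  obtain ⟨ι, hι⟩ := hfs.exists_left_inv
  obtain ⟨x, hx_def⟩ : ∃ x, x = f (z p) * ι := ⟨_, rfl⟩
  have hxs : x * f s = f (z p) := by
    rw [hx_def, mul_assoc, hι, mul_one]
  have hzs : z p * s = z p * z p := by
    rw [hs_def, Finset.mul_sum, ← Finset.add_sum_erase F _ ((hF p).2 hp)]
    rw [Finset.sum_eq_zero, add_zero]
    intro p' hp'
    rw [Finset.mem_erase] at hp'
    exact hzz p hp p' ((hF p').1 hp'.2) (Ne.symm hp'.1)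
  have hxx : x * x = x := by
    have h1 : (x * x - x) * (f s * f s) = 0 := by
      have : (x * x - x) * (f s * f s) = (x * f s) * (x * f s) - (x * f s) * f s := by ring
      rw [this, hxs, ← map_mul, ← map_mul, hzs, sub_self]
    have hu2 : IsUnit (f s * f s) := hfs.mul hfs
    have := (IsUnit.mul_left_eq_zero hu2).1 h1
    exact sub_eq_zero.1 this
  subst hf
  exact ⟨x, s, z p, hxx, hxs, (hz p hp).1,
    fun p' hp' hne => ⟨(hz p hp).2 p' hp' hne, hsp p' hp'⟩⟩

/-- A reduced ring with finitely many minimal primes whose integral closure in the total ring of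
fractions is local is a domain. -/
theorem isDomain_of_local_closure {R : Type u} [CommRing R] [IsReduced R]
    (hfin : (minimalPrimes R).Finite)
    (hloc : IsLocalRing (integralClosure R (FractionRing R))) : IsDomain R := by
  classical
  haveI := hloc
  have hinj : Function.Injective (algebraMap R (FractionRing R)) :=
    IsFractionRing.injective R (FractionRing R)
  haveI hnt : Nontrivial R := by
    by_contra hn
    rw [not_nontrivial_iff_subsingleton] at hn
    haveI := hn
    have h01 : (0 : integralClosure R (FractionRing R)) = 1 := by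
      have h := congrArg (algebraMap R (integralClosure R (FractionRing R)))
        (Subsingleton.elim (0 : R) 1)
      rwa [map_zero, map_one] at h
    exact zero_ne_one h01
  obtain ⟨m, hm⟩ := Ideal.exists_maximal R
  haveI : m.IsPrime := hm.isPrime
  obtain ⟨p, hp, hpm⟩ := Ideal.exists_minimalPrimes_le (bot_le : (⊥ : Ideal R) ≤ m)
  have hp' : p ∈ minimalPrimes R := hp
  have hpprime : p.IsPrime := Ideal.minimalPrimes_isPrime hp'
  obtain ⟨x, s, z, hxx, hxs, hzp, hoth⟩ := exists_idem hfin p hp'
  have hint : IsIntegral R x := ⟨Polynomial.X * (Polynomial.X - Polynomial.C 1),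
    Polynomial.monic_X.mul (Polynomial.monic_X_sub_C 1), by
      rw [Polynomial.eval₂_mul, Polynomial.eval₂_X, Polynomial.eval₂_sub, Polynomial.eval₂_X,
        Polynomial.eval₂_C, map_one, mul_sub, mul_one, hxx, sub_self]⟩
  obtain ⟨e, he_def⟩ : ∃ e : integralClosure R (FractionRing R), e = ⟨x, hint⟩ := ⟨_, rfl⟩
  have hev : (e : FractionRing R) = x := by rw [he_def]
  have hee : e * e = e := by
    apply Subtype.ext
    show (e : FractionRing R) * e = e
    rw [hev, hxx]
  have hall : ∀ p' ∈ minimalPrimes R, p' = p := by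
    intro p' hp''
    by_contra hne
    obtain ⟨hzp', hsp'⟩ := hoth p' hp'' hne
    rcases IsLocalRing.isUnit_or_isUnit_one_sub_self e with hu | hu
    · have he1 : e = 1 := hu.mul_left_cancel (by rw [hee, mul_one])
      have hx1 : x = 1 := by rw [← hev, he1]; rfl
      rw [hx1, one_mul] at hxs
      have hsz : s = z := hinj hxs
      exact hsp' (by rw [hsz]; exact hzp')
    · have he0 : e = 0 := hu.mul_left_cancel (by rw [mul_zero, sub_mul, one_mul, hee, sub_self])
      have hx0 : x = 0 := by rw [← hev, he0]; rfl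
      rw [hx0, zero_mul] at hxs
      have hz0 : z = 0 := hinj (by rw [map_zero]; exact hxs.symm)
      exact hzp (by rw [hz0]; exact p.zero_mem)
  have hp0 : ∀ y ∈ p, y = 0 := by
    intro y hy
    have h1 : y ∈ sInf (minimalPrimes R) := by
      rw [Ideal.mem_sInf]; exact fun {p'} hp'' => by rw [hall p' hp'']; exact hy
    have h2 : sInf (minimalPrimes R) = (⊥ : Ideal R).radical := Ideal.sInf_minimalPrimes
    rw [h2] at h1
    obtain ⟨n, hn⟩ := Ideal.mem_radical_iff.1 h1
    have h3 : IsNilpotent y := ⟨n, by simpa using hn⟩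
    exact h3.eq_zero
  haveI : NoZeroDivisors R := ⟨fun {a b} hab => by
    have : a * b ∈ p := by rw [hab]; exact p.zero_mem
    rcases hpprime.mem_or_mem this with h | h
    · exact Or.inl (hp0 a h)
    · exact Or.inr (hp0 b h)⟩
  exact NoZeroDivisors.to_isDomain R

end H5TI
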